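import Cfsg.Agent.Lib.TransvMax.QuadOmega

/-!
Stabilisers of totally singular subspaces in the derived orthogonal group, and the parity of the
intersection of two totally singular halves.
-/

set_option autoImplicit false

namespace Cfsg.Agent.QMax

open scoped Matrix MatrixGroups
open Cfsg.Agent Cfsg.Agent.TransvMax

variable {ι : Type} [Fintype ι] [DecidableEq ι] {F : Type*} [Field F]
  {Q : QuadraticForm F (ι → F)} (S : QSetting Q)

include S

theorem isotropic_of_singular {X : Submodule F (ι → F)} (hX : ∀ x ∈ X, Q x = 0) {x y : ι → F}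
    (hx : x ∈ X) (hy : y ∈ X) : pB Q x y = 0 := by
  have h := S.quad_add x y
  rw [hX _ (X.add_mem hx hy), hX _ hx, hX _ hy] at h
  linear_combination -h

theorem two_finrank_le {X : Submodule F (ι → F)} (hX : ∀ x ∈ X, Q x = 0) :
    2 * Module.finrank F X ≤ Fintype.card ι := by
  have h1 := Submodule.finrank_mono (show X ≤ LinearMap.BilinForm.orthogonal (pB Q) X from
    fun x hx y hy => isotropic_of_singular S hX hy hx)
  rw [LinearMap.BilinForm.finrank_orthogonal S.nondeg, Module.finrank_fintype_fun_eq_card] at h1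
  have h2 := Submodule.finrank_le X
  rw [Module.finrank_fintype_fun_eq_card] at h2
  omega

theorem finrank_perp (X : Submodule F (ι → F)) :
    Module.finrank F (LinearMap.BilinForm.orthogonal (pB Q) X) + Module.finrank F X = Fintype.card ι := by
  rw [LinearMap.BilinForm.finrank_orthogonal S.nondeg, Module.finrank_fintype_fun_eq_card]
  have h2 := Submodule.finrank_le X
  rw [Module.finrank_fintype_fun_eq_card] at h2
  omega

/-- A vector orthogonal to all that is orthogonal to a subspace lies in it. -/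
theorem mem_of_perp {X : Submodule F (ι → F)} {x : ι → F}
    (h : ∀ z, (∀ y ∈ X, pB Q y z = 0) → pB Q z x = 0) : x ∈ X := by
  have heq : X = LinearMap.BilinForm.orthogonal (pB Q) (LinearMap.BilinForm.orthogonal (pB Q) X) := by
    refine Submodule.eq_of_le_of_finrank_eq (fun y hy z hz => (S.pB_comm z y).trans (hz y hy)) ?_
    have h1 := finrank_perp S X
    have h2 := finrank_perp S (LinearMap.BilinForm.orthogonal (pB Q) X)
    omega
  rw [heq]
  exact fun z hz => h z hz

omit [DecidableEq ι] in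
theorem half_perp {X : Submodule F (ι → F)} (hX : ∀ x ∈ X, Q x = 0)
    (hhalf : 2 * Module.finrank F X = Fintype.card ι) :
    LinearMap.BilinForm.orthogonal (pB Q) X = X := by
  classical
  refine (Submodule.eq_of_le_of_finrank_eq (show X ≤ LinearMap.BilinForm.orthogonal (pB Q) X from
    fun x hx y hy => isotropic_of_singular S hX hy hx) ?_).symm
  have := finrank_perp S X
  omega

variable [Finite F]

/-- Two non-orthogonal good centres make every centre good. -/
theorem siegel_mem_of_pair {K : Subgroup (GL ι F)} {a b : ι → F} (hQa : Q a = 0) (hQb : Q b = 0)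
    (hab : pB Q a b ≠ 0)
    (hGa : ∀ w (hw : pB Q w a = 0), glOf (S.siegel a w hQa hw) ∈ K)
    (hGb : ∀ w (hw : pB Q w b = 0), glOf (S.siegel b w hQb hw) ∈ K) :
    ∀ u w (hu : Q u = 0) (hw : pB Q w u = 0), glOf (S.siegel u w hu hw) ∈ K := by
  let Good : (ι → F) → Prop := fun v => ∀ (hv : Q v = 0) (w : ι → F) (hw : pB Q w v = 0),
    glOf (S.siegel v w hv hw) ∈ K
  have hsmul : ∀ v, Good v → Q v = 0 → ∀ c : F, Good (c • v) := by
    intro v hv hQv c hQcv w hw
    rcases eq_or_ne c 0 with rfl | hc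
    · rw [show S.siegel ((0 : F) • v) w hQcv hw = 1 from LinearEquiv.ext fun x => by
        rw [S.siegel_apply, siegelHom_apply]; simp, map_one]
      exact K.one_mem
    have hwv : pB Q (c • w) v = 0 := by
      rw [map_smul, smul_eq_mul] at hw
      rw [map_smul, LinearMap.smul_apply, (mul_eq_zero.1 hw).resolve_left hc, smul_zero]
    rw [S.siegel_smul c hQv hQcv hw hwv]
    exact hv hQv _ hwv
  have hconj : ∀ (h : (ι → F) ≃ₗ[F] (ι → F)), h ∈ FormsLib.oGroup Q → glOf h ∈ K → ∀ v,
      Good v → Good (h v) := by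
    intro h ho hhK v hG hQv w hw
    have h1 : pB Q (h.symm w) v = 0 := by
      rw [← S.pB_of_mem ho, LinearEquiv.apply_symm_apply, hw]
    have h2 := K.mul_mem (K.mul_mem hhK (hG (by rw [← ho v]; exact hQv) _ h1)) (K.inv_mem hhK)
    rwa [← map_inv, ← map_mul, ← map_mul, S.siegel_conj ho,
      S.siegel_congr rfl (h.apply_symm_apply w) (hu' := hQv) (hw' := hw)] at h2
  have hR : ∀ p v, Q p = 0 → Q v = 0 → Good p → Good v → pB Q p v ≠ 0 → ∀ x, Q x = 0 →
      pB Q x v ≠ 0 → Good x := by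
    intro p v hQp hQv hp hv hpv x hQx hxv
    set v' := (pB Q x v)⁻¹ • v
    have hxv' : pB Q x v' = 1 := by rw [map_smul, smul_eq_mul, inv_mul_cancel₀ hxv]
    set β := pB Q p v' with hβ
    have hβ0 : β ≠ 0 := by rw [hβ, map_smul, smul_eq_mul]; exact mul_ne_zero (inv_ne_zero hxv) hpv
    set p' := β⁻¹ • p
    have hpv' : pB Q p' v' = 1 := by
      rw [LinearMap.map_smul (pB Q), LinearMap.smul_apply, smul_eq_mul, ← hβ, inv_mul_cancel₀ hβ0]
    have hQv' : Q v' = 0 := by rw [S.quad_smul, hQv, mul_zero]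
    have hQp' : Q p' = Q x := by rw [S.quad_smul, hQp, mul_zero, hQx]
    have hw : pB Q (x - p') v' = 0 := by rw [map_sub, LinearMap.sub_apply, hxv', hpv', sub_self]
    have h1 := hconj _ (S.siegel_mem_oGroup hQv' hw) (hsmul v hv hQv _ hQv' _ hw) p' (hsmul p hp hQp _)
    rwa [S.siegel_map hQv' hpv' hQp' hw] at h1
  have ha : Good a := fun _ => hGa
  have hb : Good b := fun _ => hGb
  intro u w hu hw
  suffices Good u from this hu w hw
  by_cases hub : pB Q u b = 0
  · by_cases hua : u ∈ Submodule.span F {a}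
    · obtain ⟨c, rfl⟩ := Submodule.mem_span_singleton.1 hua
      exact hsmul a ha hQa c
    have ha0 : a ≠ 0 := fun e => hab (by rw [e, map_zero, LinearMap.zero_apply])
    obtain ⟨y, -, hQy, hy⟩ := S.topDec.exists_values_in (v := ![u, a]) (fun i => Submodule.mem_top)
      (S.sing_indep_pair ha0 hua) (by rw [S.finrank_top_eq]; have := S.dim; omega) ![1, 1] 0
    have hya : pB Q y a ≠ 0 := by rw [show pB Q y a = 1 from hy 1]; exact one_ne_zero
    have hGy : Good y := hR b a hQb hQa hb ha (by rwa [S.pB_comm]) y hQy hya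
    exact hR a y hQa hQy ha hGy (by rwa [S.pB_comm]) u hu
      (by rw [S.pB_comm, show pB Q y u = 1 from hy 0]; exact one_ne_zero)
  · exact hR a b hQa hQb ha hb hab u hu hub

omit [Finite F] in
theorem subspace_stab_iff (g : (ι → F) ≃ₗ[F] (ι → F)) (X : Submodule F (ι → F)) :
    glOf g ∈ Cfsg.Geo.subspaceStabilizer X ↔ ∀ x ∈ X, g x ∈ X := by
  refine ⟨fun h x hx => ?_, fun h x => ?_⟩
  · have := (h x).1 hx
    simpa [glToMat] using this
  · have hmap : X.map (g : (ι → F) →ₗ[F] (ι → F)) = X := by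
      refine Submodule.eq_of_le_of_finrank_eq ?_ (g.finrank_map_eq X)
      rintro _ ⟨y, hy, rfl⟩
      exact h y hy
    suffices x ∈ X ↔ g x ∈ X by simpa [glToMat] using this
    refine ⟨h x, fun hx => ?_⟩
    obtain ⟨y, hy, hyx⟩ := hmap.ge hx
    rwa [← g.injective hyx]

/-- Some Siegel transformation moves a given totally singular subspace. -/
theorem exists_siegel_move {W : Submodule F (ι → F)} (hW : ∀ x ∈ W, Q x = 0) {a : ι → F} (ha : a ∈ W)
    (ha0 : a ≠ 0) : ∃ g ∈ Cfsg.Geo.omegaGL ⇑Q, g ∉ Cfsg.Geo.subspaceStabilizer W := by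
  obtain ⟨u, -, hQu, hua⟩ := S.topDec.exists_values_in (v := ![a]) (fun i => Submodule.mem_top)
    (by simp [linearIndependent_unique_iff, ha0]) (by rw [S.finrank_top_eq]; have := S.dim; omega) ![1] 0
  obtain ⟨w, hw, hwW⟩ : ∃ w, pB Q w u = 0 ∧ w ∉ W ⊔ Submodule.span F {u} := by
    by_contra hc
    push Not at hc
    have h1 := Submodule.finrank_mono (show LinearMap.ker ((pB Q).flip u) ≤ W ⊔ Submodule.span F {u} from
      fun w hw => hc w hw)
    have h2 := LinearMap.finrank_range_add_finrank_ker ((pB Q).flip u)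
    have h3 := Submodule.finrank_le (LinearMap.range ((pB Q).flip u))
    have h4 := Submodule.finrank_add_le_finrank_add_finrank W (Submodule.span F {u})
    have h5 : Module.finrank F (Submodule.span F {u}) ≤ 1 := by
      refine (finrank_span_le_card {u}).trans ?_
      simp
    have h6 := two_finrank_le S hW
    rw [Module.finrank_fintype_fun_eq_card] at h2
    rw [Module.finrank_self] at h3
    have := S.dim
    omega
  refine ⟨_, glOf_siegel_mem_omega S hQu hw, fun h => hwW ?_⟩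
  have h1 := (subspace_stab_iff S _ _).1 h a ha
  rw [S.siegel_apply, siegelHom_apply, S.pB_comm a u, show pB Q u a = 1 from hua 0, one_smul, mul_one,
    sub_sub, ← add_smul] at h1
  have h2 := add_mem (Submodule.mem_sup_left (T := Submodule.span F {u}) (W.sub_mem h1 ha))
    (Submodule.mem_sup_right (S := W)
      (Submodule.smul_mem _ (pB Q a w + Q w) (Submodule.mem_span_singleton_self u)))
  convert h2 using 1
  module

/-- The stabiliser of a totally singular subspace is maximal, except one below a half. -/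
theorem singular_maximal {W : Submodule F (ι → F)} (hW0 : W ≠ ⊥) (hW : ∀ x ∈ W, Q x = 0)
    (hex : ¬ (2 * (Module.finrank F W + 1) = Fintype.card ι ∧
      ∃ X : Submodule F (ι → F), (∀ x ∈ X, Q x = 0) ∧ 2 * Module.finrank F X = Fintype.card ι)) :
    Cfsg.Geo.IsMaximalIn (Cfsg.Geo.omegaGL ⇑Q)
      (Cfsg.Geo.subspaceStabilizer W ⊓ Cfsg.Geo.omegaGL ⇑Q) := by
  obtain ⟨a₀, ha₀, ha₀0⟩ := (Submodule.ne_bot_iff W).1 hW0
  refine maximal_in_omegaGL S _ inf_le_right ?_ fun K hH hK ⟨g, hgK, hg⟩ => ?_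
  · obtain ⟨g, hg, hg'⟩ := exists_siegel_move S hW ha₀ ha₀0
    exact ⟨g, hg, fun h => hg' h.1⟩
  have hL := omegaGL_iso S (hK hgK)
  have hgK' : glOf (linOf g) ∈ K := by rw [glOf_linOf]; exact hgK
  have hGW : ∀ a ∈ W, ∀ (hQa : Q a = 0) w (hw : pB Q w a = 0), glOf (S.siegel a w hQa hw) ∈ K :=
    fun a ha hQa w hw => hH ⟨(subspace_stab_iff S _ _).2 fun x hx => by
      rw [S.siegel_apply, siegelHom_apply, isotropic_of_singular S hW hx ha, zero_smul, add_zero,
        mul_zero, zero_smul, sub_zero]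
      exact W.sub_mem hx (W.smul_mem _ ha), glOf_siegel_mem_omega S hQa hw⟩
  have hconj : ∀ (h : (ι → F) ≃ₗ[F] (ι → F)), h ∈ FormsLib.oGroup Q → glOf h ∈ K → ∀ v ∈ W,
      ∀ (hQv : Q (h v) = 0) w (hw : pB Q w (h v) = 0), glOf (S.siegel (h v) w hQv hw) ∈ K := by
    intro h ho hhK v hv hQv w hw
    have h1 : pB Q (h.symm w) v = 0 := by
      rw [← S.pB_of_mem ho, LinearEquiv.apply_symm_apply, hw]
    have h2 := K.mul_mem (K.mul_mem hhK (hGW v hv (hW v hv) _ h1)) (K.inv_mem hhK)
    rwa [← map_inv, ← map_mul, ← map_mul, S.siegel_conj ho,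
      S.siegel_congr rfl (h.apply_symm_apply w) (hu' := hQv) (hw' := hw)] at h2
  obtain ⟨v, hv, hgv⟩ : ∃ v ∈ W, linOf g v ∉ W := by
    by_contra hc
    push Not at hc
    exact hg ⟨by rw [← glOf_linOf g]; exact (subspace_stab_iff S _ _).2 hc, hK hgK⟩
  have hQgv : Q (linOf g v) = 0 := by rw [hL, hW v hv]
  by_cases hc : ∃ a ∈ W, pB Q a (linOf g v) ≠ 0
  · obtain ⟨a, ha, hab⟩ := hc
    exact siegel_mem_of_pair S (hW a ha) hQgv hab (hGW a ha _) (hconj _ hL hgK' v hv _)
  push Not at hc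
  obtain ⟨z, hzW, hzb⟩ : ∃ z, (∀ a ∈ W, pB Q a z = 0) ∧ pB Q z (linOf g v) ≠ 0 := by
    by_contra h
    push Not at h
    exact hgv (mem_of_perp S h)
  obtain ⟨u, hu, hQu, hub⟩ : ∃ u, (∀ a ∈ W, pB Q a u = 0) ∧ Q u = 0 ∧ pB Q u (linOf g v) ≠ 0 := by
    refine ⟨z + (-(Q z) / pB Q z (linOf g v)) • linOf g v, fun a ha => ?_, ?_, ?_⟩
    · rw [map_add, map_smul, hzW a ha, hc a ha, smul_zero, add_zero]
    · rw [S.quad_add, S.quad_smul, hQgv, map_smul, smul_eq_mul, div_mul_cancel₀ _ hzb]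
      ring
    · rw [map_add, map_smul, LinearMap.add_apply, LinearMap.smul_apply, S.pB_self, hQgv, mul_zero,
        smul_zero, add_zero]
      exact hzb
  obtain ⟨w, hw, hwu, hQw⟩ : ∃ w, (∀ a ∈ W, pB Q a w = 0) ∧ pB Q w u = 0 ∧ Q w ≠ 0 := by
    by_contra h
    push Not at h
    set b := linOf g v
    set M := LinearMap.BilinForm.orthogonal (pB Q) (W ⊔ Submodule.span F {u} ⊔ Submodule.span F {b})
    have hMmem : ∀ x ∈ M, (∀ a ∈ W, pB Q a x = 0) ∧ pB Q u x = 0 ∧ pB Q b x = 0 := fun x hx =>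
      ⟨fun a ha => hx a (Submodule.mem_sup_left (Submodule.mem_sup_left ha)),
        hx u (Submodule.mem_sup_left (Submodule.mem_sup_right (Submodule.mem_span_singleton_self u))),
        hx b (Submodule.mem_sup_right (Submodule.mem_span_singleton_self b))⟩
    have hM0 : ∀ x ∈ M, Q x = 0 := fun x hx =>
      h x (hMmem x hx).1 (by rw [S.pB_comm]; exact (hMmem x hx).2.1)
    have hb0 : b ≠ 0 := fun e => hgv (by rw [e]; exact W.zero_mem)
    have hbM : b ∉ M := fun hb => hub (hMmem b hb).2.1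
    have hX : ∀ x ∈ M ⊔ Submodule.span F {b}, Q x = 0 := by
      intro x hx
      obtain ⟨y, hy, z', hz', rfl⟩ := Submodule.mem_sup.1 hx
      obtain ⟨c, rfl⟩ := Submodule.mem_span_singleton.1 hz'
      rw [S.quad_add, hM0 y hy, S.quad_smul, hQgv, map_smul, S.pB_comm y b, (hMmem y hy).2.2]
      simp
    have e1 : Module.finrank F M + Module.finrank F ↥(W ⊔ Submodule.span F {u} ⊔ Submodule.span F {b}) =
        Fintype.card ι := finrank_perp S _
    have e2 : Module.finrank F ↥(W ⊔ Submodule.span F {u} ⊔ Submodule.span F {b}) ≤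
        Module.finrank F W + 2 := by
      have f1 := Submodule.finrank_add_le_finrank_add_finrank (W ⊔ Submodule.span F {u}) (Submodule.span F {b})
      have f2 := Submodule.finrank_add_le_finrank_add_finrank W (Submodule.span F {u})
      have f3 : Module.finrank F (Submodule.span F {b}) = 1 := finrank_span_singleton hb0
      have f4 : Module.finrank F (Submodule.span F {u}) ≤ 1 := by
        refine (finrank_span_le_card {u}).trans ?_
        simp
      omega
    have e3 := two_finrank_le S hX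
    have e4 := Submodule.finrank_sup_add_finrank_inf_eq M (Submodule.span F {b})
    rw [disjoint_iff.1 (Submodule.disjoint_span_singleton' hb0 |>.2 hbM), finrank_bot, finrank_span_singleton hb0] at e4
    have hWb : ∀ x ∈ W ⊔ Submodule.span F {b}, Q x = 0 := by
      intro x hx
      obtain ⟨y, hy, z', hz', rfl⟩ := Submodule.mem_sup.1 hx
      obtain ⟨c, rfl⟩ := Submodule.mem_span_singleton.1 hz'
      rw [S.quad_add, hW y hy, S.quad_smul, hQgv, map_smul, hc y hy]
      simp
    have e5 := two_finrank_le S hWb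
    have e6 := Submodule.finrank_sup_add_finrank_inf_eq W (Submodule.span F {b})
    rw [disjoint_iff.1 (Submodule.disjoint_span_singleton' hb0 |>.2 hgv), finrank_bot, finrank_span_singleton hb0] at e6
    exact hex ⟨by omega, _, hWb, by omega⟩
  have hT : glOf (S.siegel u w hQu hwu) ∈ K :=
    hH ⟨(subspace_stab_iff S _ _).2 fun x hx => by
      rw [S.siegel_apply, siegelHom_apply, hu x hx, hw x hx]
      simpa using hx, glOf_siegel_mem_omega S hQu hwu⟩
  set T := S.siegel u w hQu hwu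
  have hTo : T * linOf g ∈ FormsLib.oGroup Q := mul_mem (S.siegel_mem_oGroup hQu hwu) hL
  have hTK : glOf (T * linOf g) ∈ K := by rw [map_mul]; exact K.mul_mem hT hgK'
  have hne : pB Q (linOf g v) ((T * linOf g) v) ≠ 0 := by
    have hbu : pB Q (linOf g v) u ≠ 0 := by rwa [S.pB_comm]
    rw [LinearEquiv.mul_apply, S.siegel_apply, siegelHom_apply]
    simp only [map_add, map_sub, map_smul, smul_eq_mul, S.pB_self, hQgv, mul_zero]
    rw [show 0 + pB Q (linOf g v) u * pB Q (linOf g v) w - pB Q (linOf g v) w * pB Q (linOf g v) u -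
        Q w * pB Q (linOf g v) u * pB Q (linOf g v) u =
        -(Q w * pB Q (linOf g v) u * pB Q (linOf g v) u) by ring]
    exact neg_ne_zero.2 (mul_ne_zero (mul_ne_zero hQw hbu) hbu)
  exact siegel_mem_of_pair S hQgv (by rw [hTo, hW v hv]) hne (hconj _ hL hgK' v hv _)
    (hconj _ hTo hTK v hv _)

omit [Finite F] in
/-- A singular subspace extends to a half when some half exists. -/
theorem exists_half_ge {W L : Submodule F (ι → F)} (hW : ∀ x ∈ W, Q x = 0) (hL : ∀ x ∈ L, Q x = 0)
    (hhalf : 2 * Module.finrank F L = Fintype.card ι) :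
    ∃ X : Submodule F (ι → F), W ≤ X ∧ (∀ x ∈ X, Q x = 0) ∧ 2 * Module.finrank F X = Fintype.card ι := by
  refine ⟨W ⊔ L ⊓ LinearMap.BilinForm.orthogonal (pB Q) W, le_sup_left, fun x hx => ?_, ?_⟩
  · obtain ⟨y, hy, z, hz, rfl⟩ := Submodule.mem_sup.1 hx
    rw [S.quad_add, hW y hy, hL z hz.1, show pB Q y z = 0 from hz.2 y hy]
    ring
  · have heq : L ⊓ LinearMap.BilinForm.orthogonal (pB Q) W = LinearMap.BilinForm.orthogonal (pB Q) (L ⊔ W) := by
      refine le_antisymm (fun x hx y hy => ?_) fun x hx => ⟨?_, fun y hy => hx y (Submodule.mem_sup_right hy)⟩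
      · obtain ⟨l, hl, w, hw, rfl⟩ := Submodule.mem_sup.1 hy
        show pB Q (l + w) x = 0
        rw [map_add, LinearMap.add_apply, isotropic_of_singular S hL hl hx.1,
          show pB Q w x = 0 from hx.2 w hw, add_zero]
      · rw [← half_perp S hL hhalf]
        exact fun y hy => hx y (Submodule.mem_sup_left hy)
    have h1 := finrank_perp S (L ⊔ W)
    rw [← heq] at h1
    have h2 := Submodule.finrank_sup_add_finrank_inf_eq L W
    have h3 := Submodule.finrank_sup_add_finrank_inf_eq W (L ⊓ LinearMap.BilinForm.orthogonal (pB Q) W)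
    have h4 : W ⊓ (L ⊓ LinearMap.BilinForm.orthogonal (pB Q) W) = L ⊓ W :=
      le_antisymm (fun x hx => ⟨hx.2.1, hx.1⟩)
        fun x hx => ⟨hx.2, hx.1, fun y hy => isotropic_of_singular S hW hy hx.2⟩
    rw [h4] at h3
    omega

omit [Finite F] in
/-- Halves over a common subspace of codimension two: codimension one in one, in the other too. -/
theorem inter_codim_one {Y Z B : Submodule F (ι → F)} {m : ℕ} (hm : Fintype.card ι = 2 * m)
    (hY : ∀ x ∈ Y, Q x = 0) (hZ : ∀ x ∈ Z, Q x = 0) (hB : ∀ x ∈ B, Q x = 0)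
    (hYd : Module.finrank F Y = m) (hZd : Module.finrank F Z = m) (hBd : Module.finrank F B = m)
    (hA : Module.finrank F ↥(Y ⊓ Z) + 2 = m) (hAB : Y ⊓ Z ≤ B)
    (hBY : Module.finrank F ↥(B ⊓ Y) + 1 = m) : Module.finrank F ↥(B ⊓ Z) + 1 = m := by
  classical
  obtain ⟨y, hy, hyA⟩ := SetLike.not_le_iff_exists.1 (show ¬ B ⊓ Y ≤ Y ⊓ Z from fun h => by
    have := Submodule.finrank_mono h; omega)
  have hyZ : y ∉ Z := fun h => hyA ⟨hy.2, h⟩
  have hperpA : ∀ x, (∀ a ∈ Y ⊓ Z, pB Q a x = 0) → x ∈ Y ⊔ Z := by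
    intro x hx
    have heq : Y ⊔ Z = LinearMap.BilinForm.orthogonal (pB Q) (Y ⊓ Z) := by
      refine Submodule.eq_of_le_of_finrank_eq (sup_le
        (fun z hz a ha => isotropic_of_singular S hY ha.1 hz)
        (fun z hz a ha => isotropic_of_singular S hZ ha.2 hz)) ?_
      have h1 := Submodule.finrank_sup_add_finrank_inf_eq Y Z
      have h2 := finrank_perp S (Y ⊓ Z)
      omega
    rw [heq]
    exact hx
  obtain ⟨z₀, hz₀, hz₀y⟩ : ∃ z ∈ Z, pB Q z y ≠ 0 := by
    by_contra h
    push Not at h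
    exact hyZ (by rw [← half_perp S hZ (by omega)]; exact h)
  obtain ⟨b, hb, hbY⟩ := SetLike.not_le_iff_exists.1 (show ¬ B ≤ Y from fun h => by
    rw [inf_eq_left.2 h] at hBY; omega)
  obtain ⟨y', hy', z', hz', rfl⟩ := Submodule.mem_sup.1
    (hperpA b fun a ha => isotropic_of_singular S hB (hAB ha) hb)
  have hyz' : pB Q y z' = 0 := by
    have h := isotropic_of_singular S hB hy.1 hb
    rwa [map_add, isotropic_of_singular S hY hy.2 hy', zero_add] at h
  have hy'z' : pB Q y' z' = 0 := by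
    have h := hB _ hb
    rwa [S.quad_add, hY y' hy', hZ z' hz', zero_add, zero_add] at h
  -- `y'` lies in `(Y ∩ Z) + ⟨y⟩`, inside `B`
  have hz'A : z' ∉ Y := fun h => hbY (Y.add_mem hy' h)
  have hle : Y ⊓ LinearMap.ker ((pB Q).flip z') ≤ B := by
    have heq : (Y ⊓ Z) ⊔ Submodule.span F {y} = Y ⊓ LinearMap.ker ((pB Q).flip z') := by
      refine Submodule.eq_of_le_of_finrank_le (sup_le
        (fun a ha => ⟨ha.1, isotropic_of_singular S hZ ha.2 hz'⟩)
        ((Submodule.span_singleton_le_iff_mem _ _).2 ⟨hy.2, hyz'⟩)) ?_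
      have h1 := Submodule.finrank_sup_add_finrank_inf_eq (Y ⊓ Z) (Submodule.span F {y})
      rw [disjoint_iff.1 (Submodule.disjoint_span_singleton' (fun e => hyA (by rw [e]; exact zero_mem _))
        |>.2 hyA), finrank_bot, finrank_span_singleton (fun e => hyA (by rw [e]; exact zero_mem _))] at h1
      have h2 : Y ⊓ LinearMap.ker ((pB Q).flip z') ≠ Y := fun e => hz'A (by
        rw [← half_perp S hY (by omega)]
        exact fun v hv => (e.ge hv).2)
      have h3 := Submodule.finrank_lt_finrank_of_lt (lt_of_le_of_ne inf_le_left h2)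
      omega
    rw [← heq]
    exact sup_le hAB ((Submodule.span_singleton_le_iff_mem _ _).2 hy.1)
  have hz'B : z' ∈ B := by simpa using B.sub_mem hb (hle ⟨hy', hy'z'⟩)
  have h1 : Y ⊓ Z < B ⊓ Z := lt_of_le_of_ne (le_inf hAB inf_le_right) fun e => hz'A (e.ge ⟨hz'B, hz'⟩).1
  have h2 : B ⊓ Z < Z := lt_of_le_of_ne inf_le_right fun e => by
    have h3 := isotropic_of_singular S hB (show z₀ ∈ B from (e.ge hz₀).1) hy.1
    exact hz₀y h3
  have := Submodule.finrank_lt_finrank_of_lt h1
  have := Submodule.finrank_lt_finrank_of_lt h2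
  omega

omit [Finite F] in
/-- The image of a half under a Siegel transformation meets it in codimension zero or two. -/
theorem siegel_half {X : Submodule F (ι → F)} {m : ℕ} (hm : Fintype.card ι = 2 * m)
    (hX : ∀ x ∈ X, Q x = 0) (hXd : Module.finrank F X = m) {u w : ι → F} (hu : Q u = 0)
    (hw : pB Q w u = 0) :
    X.map (S.siegel u w hu hw : (ι → F) →ₗ[F] (ι → F)) = X ∨
      Module.finrank F ↥(X ⊓ X.map (S.siegel u w hu hw : (ι → F) →ₗ[F] (ι → F))) + 2 = m := by
  set T := S.siegel u w hu hw with hT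
  have hhalf : 2 * Module.finrank F X = Fintype.card ι := by omega
  have hkeep : (∀ x ∈ X, T x ∈ X) → X.map (T : (ι → F) →ₗ[F] (ι → F)) = X := fun h => by
    refine Submodule.eq_of_le_of_finrank_eq ?_ (T.finrank_map_eq X)
    rintro _ ⟨x, hx, rfl⟩
    exact h x hx
  by_cases huX : u ∈ X
  · refine Or.inl (hkeep fun x hx => ?_)
    rw [hT, S.siegel_apply, siegelHom_apply, isotropic_of_singular S hX hx huX, zero_smul, add_zero,
      mul_zero, zero_smul, sub_zero]
    exact X.sub_mem hx (X.smul_mem _ huX)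
  by_cases hc : ∃ c : F, w + c • u ∈ X
  · obtain ⟨c, hwc⟩ := hc
    refine Or.inl (hkeep fun x hx => ?_)
    have h1 := hX _ hwc
    rw [S.quad_add, S.quad_smul, hu, map_smul, smul_eq_mul, hw, mul_zero, mul_zero, add_zero, add_zero] at h1
    have h2 := isotropic_of_singular S hX hx hwc
    rw [map_add, map_smul, smul_eq_mul] at h2
    rw [hT, S.siegel_apply, siegelHom_apply, h1, zero_mul, zero_smul, sub_zero,
      show pB Q x w = -(c * pB Q x u) by linear_combination h2,
      show x + pB Q x u • w - -(c * pB Q x u) • u = x + pB Q x u • (w + c • u) by module]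
    exact X.add_mem hx (X.smul_mem _ hwc)
  push Not at hc
  refine Or.inr ?_
  have hli : ∀ α β : F, α • u + β • w ∈ X → α = 0 ∧ β = 0 := by
    intro α β h
    rcases eq_or_ne β 0 with rfl | hβ
    · rw [zero_smul, add_zero] at h
      by_contra h0
      have hα : α ≠ 0 := fun e => h0 ⟨e, rfl⟩
      exact huX (by simpa [smul_smul, inv_mul_cancel₀ hα] using X.smul_mem α⁻¹ h)
    · refine absurd ?_ (hc (α / β))
      have := X.smul_mem β⁻¹ h
      convert this using 1
      match_scalars <;> field_simp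
  let L : X →ₗ[F] (Fin 2 → F) := (LinearMap.pi fun i => (pB Q).flip (![u, w] i)).domRestrict X
  have hr : LinearMap.range L = ⊤ := by
    by_contra hne
    obtain ⟨ψ, hψ0, hψ⟩ := Submodule.exists_le_ker_of_lt_top _ (lt_top_iff_ne_top.2 hne)
    have hcomb : ψ (Pi.single 0 1) • u + ψ (Pi.single 1 1) • w ∈ X := by
      rw [← half_perp S hX hhalf]
      intro x hx
      have h1 : ψ (L ⟨x, hx⟩) = 0 := hψ ⟨_, rfl⟩
      rw [pi_eq_sum_univ' (L ⟨x, hx⟩), map_sum, Fin.sum_univ_two, map_smul, map_smul] at h1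
      show pB Q x _ = 0
      simp only [map_add, map_smul, smul_eq_mul] at h1 ⊢
      have e0 : L ⟨x, hx⟩ 0 = pB Q x u := rfl
      have e1 : L ⟨x, hx⟩ 1 = pB Q x w := rfl
      rw [e0, e1] at h1
      linear_combination h1
    obtain ⟨h0, h1⟩ := hli _ _ hcomb
    refine hψ0 (LinearMap.ext fun y => ?_)
    rw [pi_eq_sum_univ' y, map_sum, Fin.sum_univ_two, map_smul, map_smul, h0, h1]
    simp
  have heq : X ⊓ X.map (T : (ι → F) →ₗ[F] (ι → F)) = (LinearMap.ker L).map X.subtype := by
    apply le_antisymm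
    · rintro y ⟨hy, x, hx, rfl⟩
      have h1 : pB Q x u • w - (pB Q x w + Q w * pB Q x u) • u ∈ X := by
        have h2 := X.sub_mem hy hx
        rw [LinearEquiv.coe_coe, hT, S.siegel_apply, siegelHom_apply] at h2
        convert h2 using 1
        module
      obtain ⟨h2, h3⟩ := hli (-(pB Q x w + Q w * pB Q x u)) (pB Q x u) (by
        convert h1 using 1; module)
      rw [h3, mul_zero, add_zero, neg_eq_zero] at h2
      refine ⟨⟨x, hx⟩, funext fun i => by fin_cases i <;> [exact h3; exact h2], ?_⟩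
      rw [LinearEquiv.coe_coe, hT, S.siegel_apply, siegelHom_apply, h3, h2]
      simp
    · rintro _ ⟨⟨x, hx⟩, hxL, rfl⟩
      have h3 : pB Q x u = 0 := congrFun hxL 0
      have h2 : pB Q x w = 0 := congrFun hxL 1
      refine ⟨hx, x, hx, ?_⟩
      rw [LinearEquiv.coe_coe, hT, S.siegel_apply, siegelHom_apply, h3, h2]
      simp
  have h1 := LinearMap.finrank_range_add_finrank_ker L
  rw [hr, finrank_top, Module.finrank_fintype_fun_eq_card, Fintype.card_fin, hXd] at h1
  rw [heq, (Submodule.equivMapOfInjective X.subtype X.injective_subtype (LinearMap.ker L)).finrank_eq.symm]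
  omega

/-- The derived group keeps the parity of the intersection of two halves. -/
theorem omega_parity {X Y : Submodule F (ι → F)} {m : ℕ} (hm : Fintype.card ι = 2 * m)
    (hX : ∀ x ∈ X, Q x = 0) (hY : ∀ x ∈ Y, Q x = 0) (hXd : Module.finrank F X = m)
    (hYd : Module.finrank F Y = m) {g : GL ι F} (hg : g ∈ Cfsg.Geo.omegaGL ⇑Q) :
    Module.finrank F ↥(X ⊓ Y.map (linOf g : (ι → F) →ₗ[F] (ι → F))) % 2 =
      Module.finrank F ↥(X ⊓ Y) % 2 := by
  obtain ⟨h, hh, rfl⟩ : ∃ h ∈ siegelGroup S, glOf h = g := by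
    rw [omegaGL_eq S] at hg
    obtain ⟨h, hh, rfl⟩ := hg
    exact ⟨h, commutator_le_siegelGroup S hh, rfl⟩
  have hlin : linOf (glOf h) = h := LinearEquiv.ext fun x => by simp [linOf_apply]
  rw [hlin]
  suffices key : h ∈ FormsLib.oGroup Q ∧ ∀ Y : Submodule F (ι → F), (∀ x ∈ Y, Q x = 0) →
      Module.finrank F Y = m → Module.finrank F ↥(X ⊓ Y.map (h : (ι → F) →ₗ[F] (ι → F))) % 2 =
      Module.finrank F ↥(X ⊓ Y) % 2 from key.2 Y hY hYd
  clear hlin hg hY hYd Y
  induction hh using Subgroup.closure_induction with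
  | one => exact ⟨one_mem _, fun Y _ _ => by rw [show ((1 : (ι → F) ≃ₗ[F] (ι → F)) :
      (ι → F) →ₗ[F] (ι → F)) = LinearMap.id from rfl, Submodule.map_id]⟩
  | mul a b _ _ iha ihb =>
    refine ⟨mul_mem iha.1 ihb.1, fun Y hY hYd => ?_⟩
    rw [show ((a * b : (ι → F) ≃ₗ[F] (ι → F)) : (ι → F) →ₗ[F] (ι → F)) =
      (a : (ι → F) →ₗ[F] (ι → F)).comp (b : (ι → F) →ₗ[F] (ι → F)) from rfl, Submodule.map_comp,
      iha.2 _ (by rintro _ ⟨x, hx, rfl⟩; show Q (b x) = 0; rw [ihb.1, hY x hx])
        (by rw [LinearEquiv.finrank_map_eq, hYd]), ihb.2 Y hY hYd]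
  | inv a _ iha =>
    refine ⟨inv_mem iha.1, fun Y hY hYd => ?_⟩
    have := iha.2 (Y.map ((a⁻¹ : (ι → F) ≃ₗ[F] (ι → F)) : (ι → F) →ₗ[F] (ι → F)))
      (by rintro _ ⟨x, hx, rfl⟩; show Q (a⁻¹ x) = 0; rw [(inv_mem iha.1 : a⁻¹ ∈ _), hY x hx])
      (by rw [LinearEquiv.finrank_map_eq, hYd])
    rw [← Submodule.map_comp, show (a : (ι → F) →ₗ[F] (ι → F)).comp
      ((a⁻¹ : (ι → F) ≃ₗ[F] (ι → F)) : (ι → F) →ₗ[F] (ι → F)) = LinearMap.id from
        LinearMap.ext fun x => a.apply_symm_apply x, Submodule.map_id] at this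
    exact this.symm
  | mem T hT =>
    obtain ⟨u, w, hu, hw, rfl⟩ := hT
    refine ⟨S.siegel_mem_oGroup hu hw, fun Y hY hYd => ?_⟩
    set Z := Y.map ((S.siegel u w hu hw : (ι → F) ≃ₗ[F] (ι → F)) : (ι → F) →ₗ[F] (ι → F)) with hZ
    rcases siegel_half S hm hY hYd hu hw with h | h
    · rw [← hZ] at h; rw [h]
    · rw [← hZ] at h
      have hZ0 : ∀ x ∈ Z, Q x = 0 := by
        rintro _ ⟨x, hx, rfl⟩
        show Q (S.siegel u w hu hw x) = 0
        rw [S.siegel_quad, hY x hx]
      have hZd : Module.finrank F Z = m := by rw [hZ, LinearEquiv.finrank_map_eq, hYd]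
      have hA0 : ∀ x ∈ Y ⊓ Z, Q x = 0 := fun x hx => hY x hx.1
      obtain ⟨B, hBdef⟩ : ∃ B, B = Y ⊓ Z ⊔ X ⊓ LinearMap.BilinForm.orthogonal (pB Q) (Y ⊓ Z) := ⟨_, rfl⟩
      have hB0 : ∀ x ∈ B, Q x = 0 := by
        rw [hBdef]
        intro x hx
        obtain ⟨y, hy, z, hz, rfl⟩ := Submodule.mem_sup.1 hx
        rw [S.quad_add, hA0 y hy, hX z hz.1, show pB Q y z = 0 from hz.2 y hy]
        ring
      have hBd : Module.finrank F B = m := by
        have heq : X ⊓ LinearMap.BilinForm.orthogonal (pB Q) (Y ⊓ Z) =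
            LinearMap.BilinForm.orthogonal (pB Q) (X ⊔ Y ⊓ Z) := by
          refine le_antisymm (fun x hx y hy => ?_)
            fun x hx => ⟨?_, fun y hy => hx y (Submodule.mem_sup_right hy)⟩
          · obtain ⟨l, hl, v, hv, rfl⟩ := Submodule.mem_sup.1 hy
            show pB Q (l + v) x = 0
            rw [map_add, LinearMap.add_apply, isotropic_of_singular S hX hl hx.1,
              show pB Q v x = 0 from hx.2 v hv, add_zero]
          · rw [← half_perp S hX (by omega)]
            exact fun y hy => hx y (Submodule.mem_sup_left hy)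
        have h1 := finrank_perp S (X ⊔ Y ⊓ Z)
        rw [← heq] at h1
        have h2 := Submodule.finrank_sup_add_finrank_inf_eq X (Y ⊓ Z)
        have h3 := Submodule.finrank_sup_add_finrank_inf_eq (Y ⊓ Z) (X ⊓ LinearMap.BilinForm.orthogonal (pB Q) (Y ⊓ Z))
        have h4 : Y ⊓ Z ⊓ (X ⊓ LinearMap.BilinForm.orthogonal (pB Q) (Y ⊓ Z)) = X ⊓ (Y ⊓ Z) :=
          le_antisymm (fun x hx => ⟨hx.2.1, hx.1⟩)
            fun x hx => ⟨hx.2, hx.1, fun y hy => isotropic_of_singular S hA0 hy hx.2⟩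
        rw [h4] at h3
        rw [hBdef]
        omega
      have hcount : ∀ P : Submodule F (ι → F), Y ⊓ Z ≤ P → (∀ x ∈ P, Q x = 0) →
          Module.finrank F ↥(X ⊓ P) + Module.finrank F ↥(Y ⊓ Z) =
            Module.finrank F ↥(X ⊓ (Y ⊓ Z)) + Module.finrank F ↥(B ⊓ P) := by
        intro P hAP hP
        have hsup : B ⊓ P = Y ⊓ Z ⊔ X ⊓ P := by
          refine le_antisymm (fun x hx => ?_) (sup_le (le_inf (hBdef ▸ le_sup_left) hAP)
            (le_inf (fun x hx => hBdef ▸ Submodule.mem_sup_right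
              ⟨hx.1, fun y hy => isotropic_of_singular S hP (hAP hy) hx.2⟩) inf_le_right))
          obtain ⟨y, hy, z, hz, rfl⟩ := Submodule.mem_sup.1 (show x ∈ _ from hBdef ▸ hx.1)
          exact Submodule.add_mem_sup hy ⟨hz.1, by simpa using P.sub_mem hx.2 (hAP hy)⟩
        have h2 := Submodule.finrank_sup_add_finrank_inf_eq (Y ⊓ Z) (X ⊓ P)
        have h4 : Y ⊓ Z ⊓ (X ⊓ P) = X ⊓ (Y ⊓ Z) :=
          le_antisymm (fun x hx => ⟨hx.2.1, hx.1⟩) fun x hx => ⟨hx.2, hx.1, hAP hx.2⟩
        rw [h4, ← hsup] at h2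
        omega
      have hY' := hcount Y inf_le_left hY
      have hZ' := hcount Z inf_le_right hZ0
      have hAB : Y ⊓ Z ≤ B := hBdef ▸ le_sup_left
      have b1 := Submodule.finrank_mono (le_inf hAB (inf_le_left (b := Z)) : Y ⊓ Z ≤ B ⊓ Y)
      have b2 := Submodule.finrank_mono (le_inf hAB (inf_le_right (a := Y)) : Y ⊓ Z ≤ B ⊓ Z)
      have b3 := Submodule.finrank_mono (inf_le_right : B ⊓ Y ≤ Y)
      have b4 := Submodule.finrank_mono (inf_le_right : B ⊓ Z ≤ Z)
      have c1 := inter_codim_one S hm hY hZ0 hB0 hYd hZd hBd h hAB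
      have c2 := inter_codim_one S hm hZ0 hY hB0 hZd hYd hBd (by rw [inf_comm]; exact h)
        (by rw [inf_comm]; exact hAB)
      rcases (show Module.finrank F ↥(B ⊓ Y) + 1 = m ∨ Module.finrank F ↥(B ⊓ Y) + 1 ≠ m from em _)
        with hb | hb
      · have := c1 hb
        omega
      · have : Module.finrank F ↥(B ⊓ Z) + 1 ≠ m := fun h' => hb (c2 h')
        omega

end Cfsg.Agent.QMax
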