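import Cfsg.Agent.Lib.LinearGroups.Basic
import Cfsg.Agent.Lib.Forms.Sp
import Cfsg.Prelude.Def_GeometricClasses

/-!
Transvections as matrices, and the passage between linear automorphisms and invertible matrices.
-/

set_option autoImplicit false

namespace Cfsg.Agent.TransvMax

open scoped Matrix MatrixGroups
open Cfsg.Agent

variable {ι : Type} [Fintype ι] [DecidableEq ι] {F : Type*} [Field F]

/-- A linear automorphism of `F^ι` as an invertible matrix. -/
noncomputable def glOf : ((ι → F) ≃ₗ[F] (ι → F)) →* GL ι F :=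
  MonoidHom.mk'
    (fun g =>
      { val := LinearMap.toMatrix' g.toLinearMap
        inv := LinearMap.toMatrix' g.symm.toLinearMap
        val_inv := by rw [← LinearMap.toMatrix'_comp]; simp
        inv_val := by rw [← LinearMap.toMatrix'_comp]; simp })
    (fun a b => Units.ext (LinearMap.toMatrix'_comp a.toLinearMap b.toLinearMap))

@[simp]
theorem glOf_mulVec (g : (ι → F) ≃ₗ[F] (ι → F)) (x : ι → F) :
    ((glOf g : GL ι F) : Matrix ι ι F) *ᵥ x = g x :=
  LinearMap.toMatrix'_mulVec g.toLinearMap x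

theorem gl_ext {g h : GL ι F}
    (e : ∀ x, (g : Matrix ι ι F) *ᵥ x = (h : Matrix ι ι F) *ᵥ x) : g = h :=
  Units.ext (Matrix.ext_iff_mulVec.2 e)

theorem inv_mulVec_mulVec (g : GL ι F) (x : ι → F) :
    ((g⁻¹ : GL ι F) : Matrix ι ι F) *ᵥ ((g : Matrix ι ι F) *ᵥ x) = x := by
  rw [Matrix.mulVec_mulVec, ← Units.val_mul, inv_mul_cancel, Units.val_one, Matrix.one_mulVec]

theorem mulVec_inv_mulVec (g : GL ι F) (x : ι → F) :
    (g : Matrix ι ι F) *ᵥ (((g⁻¹ : GL ι F) : Matrix ι ι F) *ᵥ x) = x := by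
  rw [Matrix.mulVec_mulVec, ← Units.val_mul, mul_inv_cancel, Units.val_one, Matrix.one_mulVec]

/-- The linear automorphism of an invertible matrix. -/
noncomputable def linOf (g : GL ι F) : (ι → F) ≃ₗ[F] (ι → F) :=
  LinearEquiv.ofLinearMap (Matrix.toLin' (g : Matrix ι ι F))
    (Matrix.toLin' ((g⁻¹ : GL ι F) : Matrix ι ι F))
    (by rw [← Matrix.toLin'_mul, ← Units.val_mul, mul_inv_cancel, Units.val_one, Matrix.toLin'_one])
    (by rw [← Matrix.toLin'_mul, ← Units.val_mul, inv_mul_cancel, Units.val_one, Matrix.toLin'_one])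

@[simp]
theorem linOf_apply (g : GL ι F) (x : ι → F) : linOf g x = (g : Matrix ι ι F) *ᵥ x := rfl

theorem glOf_linOf (g : GL ι F) : glOf (linOf g) = g := gl_ext fun x => by simp

/-- The transvection `x ↦ x + (φ ⬝ x) v` as an invertible matrix. -/
def trv (v φ : ι → F) (h : φ ⬝ᵥ v = 0) : GL ι F where
  val := 1 + Matrix.vecMulVec v φ
  inv := 1 - Matrix.vecMulVec v φ
  val_inv := by
    rw [add_mul, mul_sub, mul_sub, Matrix.vecMulVec_mul_vecMulVec, h]
    simp
  inv_val := by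
    rw [sub_mul, mul_add, mul_add, Matrix.vecMulVec_mul_vecMulVec, h]
    simp

theorem trv_mulVec (v φ : ι → F) (h : φ ⬝ᵥ v = 0) (x : ι → F) :
    (trv v φ h : Matrix ι ι F) *ᵥ x = x + (φ ⬝ᵥ x) • v := by
  rw [show (trv v φ h : Matrix ι ι F) = 1 + Matrix.vecMulVec v φ from rfl, Matrix.add_mulVec,
    Matrix.one_mulVec, Matrix.vecMulVec_mulVec, op_smul_eq_smul]

theorem trv_mem_specialLinear (v φ : ι → F) (h : φ ⬝ᵥ v = 0) :
    trv v φ h ∈ Cfsg.Geo.specialLinear ι F := by
  rw [Cfsg.Geo.specialLinear, MonoidHom.mem_ker]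
  refine Units.ext ?_
  show (1 + Matrix.vecMulVec v φ).det = 1
  rw [Matrix.vecMulVec_eq Unit, Matrix.det_one_add_replicateCol_mul_replicateRow, h]
  simp

theorem conj_trv (g : GL ι F) (v φ : ι → F) (h : φ ⬝ᵥ v = 0)
    (h' : (Matrix.vecMul φ ((g⁻¹ : GL ι F) : Matrix ι ι F)) ⬝ᵥ ((g : Matrix ι ι F) *ᵥ v) = 0) :
    g * trv v φ h * g⁻¹ =
      trv ((g : Matrix ι ι F) *ᵥ v) (Matrix.vecMul φ ((g⁻¹ : GL ι F) : Matrix ι ι F)) h' := by
  refine gl_ext fun x => ?_
  rw [Units.val_mul, Units.val_mul, ← Matrix.mulVec_mulVec, ← Matrix.mulVec_mulVec, trv_mulVec,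
    trv_mulVec, Matrix.mulVec_add, Matrix.mulVec_smul, mulVec_inv_mulVec, ← Matrix.dotProduct_mulVec]

theorem vecMul_inv_dot (g : GL ι F) (v φ : ι → F) :
    (Matrix.vecMul φ ((g⁻¹ : GL ι F) : Matrix ι ι F)) ⬝ᵥ ((g : Matrix ι ι F) *ᵥ v) = φ ⬝ᵥ v := by
  rw [← Matrix.dotProduct_mulVec, inv_mulVec_mulVec]

theorem trv_congr {v φ v' φ' : ι → F} {h : φ ⬝ᵥ v = 0} {h' : φ' ⬝ᵥ v' = 0} (hv : v = v')
    (hφ : φ = φ') : trv v φ h = trv v' φ' h' := by
  subst hv hφ; rfl

/-- A subgroup containing all transvections contains the special linear group. -/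
theorem specialLinear_le_of_trv {K : Subgroup (GL ι F)}
    (hK : ∀ (v φ : ι → F) (h : φ ⬝ᵥ v = 0), trv v φ h ∈ K) :
    Cfsg.Geo.specialLinear ι F ≤ K := by
  intro g hg
  have : g ∈ (Matrix.SpecialLinearGroup.toGL : Matrix.SpecialLinearGroup ι F →* GL ι F).range := by
    rw [LinGrp.range_toGL_eq_ker_det]
    exact hg
  obtain ⟨s, rfl⟩ := this
  have hs : s ∈ Subgroup.closure (LinGrp.transvectionSet (n := ι) (F := F)) := by
    rw [LinGrp.closure_transvectionSet]; trivial
  induction hs using Subgroup.closure_induction with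
  | mem x hx =>
    obtain ⟨i, j, hij, a, rfl⟩ := hx
    have h0 : (Pi.single j a : ι → F) ⬝ᵥ (Pi.single i (1 : F)) = 0 := by
      rw [dotProduct_single, mul_one, Pi.single_eq_of_ne hij]
    convert hK (Pi.single i 1) (Pi.single j a) h0 using 1
    refine gl_ext fun x => ?_
    rw [trv_mulVec]
    show (Matrix.SpecialLinearGroup.transvection hij a : Matrix ι ι F) *ᵥ x = _
    rw [Matrix.SpecialLinearGroup.transvection_coe, Matrix.add_mulVec, Matrix.one_mulVec,
      Matrix.single_mulVec_eq, single_dotProduct]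
  | one => rw [map_one]; exact K.one_mem
  | mul x y _ _ hx hy => rw [map_mul]; exact K.mul_mem (hx (by
      exact MonoidHom.mem_ker.mpr (by simp))) (hy (MonoidHom.mem_ker.mpr (by simp)))
  | inv x _ hx => rw [map_inv]; exact K.inv_mem (hx (MonoidHom.mem_ker.mpr (by simp)))

/-- Two independent functionals take any pair of values. -/
theorem exists_two_values {V : Type*} [AddCommGroup V] [Module F V] {f g : V →ₗ[F] F}
    (h : ∀ a b : F, a • f + b • g = 0 → a = 0 ∧ b = 0) (α β : F) :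
    ∃ x, f x = α ∧ g x = β := by
  have hf : f ≠ 0 := fun e => one_ne_zero (h 1 0 (by simp [e])).1
  obtain ⟨x₀, hx₀⟩ : ∃ x, f x ≠ 0 := by
    by_contra hc
    push Not at hc
    exact hf (LinearMap.ext hc)
  set u := (f x₀)⁻¹ • x₀ with hu
  have hfu : f u = 1 := by simp [hu, hx₀]
  obtain ⟨w, hw⟩ : ∃ w, g (w - f w • u) ≠ 0 := by
    by_contra hc
    push Not at hc
    refine (neg_ne_zero.mpr one_ne_zero) (h (g u) (-1) (LinearMap.ext fun w => ?_)).2
    have := hc w
    simp only [map_sub, map_smul, smul_eq_mul, LinearMap.add_apply, LinearMap.smul_apply,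
      LinearMap.zero_apply] at this ⊢
    linear_combination -this
  set t := w - f w • u with ht
  have hft : f t = 0 := by simp [ht, hfu]
  refine ⟨α • u + ((β - α * g u) * (g t)⁻¹) • t, by simp [hfu, hft], ?_⟩
  simp only [map_add, map_smul, smul_eq_mul]
  field_simp
  ring

theorem mem_similarity_iff (f : (ι → F) → (ι → F) → F) (g : GL ι F) :
    g ∈ Cfsg.Geo.similarityGroup f ↔
      ∃ c : Fˣ, ∀ u v, f ((g : Matrix ι ι F) *ᵥ u) ((g : Matrix ι ι F) *ᵥ v) = (c : F) * f u v :=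
  Iff.rfl

end Cfsg.Agent.TransvMax
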