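import Cfsg.Agent.Lib.TransvMax.TensorSmall

/-!
Tensor decompositions with a two-dimensional factor over the field with two elements: their
stabilisers normalise a group of order three.
-/

set_option autoImplicit false

namespace Cfsg.Agent.TensorSmall

open scoped Matrix MatrixGroups Kronecker
open Cfsg.Agent

/-- The elements conjugating `J` to itself or to its inverse. -/
def invPairNormalizer {G : Type*} [Group G] (J : G) : Subgroup G where
  carrier := {g | g * J * g⁻¹ = J ∨ g * J * g⁻¹ = J⁻¹}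
  one_mem' := Or.inl (by group)
  mul_mem' {a b} ha hb := by
    have h : a * b * J * (a * b)⁻¹ = a * (b * J * b⁻¹) * a⁻¹ := by group
    have h' : a * J⁻¹ * a⁻¹ = (a * J * a⁻¹)⁻¹ := by group
    show _ ∨ _
    rw [h]
    rcases hb with hb | hb <;> rw [hb]
    · exact ha
    · rw [h']
      rcases ha with ha | ha <;> rw [ha]
      · exact Or.inr rfl
      · exact Or.inl (inv_inv J)
  inv_mem' {a} ha := by
    show _ ∨ _
    rcases ha with ha | ha
    · refine Or.inl ?_
      conv_lhs => rw [← ha]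
      group
    · refine Or.inr ?_
      have h' : J = (a * J * a⁻¹)⁻¹ := by rw [ha, inv_inv]
      conv_lhs => rw [h']
      group

variable {ι : Type} [Fintype ι] [DecidableEq ι] {F : Type*} [Field F] {n₁ n₂ : ℕ}

theorem exists_tensor_elt (e : ι ≃ Fin n₁ × Fin n₂) (P : GL ι F) (a : GL (Fin n₁) F)
    (b : GL (Fin n₂) F) :
    ∃ g ∈ Cfsg.Geo.tensorProductSubgroup n₁ n₂ e P, ∀ x y,
      (g : Matrix ι ι F) *ᵥ tp e P x y =
        tp e P ((a : Matrix (Fin n₁) (Fin n₁) F) *ᵥ x) ((b : Matrix (Fin n₂) (Fin n₂) F) *ᵥ y) := by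
  let k : GL (Fin n₁ × Fin n₂) F :=
    ⟨(a : Matrix (Fin n₁) (Fin n₁) F) ⊗ₖ (b : Matrix (Fin n₂) (Fin n₂) F),
      ((a⁻¹ : GL (Fin n₁) F) : Matrix (Fin n₁) (Fin n₁) F) ⊗ₖ
        ((b⁻¹ : GL (Fin n₂) F) : Matrix (Fin n₂) (Fin n₂) F),
      by rw [← Matrix.mul_kronecker_mul, ← Units.val_mul, ← Units.val_mul, mul_inv_cancel,
        mul_inv_cancel, Units.val_one, Units.val_one, Matrix.one_kronecker_one],
      by rw [← Matrix.mul_kronecker_mul, ← Units.val_mul, ← Units.val_mul, inv_mul_cancel,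
        inv_mul_cancel, Units.val_one, Units.val_one, Matrix.one_kronecker_one]⟩
  refine ⟨_, ⟨_, ⟨k, ⟨a, b, rfl⟩, rfl⟩, rfl⟩, fun x y => ?_⟩
  simp only [MulEquiv.coe_toMonoidHom, MulAut.conj_apply, Units.val_mul, ← Matrix.mulVec_mulVec,
    tp, TransvMax.inv_mulVec_mulVec]
  congr 1
  show (Matrix.reindexAlgEquiv F F e.symm ((a : Matrix (Fin n₁) (Fin n₁) F) ⊗ₖ
    (b : Matrix (Fin n₂) (Fin n₂) F))) *ᵥ _ = _
  rw [Matrix.reindexAlgEquiv_apply, Matrix.reindex_apply, Equiv.symm_symm,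
    Matrix.submatrix_mulVec_equiv]
  have : ((fun a : Fin n₁ × Fin n₂ => x a.1 * y a.2) ∘ e) ∘ e.symm =
      fun a : Fin n₁ × Fin n₂ => x a.1 * y a.2 := by funext a; simp
  rw [this, kronecker_mulVec_tensor]

variable (e : ι ≃ Fin 2 × Fin n₂) (P : GL ι F)

/-- Two coordinates with respect to the standard basis of the small factor. -/
def pairVec (p q : Fin n₂ → F) : ι → F := tp e P ![1, 0] p + tp e P ![0, 1] q

theorem pairVec_apply (p q : Fin n₂ → F) (j : Fin n₂) :
    (((P⁻¹ : GL ι F) : Matrix ι ι F) *ᵥ pairVec e P p q) (e.symm (0, j)) = p j ∧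
    (((P⁻¹ : GL ι F) : Matrix ι ι F) *ᵥ pairVec e P p q) (e.symm (1, j)) = q j := by
  simp only [pairVec, tp, Matrix.mulVec_add, TransvMax.inv_mulVec_mulVec]
  exact ⟨by simp, by simp⟩

theorem pairVec_inj {p q p' q' : Fin n₂ → F} (h : pairVec e P p q = pairVec e P p' q') :
    p = p' ∧ q = q' :=
  ⟨funext fun j => by rw [← (pairVec_apply e P p q j).1, h, (pairVec_apply e P p' q' j).1],
    funext fun j => by rw [← (pairVec_apply e P p q j).2, h, (pairVec_apply e P p' q' j).2]⟩

theorem exists_pairVec (v : ι → F) : ∃ p q, v = pairVec e P p q := by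
  set w := ((P⁻¹ : GL ι F) : Matrix ι ι F) *ᵥ v
  refine ⟨fun j => w (e.symm (0, j)), fun j => w (e.symm (1, j)), ?_⟩
  rw [← TransvMax.mulVec_inv_mulVec P v, pairVec, tp, tp, ← Matrix.mulVec_add]
  congr 1
  funext i
  obtain ⟨⟨a, b⟩, rfl⟩ := e.symm.surjective i
  fin_cases a <;> simp [w]

theorem pairVec_add (p q p' q' : Fin n₂ → F) :
    pairVec e P p q + pairVec e P p' q' = pairVec e P (p + p') (q + q') := by
  simp only [pairVec, tp_add_right]
  abel

theorem pairVec_smul (s : F) (p q : Fin n₂ → F) :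
    s • pairVec e P p q = pairVec e P (s • p) (s • q) := by
  simp only [pairVec, tp_smul_right, smul_add]

theorem tp_eq_pairVec (x : Fin 2 → F) (y : Fin n₂ → F) :
    tp e P x y = pairVec e P (x 0 • y) (x 1 • y) := by
  rw [pairVec, tp_smul_right, tp_smul_right, ← tp_smul_left, ← tp_smul_left, ← tp_add_left]
  congr 1
  funext i
  fin_cases i <;> simp

theorem two_cases [Fintype F] (hq : Fintype.card F = 2) (x : F) : x = 0 ∨ x = 1 := by
  have h := FiniteField.pow_card x
  rw [hq] at h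
  have : x * (x - 1) = 0 := by linear_combination h
  exact (mul_eq_zero.1 this).imp_right sub_eq_zero.1

theorem two_eq_zero [Fintype F] (hq : Fintype.card F = 2) : (2 : F) = 0 := by
  have := Nat.cast_card_eq_zero F
  rwa [hq] at this

/-- The element of order three acting on the small factor. -/
theorem exists_order_three [Fintype F] (hq : Fintype.card F = 2) :
    ∃ J : GL ι F, (∀ p q, (J : Matrix ι ι F) *ᵥ pairVec e P p q = pairVec e P q (p + q)) ∧
      (∀ p q, ((J⁻¹ : GL ι F) : Matrix ι ι F) *ᵥ pairVec e P p q = pairVec e P (p + q) p) ∧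
      Cfsg.Geo.tensorProductSubgroup 2 n₂ e P ≤ invPairNormalizer J := by
  have h20 := two_eq_zero hq
  let w : GL (Fin 2) F := ⟨!![0, 1; 1, 1], !![1, 1; 1, 0],
    by ext i j; fin_cases i <;> fin_cases j <;> simp [Matrix.mul_apply] <;> linear_combination h20,
    by ext i j; fin_cases i <;> fin_cases j <;> simp [Matrix.mul_apply] <;> linear_combination h20⟩
  obtain ⟨J, -, hJ⟩ := exists_tensor_elt e P w 1
  have hJE : ∀ p q, (J : Matrix ι ι F) *ᵥ pairVec e P p q = pairVec e P q (p + q) := by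
    intro p q
    rw [pairVec, Matrix.mulVec_add, hJ, hJ]
    simp only [Units.val_one, Matrix.one_mulVec, tp_eq_pairVec, pairVec_add]
    congr 1 <;> funext j <;> simp [w, Matrix.mulVec, dotProduct]
  have hJi : ∀ p q, ((J⁻¹ : GL ι F) : Matrix ι ι F) *ᵥ pairVec e P p q = pairVec e P (p + q) p := by
    intro p q
    conv_lhs => rw [show pairVec e P p q = (J : Matrix ι ι F) *ᵥ pairVec e P (p + q) p by
      rw [hJE]; congr 1; funext j; simp only [Pi.add_apply]; linear_combination -(p j) * h20]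
    rw [TransvMax.inv_mulVec_mulVec]
  refine ⟨J, hJE, hJi, fun g hg => ?_⟩
  obtain ⟨a, b, hab⟩ := mem_tensor e P hg
  have hgE : ∀ p q, (g : Matrix ι ι F) *ᵥ pairVec e P p q = pairVec e P
      ((a : Matrix (Fin 2) (Fin 2) F) 0 0 • ((b : Matrix (Fin n₂) (Fin n₂) F) *ᵥ p) +
        (a : Matrix (Fin 2) (Fin 2) F) 0 1 • ((b : Matrix (Fin n₂) (Fin n₂) F) *ᵥ q))
      ((a : Matrix (Fin 2) (Fin 2) F) 1 0 • ((b : Matrix (Fin n₂) (Fin n₂) F) *ᵥ p) +
        (a : Matrix (Fin 2) (Fin 2) F) 1 1 • ((b : Matrix (Fin n₂) (Fin n₂) F) *ᵥ q)) := by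
    intro p q
    rw [pairVec, Matrix.mulVec_add, hab, hab]
    simp only [tp_eq_pairVec, pairVec_add]
    congr 1 <;> simp [Matrix.mulVec, dotProduct]
  have key : (g * J = J * g) ∨ (g * J = J⁻¹ * g) := by
    have hdet : (a : Matrix (Fin 2) (Fin 2) F) 0 0 * (a : Matrix (Fin 2) (Fin 2) F) 1 1 -
        (a : Matrix (Fin 2) (Fin 2) F) 0 1 * (a : Matrix (Fin 2) (Fin 2) F) 1 0 ≠ 0 := by
      rw [← Matrix.det_fin_two]
      exact ((Matrix.isUnit_iff_isUnit_det _).1 a.isUnit).ne_zero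
    have h1 : ∀ (M : GL ι F), (∀ p q, (g : Matrix ι ι F) *ᵥ ((J : Matrix ι ι F) *ᵥ pairVec e P p q) =
        (M : Matrix ι ι F) *ᵥ ((g : Matrix ι ι F) *ᵥ pairVec e P p q)) → g * J = M * g := by
      intro M h
      refine TransvMax.gl_ext fun v => ?_
      obtain ⟨p, q, rfl⟩ := exists_pairVec e P v
      simpa only [Units.val_mul, ← Matrix.mulVec_mulVec] using h p q
    rcases two_cases hq ((a : Matrix (Fin 2) (Fin 2) F) 0 0) with A | A <;>
      rcases two_cases hq ((a : Matrix (Fin 2) (Fin 2) F) 0 1) with B | B <;>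
      rcases two_cases hq ((a : Matrix (Fin 2) (Fin 2) F) 1 0) with C | C <;>
      rcases two_cases hq ((a : Matrix (Fin 2) (Fin 2) F) 1 1) with D | D
    all_goals first
      | (exfalso; rw [A, B, C, D] at hdet; simp at hdet; done)
      | (refine Or.inl (h1 J fun p q => ?_)
         simp only [hJE, hgE, A, B, C, D, Matrix.mulVec_add, one_smul, zero_smul, add_zero, zero_add]
         all_goals congr 1 <;> funext j <;> simp only [Pi.add_apply] <;> first
           | ring1
           | linear_combination (((b : Matrix (Fin n₂) (Fin n₂) F) *ᵥ p) j) * h20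
           | linear_combination (((b : Matrix (Fin n₂) (Fin n₂) F) *ᵥ q) j) * h20
           | linear_combination (-((b : Matrix (Fin n₂) (Fin n₂) F) *ᵥ p) j) * h20
           | linear_combination (-((b : Matrix (Fin n₂) (Fin n₂) F) *ᵥ q) j) * h20)
      | (refine Or.inr (h1 J⁻¹ fun p q => ?_)
         simp only [hJE, hJi, hgE, A, B, C, D, Matrix.mulVec_add, one_smul, zero_smul, add_zero,
           zero_add]
         all_goals congr 1 <;> funext j <;> simp only [Pi.add_apply] <;> first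
           | ring1
           | linear_combination (((b : Matrix (Fin n₂) (Fin n₂) F) *ᵥ p) j) * h20
           | linear_combination (((b : Matrix (Fin n₂) (Fin n₂) F) *ᵥ q) j) * h20
           | linear_combination (-((b : Matrix (Fin n₂) (Fin n₂) F) *ᵥ p) j) * h20
           | linear_combination (-((b : Matrix (Fin n₂) (Fin n₂) F) *ᵥ q) j) * h20)
      | (exfalso; rw [A, B, C, D] at hdet; exact hdet (by linear_combination h20))
      | (exfalso; rw [A, B, C, D] at hdet; exact hdet (by ring))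
  exact key.imp (fun h => by rw [h, mul_inv_cancel_right]) fun h => by rw [h, mul_inv_cancel_right]

/-- A criterion for non-maximality. -/
theorem two_not_max {J : GL ι F} {G : Subgroup (GL ι F)}
    (hle : Cfsg.Geo.tensorProductSubgroup 2 n₂ e P ≤ invPairNormalizer J)
    (T : GL ι F) (hTG : T ∈ G) (hTJ : T * J = J * T)
    (hT : T ∉ Cfsg.Geo.tensorProductSubgroup 2 n₂ e P)
    (S : GL ι F) (hSG : S ∈ G) (x : ι → F)
    (hS1 : (S : Matrix ι ι F) *ᵥ ((J : Matrix ι ι F) *ᵥ x) ≠
      (J : Matrix ι ι F) *ᵥ ((S : Matrix ι ι F) *ᵥ x))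
    (hS2 : (S : Matrix ι ι F) *ᵥ ((J : Matrix ι ι F) *ᵥ x) ≠
      ((J⁻¹ : GL ι F) : Matrix ι ι F) *ᵥ ((S : Matrix ι ι F) *ᵥ x)) :
    ∃ K : Subgroup (GL ι F), Cfsg.Geo.tensorProductSubgroup 2 n₂ e P ⊓ G < K ∧ K < G := by
  refine ⟨invPairNormalizer J ⊓ G, lt_of_le_not_ge (inf_le_inf_right G hle) fun h => hT ?_,
    lt_of_le_not_ge inf_le_right fun h => ?_⟩
  · exact (h ⟨Or.inl (by rw [hTJ, mul_inv_cancel_right]), hTG⟩).1
  · rcases (h hSG).1 with e1 | e1 <;> rw [mul_inv_eq_iff_eq_mul] at e1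
    · exact hS1 (by rw [Matrix.mulVec_mulVec, Matrix.mulVec_mulVec, ← Units.val_mul, e1, Units.val_mul])
    · exact hS2 (by rw [Matrix.mulVec_mulVec, Matrix.mulVec_mulVec, ← Units.val_mul, e1, Units.val_mul])

end Cfsg.Agent.TensorSmall
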