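import Cfsg.Agent.Lib.Elusive.Semisimple
import Cfsg.Agent.Lib.Elusive.Linear
import Cfsg.Agent.Lib.TransvMax.Basic
import Cfsg.Agent.Lib.TransvMax.TensorTwo
import Cfsg.Prelude.Def_GeometricClasses

/-!
Eigenspaces of the elements of the stabiliser of a tensor decomposition.
-/

set_option autoImplicit false
set_option linter.unusedSectionVars false

namespace Cfsg.Agent.TensorEl

open Cfsg.Agent Module
open scoped Matrix Kronecker

variable {F : Type*} [Field F] {ι : Type} [Fintype ι] [DecidableEq ι] {a b : ℕ}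

/-- The map `X ↦ A X Bᵀ`. -/
def sandwich (A : Matrix (Fin a) (Fin a) F) (B : Matrix (Fin b) (Fin b) F) :
    Module.End F (Matrix (Fin a) (Fin b) F) where
  toFun X := A * X * Bᵀ
  map_add' X Y := by rw [Matrix.mul_add, Matrix.add_mul]
  map_smul' c X := by simp

theorem sandwich_apply (A : Matrix (Fin a) (Fin a) F) (B : Matrix (Fin b) (Fin b) F) (X : Matrix (Fin a) (Fin b) F) :
    sandwich A B X = A * X * Bᵀ := rfl

theorem sandwich_pow (A : Matrix (Fin a) (Fin a) F) (B : Matrix (Fin b) (Fin b) F) (k : ℕ) :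
    sandwich A B ^ k = sandwich (A ^ k) (B ^ k) := by
  induction k with
  | zero => ext X; simp [sandwich_apply]
  | succ k ih =>
    refine LinearMap.ext fun X => ?_
    rw [pow_succ', Module.End.mul_apply, ih, sandwich_apply, sandwich_apply, sandwich_apply, pow_succ' A, pow_succ B,
      Matrix.transpose_mul]
    simp only [Matrix.mul_assoc]
    rw [← Matrix.transpose_mul, ← Matrix.transpose_mul, ← pow_succ, ← pow_succ']

/-- Coordinates for a tensor decomposition. -/
noncomputable def coord (e : ι ≃ Fin a × Fin b) (P : GL ι F) : Matrix (Fin a) (Fin b) F ≃ₗ[F] (ι → F) :=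
  (({ toFun := fun X i => X (e i).1 (e i).2
      map_add' := fun _ _ => rfl
      map_smul' := fun _ _ => rfl
      invFun := fun v => Matrix.of fun i j => v (e.symm (i, j))
      left_inv := fun X => by ext i j; simp
      right_inv := fun v => by funext i; simp } : Matrix (Fin a) (Fin b) F ≃ₗ[F] (ι → F))).trans (TransvMax.linOf P)

theorem coord_apply (e : ι ≃ Fin a × Fin b) (P : GL ι F) (X : Matrix (Fin a) (Fin b) F) :
    coord e P X = (P : Matrix ι ι F) *ᵥ fun i => X (e i).1 (e i).2 := by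
  simp [coord]
  rfl

theorem coord_mul_pair (e : ι ≃ Fin a × Fin b) (P : GL ι F) (A : Matrix (Fin a) (Fin a) F)
    (B : Matrix (Fin b) (Fin b) F) (X : Matrix (Fin a) (Fin b) F) :
    ((P : Matrix ι ι F) * Matrix.reindexAlgEquiv F F e.symm (A ⊗ₖ B) * ((P⁻¹ : GL ι F) : Matrix ι ι F)) *ᵥ
      coord e P X = coord e P (sandwich A B X) := by
  rw [coord_apply, coord_apply, ← Matrix.mulVec_mulVec, ← Matrix.mulVec_mulVec, TransvMax.inv_mulVec_mulVec]
  congr 1
  rw [Matrix.reindexAlgEquiv_apply, Matrix.reindex_apply, Equiv.symm_symm, Matrix.submatrix_mulVec_equiv]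
  funext i
  simp only [Function.comp_apply, Matrix.mulVec, dotProduct, Matrix.kroneckerMap_apply, sandwich_apply,
    Matrix.mul_apply, Fintype.sum_prod_type, Equiv.apply_symm_apply, Matrix.transpose_apply, Finset.sum_mul]
  rw [Finset.sum_comm]
  refine Finset.sum_congr rfl fun k _ => Finset.sum_congr rfl fun l _ => ?_
  ring

theorem exists_of_mem {e : ι ≃ Fin a × Fin b} {P y : GL ι F} (hy : y ∈ Cfsg.Geo.tensorProductSubgroup a b e P) :
    ∃ (A : GL (Fin a) F) (B : GL (Fin b) F), ∀ X, (y : Matrix ι ι F) *ᵥ coord e P X =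
      coord e P (sandwich (A : Matrix (Fin a) (Fin a) F) (B : Matrix (Fin b) (Fin b) F) X) := by
  obtain ⟨h, ⟨k, ⟨A, B, hAB⟩, rfl⟩, rfl⟩ := hy
  refine ⟨A, B, fun X => ?_⟩
  rw [← coord_mul_pair, ← hAB]
  rfl

theorem exists_mem (e : ι ≃ Fin a × Fin b) (P : GL ι F) (A : GL (Fin a) F) (B : GL (Fin b) F) :
    ∃ y ∈ Cfsg.Geo.tensorProductSubgroup a b e P, ∀ X, (y : Matrix ι ι F) *ᵥ coord e P X =
      coord e P (sandwich (A : Matrix (Fin a) (Fin a) F) (B : Matrix (Fin b) (Fin b) F) X) := by
  let k : GL (Fin a × Fin b) F :=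
    ⟨(A : Matrix (Fin a) (Fin a) F) ⊗ₖ (B : Matrix (Fin b) (Fin b) F),
      ((A⁻¹ : GL (Fin a) F) : Matrix (Fin a) (Fin a) F) ⊗ₖ ((B⁻¹ : GL (Fin b) F) : Matrix (Fin b) (Fin b) F),
      by rw [← Matrix.mul_kronecker_mul, ← Units.val_mul, ← Units.val_mul, mul_inv_cancel,
        mul_inv_cancel, Units.val_one, Units.val_one, Matrix.one_kronecker_one],
      by rw [← Matrix.mul_kronecker_mul, ← Units.val_mul, ← Units.val_mul, inv_mul_cancel,
        inv_mul_cancel, Units.val_one, Units.val_one, Matrix.one_kronecker_one]⟩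
  refine ⟨_, ⟨_, ⟨k, ⟨A, B, rfl⟩, rfl⟩, rfl⟩, fun X => ?_⟩
  rw [← coord_mul_pair]
  rfl

/-- Intertwined maps have eigenspaces of the same dimension. -/
theorem finrank_ker_of_intertwine {V W : Type*} [AddCommGroup V] [Module F V] [AddCommGroup W] [Module F W]
    (L : V ≃ₗ[F] W) {f : Module.End F V} {g : Module.End F W} (h : ∀ v, g (L v) = L (f v)) (μ : F) :
    finrank F (LinearMap.ker (g - μ • LinearMap.id)) = finrank F (LinearMap.ker (f - μ • LinearMap.id)) := by
  refine ((L.submoduleMap _).trans (LinearEquiv.ofEq _ _ ?_)).finrank_eq.symm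
  ext w
  obtain ⟨v, rfl⟩ := L.surjective w
  have hL : Function.Injective L := L.injective
  constructor
  · rintro ⟨u, hu, he⟩
    obtain rfl := hL he
    simp only [SetLike.mem_coe, LinearMap.mem_ker, LinearMap.sub_apply, LinearMap.smul_apply, LinearMap.id_apply] at hu
    rw [LinearMap.mem_ker, LinearMap.sub_apply, LinearMap.smul_apply, LinearMap.id_apply, h, ← map_smul, ← map_sub, hu,
      map_zero]
  · intro hv
    rw [LinearMap.mem_ker, LinearMap.sub_apply, LinearMap.smul_apply, LinearMap.id_apply, h, ← map_smul, ← map_sub,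
      L.map_eq_zero_iff] at hv
    exact ⟨v, by simpa using hv, rfl⟩

/-- A conjugate in the stabiliser of the decomposition. -/
theorem exists_sandwich {e : ι ≃ Fin a × Fin b} {P x g : GL ι F}
    (h : g⁻¹ * x * g ∈ Cfsg.Geo.tensorProductSubgroup a b e P) :
    ∃ (L : Matrix (Fin a) (Fin b) F ≃ₗ[F] (ι → F)) (A : GL (Fin a) F) (B : GL (Fin b) F), ∀ X,
      (x : Matrix ι ι F) *ᵥ L X = L (sandwich (A : Matrix (Fin a) (Fin a) F) (B : Matrix (Fin b) (Fin b) F) X) := by
  obtain ⟨A, B, hAB⟩ := exists_of_mem h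
  refine ⟨(coord e P).trans (TransvMax.linOf g), A, B, fun X => ?_⟩
  simp only [LinearEquiv.trans_apply, TransvMax.linOf_apply]
  rw [← hAB]
  simp only [Matrix.mulVec_mulVec, ← Units.val_mul, mul_assoc, mul_inv_cancel_left]

/-- A non-scalar first factor bounds the eigenspaces. -/
theorem finrank_ker_le {A : GL (Fin a) F} (hA : ∀ α : F, (A : Matrix (Fin a) (Fin a) F) ≠ α • 1) (B : GL (Fin b) F)
    (μ : F) :
    finrank F (LinearMap.ker (sandwich (A : Matrix (Fin a) (Fin a) F) (B : Matrix (Fin b) (Fin b) F) -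
      μ • LinearMap.id)) ≤ (a - 1) * b := by
  classical
  set A' : Matrix (Fin a) (Fin a) F := (A : Matrix (Fin a) (Fin a) F)
  set B' : Matrix (Fin b) (Fin b) F := (B : Matrix (Fin b) (Fin b) F)
  obtain ⟨c, hc⟩ : ∃ c : Fin a → F, c ᵥ* A' ∉ Submodule.span F {c} := by
    by_contra hno
    push Not at hno
    obtain ⟨α, hα⟩ := LinearMap.exists_eq_smul_id_of_forall_notLinearIndependent (f := Matrix.toLin' A'ᵀ)
      fun v hli => by
      obtain ⟨s, hs⟩ := Submodule.mem_span_singleton.1 (hno v)
      rw [Matrix.toLin'_apply, Matrix.mulVec_transpose] at hli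
      exact (LinearIndependent.pair_iff' (hli.ne_zero 0)).1 hli s hs
    refine hA α (Matrix.transpose_injective (Matrix.toLin'.injective ?_))
    rw [hα, Matrix.transpose_smul, Matrix.transpose_one, map_smul, Matrix.toLin'_one]
    rfl
  obtain ⟨φ, hφ, hφc⟩ := Submodule.exists_dual_map_eq_bot_of_notMem hc inferInstance
  have hφ0 : φ c = 0 := by
    have : φ c ∈ (Submodule.span F {c}).map φ := ⟨c, Submodule.mem_span_singleton_self c, rfl⟩
    rwa [hφc, Submodule.mem_bot] at this
  let W := LinearMap.ker φ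
  let K := LinearMap.ker (sandwich A' B' - μ • LinearMap.id)
  let L : K →ₗ[F] (W →ₗ[F] (Fin b → F)) :=
    { toFun := fun X =>
        { toFun := fun d => (d : Fin a → F) ᵥ* (X : Matrix (Fin a) (Fin b) F)
          map_add' := fun d d' => Matrix.add_vecMul _ _ _
          map_smul' := fun s d => Matrix.smul_vecMul _ _ _ }
      map_add' := fun X Y => LinearMap.ext fun d => by simp [Matrix.vecMul_add]
      map_smul' := fun s X => LinearMap.ext fun d => by simp [Matrix.vecMul_smul] }
  have hL : Function.Injective L := by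
    rw [injective_iff_map_eq_zero]
    intro X hX
    have hW : ∀ d, φ d = 0 → d ᵥ* (X : Matrix (Fin a) (Fin b) F) = 0 := fun d hd =>
      LinearMap.congr_fun hX ⟨d, hd⟩
    have hK : A' * (X : Matrix (Fin a) (Fin b) F) * B'ᵀ = μ • (X : Matrix (Fin a) (Fin b) F) :=
      sub_eq_zero.1 X.2
    have hcA : (c ᵥ* A') ᵥ* (X : Matrix (Fin a) (Fin b) F) = 0 := by
      have h1 : ((c ᵥ* A') ᵥ* (X : Matrix (Fin a) (Fin b) F)) ᵥ* B'ᵀ = 0 := by
        rw [Matrix.vecMul_vecMul, Matrix.vecMul_vecMul, ← Matrix.mul_assoc, hK, Matrix.vecMul_smul, hW c hφ0, smul_zero]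
      rw [Matrix.vecMul_transpose] at h1
      have h2 := congrArg (fun v => ((B⁻¹ : GL (Fin b) F) : Matrix (Fin b) (Fin b) F) *ᵥ v) h1
      simpa [B', Matrix.mulVec_mulVec] using h2
    have hall : ∀ d, d ᵥ* (X : Matrix (Fin a) (Fin b) F) = 0 := fun d => by
      have h := hW (d - (φ d / φ (c ᵥ* A')) • (c ᵥ* A')) (by
        rw [map_sub, map_smul, smul_eq_mul, div_mul_cancel₀ _ hφ, sub_self])
      rwa [Matrix.sub_vecMul, Matrix.smul_vecMul, hcA, smul_zero, sub_zero] at h
    refine Subtype.ext (Matrix.ext fun i j => ?_)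
    simpa using congrFun (hall (Pi.single i 1)) j
  have hsur : LinearMap.range φ = ⊤ :=
    LinearMap.range_eq_top.2 (LinearMap.surjective (fun e => hφ (by rw [e]; rfl)))
  have hWd : finrank F W = a - 1 := by
    have h := LinearMap.finrank_range_add_finrank_ker φ
    rw [hsur, finrank_top, finrank_self, finrank_fin_fun] at h
    show finrank F (LinearMap.ker φ) = a - 1
    omega
  refine (LinearMap.finrank_le_finrank_of_injective hL).trans (le_of_eq ?_)
  rw [finrank_linearMap, hWd, finrank_fin_fun]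

/-- A scalar first factor repeats the eigenspaces of the second. -/
theorem finrank_ker_scalar (α : F) (B : Matrix (Fin b) (Fin b) F) (μ : F) :
    finrank F (LinearMap.ker (sandwich (α • (1 : Matrix (Fin a) (Fin a) F)) B - μ • LinearMap.id)) =
      a * finrank F (LinearMap.ker (Matrix.toLin' (α • B) - μ • LinearMap.id)) := by
  set K := LinearMap.ker (Matrix.toLin' (α • B) - μ • LinearMap.id)
  have hmem : ∀ X : Matrix (Fin a) (Fin b) F,
      X ∈ LinearMap.ker (sandwich (α • (1 : Matrix (Fin a) (Fin a) F)) B - μ • LinearMap.id) ↔ ∀ i, X i ∈ K := by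
    intro X
    have hrow : ∀ i, (sandwich (α • (1 : Matrix (Fin a) (Fin a) F)) B X - μ • X) i =
        (α • B) *ᵥ X i - μ • X i := fun i => by
      funext j
      simp [sandwich_apply, Matrix.mul_apply, Matrix.mulVec, dotProduct, Finset.mul_sum]
      exact Finset.sum_congr rfl fun k _ => by ring
    simp only [LinearMap.mem_ker, LinearMap.sub_apply, LinearMap.smul_apply, LinearMap.id_apply, K,
      Matrix.toLin'_apply, ← hrow]
    exact ⟨fun h i => by rw [h]; rfl, fun h => funext h⟩
  rw [LinearEquiv.finrank_eq ({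
      toFun := fun X i => ⟨X.1 i, (hmem X.1).1 X.2 i⟩
      map_add' := fun _ _ => rfl
      map_smul' := fun _ _ => rfl
      invFun := fun Y => ⟨Matrix.of fun i => ((Y i : K) : Fin b → F), (hmem _).2 fun i => (Y i).2⟩
      left_inv := fun X => rfl
      right_inv := fun Y => rfl } :
        LinearMap.ker (sandwich (α • (1 : Matrix (Fin a) (Fin a) F)) B - μ • LinearMap.id) ≃ₗ[F] (Fin a → K)),
    finrank_pi_fintype, Finset.sum_const, Finset.card_univ, Fintype.card_fin, smul_eq_mul]

/-- Either all eigenspaces are small or all are multiples of the first degree. -/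
theorem eigen_cases {e : ι ≃ Fin a × Fin b} {P x g : GL ι F}
    (h : g⁻¹ * x * g ∈ Cfsg.Geo.tensorProductSubgroup a b e P) :
    (∀ μ : F, finrank F (LinearMap.ker (Matrix.toLin' (x : Matrix ι ι F) - μ • LinearMap.id)) ≤ (a - 1) * b) ∨
      ∃ B : Matrix (Fin b) (Fin b) F,
        (∀ μ : F, finrank F (LinearMap.ker (Matrix.toLin' (x : Matrix ι ι F) - μ • LinearMap.id)) =
          a * finrank F (LinearMap.ker (Matrix.toLin' B - μ • LinearMap.id))) ∧
        ∀ r : ℕ, 0 < a → (x : Matrix ι ι F) ^ r = 1 → B ^ r = 1 := by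
  obtain ⟨L, A, B, hAB⟩ := exists_sandwich h
  have hker : ∀ μ, finrank F (LinearMap.ker (Matrix.toLin' (x : Matrix ι ι F) - μ • LinearMap.id)) =
      finrank F (LinearMap.ker (sandwich (A : Matrix (Fin a) (Fin a) F) (B : Matrix (Fin b) (Fin b) F) -
        μ • LinearMap.id)) := finrank_ker_of_intertwine L fun X => by rw [Matrix.toLin'_apply, hAB]
  by_cases hA : ∃ α : F, (A : Matrix (Fin a) (Fin a) F) = α • 1
  · obtain ⟨α, hα⟩ := hA
    refine Or.inr ⟨α • (B : Matrix (Fin b) (Fin b) F), fun μ => by rw [hker, hα, finrank_ker_scalar],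
      fun r ha hr => ?_⟩
    refine Matrix.ext fun i j => ?_
    have hk : ∀ (k : ℕ) X, ((x : Matrix ι ι F) ^ k) *ᵥ L X = L (sandwich ((α • 1 : Matrix (Fin a) (Fin a) F) ^ k)
        ((B : Matrix (Fin b) (Fin b) F) ^ k) X) := fun k => by
      induction k with
      | zero => intro X; simp [sandwich_apply]
      | succ k ih =>
        intro X
        rw [pow_succ' (x : Matrix ι ι F), ← Matrix.mulVec_mulVec, ih, hAB, hα, ← sandwich_pow, ← sandwich_pow,
          ← Module.End.mul_apply, ← pow_succ']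
    have h1 := hk r (Matrix.single ⟨0, ha⟩ j 1)
    rw [hr, Matrix.one_mulVec] at h1
    have h2 := congrFun (congrFun (L.injective h1) ⟨0, ha⟩) i
    rw [sandwich_apply, smul_pow, one_pow] at h2
    simp [Matrix.smul_mul, Matrix.mul_apply, Matrix.single_apply, smul_pow] at h2 ⊢
    rw [← Matrix.transpose_pow, Matrix.transpose_apply] at h2
    simpa [Matrix.one_apply, eq_comm] using h2.symm
  · push Not at hA
    exact Or.inl fun μ => by rw [hker]; exact finrank_ker_le hA B μ

/-- Eigenspaces of diagonal matrices. -/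
theorem finrank_ker_diag [DecidableEq F] (w : ι → F) (μ : F) :
    finrank F (LinearMap.ker (Matrix.toLin' (Matrix.diagonal w) - μ • LinearMap.id)) =
      (Finset.univ.filter fun i => w i = μ).card := by
  have h : Matrix.toLin' (Matrix.diagonal w) - μ • LinearMap.id = Matrix.toLin' (Matrix.diagonal fun i => w i - μ) := by
    refine LinearMap.ext fun v => funext fun i => ?_
    simp [Matrix.mulVec_diagonal, sub_mul]
  rw [h]
  have h1 := LinearMap.finrank_range_add_finrank_ker (Matrix.toLin' (Matrix.diagonal fun i => w i - μ))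
  rw [Matrix.toLin'_apply', ← Matrix.rank, Matrix.rank_diagonal, finrank_fintype_fun_eq_card] at h1
  rw [Matrix.toLin'_apply']
  have h2 := Fintype.card_subtype_compl (α := ι) (fun i => w i = μ)
  simp only [sub_ne_zero] at h1
  have h3 : Fintype.card {i // w i = μ} ≤ Fintype.card ι := Fintype.card_subtype_le _
  rw [← Fintype.card_subtype]
  simp only [ne_eq] at h1
  omega

end Cfsg.Agent.TensorEl
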