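import Cfsg.Agent.Lib.TransvMax.UnitaryBasic

/-!
The similitude group of a unitary form is maximal in the special linear group.
-/

set_option autoImplicit false

namespace Cfsg.Agent.TransvMax

open scoped Matrix MatrixGroups
open Cfsg.Agent

variable {ι : Type} [Fintype ι] [DecidableEq ι] {F : Type*} [Field F] [Finite F]
  {σ : F ≃+* F} {f : (ι → F) → (ι → F) → F}

/-- All transvections with centre `x` lie in `K`. -/
def FullCentre (K : Subgroup (GL ι F)) (x : ι → F) : Prop :=
  ∀ (φ : ι → F) (h : φ ⬝ᵥ x = 0), trv x φ h ∈ K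

omit [Finite F] in
theorem trv_mul_trv (v φ ψ : ι → F) (h : φ ⬝ᵥ v = 0) (h' : ψ ⬝ᵥ v = 0) :
    trv v φ h * trv v ψ h' = trv v (φ + ψ) (by rw [add_dotProduct, h, h', add_zero]) := by
  refine gl_ext fun x => ?_
  rw [Units.val_mul, ← Matrix.mulVec_mulVec, trv_mulVec, trv_mulVec, trv_mulVec, dotProduct_add,
    dotProduct_smul, h, smul_zero, add_zero, add_dotProduct, add_smul, add_assoc, add_comm (_ • v)]

omit [Finite F] in
theorem trv_mem_smul_left {K : Subgroup (GL ι F)} {v : ι → F} (hv : FullCentre K v) (c : F) :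
    FullCentre K (c • v) := by
  intro φ h
  rcases eq_or_ne c 0 with rfl | hc
  · convert K.one_mem
    exact gl_ext fun x => by simp [trv_mulVec]
  · have h' : (c • φ) ⬝ᵥ v = 0 := by
      rw [smul_dotProduct, ← dotProduct_smul, h]
    convert hv (c • φ) h' using 1
    refine gl_ext fun x => ?_
    rw [trv_mulVec, trv_mulVec, smul_dotProduct, smul_eq_mul, smul_smul, mul_comm]

omit [Finite F] in
theorem FullCentre.map {K : Subgroup (GL ι F)} {v : ι → F} (hv : FullCentre K v) {g : GL ι F}
    (hg : g ∈ K) : FullCentre K ((g : Matrix ι ι F) *ᵥ v) := by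
  intro φ h
  have h0 : Matrix.vecMul φ (g : Matrix ι ι F) ⬝ᵥ v = 0 := by
    rw [← Matrix.dotProduct_mulVec, h]
  have hm := K.mul_mem (K.mul_mem hg (hv _ h0)) (K.inv_mem hg)
  convert hm using 1
  refine gl_ext fun x => ?_
  rw [trv_mulVec, Units.val_mul, Units.val_mul, ← Matrix.mulVec_mulVec, ← Matrix.mulVec_mulVec,
    trv_mulVec, Matrix.mulVec_add, Matrix.mulVec_smul, mulVec_inv_mulVec, ← Matrix.dotProduct_mulVec,
    mulVec_inv_mulVec]

variable (hf : Cfsg.Geo.IsUnitaryForm σ f)

include hf

omit [Finite F] in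
theorem exists_proper_sim [Finite F] (hn : 6 ≤ Fintype.card ι) :
    ¬ Cfsg.Geo.specialLinear ι F ≤ Cfsg.Geo.similarityGroup f := by
  intro hle
  obtain ⟨i⟩ : Nonempty ι := Fintype.card_pos_iff.mp (by omega)
  have hy₀ : LinearIndependent F ![(Pi.single i 1 : ι → F)] := by
    simp [linearIndependent_unique_iff]
  obtain ⟨a, haa, ha1⟩ := exists_iso_values hf hy₀ (by omega) ![1]
  have ha : a ≠ 0 := fun e => by
    have := ha1 0
    simp [e, herm_zero_left hf] at this
  obtain ⟨b, hba, -, hbs⟩ := exists_perp_not_mem hf a a (Submodule.span F {a})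
    (by rw [finrank_span_singleton ha]; omega)
  have hab : LinearIndependent F ![b, a] :=
    linearIndependent_finCons.2 ⟨by simp [linearIndependent_unique_iff, ha], by simpa using hbs⟩
  obtain ⟨x, hx⟩ := exists_herm_values hf hab ![1, 0]
  obtain ⟨y, hy⟩ := exists_herm_values hf (v := ![a]) (by simp [linearIndependent_unique_iff, ha]) ![1]
  have hab0 : f a b = 0 := herm_eq_zero_comm hf hba
  obtain ⟨c, hc⟩ := (TransvMax.mem_similarity_iff f _).1
    (hle (trv_mem_specialLinear a (hermRow hf b) (by rw [hermRow_dot, hab0])))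
  have hay : f a y = 1 := by
    rw [hf.herm, show f y a = 1 from hy 0, map_one]
  have hxb : f x b = 1 := hx 0
  have hxa : f x a = 0 := hx 1
  have h1 := hc a y
  rw [trv_mulVec, trv_mulVec, hermRow_dot, hermRow_dot, hab0, zero_smul, add_zero,
    herm_add_right hf, herm_smul_right hf, haa, mul_zero, add_zero, hay, mul_one] at h1
  have h2 := hc x y
  rw [trv_mulVec, trv_mulVec, hermRow_dot, hermRow_dot, hxb, one_smul, hf.add_left,
    herm_add_right hf, herm_add_right hf, herm_smul_right hf, herm_smul_right hf, hxa, haa, hay,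
    ← h1, one_mul, mul_zero, add_zero, add_zero] at h2
  exact one_ne_zero (add_eq_left.1 h2)

omit [Finite F] in
theorem exists_iso_not_ray [Finite F] (hn : 6 ≤ Fintype.card ι) (g : GL ι F)
    (hg : g ∉ Cfsg.Geo.similarityGroup f) :
    ∃ v : ι → F, f v v = 0 ∧ v ≠ 0 ∧ ¬ ∃ μ : F, ∀ x,
      f ((g : Matrix ι ι F) *ᵥ x) ((g : Matrix ι ι F) *ᵥ v) = μ * f x v := by
  by_contra hcon
  push Not at hcon
  choose μ hμ using hcon
  have hμ' : ∀ v (h : f v v = 0) (h0 : v ≠ 0) (μ' : F),
      (∀ x, f ((g : Matrix ι ι F) *ᵥ x) ((g : Matrix ι ι F) *ᵥ v) = μ' * f x v) → μ v h h0 = μ' := by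
    intro v h h0 μ' h'
    obtain ⟨x, hx⟩ := (hf.nondegenerate v h0).1
    have := (hμ v h h0 x).symm.trans (h' x)
    exact mul_right_cancel₀ hx this
  have hperp : ∀ v w (hv : f v v = 0) (hv0 : v ≠ 0) (hw : f w w = 0) (hw0 : w ≠ 0), f v w = 0 →
      μ v hv hv0 = μ w hw hw0 := by
    intro v w hv hv0 hw hw0 hvw
    by_cases hli : w ∈ Submodule.span F {v}
    · obtain ⟨s, rfl⟩ := Submodule.mem_span_singleton.1 hli
      refine (hμ' _ hw hw0 _ fun x => ?_).symm
      rw [Matrix.mulVec_smul, herm_smul_right hf, herm_smul_right hf, hμ v hv hv0]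
      ring
    · have hli' : LinearIndependent F ![w, v] :=
        linearIndependent_finCons.2 ⟨by simp [linearIndependent_unique_iff, hv0], by simpa using hli⟩
      have hvw0 : v + w ≠ 0 := fun e => hli (by
        rw [eq_neg_of_add_eq_zero_right e]
        exact Submodule.neg_mem _ (Submodule.mem_span_singleton_self v))
      have hiso : f (v + w) (v + w) = 0 := by
        rw [hf.add_left, herm_add_right hf, herm_add_right hf, hv, hw, hvw, herm_eq_zero_comm hf hvw,
          add_zero, add_zero]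
      have key : ∀ x, (μ (v + w) hiso hvw0 - μ v hv hv0) * f x v +
          (μ (v + w) hiso hvw0 - μ w hw hw0) * f x w = 0 := fun x => by
        have h1 := hμ (v + w) hiso hvw0 x
        rw [Matrix.mulVec_add, herm_add_right hf, herm_add_right hf, hμ v hv hv0, hμ w hw hw0] at h1
        linear_combination -h1
      obtain ⟨x, hx⟩ := exists_herm_values hf hli' ![1, 0]
      obtain ⟨y, hy⟩ := exists_herm_values hf hli' ![0, 1]
      have e1 := key x
      rw [show f x v = 0 from hx 1, show f x w = 1 from hx 0, mul_zero, zero_add, mul_one,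
        sub_eq_zero] at e1
      have e2 := key y
      rw [show f y v = 1 from hy 1, show f y w = 0 from hy 0, mul_zero, add_zero, mul_one,
        sub_eq_zero] at e2
      exact e2.symm.trans e1
  have hconst : ∀ v w (hv : f v v = 0) (hv0 : v ≠ 0) (hw : f w w = 0) (hw0 : w ≠ 0),
      μ v hv hv0 = μ w hw hw0 := by
    intro v w hv hv0 hw hw0
    by_cases hvw : f v w = 0
    · exact hperp v w hv hv0 hw hw0 hvw
    have hli : LinearIndependent F ![w, v] :=
      linearIndependent_finCons.2 ⟨by simp [linearIndependent_unique_iff, hv0], fun h => hvw (by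
        simp only [Matrix.range_cons, Matrix.range_empty, Set.union_empty,
          Submodule.mem_span_singleton] at h
        obtain ⟨s, rfl⟩ := h
        rw [herm_smul_right hf, hv, mul_zero])⟩
    obtain ⟨c, -, -, hc⟩ := exists_perp_not_mem hf v w (Submodule.span F (Set.range ![w, v])) (by
      rw [finrank_span_eq_card hli, Fintype.card_fin]; omega)
    have hli3 : LinearIndependent F ![c, w, v] := linearIndependent_finCons.2 ⟨hli, hc⟩
    obtain ⟨u, huu, hu⟩ := exists_iso_values_half hf hli3 (by omega) (α := ![1, 0, 0]) ⟨0, one_ne_zero⟩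
    have hu0 : u ≠ 0 := fun e => by
      have := hu 0
      simp [e, herm_zero_left hf] at this
    exact (hperp u v huu hu0 hv hv0 (hu 2)).symm.trans (hperp u w huu hu0 hw hw0 (hu 1))
  obtain ⟨i⟩ : Nonempty ι := Fintype.card_pos_iff.mp (by omega)
  have hy₀ : LinearIndependent F ![(Pi.single i 1 : ι → F)] := by
    simp [linearIndependent_unique_iff]
  obtain ⟨v₀, hv₀, hv₀'⟩ := exists_iso_values hf hy₀ (by omega) ![1]
  have hv₀0 : v₀ ≠ 0 := fun e => by
    have := hv₀' 0
    simp [e, herm_zero_left hf] at this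
  set μ₀ := μ v₀ hv₀ hv₀0 with hμ₀
  have hiso : ∀ v, f v v = 0 → ∀ x,
      f ((g : Matrix ι ι F) *ᵥ x) ((g : Matrix ι ι F) *ᵥ v) = μ₀ * f x v := by
    intro v hv x
    rcases eq_or_ne v 0 with rfl | hv0
    · rw [Matrix.mulVec_zero, herm_zero_right hf, herm_zero_right hf, mul_zero]
    · rw [hμ v hv hv0, hμ₀, hconst v v₀ hv hv0 hv₀ hv₀0]
  have hall : ∀ v x, f ((g : Matrix ι ι F) *ᵥ x) ((g : Matrix ι ι F) *ᵥ v) = μ₀ * f x v := by
    intro v x
    rcases eq_or_ne v 0 with rfl | hv0
    · rw [Matrix.mulVec_zero, herm_zero_right hf, herm_zero_right hf, mul_zero]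
    obtain ⟨τ, hτ⟩ := exists_trace_eq hf.ne_refl hf.involutive (a := f v v) (hf.herm v v).symm
    obtain ⟨u, huu, hu⟩ := exists_iso_values hf (v := ![v])
      (by simp [linearIndependent_unique_iff, hv0]) (by omega) ![τ]
    have huv : f u v = τ := hu 0
    have hw : f (v - u) (v - u) = 0 := by
      rw [herm_sub_left hf, herm_sub_right hf, herm_sub_right hf, huu, huv, hf.herm v u, huv, ← hτ]
      ring
    have h1 := hiso (v - u) hw x
    have h2 := hiso u huu x
    rw [Matrix.mulVec_sub, herm_sub_right hf, herm_sub_right hf, h2] at h1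
    linear_combination h1
  have hμne : μ₀ ≠ 0 := fun e => by
    obtain ⟨x, hx⟩ := (hf.nondegenerate ((g : Matrix ι ι F) *ᵥ v₀) fun e' => hv₀0 (by
      rw [← inv_mulVec_mulVec g v₀, e', Matrix.mulVec_zero])).1
    exact hx (by rw [← mulVec_inv_mulVec g x, hall, e, zero_mul])
  exact hg ⟨Units.mk0 μ₀ hμne, fun x v => hall v x⟩

omit [Finite F] in
/-- From one transvection which is not unitary, all transvections with the same centre. -/
theorem fullCentre_of_mem [Finite F] (hn : 6 ≤ Fintype.card ι) {K : Subgroup (GL ι F)}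
    (hK : Cfsg.Geo.similarityGroup f ⊓ Cfsg.Geo.specialLinear ι F ≤ K) {a b : ι → F}
    (hli : LinearIndependent F ![a, b]) (h : hermRow hf b ⬝ᵥ a = 0) (hm : trv a (hermRow hf b) h ∈ K) :
    FullCentre K a := by
  have hab : f a b = 0 := by rw [← hermRow_dot hf, h]
  have ha0 : a ≠ 0 := hli.ne_zero 0
  let S : Set (ι → F) := {y | f a y = 0 ∧ ∀ h, trv a (hermRow hf y) h ∈ K}
  have hadd : ∀ y ∈ S, ∀ z ∈ S, y + z ∈ S := by
    rintro y ⟨hy, hy'⟩ z ⟨hz, hz'⟩
    refine ⟨by rw [herm_add_right hf, hy, hz, add_zero], fun h' => ?_⟩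
    have := K.mul_mem (hy' (by rw [hermRow_dot, hy])) (hz' (by rw [hermRow_dot, hz]))
    rw [trv_mul_trv] at this
    convert this using 1
    refine gl_ext fun x => ?_
    rw [trv_mulVec, trv_mulVec, add_dotProduct, hermRow_dot, hermRow_dot, hermRow_dot,
      herm_add_right hf]
  have hneg : ∀ y ∈ S, -y ∈ S := by
    rintro y ⟨hy, hy'⟩
    refine ⟨by rw [← neg_one_smul F, herm_smul_right hf, hy, mul_zero], fun h' => ?_⟩
    have := K.inv_mem (hy' (by rw [hermRow_dot, hy]))
    convert this using 1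
    refine gl_ext fun x => ?_
    rw [show (((trv a (hermRow hf y) (by rw [hermRow_dot, hy]))⁻¹ : GL ι F) : Matrix ι ι F) =
      1 - Matrix.vecMulVec a (hermRow hf y) from rfl, trv_mulVec, Matrix.sub_mulVec,
      Matrix.one_mulVec, Matrix.vecMulVec_mulVec, op_smul_eq_smul, hermRow_dot, hermRow_dot,
      ← neg_one_smul F y, herm_smul_right hf, map_neg, map_one, neg_one_mul, neg_smul, sub_eq_add_neg]
  obtain ⟨e, he0, he⟩ := exists_trace_zero hf.ne_refl hf.involutive
  have hstep : ∀ y ∈ S, ∀ u, f u u = 0 → f u a = 0 → (e * f y u) • u ∈ S := by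
    rintro y ⟨hy, hy'⟩ u huu hua
    have ht := hK (utrv_mem_sim hf huu he)
    set T := utrv hf huu e with hT
    have hTa : (T : Matrix ι ι F) *ᵥ a = a := by
      rw [utrv_mulVec, herm_eq_zero_comm hf hua, mul_zero, zero_smul, add_zero]
    have hTy : f a ((T : Matrix ι ι F) *ᵥ y) = 0 := by
      conv_lhs => rw [← hTa]
      rw [utrv_isometry hf huu he, hy]
    have h1 : (T : Matrix ι ι F) *ᵥ y ∈ S := by
      refine ⟨hTy, fun h' => ?_⟩
      have := K.mul_mem (K.mul_mem ht (hy' (by rw [hermRow_dot, hy]))) (K.inv_mem ht)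
      convert this using 1
      refine gl_ext fun x => ?_
      rw [Units.val_mul, Units.val_mul, ← Matrix.mulVec_mulVec, ← Matrix.mulVec_mulVec, trv_mulVec,
        trv_mulVec, Matrix.mulVec_add, Matrix.mulVec_smul, mulVec_inv_mulVec, hTa, hermRow_dot,
        hermRow_dot]
      congr 2
      conv_lhs => rw [← mulVec_inv_mulVec T x, utrv_isometry hf huu he]
    have h2 := hadd _ h1 _ (hneg y ⟨hy, hy'⟩)
    rwa [utrv_mulVec, ← sub_eq_add_neg, add_sub_cancel_left] at h2
  have hbS : b ∈ S := ⟨hab, fun _ => hm⟩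
  have hE : ∀ u, f u u = 0 → f u a = 0 → u ∉ Submodule.span F (Set.range ![a, b]) →
      ∀ c : F, c • u ∈ S := by
    intro u huu hua hu c
    have hli3 : LinearIndependent F ![u, a, b] := linearIndependent_finCons.2 ⟨hli, hu⟩
    obtain ⟨u', hu'u', hu'⟩ := exists_iso_values_half hf hli3 (by omega) (α := ![1, 0, σ (c / (e * e))]) ⟨0, one_ne_zero⟩
    have h1 := hstep _ (hstep b hbS u' hu'u' (hu' 1)) u huu hua
    rw [hf.smul_left, show f u' u = 1 from hu' 0, hf.herm b u',
      show f u' b = σ (c / (e * e)) from hu' 2, hf.involutive, mul_one, ← mul_assoc,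
      mul_div_cancel₀ _ (mul_ne_zero he0 he0)] at h1
    exact h1
  let W : Submodule F (ι → F) :=
    { carrier := {y | ∀ c : F, c • y ∈ S}
      add_mem' := fun {x y} hx hy c => by rw [smul_add]; exact hadd _ (hx c) _ (hy c)
      zero_mem' := fun c => by
        rw [smul_zero, ← add_neg_cancel b]
        exact hadd _ hbS _ (hneg b hbS)
      smul_mem' := fun c x hx d => by rw [smul_smul]; exact hx _ }
  intro φ hφ
  obtain ⟨y, rfl⟩ := exists_hermRow hf φ
  have hay : f a y = 0 := by rw [← hermRow_dot hf, hφ]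
  by_cases hy : y ∈ W
  · have h1 := hy 1
    rw [one_smul] at h1
    exact h1.2 hφ
  exfalso
  obtain ⟨ψ, hψy, hψ⟩ := Submodule.exists_dual_map_eq_bot_of_notMem hy inferInstance
  obtain ⟨p, hp⟩ := exists_hermFun hf ψ
  by_cases hpa : p ∈ Submodule.span F {a}
  · obtain ⟨s, rfl⟩ := Submodule.mem_span_singleton.1 hpa
    exact hψy (by rw [hp, herm_smul_right hf, herm_eq_zero_comm hf hay, mul_zero])
  have hli2 : LinearIndependent F ![p, a] :=
    linearIndependent_finCons.2 ⟨by simp [linearIndependent_unique_iff, ha0], by simpa using hpa⟩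
  obtain ⟨c, hca, hcb, hc⟩ := exists_perp_not_mem hf a b (Submodule.span F (Set.range ![p, a])) (by
    rw [finrank_span_eq_card hli2, Fintype.card_fin]; omega)
  obtain ⟨u, huu, hu⟩ := exists_iso_values_half hf (linearIndependent_finCons.2 ⟨hli2, hc⟩ :
    LinearIndependent F ![c, p, a]) (by omega) (α := ![1, 1, 0]) ⟨0, one_ne_zero⟩
  have huS : u ∉ Submodule.span F (Set.range ![a, b]) := fun hus => by
    have h1 : hermFun hf c u = 0 := by
      have hle : Submodule.span F (Set.range ![a, b]) ≤ LinearMap.ker (hermFun hf c) := by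
        rw [Submodule.span_le]
        rintro _ ⟨i, rfl⟩
        fin_cases i
        · exact herm_eq_zero_comm hf hca
        · exact herm_eq_zero_comm hf hcb
      exact hle hus
    rw [hermFun_apply, show f u c = 1 from hu 0] at h1
    exact one_ne_zero h1
  have huW : u ∈ W := hE u huu (hu 2) huS
  have h1 : ψ u = 0 := by
    have h2 : ψ u ∈ W.map ψ := ⟨u, huW, rfl⟩
    rw [hψ] at h2
    exact h2
  rw [hp, show f u p = 1 from hu 1] at h1
  exact one_ne_zero h1

omit [Finite F] in
/-- The similitude group of a unitary form is maximal in the special linear group. -/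
theorem unitarySim_maximal [Finite F] (hn : 6 ≤ Fintype.card ι) :
    Cfsg.Geo.IsMaximalIn (Cfsg.Geo.specialLinear ι F)
      (Cfsg.Geo.similarityGroup f ⊓ Cfsg.Geo.specialLinear ι F) := by
  refine ⟨lt_of_le_of_ne inf_le_right fun e => exists_proper_sim hf hn ?_, fun K hHK hKS => ?_⟩
  · rw [← e]; exact inf_le_left
  rcases hHK.eq_or_lt with e | hlt
  · exact Or.inl e.symm
  refine Or.inr (le_antisymm hKS (specialLinear_le_of_trv ?_))
  obtain ⟨g, hgK, hgH⟩ := SetLike.exists_of_lt hlt
  obtain ⟨v, hv, hv0, hray⟩ := exists_iso_not_ray hf hn g fun h => hgH ⟨h, hKS hgK⟩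
  obtain ⟨e, he0, he⟩ := exists_trace_zero hf.ne_refl hf.involutive
  set a := (g : Matrix ι ι F) *ᵥ v with ha
  obtain ⟨b, hb⟩ := exists_hermRow hf
    (Matrix.vecMul (e • hermRow hf v) ((g⁻¹ : GL ι F) : Matrix ι ι F))
  have hdot := vecMul_inv_dot g v (e • hermRow hf v)
  rw [hb, utrv_dot hf hv e] at hdot
  have ha0 : a ≠ 0 := fun e' => hv0 (by rw [← inv_mulVec_mulVec g v, ← ha, e', Matrix.mulVec_zero])
  have hbx : ∀ x, e * f x v = f ((g : Matrix ι ι F) *ᵥ x) b := fun x => by
    rw [← hermRow_dot hf b, ← hb, ← Matrix.dotProduct_mulVec, inv_mulVec_mulVec, smul_dotProduct,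
      hermRow_dot, smul_eq_mul]
  have hli : LinearIndependent F ![a, b] := by
    rw [LinearIndependent.pair_iff]
    intro s t hst
    by_cases ht : t = 0
    · refine ⟨?_, ht⟩
      simpa [ht, ha0] using hst
    exfalso
    have hb' : b = (-(s / t)) • a := by
      rw [← sub_eq_zero, ← smul_right_injective (ι → F) ht |>.eq_iff, smul_zero, smul_sub,
        smul_smul, mul_neg, mul_div_cancel₀ _ ht, neg_smul, sub_neg_eq_add, add_comm, hst]
    by_cases hs : σ (-(s / t)) = 0
    · obtain ⟨x, hx⟩ := (hf.nondegenerate v hv0).1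
      have := hbx x
      rw [hb', herm_smul_right hf, hs, zero_mul] at this
      exact mul_ne_zero he0 hx this
    refine hray ⟨e / σ (-(s / t)), fun x => ?_⟩
    rw [div_mul_eq_mul_div, hbx x, hb', herm_smul_right hf, mul_div_cancel_left₀ _ hs]
  have hTv : utrv hf hv e ∈ K := hHK (utrv_mem_sim hf hv he)
  have hTab : trv a (hermRow hf b) hdot ∈ K := by
    have h1 := K.mul_mem (K.mul_mem hgK hTv) (K.inv_mem hgK)
    rw [utrv, conj_trv g v _ _ (by rw [vecMul_inv_dot, utrv_dot hf hv e])] at h1
    convert h1 using 2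
    exact hb.symm
  have hfull : FullCentre K a := fullCentre_of_mem hf hn hHK hli hdot hTab
  let W : Submodule F (ι → F) :=
    { carrier := {x | FullCentre K x}
      zero_mem' := fun φ h => by
        convert K.one_mem
        exact gl_ext fun x => by simp [trv_mulVec]
      smul_mem' := fun c x hx => trv_mem_smul_left hx c
      add_mem' := fun {x y} hx hy => by
        show FullCentre K (x + y)
        by_cases hx0 : x = 0
        · rwa [hx0, zero_add]
        by_cases hys : y ∈ Submodule.span F {x}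
        · obtain ⟨s, rfl⟩ := Submodule.mem_span_singleton.1 hys
          rw [show x + s • x = (1 + s) • x by rw [add_smul, one_smul]]
          exact trv_mem_smul_left hx _
        have hli' : LinearIndependent F ![y, x] :=
          linearIndependent_finCons.2 ⟨by simp [linearIndependent_unique_iff, hx0], by simpa using hys⟩
        obtain ⟨z, hz⟩ := exists_herm_values hf hli' ![1, 0]
        have hxz : f x z = 0 := herm_eq_zero_comm hf (hz 1)
        have h1 := hy.map (hx (hermRow hf z) (by rw [hermRow_dot, hxz]))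
        rwa [trv_mulVec, hermRow_dot, hf.herm y z, show f z y = 1 from hz 0, map_one, one_smul,
          add_comm] at h1 }
  intro x φ hφ
  suffices hx : x ∈ W from hx φ hφ
  by_contra hx
  obtain ⟨ψ, hψx, hψ⟩ := Submodule.exists_dual_map_eq_bot_of_notMem hx inferInstance
  obtain ⟨p, hp⟩ := exists_hermFun hf ψ
  have haW : a ∈ W := hfull
  have hiso : ∀ u, f u u = 0 → f a u ≠ 0 → ψ u = 0 := by
    intro u huu hau
    have h1 : (utrv hf huu e : Matrix ι ι F) *ᵥ a ∈ W := hfull.map (hHK (utrv_mem_sim hf huu he))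
    rw [utrv_mulVec] at h1
    have h2 : u ∈ W := by
      have := W.smul_mem (e * f a u)⁻¹ ((Submodule.add_mem_iff_right W haW).1 h1)
      rwa [smul_smul, inv_mul_cancel₀ (mul_ne_zero he0 hau), one_smul] at this
    have h3 : ψ u ∈ W.map ψ := ⟨u, h2, rfl⟩
    rw [hψ] at h3
    exact h3
  have hp0 : p ≠ 0 := fun e' => hψx (by rw [hp, e', herm_zero_right hf])
  by_cases hpa : p ∈ Submodule.span F {a}
  · obtain ⟨s, rfl⟩ := Submodule.mem_span_singleton.1 hpa
    obtain ⟨u, huu, hu⟩ := exists_iso_values hf (v := ![a])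
      (by simp [linearIndependent_unique_iff, ha0]) (by omega) ![1]
    have hau : f a u = 1 := by rw [hf.herm, show f u a = 1 from hu 0, map_one]
    have h1 := hiso u huu (by rw [hau]; exact one_ne_zero)
    rw [hp, herm_smul_right hf, show f u a = 1 from hu 0, mul_one, EmbeddingLike.map_eq_zero_iff] at h1
    exact hp0 (by rw [h1, zero_smul])
  · obtain ⟨u, huu, hu⟩ := exists_iso_values_half hf (v := ![p, a])
      (linearIndependent_finCons.2 ⟨by simp [linearIndependent_unique_iff, ha0], by simpa using hpa⟩)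
      (by omega) (α := ![1, 1]) ⟨0, one_ne_zero⟩
    have hau : f a u = 1 := by rw [hf.herm, show f u a = 1 from hu 1, map_one]
    have h1 := hiso u huu (by rw [hau]; exact one_ne_zero)
    rw [hp, show f u p = 1 from hu 0] at h1
    exact one_ne_zero h1

end Cfsg.Agent.TransvMax
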