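import Cfsg.Agent.Lib.TransvMax.SubfieldRat
import Cfsg.Agent.Lib.Basics.FrobeniusBasic
import Cfsg.Agent.Lib.Basics.FpfAbelian
import Cfsg.Agent.Lib.Basics.Tools

/-!
Overgroups of a special linear group over a subfield of prime index.

From an irrational transvection `T` and a rational point `a` the group generated by `T` and the
rational transvections with centre `a` either moves a rational transvection to one with centre `a`
and irrational functional, or is a Frobenius group with a non-cyclic abelian complement.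
-/

set_option autoImplicit false

namespace Cfsg.Agent.TransvMax

open scoped Matrix MatrixGroups Pointwise
open Cfsg.Agent

/-- A Frobenius complement that is abelian is cyclic. -/
theorem isCyclic_of_malnormal {G : Type*} [Group G] [Finite G] (H : Subgroup G)
    [IsMulCommutative H] (hH : Cfsg.IsFrobeniusComplement H) : IsCyclic H := by
  obtain ⟨N, -, hn, hc, hcard⟩ := Basics.frobenius_kernel_exists hH
  haveI := hn
  have hN : N ≠ ⊥ := fun e => hH.2.1 (Subgroup.index_eq_one.1 (by rw [← hcard, e, Subgroup.card_bot]))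
  by_contra hcyc
  refine hN (le_bot_iff.1 ?_)
  rw [← Basics.iSup_inf_centralizer_eq H N hcyc (Subgroup.le_normalizer_of_normal ..)
    (by rw [hcard]; exact Basics.frobenius_coprime hH)]
  refine iSup₂_le fun a ha => le_of_eq (Subgroup.eq_bot_iff_forall _ |>.2 fun n hn' => ?_)
  obtain ⟨hnN, hna⟩ := hn'
  by_contra hn1
  have hnH : n ∉ H := fun h => hn1 ((Subgroup.eq_bot_iff_forall _).1 (disjoint_iff.1 hc.disjoint) n
    ⟨hnN, h⟩)
  refine ha.2 ((Subgroup.eq_bot_iff_forall _).1 (hH.2.2 n hnH) a ⟨ha.1, ?_⟩)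
  show a ∈ MulAut.conj n • H
  rw [Basics.mem_conj_smul]
  have e : n * a = a * n := Subgroup.mem_centralizer_singleton_iff.1 hna
  rw [mul_assoc, ← e, inv_mul_cancel_left]
  exact ha.1

variable {ι : Type} [Fintype ι] [DecidableEq ι] {F : Type*} [Field F]

theorem trv_add (v φ φ' : ι → F) (h : φ ⬝ᵥ v = 0) (h' : φ' ⬝ᵥ v = 0) :
    trv v φ h * trv v φ' h' = trv v (φ + φ') (by rw [add_dotProduct, h, h', add_zero]) := by
  refine gl_ext fun x => ?_
  rw [Units.val_mul, ← Matrix.mulVec_mulVec, trv_mulVec, trv_mulVec, trv_mulVec, dotProduct_add,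
    dotProduct_smul, h, smul_zero, add_zero, add_dotProduct, add_smul]
  abel

theorem trv_add_center (v v' φ : ι → F) (h : φ ⬝ᵥ v = 0) (h' : φ ⬝ᵥ v' = 0) :
    trv v φ h * trv v' φ h' = trv (v + v') φ (by rw [dotProduct_add, h, h', add_zero]) := by
  refine gl_ext fun x => ?_
  rw [Units.val_mul, ← Matrix.mulVec_mulVec, trv_mulVec, trv_mulVec, trv_mulVec, dotProduct_add,
    dotProduct_smul, h', smul_zero, add_zero, smul_add]
  abel

theorem trv_zero (v : ι → F) : trv v 0 (zero_dotProduct v) = 1 :=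
  gl_ext fun x => by simp [trv_mulVec]

theorem trv_inv (v φ : ι → F) (h : φ ⬝ᵥ v = 0) :
    (trv v φ h)⁻¹ = trv v (-φ) (by rw [neg_dotProduct, h, neg_zero]) := by
  refine inv_eq_of_mul_eq_one_right ?_
  rw [trv_add]
  exact (trv_congr rfl (add_neg_cancel φ)).trans (trv_zero v)

/-- Conjugation of a transvection by a transvection. -/
theorem trv_conj_trv (v φ w ψ : ι → F) (hv : φ ⬝ᵥ v = 0) (hw : ψ ⬝ᵥ w = 0)
    (h' : (ψ - (ψ ⬝ᵥ v) • φ) ⬝ᵥ (w + (φ ⬝ᵥ w) • v) = 0) :
    trv v φ hv * trv w ψ hw * (trv v φ hv)⁻¹ = trv (w + (φ ⬝ᵥ w) • v) (ψ - (ψ ⬝ᵥ v) • φ) h' := by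
  rw [trv_inv]
  refine gl_ext fun x => ?_
  simp only [Units.val_mul, ← Matrix.mulVec_mulVec, trv_mulVec, dotProduct_add, dotProduct_smul,
    neg_dotProduct, sub_dotProduct, smul_dotProduct, hv, smul_eq_mul]
  module

/-- A subgroup containing the elementary transvections contains the special linear group. -/
theorem specialLinear_le_of_elem {K : Subgroup (GL ι F)}
    (hK : ∀ (i j : ι), i ≠ j → ∀ (c : F)
      (h : (Pi.single j c : ι → F) ⬝ᵥ Pi.single i 1 = 0), trv (Pi.single i 1) (Pi.single j c) h ∈ K) :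
    Cfsg.Geo.specialLinear ι F ≤ K := by
  intro g hg
  have : g ∈ (Matrix.SpecialLinearGroup.toGL : Matrix.SpecialLinearGroup ι F →* GL ι F).range := by
    rw [LinGrp.range_toGL_eq_ker_det]
    exact hg
  obtain ⟨s, rfl⟩ := this
  clear hg
  have hs : s ∈ Subgroup.closure (LinGrp.transvectionSet (n := ι) (F := F)) := by
    rw [LinGrp.closure_transvectionSet]; trivial
  induction hs using Subgroup.closure_induction with
  | mem x hx =>
    obtain ⟨i, j, hij, a, rfl⟩ := hx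
    have h0 : (Pi.single j a : ι → F) ⬝ᵥ (Pi.single i (1 : F)) = 0 := by
      rw [dotProduct_single, mul_one, Pi.single_eq_of_ne hij]
    convert hK i j hij a h0 using 1
    refine gl_ext fun x => ?_
    rw [trv_mulVec]
    show (Matrix.SpecialLinearGroup.transvection hij a : Matrix ι ι F) *ᵥ x = _
    rw [Matrix.SpecialLinearGroup.transvection_coe, Matrix.add_mulVec, Matrix.one_mulVec,
      Matrix.single_mulVec_eq, single_dotProduct]
  | one => rw [map_one]; exact K.one_mem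
  | mul x y _ _ hx hy => rw [map_mul]; exact K.mul_mem hx hy
  | inv x _ hx => rw [map_inv]; exact K.inv_mem hx

variable (F₀ : Subfield F)

/-- A rational vector. -/
def cv (y : ι → F₀) : ι → F := fun i => (y i : F)

omit [Fintype ι] [DecidableEq ι] in
theorem cv_apply (y : ι → F₀) (i : ι) : cv F₀ y i = (y i : F) := rfl

omit [Fintype ι] [DecidableEq ι] in
theorem cv_add (y z : ι → F₀) : cv F₀ (y + z) = cv F₀ y + cv F₀ z := rfl

omit [Fintype ι] [DecidableEq ι] in
theorem cv_sub (y z : ι → F₀) : cv F₀ (y - z) = cv F₀ y - cv F₀ z := rfl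

omit [Fintype ι] [DecidableEq ι] in
theorem cv_smul (c : F₀) (y : ι → F₀) : cv F₀ (c • y) = (c : F) • cv F₀ y := rfl

omit [Fintype ι] [DecidableEq ι] in
theorem cv_zero : cv F₀ (0 : ι → F₀) = 0 := rfl

omit [Fintype ι] [DecidableEq ι] in
theorem cv_neg (y : ι → F₀) : cv F₀ (-y) = -cv F₀ y := rfl

omit [Fintype ι] [DecidableEq ι] in
theorem cv_injective : Function.Injective (cv (ι := ι) F₀) :=
  fun _ _ h => funext fun i => Subtype.ext (congrFun h i)

omit [Fintype ι] in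
theorem cv_single (i : ι) : cv F₀ (Pi.single i 1) = Pi.single i 1 := by
  funext j
  rcases eq_or_ne j i with rfl | h
  · simp [cv]
  · simp [cv, Pi.single_eq_of_ne h]

omit [DecidableEq ι] in
theorem cv_dot (u v : ι → F₀) : cv F₀ u ⬝ᵥ cv F₀ v = ((u ⬝ᵥ v : F₀) : F) := by
  simp [dotProduct, cv]

omit [DecidableEq ι] in
theorem cv_dot_zero {u v : ι → F₀} (h : u ⬝ᵥ v = 0) : cv F₀ u ⬝ᵥ cv F₀ v = 0 := by
  rw [cv_dot, h]; rfl

variable {K₀ : Type*} [Field K₀]

/-- A functional separating a vector from a line. -/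
theorem exists_dot_one {x a : ι → K₀} (h : x ∉ Submodule.span K₀ {a}) :
    ∃ γ, γ ⬝ᵥ x = 1 ∧ γ ⬝ᵥ a = 0 := by
  by_cases ha : a = 0
  · obtain ⟨l, hl⟩ := Function.ne_iff.1 (show x ≠ 0 from fun e => h (e ▸ Submodule.zero_mem _))
    exact ⟨Pi.single l (x l)⁻¹, by rw [single_dotProduct, inv_mul_cancel₀ hl], by simp [ha]⟩
  obtain ⟨k, hk⟩ := Function.ne_iff.1 ha
  simp only [Pi.zero_apply] at hk
  obtain ⟨l, hl⟩ : ∃ l, x l - x k / a k * a l ≠ 0 := by
    by_contra hc
    push Not at hc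
    refine h (Submodule.mem_span_singleton.2 ⟨x k / a k, funext fun l => ?_⟩)
    exact (sub_eq_zero.1 (hc l)).symm
  refine ⟨(x l - x k / a k * a l)⁻¹ • (Pi.single l 1 - (a l / a k) • Pi.single k 1), ?_, ?_⟩
  · simp only [smul_dotProduct, sub_dotProduct, single_dotProduct, smul_eq_mul, one_mul]
    rw [show a l / a k * x k = x k / a k * a l by ring]
    exact inv_mul_cancel₀ hl
  · simp only [smul_dotProduct, sub_dotProduct, single_dotProduct, smul_eq_mul, one_mul]
    rw [div_mul_cancel₀ _ hk, sub_self, mul_zero]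

/-- A vector orthogonal to a few vectors, outside a small subspace. -/
theorem exists_ann {k : ℕ} (v : Fin k → ι → K₀) (W : Submodule K₀ (ι → K₀))
    (h : Module.finrank K₀ W + k < Fintype.card ι) :
    ∃ x, (∀ i, v i ⬝ᵥ x = 0) ∧ x ∉ W := by
  by_contra hc
  push Not at hc
  let L : (ι → K₀) →ₗ[K₀] (Fin k → K₀) :=
    { toFun := fun x i => v i ⬝ᵥ x
      map_add' := fun x y => funext fun i => dotProduct_add _ _ _
      map_smul' := fun c x => funext fun i => dotProduct_smul _ _ _ }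
  have h1 := Submodule.finrank_mono (show LinearMap.ker L ≤ W from fun z hz => hc z fun i => congrFun hz i)
  have h3 := LinearMap.finrank_range_add_finrank_ker L
  have h4 := Submodule.finrank_le (LinearMap.range L)
  rw [Module.finrank_fintype_fun_eq_card, Fintype.card_fin] at h4
  rw [Module.finrank_fintype_fun_eq_card] at h3
  omega

variable {F₀}

/-- An irrational non-zero functional and an irrational centre admit a suitable rational point. -/
theorem exists_good_point (hdim : 3 ≤ Fintype.card ι) {w φ : ι → F} (hw : φ ⬝ᵥ w = 0) (hφ : φ ≠ 0)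
    {i j : ι} (hwj : w j ≠ 0) (hij : w i / w j ∉ F₀) :
    ∃ a α α' : ι → F₀, α ⬝ᵥ a = 0 ∧ α' ⬝ᵥ a = 0 ∧ φ ⬝ᵥ cv F₀ a ≠ 0 ∧ cv F₀ α' ⬝ᵥ w ≠ 0 ∧
      (cv F₀ α ⬝ᵥ w) / (cv F₀ α' ⬝ᵥ w) ∉ F₀ := by
  have hne : i ≠ j := by
    rintro rfl
    exact hij (by rw [div_self hwj]; exact F₀.one_mem)
  have hwi : w i ≠ 0 := fun e => hij (by rw [e, zero_div]; exact F₀.zero_mem)
  have hij' : w j / w i ∉ F₀ := fun h => hij (by rw [← inv_div]; exact F₀.inv_mem h)
  have e₁ : ∀ (k : ι) (z : ι → F), cv F₀ (Pi.single k 1) ⬝ᵥ z = z k := fun k z => by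
    rw [cv_single, single_dotProduct, one_mul]
  by_cases hA : ∃ m, m ≠ i ∧ m ≠ j ∧ φ m ≠ 0
  · obtain ⟨m, hmi, hmj, hm⟩ := hA
    refine ⟨Pi.single m 1, Pi.single i 1, Pi.single j 1, ?_, ?_, ?_, ?_, ?_⟩
    · simp [Pi.single_eq_of_ne hmi, Pi.single_eq_of_ne hmi.symm]
    · simp [Pi.single_eq_of_ne hmj, Pi.single_eq_of_ne hmj.symm]
    · rwa [cv_single, dotProduct_single, mul_one]
    · rwa [e₁]
    · rwa [e₁, e₁]
  push Not at hA
  have hsum : φ i * w i + φ j * w j = 0 := by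
    rw [← hw, dotProduct]
    refine (Finset.sum_pair (f := fun m => φ m * w m) hne).symm.trans ?_
    refine Finset.sum_subset (Finset.subset_univ _) fun m _ hm => ?_
    simp only [Finset.mem_insert, Finset.mem_singleton, not_or] at hm
    rw [hA m hm.1 hm.2, zero_mul]
  have hφi : φ i ≠ 0 := by
    intro e
    rw [e, zero_mul, zero_add] at hsum
    refine hφ (funext fun m => ?_)
    by_cases h1 : m = i
    · rw [h1, e]; rfl
    by_cases h2 : m = j
    · rw [h2]; exact (mul_eq_zero.1 hsum).resolve_right hwj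
    exact hA m h1 h2
  have hφj : φ j ≠ 0 := by
    intro e
    rw [e, zero_mul, add_zero] at hsum
    exact hφi ((mul_eq_zero.1 hsum).resolve_right hwi)
  by_cases hB : ∃ m, m ≠ i ∧ w m / w j ∉ F₀
  · obtain ⟨m, hmi, hm⟩ := hB
    refine ⟨Pi.single i 1, Pi.single m 1, Pi.single j 1, ?_, ?_, ?_, ?_, ?_⟩
    · simp [Pi.single_eq_of_ne hmi, Pi.single_eq_of_ne hmi.symm]
    · simp [Pi.single_eq_of_ne hne, Pi.single_eq_of_ne hne.symm]
    · rwa [cv_single, dotProduct_single, mul_one]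
    · rwa [e₁]
    · rwa [e₁, e₁]
  push Not at hB
  by_cases hC : ∃ m, m ≠ j ∧ w m / w i ∉ F₀
  · obtain ⟨m, hmj, hm⟩ := hC
    refine ⟨Pi.single j 1, Pi.single m 1, Pi.single i 1, ?_, ?_, ?_, ?_, ?_⟩
    · simp [Pi.single_eq_of_ne hmj, Pi.single_eq_of_ne hmj.symm]
    · simp [Pi.single_eq_of_ne hne, Pi.single_eq_of_ne hne.symm]
    · rwa [cv_single, dotProduct_single, mul_one]
    · rwa [e₁]
    · rwa [e₁, e₁]
  push Not at hC
  obtain ⟨m, hmi, hmj⟩ : ∃ m, m ≠ i ∧ m ≠ j := by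
    by_contra hc
    push Not at hc
    have h2 : (Finset.univ : Finset ι) ⊆ {i, j} := fun m _ => by
      by_cases h1 : m = i
      · simp [h1]
      · simp [hc m h1]
    have h3 := Finset.card_le_card h2
    rw [Finset.card_univ, Finset.card_pair hne] at h3
    omega
  have hwm : w m = 0 := by
    by_contra h0
    refine hij ?_
    rw [show w i / w j = (w m / w j) / (w m / w i) by field_simp]
    exact F₀.div_mem (hB m hmi) (hC m hmj)
  refine ⟨Pi.single i 1 + Pi.single m 1, Pi.single i 1 - Pi.single m 1, Pi.single j 1, ?_, ?_, ?_,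
    ?_, ?_⟩
  · simp [Pi.single_eq_of_ne hmi, Pi.single_eq_of_ne hmi.symm]
  · simp [Pi.single_eq_of_ne hne, Pi.single_eq_of_ne hne.symm, Pi.single_eq_of_ne hmj, Pi.single_eq_of_ne hmj.symm]
  · rw [cv_add, cv_single, cv_single, dotProduct_add, dotProduct_single, dotProduct_single,
      hA m hmi hmj]
    simpa using hφi
  · rwa [e₁]
  · rwa [cv_sub, sub_dotProduct, e₁, e₁, e₁, hwm, sub_zero]

/-- An overgroup contains a transvection with rational centre and irrational functional. -/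
theorem exists_rat_centre_irrational [Fintype F] (hdim : 4 ≤ Fintype.card ι) {K : Subgroup (GL ι F)}
    (hrat : ∀ (u ψ : ι → F₀) (h : cv F₀ ψ ⬝ᵥ cv F₀ u = 0), trv (cv F₀ u) (cv F₀ ψ) h ∈ K)
    {g : GL ι F} (hgK : g ∈ K) {y : ι → F₀} (hy : y ≠ 0)
    (hirr : ∀ c : F, c ≠ 0 → ∀ y', c • ((g : Matrix ι ι F) *ᵥ cv F₀ y) ≠ cv F₀ y') :
    ∃ (a : ι → F₀) (β : ι → F) (h : β ⬝ᵥ cv F₀ a = 0),
      a ≠ 0 ∧ (∀ β₀, β ≠ cv F₀ β₀) ∧ trv (cv F₀ a) β h ∈ K := by
  classical
  set w := (g : Matrix ι ι F) *ᵥ cv F₀ y with hwdef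
  -- the irrational transvection
  obtain ⟨ψ, hψy, hψ⟩ := exists_ann (K₀ := F₀) ![y] ⊥ (by rw [finrank_bot]; omega)
  have hψy' : cv F₀ ψ ⬝ᵥ cv F₀ y = 0 := cv_dot_zero F₀ (by rw [dotProduct_comm]; exact hψy 0)
  have hTK : g * trv (cv F₀ y) (cv F₀ ψ) hψy' * g⁻¹ ∈ K :=
    K.mul_mem (K.mul_mem hgK (hrat _ _ _)) (K.inv_mem hgK)
  rw [conj_trv g _ _ hψy' (by rw [vecMul_inv_dot, hψy'])] at hTK
  set φ := Matrix.vecMul (cv F₀ ψ) ((g⁻¹ : GL ι F) : Matrix ι ι F) with hφdef
  have hφw : φ ⬝ᵥ w = 0 := by rw [hφdef, hwdef, vecMul_inv_dot, hψy']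
  have hφ0 : φ ≠ 0 := by
    intro e
    refine hψ ((Submodule.mem_bot _).2 (cv_injective F₀ (funext fun i => ?_)))
    have := vecMul_inv_dot g (Pi.single i 1) (cv F₀ ψ)
    rw [← hφdef, e, zero_dotProduct, dotProduct_single, mul_one] at this
    exact this.symm
  have hw0 : w ≠ 0 := fun e => hirr 1 one_ne_zero 0 (by rw [one_smul, e]; rfl)
  obtain ⟨j, hj⟩ := Function.ne_iff.1 hw0
  obtain ⟨i, hi⟩ : ∃ i, w i / w j ∉ F₀ := by
    by_contra hc
    push Not at hc
    refine hirr (w j)⁻¹ (inv_ne_zero hj) (fun i => ⟨_, hc i⟩) (funext fun i => ?_)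
    rw [Pi.smul_apply, smul_eq_mul, cv_apply, inv_mul_eq_div]
  obtain ⟨a, α₁, α₂, hα₁, hα₂, hφa, hα₂w, hquo⟩ := exists_good_point (by omega) hφw hφ0 hj hi
  set A := cv F₀ a with hAdef
  have hA0 : A ≠ 0 := fun e => hφa (by rw [e, dotProduct_zero])
  set t := cv F₀ α₂ ⬝ᵥ w
  by_contra hfail
  have hfail' : ∀ β (h : β ⬝ᵥ A = 0), trv A β h ∈ K → ∃ β₀, β = cv F₀ β₀ := by
    intro β h hmem
    by_contra hc
    push Not at hc
    exact hfail ⟨a, β, h, fun e => hA0 (by rw [hAdef, e, cv_zero]), hc, hmem⟩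
  -- the rational transvections with centre `a`
  let Pg : Subgroup (GL ι F) :=
    { carrier := {x | ∃ (α : ι → F₀) (h : cv F₀ α ⬝ᵥ A = 0), x = trv A (cv F₀ α) h}
      one_mem' := ⟨0, zero_dotProduct _, (trv_zero A).symm⟩
      mul_mem' := by
        rintro _ _ ⟨α, h, rfl⟩ ⟨β, h', rfl⟩
        exact ⟨α + β, by rw [cv_add, add_dotProduct, h, h', add_zero], trv_add _ _ _ h h'⟩
      inv_mem' := by
        rintro _ ⟨α, h, rfl⟩
        exact ⟨-α, by rw [cv_neg, neg_dotProduct, h, neg_zero], trv_inv _ _ h⟩ }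
  set T := trv w φ hφw
  let G : Subgroup (GL ι F) := Pg ⊔ Subgroup.zpowers T
  have hPK : Pg ≤ K := by
    rintro _ ⟨α, h, rfl⟩
    exact hrat a α h
  have hGK : G ≤ K := sup_le hPK (Subgroup.zpowers_le.2 hTK)
  let L : Submodule F (ι → F) := Submodule.span F {A, w}
  let Sm : Subgroup (GL ι F) :=
    { carrier := {h | h ∈ Cfsg.Geo.specialLinear ι F ∧ ∀ x, (h : Matrix ι ι F) *ᵥ x - x ∈ L}
      one_mem' := ⟨Subgroup.one_mem _, fun x => by simp⟩
      mul_mem' := fun {p q} hp hq => ⟨Subgroup.mul_mem _ hp.1 hq.1, fun x => by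
        rw [Units.val_mul, ← Matrix.mulVec_mulVec,
          ← sub_add_sub_cancel _ ((q : Matrix ι ι F) *ᵥ x)]
        exact L.add_mem (hp.2 _) (hq.2 x)⟩
      inv_mem' := fun {p} hp => ⟨Subgroup.inv_mem _ hp.1, fun x => by
        have h1 := L.neg_mem (hp.2 (((p⁻¹ : GL ι F) : Matrix ι ι F) *ᵥ x))
        rwa [mulVec_inv_mulVec, neg_sub] at h1⟩ }
  have hGS : G ≤ Sm := by
    refine sup_le ?_ (Subgroup.zpowers_le.2 ⟨trv_mem_specialLinear _ _ _, fun x => ?_⟩)
    · rintro _ ⟨α, h, rfl⟩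
      refine ⟨trv_mem_specialLinear _ _ _, fun x => ?_⟩
      rw [trv_mulVec, add_sub_cancel_left]
      exact L.smul_mem _ (Submodule.subset_span (by simp))
    · rw [trv_mulVec, add_sub_cancel_left]
      exact L.smul_mem _ (Submodule.subset_span (by simp))
  have hPfix : ∀ x ∈ Pg, (x : Matrix ι ι F) *ᵥ A = A := by
    rintro _ ⟨α, h, rfl⟩
    rw [trv_mulVec, h, zero_smul, add_zero]
  -- elements fixing the line of `a`
  have hstab : ∀ h ∈ G, ∀ d : F, (h : Matrix ι ι F) *ᵥ A = d • A → h ∈ Pg := by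
    intro h hh d hd
    have hd0 : d ≠ 0 := by
      intro e
      rw [e, zero_smul] at hd
      exact hA0 (by rw [← inv_mulVec_mulVec h A, hd, Matrix.mulVec_zero])
    set M := ((h⁻¹ : GL ι F) : Matrix ι ι F)
    have hinv := hGS (G.inv_mem hh)
    -- conjugates of rational transvections
    have hval : ∀ α x : ι → F₀, α ⬝ᵥ a = 0 → d * (cv F₀ α ⬝ᵥ (M *ᵥ cv F₀ x)) ∈ F₀ := by
      intro α x hα
      have hα' : cv F₀ α ⬝ᵥ A = 0 := cv_dot_zero F₀ hα
      have h1 : h * trv A (cv F₀ α) hα' * h⁻¹ ∈ K :=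
        K.mul_mem (K.mul_mem (hGK hh) (hrat a α hα')) (K.inv_mem (hGK hh))
      have hz : (Matrix.vecMul (cv F₀ α) M) ⬝ᵥ ((h : Matrix ι ι F) *ᵥ A) = 0 := by
        rw [vecMul_inv_dot, hα']
      rw [conj_trv h _ _ hα' hz] at h1
      have hz' : (d • Matrix.vecMul (cv F₀ α) M) ⬝ᵥ A = 0 := by
        rw [hd, dotProduct_smul, smul_eq_mul] at hz
        rw [smul_dotProduct, smul_eq_mul, hz]
      have h2 : trv A (d • Matrix.vecMul (cv F₀ α) M) hz' ∈ K := by
        convert h1 using 1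
        refine gl_ext fun z => ?_
        rw [trv_mulVec, trv_mulVec, hd, smul_dotProduct, smul_smul, smul_eq_mul, mul_comm]
      obtain ⟨β₀, hβ₀⟩ := hfail' _ _ h2
      have h3 := congrArg (· ⬝ᵥ cv F₀ x) hβ₀
      simp only [smul_dotProduct, smul_eq_mul, ← Matrix.dotProduct_mulVec, cv_dot] at h3
      rw [h3]
      exact SetLike.coe_mem _
    let μ : (ι → F) → F := fun z => (cv F₀ α₂ ⬝ᵥ (M *ᵥ z - z)) / t
    have hμ : ∀ (α : ι → F₀) z, α ⬝ᵥ a = 0 →
        cv F₀ α ⬝ᵥ (M *ᵥ z) = cv F₀ α ⬝ᵥ z + (cv F₀ α ⬝ᵥ w) * μ z := by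
      intro α z hα
      obtain ⟨p, q, hpq⟩ := Submodule.mem_span_pair.1 (hinv.2 z)
      have h1 : M *ᵥ z = z + (p • A + q • w) := by rw [hpq]; abel
      have h2 : μ z = q := by
        show _ / t = q
        rw [← hpq, dotProduct_add, dotProduct_smul, dotProduct_smul, cv_dot_zero F₀ hα₂,
          smul_zero, zero_add, smul_eq_mul, mul_div_cancel_right₀ _ hα₂w]
      rw [h2, h1, dotProduct_add, dotProduct_add, dotProduct_smul, dotProduct_smul,
        cv_dot_zero F₀ hα, smul_zero, zero_add, smul_eq_mul, mul_comm q]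
    let m : (ι → F₀) →ₗ[F₀] F :=
      { toFun := fun x => μ (cv F₀ x)
        map_add' := fun x x' => by
          simp only [μ, cv_add, Matrix.mulVec_add, dotProduct_sub, dotProduct_add]
          ring
        map_smul' := fun c x => by
          simp only [μ, cv_smul, Matrix.mulVec_smul, dotProduct_sub, dotProduct_smul,
            RingHom.id_apply, Subfield.smul_def, smul_eq_mul]
          ring }
    let W : Submodule F₀ F := Submodule.span F₀ ({d⁻¹ / t, t⁻¹} : Finset F)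
    have hmW : LinearMap.range m ≤ W := by
      rintro _ ⟨x, rfl⟩
      have h1 := hval α₂ x hα₂
      rw [hμ α₂ _ hα₂, cv_dot] at h1
      have h2 : m x = (⟨_, h1⟩ : F₀) • (d⁻¹ / t) + (-(α₂ ⬝ᵥ x)) • t⁻¹ := by
        rw [Subfield.smul_def, Subfield.smul_def, NegMemClass.coe_neg]
        show μ (cv F₀ x) = d * ((α₂ ⬝ᵥ x : F₀) + t * μ (cv F₀ x)) * (d⁻¹ / t) + _ * t⁻¹
        field_simp
        ring
      rw [h2]
      exact W.add_mem (W.smul_mem _ (Submodule.subset_span (by simp)))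
        (W.smul_mem _ (Submodule.subset_span (by simp)))
    obtain ⟨x₀, hx₀, hx₀a⟩ : ∃ x₀, m x₀ = 0 ∧ x₀ ∉ Submodule.span F₀ {a} := by
      by_contra hc
      push Not at hc
      have h1 := Submodule.finrank_mono
        (show LinearMap.ker m ≤ Submodule.span F₀ {a} from fun z hz => hc z hz)
      have h2 := LinearMap.finrank_range_add_finrank_ker m
      have h3 := (Submodule.finrank_mono hmW).trans (finrank_span_finset_le_card _)
      have h4 : ({d⁻¹ / t, t⁻¹} : Finset F).card ≤ 2 := Finset.card_le_two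
      have h5 := finrank_span_le_card (R := F₀) ({a} : Set (ι → F₀))
      rw [Set.toFinset_singleton, Finset.card_singleton] at h5
      rw [Module.finrank_fintype_fun_eq_card] at h2
      omega
    have hdF : d ∈ F₀ := by
      obtain ⟨γ, hγ, hγa⟩ := exists_dot_one hx₀a
      have h1 := hval γ x₀ hγa
      rw [hμ γ _ hγa, cv_dot, hγ, show μ (cv F₀ x₀) = 0 from hx₀, mul_zero, add_zero] at h1
      simpa using h1
    have hμ0 : ∀ x, μ (cv F₀ x) = 0 := by
      intro x
      by_contra hne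
      have h1 : ∀ α : ι → F₀, α ⬝ᵥ a = 0 → (cv F₀ α ⬝ᵥ w) * μ (cv F₀ x) ∈ F₀ := fun α hα => by
        have h2 := hval α x hα
        rw [hμ α _ hα, cv_dot] at h2
        have h3 := F₀.sub_mem (F₀.mul_mem (F₀.inv_mem hdF) h2) (SetLike.coe_mem (α ⬝ᵥ x))
        rwa [inv_mul_cancel_left₀ hd0, add_sub_cancel_left] at h3
      refine hquo ?_
      rw [← mul_div_mul_right _ _ hne]
      exact F₀.div_mem (h1 α₁ hα₁) (h1 α₂ hα₂)
    obtain ⟨k, hk⟩ := Function.ne_iff.1 hA0
    simp only [Pi.zero_apply] at hk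
    let lam : ι → F := fun l => (M k l - (Pi.single l 1 : ι → F) k) / A k
    have hM : ∀ z, M *ᵥ z = z + (lam ⬝ᵥ z) • A := by
      have key : ∀ l, M *ᵥ Pi.single l 1 = Pi.single l 1 + lam l • A := by
        intro l
        obtain ⟨p, q, hpq⟩ := Submodule.mem_span_pair.1 (hinv.2 (Pi.single l 1))
        have h1 : μ (Pi.single l 1) = 0 := by rw [← cv_single F₀ l]; exact hμ0 _
        have h2 : μ (Pi.single l 1) = q := by
          show _ / t = q
          rw [← hpq, dotProduct_add, dotProduct_smul, dotProduct_smul, cv_dot_zero F₀ hα₂,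
            smul_zero, zero_add, smul_eq_mul, mul_div_cancel_right₀ _ hα₂w]
        rw [← h2, h1, zero_smul, add_zero] at hpq
        have h3 := congrFun hpq k
        simp only [Pi.smul_apply, Pi.sub_apply, smul_eq_mul, Matrix.mulVec_single_one,
          Matrix.col_apply] at h3
        have h4 : lam l = p := by
          show _ / A k = p
          rw [← h3, mul_div_cancel_right₀ _ hk]
        rw [h4, hpq]
        abel
      intro z
      conv_lhs => rw [pi_eq_sum_univ' z, Matrix.mulVec_sum]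
      simp only [Matrix.mulVec_smul, key, smul_add, Finset.sum_add_distrib]
      congr 1
      · exact (pi_eq_sum_univ' z).symm
      · simp [dotProduct, Finset.sum_smul, smul_smul, mul_comm]
    have hlamA : lam ⬝ᵥ A = 0 := by
      have h1 : M = 1 + Matrix.vecMulVec A lam := by
        refine Matrix.ext_iff_mulVec.2 fun z => ?_
        rw [hM, Matrix.add_mulVec, Matrix.one_mulVec, Matrix.vecMulVec_mulVec, op_smul_eq_smul]
      have h2 : M.det = 1 := by
        have := MonoidHom.mem_ker.1 hinv.1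
        exact congrArg Units.val this
      rw [h1, Matrix.vecMulVec_eq Unit, Matrix.det_one_add_replicateCol_mul_replicateRow] at h2
      simpa using h2
    have heq : h⁻¹ = trv A lam hlamA := gl_ext fun z => by rw [trv_mulVec]; exact hM z
    obtain ⟨l₀, hl₀⟩ := hfail' lam hlamA (heq ▸ K.inv_mem (hGK hh))
    rw [← inv_inv h]
    exact Pg.inv_mem ⟨l₀, hl₀ ▸ hlamA, heq.trans (trv_congr rfl hl₀)⟩
  -- the Frobenius group
  let H : Subgroup G := Pg.subgroupOf G
  have hPG : Pg ≤ G := le_sup_left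
  haveI : IsMulCommutative H := by
    refine ⟨⟨fun x z => Subtype.ext (Subtype.ext ?_)⟩⟩
    obtain ⟨α, hα, ex⟩ : ∃ α h, ((x : G) : GL ι F) = trv A (cv F₀ α) h := x.2
    obtain ⟨β, hβ, ez⟩ : ∃ β h, ((z : G) : GL ι F) = trv A (cv F₀ β) h := z.2
    show ((x : G) : GL ι F) * ((z : G) : GL ι F) = ((z : G) : GL ι F) * ((x : G) : GL ι F)
    rw [ex, ez, trv_add, trv_add]
    exact trv_congr rfl (add_comm _ _)
  have hα₁' : cv F₀ α₁ ⬝ᵥ A = 0 := cv_dot_zero F₀ hα₁
  have hα₂' : cv F₀ α₂ ⬝ᵥ A = 0 := cv_dot_zero F₀ hα₂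
  have htrv : ∀ (α β : ι → F₀) hα hβ, trv A (cv F₀ α) hα = trv A (cv F₀ β) hβ → α = β := by
    intro α β hα hβ e
    refine cv_injective F₀ (funext fun l => ?_)
    have h1 := congrArg (fun x : GL ι F => (x : Matrix ι ι F) *ᵥ Pi.single l 1) e
    simp only [trv_mulVec, add_right_inj, dotProduct_single, mul_one] at h1
    exact smul_left_injective F hA0 h1
  have hHfrob : Cfsg.IsFrobeniusComplement H := by
    refine ⟨fun e => ?_, fun e => ?_, fun x hx => (Subgroup.eq_bot_iff_forall _).2 ?_⟩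
    · have h1 : (⟨_, hPG ⟨α₂, hα₂', rfl⟩⟩ : G) ∈ H := ⟨α₂, hα₂', rfl⟩
      rw [e, Subgroup.mem_bot] at h1
      have h2 := htrv α₂ 0 hα₂' (zero_dotProduct _)
        ((congrArg Subtype.val h1).trans (trv_zero A).symm)
      exact hα₂w (by rw [show t = cv F₀ α₂ ⬝ᵥ w from rfl, h2, cv_zero, zero_dotProduct])
    · have h1 : (⟨T, (le_sup_right : Subgroup.zpowers T ≤ G) (Subgroup.mem_zpowers T)⟩ : G) ∈ H := e ▸ Subgroup.mem_top _
      have h2 : (T : Matrix ι ι F) *ᵥ A = A := hPfix _ h1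
      rw [trv_mulVec, add_eq_left, smul_eq_zero] at h2
      rcases h2 with h2 | h2
      · exact hφa h2
      · exact hw0 h2
    · rintro z ⟨hz, hzx⟩
      replace hzx : x⁻¹ * z * x ∈ H := Basics.mem_conj_smul.1 hzx
      by_contra hz1
      refine hx (Subgroup.mem_subgroupOf.2 ?_)
      obtain ⟨α, hα, ez⟩ : ∃ α h, (z : GL ι F) = trv A (cv F₀ α) h := hz
      obtain ⟨β, hβ, ezx⟩ : ∃ β h, (((x⁻¹ * z * x : G)) : GL ι F) = trv A (cv F₀ β) h := hzx
      have hα0 : cv F₀ α ≠ 0 := fun e => hz1 (Subtype.ext (by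
        rw [ez]; exact (trv_congr rfl e).trans (trv_zero A)))
      obtain ⟨l, hl⟩ := Function.ne_iff.1 hα0
      have e1 : (z : GL ι F) = (x : GL ι F) * trv A (cv F₀ β) hβ * (x : GL ι F)⁻¹ := by
        rw [← ezx]
        simp only [Subgroup.coe_mul, Subgroup.coe_inv]
        group
      rw [ez, conj_trv _ _ _ hβ (by rw [vecMul_inv_dot, hβ])] at e1
      have h1 := congrArg (fun x : GL ι F => (x : Matrix ι ι F) *ᵥ Pi.single l 1) e1
      simp only [trv_mulVec, add_right_inj, dotProduct_single, mul_one] at h1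
      set c := Matrix.vecMul (cv F₀ β) _ l
      have hc : c ≠ 0 := fun e => by
        rw [e, zero_smul, smul_eq_zero] at h1
        exact h1.elim hl hA0
      refine hstab _ x.2 (cv F₀ α l / c) ?_
      rw [div_eq_inv_mul, ← smul_smul, h1, inv_smul_smul₀ hc]
  haveI := isCyclic_of_malnormal H hHfrob
  obtain ⟨⟨γ, hγmem⟩, hgen⟩ := IsCyclic.exists_generator (α := H)
  obtain ⟨g₀, hg₀, eγ⟩ : ∃ α h, (γ : GL ι F) = trv A (cv F₀ α) h := hγmem
  let f : GL ι F → (ι → F₀) → Prop := fun x α => ∃ h, x = trv A (cv F₀ α) h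
  have hpow : ∀ k : ℤ, f ((γ : GL ι F) ^ k) ((k : F₀) • g₀) := by
    intro k
    induction k using Int.induction_on with
    | zero => exact ⟨by simp [cv_zero], by
        rw [zpow_zero, ← trv_zero A]; exact trv_congr rfl (by simp [cv_zero])⟩
    | succ k ih =>
      obtain ⟨h, e⟩ := ih
      exact ⟨by rw [cv_smul, smul_dotProduct, hg₀, smul_zero], by
        rw [zpow_add_one, e, eγ, trv_add]
        exact trv_congr rfl (by rw [← cv_add]; push_cast; rw [add_smul, one_smul])⟩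
    | pred k ih =>
      obtain ⟨h, e⟩ := ih
      exact ⟨by rw [cv_smul, smul_dotProduct, hg₀, smul_zero], by
        rw [zpow_sub_one, e, eγ, trv_inv, trv_add]
        exact trv_congr rfl (by rw [← cv_neg, ← cv_add]; push_cast; rw [sub_smul, one_smul, ← sub_eq_add_neg])⟩
  have hmult : ∀ α (hα : cv F₀ α ⬝ᵥ A = 0), ∃ s : F₀, α = s • g₀ := by
    intro α hα
    obtain ⟨k, hk⟩ := Subgroup.mem_zpowers_iff.1 (hgen ⟨⟨_, hPG ⟨α, hα, rfl⟩⟩, ⟨α, hα, rfl⟩⟩)
    obtain ⟨h, e⟩ := hpow k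
    have h1 := congrArg (fun x : H => ((x : G) : GL ι F)) hk
    simp only [SubgroupClass.coe_zpow] at h1
    exact ⟨_, htrv _ _ hα h (h1.symm.trans e)⟩
  obtain ⟨s₁, hs₁⟩ := hmult α₁ hα₁'
  obtain ⟨s₂, hs₂⟩ := hmult α₂ hα₂'
  refine hquo ?_
  rw [show t = cv F₀ α₂ ⬝ᵥ w from rfl, hs₁, hs₂, cv_smul, cv_smul, smul_dotProduct, smul_dotProduct,
    smul_eq_mul, smul_eq_mul, mul_div_mul_right _ _ fun e => hα₂w (by
      rw [show t = cv F₀ α₂ ⬝ᵥ w from rfl, hs₂, cv_smul, smul_dotProduct, e, smul_zero])]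
  exact F₀.div_mem (SetLike.coe_mem _) (SetLike.coe_mem _)

/-- An overgroup of a special linear group over a subfield of prime index. -/
theorem specialLinear_le_of_over_subfield [Fintype F] {r : ℕ} (hr : r.Prime)
    (hcard : Fintype.card F = Nat.card F₀ ^ r) (hdim : 4 ≤ Fintype.card ι) {K : Subgroup (GL ι F)}
    (hrat : ∀ (u ψ : ι → F₀) (h : cv F₀ ψ ⬝ᵥ cv F₀ u = 0), trv (cv F₀ u) (cv F₀ ψ) h ∈ K)
    {g : GL ι F} (hgK : g ∈ K) {y : ι → F₀} (hy : y ≠ 0)
    (hirr : ∀ c : F, c ≠ 0 → ∀ y', c • ((g : Matrix ι ι F) *ᵥ cv F₀ y) ≠ cv F₀ y') :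
    Cfsg.Geo.specialLinear ι F ≤ K := by
  classical
  obtain ⟨a, β, hβa, ha0, hβ, hβK⟩ := exists_rat_centre_irrational hdim hrat hgK hy hirr
  let Good : F → (ι → F₀) → (ι → F₀) → Prop := fun s u γ =>
    γ ⬝ᵥ u = 0 → ∀ h, trv (cv F₀ u) (s • cv F₀ γ) h ∈ K
  have hz : ∀ (s : F) {u γ : ι → F₀}, γ ⬝ᵥ u = 0 → (s • cv F₀ γ) ⬝ᵥ cv F₀ u = 0 := fun s u γ h => by
    rw [smul_dotProduct, cv_dot_zero F₀ h, smul_zero]
  -- one coefficient
  obtain ⟨i, hi⟩ : ∃ i, β i ∉ F₀ := by
    by_contra hc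
    push Not at hc
    exact hβ (fun i => ⟨_, hc i⟩) rfl
  obtain ⟨γ₀, hγ₀, hγ₀0⟩ := exists_ann (K₀ := F₀) ![a, Pi.single i 1] ⊥ (by rw [finrank_bot]; omega)
  have ha₀ : γ₀ ⬝ᵥ a = 0 := by rw [dotProduct_comm]; exact hγ₀ 0
  have hc₀ : γ₀ ⬝ᵥ Pi.single i 1 = 0 := by rw [dotProduct_comm]; exact hγ₀ 1
  have hγne : γ₀ ≠ 0 := fun e => hγ₀0 ((Submodule.mem_bot _).2 e)
  set s := β i with hs
  have hstart : Good s a γ₀ := by
    intro _ h
    have hA := hrat (Pi.single i 1) γ₀ (cv_dot_zero F₀ hc₀)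
    set X := trv (cv F₀ (Pi.single i 1)) (cv F₀ γ₀) (cv_dot_zero F₀ hc₀)
    have h1 : X * trv (cv F₀ a) β hβa * X⁻¹ * (trv (cv F₀ a) β hβa)⁻¹ ∈ K :=
      K.mul_mem (K.mul_mem (K.mul_mem hA hβK) (K.inv_mem hA)) (K.inv_mem hβK)
    have e1 : β ⬝ᵥ cv F₀ (Pi.single i 1) = s := by rw [cv_single, dotProduct_single, mul_one]
    have e2 : cv F₀ γ₀ ⬝ᵥ cv F₀ a = 0 := cv_dot_zero F₀ ha₀
    rw [trv_conj_trv _ _ _ _ _ _ (by
      rw [e2, zero_smul, add_zero, sub_dotProduct, hβa, smul_dotProduct, e2, smul_zero, sub_zero]),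
      trv_inv] at h1
    have h2 := K.inv_mem h1
    convert h2 using 1
    rw [← mul_eq_one_iff_eq_inv]
    refine gl_ext fun z => ?_
    simp only [Units.val_mul, Units.val_one, Matrix.one_mulVec, ← Matrix.mulVec_mulVec, trv_mulVec,
      e1, e2, hβa, dotProduct_add, dotProduct_smul, smul_dotProduct, sub_dotProduct, neg_dotProduct,
      smul_eq_mul, zero_smul, add_zero]
    module
  -- additivity and change of centre or functional
  have hcentre_add : ∀ t u u' γ, γ ⬝ᵥ u = 0 → γ ⬝ᵥ u' = 0 → Good t u γ → Good t u' γ →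
      Good t (u + u') γ := by
    intro t u u' γ hu hu' h1 h2 _ h
    have h3 := K.mul_mem (h1 hu (hz t hu)) (h2 hu' (hz t hu'))
    rw [trv_add_center] at h3
    exact h3
  have hfun_add : ∀ t u γ γ', γ ⬝ᵥ u = 0 → γ' ⬝ᵥ u = 0 → Good t u γ → Good t u γ' →
      Good t u (γ + γ') := by
    intro t u γ γ' hu hu' h1 h2 _ h
    have h3 := K.mul_mem (h1 hu (hz t hu)) (h2 hu' (hz t hu'))
    rw [trv_add] at h3
    convert h3 using 1
    exact trv_congr rfl (by rw [cv_add, smul_add])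
  have hcentre : ∀ t u γ, u ≠ 0 → γ ⬝ᵥ u = 0 → Good t u γ → ∀ x, γ ⬝ᵥ x = 0 → Good t x γ := by
    intro t u γ hu0 hu hG
    have key : ∀ x, γ ⬝ᵥ x = 0 → x ∉ Submodule.span F₀ {u} → Good t x γ := by
      intro x hx hxu _ h
      have hux : u ∉ Submodule.span F₀ {x} := by
        intro hm
        obtain ⟨c, hc⟩ := Submodule.mem_span_singleton.1 hm
        have hc0 : c ≠ 0 := fun e => hu0 (by rw [← hc, e, zero_smul])
        exact hxu (Submodule.mem_span_singleton.2 ⟨c⁻¹, by rw [← hc, inv_smul_smul₀ hc0]⟩)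
      obtain ⟨ξ, hξu, hξx⟩ := exists_dot_one hux
      have hX := hrat x ξ (cv_dot_zero F₀ hξx)
      have h1 := K.mul_mem (K.mul_mem (K.mul_mem hX (hG hu (hz t hu))) (K.inv_mem hX))
        (K.inv_mem (hG hu (hz t hu)))
      have e1 : (t • cv F₀ γ) ⬝ᵥ cv F₀ x = 0 := h
      have e2 : cv F₀ ξ ⬝ᵥ cv F₀ u = 1 := by rw [cv_dot, hξu]; rfl
      have e3 : (t • cv F₀ γ) ⬝ᵥ cv F₀ u = 0 := hz t hu
      rw [trv_conj_trv _ _ _ _ _ _ (by
        rw [e1, e2, zero_smul, sub_zero, one_smul, dotProduct_add, e1, e3, add_zero]), trv_inv] at h1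
      convert h1 using 1
      refine gl_ext fun z => ?_
      simp only [Units.val_mul, ← Matrix.mulVec_mulVec, trv_mulVec, e1, e2, e3, one_smul, zero_smul,
        sub_zero, dotProduct_add, dotProduct_smul, neg_dotProduct, smul_eq_mul]
      module
    intro x hx
    by_cases hxu : x ∈ Submodule.span F₀ {u}
    · obtain ⟨z, hzγ, hzu⟩ := exists_ann (K₀ := F₀) ![γ] (Submodule.span F₀ {u}) (by
        rw [finrank_span_singleton hu0]; omega)
      have hzγ' : γ ⬝ᵥ z = 0 := hzγ 0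
      have hxz : γ ⬝ᵥ (x - z) = 0 := by rw [dotProduct_sub, hx, hzγ', sub_zero]
      have hxzu : x - z ∉ Submodule.span F₀ {u} := fun hm => hzu (by
        simpa using Submodule.sub_mem _ hxu hm)
      have h1 := hcentre_add t (x - z) z γ hxz hzγ' (key _ hxz hxzu) (key _ hzγ' hzu)
      rwa [sub_add_cancel] at h1
    · exact key x hx hxu
  have hfun : ∀ t u γ, γ ≠ 0 → γ ⬝ᵥ u = 0 → Good t u γ → ∀ η, η ⬝ᵥ u = 0 → Good t u η := by
    intro t u γ hγ0 hu hG
    have key : ∀ η, η ⬝ᵥ u = 0 → η ∉ Submodule.span F₀ {γ} → Good t u η := by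
      intro η hη hηγ _ h
      have hγη : γ ∉ Submodule.span F₀ {η} := by
        intro hm
        obtain ⟨c, hc⟩ := Submodule.mem_span_singleton.1 hm
        have hc0 : c ≠ 0 := fun e => hγ0 (by rw [← hc, e, zero_smul])
        exact hηγ (Submodule.mem_span_singleton.2 ⟨c⁻¹, by rw [← hc, inv_smul_smul₀ hc0]⟩)
      obtain ⟨y', hy'γ, hy'η⟩ := exists_dot_one hγη
      rw [dotProduct_comm] at hy'γ hy'η
      have hX := hrat y' η (cv_dot_zero F₀ hy'η)
      have h1 := K.mul_mem (hG hu (hz t hu))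
        (K.inv_mem (K.mul_mem (K.mul_mem hX (hG hu (hz t hu))) (K.inv_mem hX)))
      have e1 : cv F₀ η ⬝ᵥ cv F₀ u = 0 := cv_dot_zero F₀ hη
      have e2 : cv F₀ γ ⬝ᵥ cv F₀ y' = 1 := by rw [cv_dot, hy'γ]; rfl
      have e3 : cv F₀ γ ⬝ᵥ cv F₀ u = 0 := cv_dot_zero F₀ hu
      rw [trv_conj_trv _ _ _ _ _ _ (by
        simp only [sub_dotProduct, smul_dotProduct, dotProduct_add, dotProduct_smul, e1, e3, smul_zero,
          zero_smul, add_zero, sub_zero]), trv_inv, ] at h1
      convert h1 using 1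
      refine gl_ext fun z => ?_
      simp only [Units.val_mul, ← Matrix.mulVec_mulVec, trv_mulVec, e1, e2, e3, zero_smul, add_zero,
        dotProduct_add, dotProduct_smul, smul_dotProduct, sub_dotProduct, neg_dotProduct, smul_eq_mul]
      module
    intro η hη
    by_cases hηγ : η ∈ Submodule.span F₀ {γ}
    · obtain ⟨z, hzu, hzγ⟩ := exists_ann (K₀ := F₀) ![u] (Submodule.span F₀ {γ}) (by
        rw [finrank_span_singleton hγ0]; omega)
      have hzu' : z ⬝ᵥ u = 0 := by rw [dotProduct_comm]; exact hzu 0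
      have hxz : (η - z) ⬝ᵥ u = 0 := by rw [sub_dotProduct, hη, hzu', sub_zero]
      have hxzu : η - z ∉ Submodule.span F₀ {γ} := fun hm => hzγ (by
        simpa using Submodule.sub_mem _ hηγ hm)
      have h1 := hfun_add t u (η - z) z hxz hzu' (key _ hxz hxzu) (key _ hzu' hzγ)
      rwa [sub_add_cancel] at h1
    · exact key η hη hηγ
  let S : Set F := {t | ∀ u γ, Good t u γ}
  have hsS : s ∈ S := by
    intro u γ hu h
    rcases eq_or_ne γ 0 with rfl | hγ
    · have : trv (cv F₀ u) (s • cv F₀ 0) h = 1 :=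
        gl_ext fun z => by simp [trv_mulVec, cv_zero]
      rw [this]; exact K.one_mem
    obtain ⟨u₁, hu₁, hu₁0⟩ := exists_ann (K₀ := F₀) ![γ₀, γ] ⊥ (by rw [finrank_bot]; omega)
    have hne : u₁ ≠ 0 := fun e => hu₁0 ((Submodule.mem_bot _).2 e)
    have k0 : γ₀ ⬝ᵥ u₁ = 0 := hu₁ 0
    have k1 : γ ⬝ᵥ u₁ = 0 := hu₁ 1
    have s1 := hcentre s a γ₀ ha0 ha₀ hstart u₁ k0
    have s2 := hfun s u₁ γ₀ hγne k0 s1 γ k1
    exact hcentre s u₁ γ hne k1 s2 u hu hu h
  have hF₀ : ∀ x ∈ F₀, x ∈ S := by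
    intro x hx u γ hu h
    have h1 := hrat u ((⟨x, hx⟩ : F₀) • γ) (cv_dot_zero F₀ (by rw [smul_dotProduct, hu, smul_zero]))
    convert h1 using 1
    exact trv_congr rfl (by rw [cv_smul])
  have hadd : ∀ x ∈ S, ∀ z ∈ S, x + z ∈ S := by
    intro x hx z hz' u γ hu h
    have h1 := K.mul_mem (hx u γ hu (hz x hu)) (hz' u γ hu (hz z hu))
    rw [trv_add] at h1
    convert h1 using 1
    exact trv_congr rfl (add_smul _ _ _)
  have hmul : ∀ x ∈ S, ∀ z ∈ S, x * z ∈ S := by
    intro x hx z hz' u δ hu h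
    rcases eq_or_ne u 0 with rfl | hu0
    · have : trv (cv F₀ (0 : ι → F₀)) ((x * z) • cv F₀ δ) h = 1 :=
        gl_ext fun z => by simp [trv_mulVec, cv_zero]
      rw [this]; exact K.one_mem
    obtain ⟨v, hv, hvu⟩ := exists_ann (K₀ := F₀) ![δ] (Submodule.span F₀ {u}) (by
      rw [finrank_span_singleton hu0]; omega)
    obtain ⟨γ, hγv, hγu⟩ := exists_dot_one hvu
    have hX := hx u γ hγu (hz x hγu)
    have hY := hz' v δ (hv 0) (hz z (hv 0))
    have h1 := K.mul_mem (K.mul_mem (K.mul_mem hX hY) (K.inv_mem hX)) (K.inv_mem hY)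
    have e1 : cv F₀ γ ⬝ᵥ cv F₀ v = 1 := by rw [cv_dot, hγv]; rfl
    have e2 : cv F₀ δ ⬝ᵥ cv F₀ u = 0 := cv_dot_zero F₀ hu
    have e3 : cv F₀ δ ⬝ᵥ cv F₀ v = 0 := cv_dot_zero F₀ (hv 0)
    rw [trv_conj_trv _ _ _ _ _ _ (by
      simp only [sub_dotProduct, smul_dotProduct, dotProduct_add, dotProduct_smul, e2, e3, smul_zero,
        zero_smul, add_zero, sub_zero]), trv_inv] at h1
    convert h1 using 1
    refine gl_ext fun w => ?_
    simp only [Units.val_mul, ← Matrix.mulVec_mulVec, trv_mulVec, e1, e2, e3, dotProduct_add,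
      dotProduct_smul, smul_dotProduct, sub_dotProduct, neg_dotProduct, smul_eq_mul]
    module
  have hall := eq_univ_of_prime_degree F₀ hr hcard hF₀ hadd hmul hsS hi
  -- reduce to rational centres and functionals
  have hratF : ∀ (u : ι → F₀) (ψ : ι → F) (h : ψ ⬝ᵥ cv F₀ u = 0), trv (cv F₀ u) ψ h ∈ K := by
    intro u ψ h
    rcases eq_or_ne u 0 with rfl | hu0
    · have : trv (cv F₀ (0 : ι → F₀)) ψ h = 1 := gl_ext fun z => by simp [trv_mulVec, cv_zero]
      rw [this]; exact K.one_mem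
    obtain ⟨k, hk⟩ := Function.ne_iff.1 hu0
    simp only [Pi.zero_apply] at hk
    let η : ι → ι → F₀ := fun l => Pi.single l 1 - (u l / u k) • Pi.single k 1
    have hη : ∀ l, η l ⬝ᵥ u = 0 := fun l => by
      simp only [η, sub_dotProduct, smul_dotProduct, single_dotProduct, one_mul, smul_eq_mul]
      rw [div_mul_cancel₀ _ hk, sub_self]
    have hsum : ∀ (T : Finset ι) (hT : (∑ l ∈ T, ψ l • cv F₀ (η l)) ⬝ᵥ cv F₀ u = 0),
        trv (cv F₀ u) (∑ l ∈ T, ψ l • cv F₀ (η l)) hT ∈ K := by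
      intro T
      induction T using Finset.induction_on with
      | empty =>
        intro hT
        have : trv (cv F₀ u) (∑ l ∈ (∅ : Finset ι), ψ l • cv F₀ (η l)) hT = 1 :=
          gl_ext fun z => by simp [trv_mulVec]
        rw [this]; exact K.one_mem
      | insert b T hb ih =>
        intro hT
        have hT' : (∑ l ∈ T, ψ l • cv F₀ (η l)) ⬝ᵥ cv F₀ u = 0 := by
          rw [sum_dotProduct]
          exact Finset.sum_eq_zero fun l _ => hz _ (hη l)
        have h1 := K.mul_mem (hall (ψ b) u (η b) (hη b) (hz _ (hη b))) (ih hT')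
        rw [trv_add] at h1
        convert h1 using 1
        exact trv_congr rfl (Finset.sum_insert hb)
    have e : ψ = ∑ l, ψ l • cv F₀ (η l) := by
      simp only [η, cv_sub, cv_smul, cv_single, smul_sub, Finset.sum_sub_distrib, ← pi_eq_sum_univ',
        smul_smul, ← Finset.sum_smul]
      have h0 : (∑ l, ψ l * ((u l / u k : F₀) : F)) = 0 := by
        push_cast
        simp only [mul_div_assoc', ← Finset.sum_div]
        rw [show (∑ l, ψ l * (u l : F)) = ψ ⬝ᵥ cv F₀ u from rfl, h, zero_div]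
      rw [h0, zero_smul, sub_zero]
    rw [trv_congr (h' := e ▸ h) rfl e]
    exact hsum _ _
  have hunit : ∀ (i' j' : ι), i' ≠ j' → ∀ (c : F) (h : (Pi.single j' c : ι → F) ⬝ᵥ Pi.single i' 1 = 0),
      trv (Pi.single i' 1) (Pi.single j' c) h ∈ K := by
    intro i' j' _ c h
    have h1 := hratF (Pi.single i' 1) (Pi.single j' c) (by rwa [cv_single])
    convert h1 using 1
    exact trv_congr (cv_single F₀ i').symm rfl
  exact specialLinear_le_of_elem hunit

end Cfsg.Agent.TransvMax
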