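import Cfsg.Agent.Lib.TransvMax.Basic
import Cfsg.Agent.Lib.Forms.Orth

/-!
The matrix group `spGL` seen through linear automorphisms, and maximality criteria.
-/

set_option autoImplicit false

namespace Cfsg.Agent.TransvMax

open scoped Matrix MatrixGroups
open Cfsg.Agent

variable {F : Type*} [Field F] {m : ℕ}

theorem sympForm_eq_spB (u v : Fin m ⊕ Fin m → F) :
    Cfsg.sympForm m F u v = FormsLib.spB m F u v := (FormsLib.spB_apply u v).symm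

theorem glOf_mem_spGL {g : (Fin m ⊕ Fin m → F) ≃ₗ[F] (Fin m ⊕ Fin m → F)} :
    glOf g ∈ Cfsg.spGL m F ↔ g ∈ FormsLib.isoGroup (FormsLib.spB m F) := by
  show (∀ u v, Cfsg.sympForm m F (((glOf g : GL (Fin m ⊕ Fin m) F) : Matrix _ _ F) *ᵥ u)
    (((glOf g : GL (Fin m ⊕ Fin m) F) : Matrix _ _ F) *ᵥ v) = Cfsg.sympForm m F u v) ↔ _
  simp only [glOf_mulVec, sympForm_eq_spB]
  rfl

theorem spGL_le_of_iso_le {K : Subgroup (GL (Fin m ⊕ Fin m) F)}
    (h : FormsLib.isoGroup (FormsLib.spB m F) ≤ K.comap glOf) : Cfsg.spGL m F ≤ K := by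
  intro g hg
  rw [← glOf_linOf g] at hg ⊢
  exact h (glOf_mem_spGL.1 hg)

/-- A criterion for maximality in `spGL` in terms of linear automorphisms. -/
theorem maximal_in_spGL (H : Subgroup (GL (Fin m ⊕ Fin m) F)) (hH : H ≤ Cfsg.spGL m F)
    (hne : ∃ g, g ∈ FormsLib.isoGroup (FormsLib.spB m F) ∧ glOf g ∉ H)
    (hover : ∀ K : Subgroup ((Fin m ⊕ Fin m → F) ≃ₗ[F] (Fin m ⊕ Fin m → F)),
      H.comap glOf ≤ K → K ≤ FormsLib.isoGroup (FormsLib.spB m F) →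
      (∃ g ∈ K, glOf g ∉ H) → FormsLib.tauGroup (FormsLib.spB_alt (m := m) (F := F)) ≤ K) :
    Cfsg.Geo.IsMaximalIn (Cfsg.spGL m F) H := by
  obtain ⟨g₀, hg₀, hg₀H⟩ := hne
  refine ⟨lt_of_le_of_ne hH fun e => hg₀H (e ▸ glOf_mem_spGL.2 hg₀), fun K hHK hK => ?_⟩
  rcases hHK.eq_or_lt with e | hlt
  · exact Or.inl e.symm
  refine Or.inr (le_antisymm hK ?_)
  obtain ⟨g, hgK, hgH⟩ := SetLike.exists_of_lt hlt
  refine spGL_le_of_iso_le ?_
  rw [← FormsLib.tauGroup_eq FormsLib.spB_alt FormsLib.spB_nondeg]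
  refine hover (K.comap glOf) (Subgroup.comap_mono hHK)
    (fun x hx => glOf_mem_spGL.1 (hK hx)) ⟨linOf g, ?_, ?_⟩
  · show glOf (linOf g) ∈ K
    rw [glOf_linOf]
    exact hgK
  · rwa [glOf_linOf]

end Cfsg.Agent.TransvMax
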