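import Cfsg.Agent.Lib.TransvMax.LagrPair
import Cfsg.Agent.Lib.TransvMax.SpBridge
import Cfsg.Prelude.Def_GeometricClasses

/-!
Stabilisers of totally singular and of non-degenerate subspaces in a symplectic group.
-/

set_option autoImplicit false

namespace Cfsg.Agent.TransvMax

open Cfsg.Agent

variable {F V : Type*} [Field F] [AddCommGroup V] [Module F V] [FiniteDimensional F V]
  {B : LinearMap.BilinForm F V}

theorem subspace_mem_iff_of_le {W : Submodule F V} {g : V ≃ₗ[F] V} (h : ∀ v ∈ W, g v ∈ W) (v : V) :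
    v ∈ W ↔ g v ∈ W := by
  refine ⟨h v, fun hv => ?_⟩
  have e : W.map (g : V →ₗ[F] V) = W :=
    Submodule.eq_of_le_of_finrank_eq (Submodule.map_le_iff_le_comap.2 h) (LinearEquiv.finrank_map_eq g W)
  rw [← e] at hv
  obtain ⟨w, hw, hwv⟩ := hv
  rwa [← g.injective hwv]

/-- Overgroups of the stabiliser of a totally isotropic subspace. -/
theorem tauGroup_le_of_over_isotropic (hA : LinearMap.IsAlt B) (hB : LinearMap.Nondegenerate B)
    {W : Submodule F V} (hW : ∀ x ∈ W, ∀ y ∈ W, B x y = 0)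
    {K : Subgroup (V ≃ₗ[F] V)} (hK : K ≤ FormsLib.isoGroup B)
    (hstab : ∀ h ∈ FormsLib.isoGroup B, (∀ v ∈ W, h v ∈ W) → h ∈ K)
    {g : V ≃ₗ[F] V} (hgK : g ∈ K) {w₀ : V} (hw₀ : w₀ ∈ W) (hg : g w₀ ∉ W) :
    FormsLib.tauGroup hA ≤ K := by
  let C : Set V := {v | ∀ e, FormsLib.tau hA v e ∈ K}
  have hconj : ∀ h ∈ K, ∀ v ∈ C, h v ∈ C := fun h hh v hv e => by
    rw [← FormsLib.tau_conj hA (hK hh) v e]
    exact K.mul_mem (K.mul_mem hh (hv e)) (K.inv_mem hh)
  have hsmul : ∀ v ∈ C, ∀ s : F, s • v ∈ C := fun v hv s e => by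
    rw [FormsLib.tau_smul]; exact hv _
  have hperp : ∀ y, (∀ w ∈ W, B w y = 0) → y ∈ C := fun y hy e =>
    hstab _ (FormsLib.tau_mem hA y e) fun w hw => by
      rw [FormsLib.tau_apply, hy w hw, mul_zero, zero_smul, add_zero]; exact hw
  have hline : ∀ v ∈ C, ∀ v' ∈ C, B v v' ≠ 0 → ∀ s : F, v + s • v' ∈ C := by
    intro v hv v' hv' hne s
    have := hconj _ (hv' (s / B v v')) v hv
    rwa [FormsLib.tau_apply, div_mul_cancel₀ _ hne] at this
  -- a centre outside the orthogonal of `W`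
  obtain ⟨x, hxC, u, huW, hux⟩ : ∃ x ∈ C, ∃ u ∈ W, B u x ≠ 0 := by
    by_contra hcon
    push Not at hcon
    refine hg ?_
    have hle : ∀ y ∈ B.orthogonal W, g y ∈ B.orthogonal W := fun y hy w hw =>
      hcon _ (hconj g hgK y (hperp y fun w hw => hy w hw)) w hw
    have hgi : ∀ y ∈ B.orthogonal W, g.symm y ∈ B.orthogonal W := fun y hy =>
      (subspace_mem_iff_of_le hle (g.symm y)).2 (by rwa [LinearEquiv.apply_symm_apply])
    have hdd : g w₀ ∈ B.orthogonal (B.orthogonal W) := by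
      intro y hy
      show B y (g w₀) = 0
      rw [← LinearEquiv.apply_symm_apply g y, hK hgK, FormsLib.alt_swap hA w₀,
        hgi y hy w₀ hw₀, neg_zero]
    rwa [LinearMap.BilinForm.orthogonal_orthogonal hB hA.isRefl] at hdd
  set u₁ := (B u x)⁻¹ • u with hu₁
  have hu₁W : u₁ ∈ W := W.smul_mem _ huW
  have hu₁x : B u₁ x = 1 := by simp [hu₁, inv_mul_cancel₀ hux]
  have hxu₁ : B x u₁ = -1 := by rw [FormsLib.alt_swap hA u₁ x, hu₁x]
  have hcoset : ∀ z, B u₁ z = 0 → ∀ s : F, x + z + s • u₁ ∈ C := by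
    intro z hz s
    set E := pairTau hA u₁ (-z) (by simp [hz]) with hE
    have hEK : E ∈ K := hstab _ (pairTau_mem _ _ _ _) fun w hw => by
      rw [pairTau_apply, hW w hw u₁ hu₁W, zero_smul, add_zero]
      exact W.add_mem hw (W.smul_mem _ hu₁W)
    have h1 := hconj E hEK x hxC
    rw [hE, pairTau_apply, hxu₁, map_neg, smul_neg, neg_smul, one_smul, neg_neg] at h1
    by_cases he : s + B x z = 0
    · convert h1 using 1
      rw [eq_neg_of_add_eq_zero_left he]
    have h2 := hline _ h1 u₁ (hperp u₁ fun w hw => hW w hw u₁ hu₁W) (by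
      simp [hxu₁, hA u₁, FormsLib.alt_swap hA u₁ z, hz]) (s + B x z)
    convert h2 using 1
    module
  have hne : ∀ v, B u₁ v ≠ 0 → v ∈ C := by
    intro v hv
    have h1 := hsmul _ (hcoset ((B u₁ v)⁻¹ • v - x) (by simp [hu₁x, inv_mul_cancel₀ hv]) 0) (B u₁ v)
    rwa [zero_smul, add_zero, add_sub_cancel, smul_smul, mul_inv_cancel₀ hv, one_smul] at h1
  refine (Subgroup.closure_le _).2 ?_
  rintro _ ⟨v, e, rfl⟩
  suffices v ∈ C from this e
  by_cases hv : ∀ w ∈ W, B w v = 0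
  · exact hperp v hv
  by_cases hv1 : B u₁ v = 0
  · push Not at hv
    obtain ⟨u', hu'W, hu'⟩ := hv
    obtain ⟨y, hy, hyu⟩ : ∃ y ∈ C, B y u₁ ≠ 0 ∧ B y u' ≠ 0 := by
      by_cases hxu' : B x u' = 0
      · refine ⟨x + v, ?_, ?_, ?_⟩
        · simpa using hcoset v hv1 0
        · simp [hxu₁, FormsLib.alt_swap hA u₁ v, hv1]
        · simp [hxu', FormsLib.alt_swap hA u' v, hu']
      · exact ⟨x, hxC, by simp [hxu₁], hxu'⟩
    -- move along `u'` instead of `u₁`
    set u₂ := (B u' y)⁻¹ • u' with hu₂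
    have hyu' : B u' y ≠ 0 := by rw [FormsLib.alt_swap hA y u']; exact neg_ne_zero.mpr hyu.2
    have hu₂W : u₂ ∈ W := W.smul_mem _ hu'W
    have hu₂y : B u₂ y = 1 := by simp [hu₂, inv_mul_cancel₀ hyu']
    set v' := (B u₂ v)⁻¹ • v with hv'
    have hu₂v : B u₂ v ≠ 0 := by simp [hu₂, hu', hyu']
    have hperp' : B u₂ (y - v') = 0 := by simp [hu₂y, hv', inv_mul_cancel₀ hu₂v]
    set E := pairTau hA u₂ (y - v') hperp'
    have hEK : E ∈ K := hstab _ (pairTau_mem _ _ _ _) fun w hw => by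
      rw [pairTau_apply, hW w hw u₂ hu₂W, zero_smul, add_zero]
      exact W.add_mem hw (W.smul_mem _ hu₂W)
    have hyu₂ : B y u₂ = -1 := by rw [FormsLib.alt_swap hA u₂ y, hu₂y]
    have hu₂v' : B v' u₂ = -1 := by rw [FormsLib.alt_swap hA u₂ v', hv']; simp [inv_mul_cancel₀ hu₂v]
    have h1 := hconj E hEK y hy
    rw [pairTau_apply, hyu₂, neg_smul, one_smul, neg_sub, add_sub_cancel] at h1
    have hv'C : v' ∈ C := by
      by_cases he : B y (y - v') = 0
      · rwa [he, zero_smul, add_zero] at h1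
      have h2 := hline _ h1 u₂ (hperp u₂ fun w hw => hW w hw u₂ hu₂W)
        (by simp [hu₂v', hA u₂]) (-(B y (y - v')))
      convert h2 using 1
      module
    have h3 := hsmul _ hv'C (B u₂ v)
    rwa [hv', smul_smul, mul_inv_cancel₀ hu₂v, one_smul] at h3
  · exact hne v hv1

/-- Overgroups of the stabiliser of a non-degenerate subspace of less than half dimension. -/
theorem tauGroup_le_of_over_nondeg (hA : LinearMap.IsAlt B) (hB : LinearMap.Nondegenerate B)
    {W : Submodule F V} (hW : ∀ w ∈ W, w ≠ 0 → ∃ x ∈ W, B x w ≠ 0)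
    (hdim : 2 * Module.finrank F W < Module.finrank F V)
    {K : Subgroup (V ≃ₗ[F] V)} (hK : K ≤ FormsLib.isoGroup B)
    (hstab : ∀ h ∈ FormsLib.isoGroup B, (∀ v ∈ W, h v ∈ W) → h ∈ K)
    {g : V ≃ₗ[F] V} (hgK : g ∈ K) {w₀ : V} (hw₀ : w₀ ∈ W) (hg : g w₀ ∉ W) :
    FormsLib.tauGroup hA ≤ K := by
  set W' := B.orthogonal W with hW'def
  have hW' : ∀ {y}, y ∈ W' ↔ ∀ w ∈ W, B w y = 0 := Iff.rfl
  have hcd : IsCompl W W' := by
    rw [hW'def, ← LinearMap.BilinForm.restrict_nondegenerate_iff_isCompl_orthogonal hA.isRefl]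
    constructor <;> intro w hw <;> by_contra h0 <;>
      obtain ⟨x, hx, hxw⟩ := hW w w.2 (fun e => h0 (Subtype.ext e))
    · refine hxw ?_
      rw [FormsLib.alt_swap hA (w : V) x, show B (w : V) x = 0 from hw ⟨x, hx⟩, neg_zero]
    · exact hxw (hw ⟨x, hx⟩)
  let C : Set V := {v | ∀ e, FormsLib.tau hA v e ∈ K}
  have hconj : ∀ h ∈ K, ∀ v ∈ C, h v ∈ C := fun h hh v hv e => by
    rw [← FormsLib.tau_conj hA (hK hh) v e]
    exact K.mul_mem (K.mul_mem hh (hv e)) (K.inv_mem hh)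
  have hWC : ∀ a ∈ W, a ∈ C := fun a ha e =>
    hstab _ (FormsLib.tau_mem hA a e) fun w hw => by
      rw [FormsLib.tau_apply]; exact W.add_mem hw (W.smul_mem _ ha)
  have hW'C : ∀ b ∈ W', b ∈ C := fun b hb e =>
    hstab _ (FormsLib.tau_mem hA b e) fun w hw => by
      rw [FormsLib.tau_apply, hW'.1 hb w hw, mul_zero, zero_smul, add_zero]; exact hw
  have hline : ∀ v ∈ C, ∀ v' ∈ C, B v v' ≠ 0 → ∀ s : F, v + s • v' ∈ C := by
    intro v hv v' hv' hne s
    have := hconj _ (hv' (s / B v v')) v hv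
    rwa [FormsLib.tau_apply, div_mul_cancel₀ _ hne] at this
  have hor : ∀ b ∈ W', ∀ a ∈ W, B b a = 0 := fun b hb a ha => by
    rw [FormsLib.alt_swap hA a b, hW'.1 hb a ha, neg_zero]
  have hndW : ∀ a ∈ W, a ≠ 0 → ∃ x ∈ W, B x a ≠ 0 := hW
  have hndW' : ∀ b ∈ W', b ≠ 0 → ∃ x ∈ W', B x b ≠ 0 := fun b hb hb0 => by
    by_contra hc
    push Not at hc
    refine hb0 (hB.2 b fun v => ?_)
    obtain ⟨a, ha, y, hy, rfl⟩ := Submodule.mem_sup.1 (hcd.sup_eq_top.ge (Submodule.mem_top (x := v)))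
    rw [map_add, LinearMap.add_apply, hc y hy, hW'.1 hb a ha, add_zero]
  have hmove : ∀ X : Submodule F V, (∀ a ∈ X, a ∈ C) → (∀ a ∈ X, a ≠ 0 → ∃ x ∈ X, B x a ≠ 0) →
      ∀ a ∈ X, ∀ a' ∈ X, a ≠ 0 → a' ≠ 0 → ∀ r, (∀ x ∈ X, B r x = 0) → a + r ∈ C → a' + r ∈ C := by
    intro X hXC hnd a ha a' ha' ha0 ha'0 r hr hC
    have step : ∀ x ∈ X, ∀ y ∈ X, B x y ≠ 0 → x + r ∈ C → y + r ∈ C := by
      intro x hx y hy hxy hxr
      have h1 := hline _ hxr _ (hXC _ (X.sub_mem hy hx)) (by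
        rw [map_add, LinearMap.add_apply, hr _ (X.sub_mem hy hx), map_sub, hA x, sub_zero, add_zero]
        exact hxy) 1
      rw [one_smul] at h1
      convert h1 using 1
      abel
    obtain ⟨x, hx, hxa⟩ := hnd a ha ha0
    obtain ⟨y, hy, hya⟩ := hnd a' ha' ha'0
    obtain ⟨⟨z, hz⟩, hz1, hz2⟩ := FormsLib.exists_ne_zero_pair (W := X)
      (f := (B.flip a).comp X.subtype) (g := (B.flip a').comp X.subtype)
      (u := ⟨x, hx⟩) hxa (v := ⟨y, hy⟩) hya
    refine step z hz a' ha' hz2 (step a ha z hz ?_ hC)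
    rw [FormsLib.alt_swap hA z a]
    exact neg_ne_zero.mpr hz1
  have hdim' : Module.finrank F W < Module.finrank F W' := by
    rw [hW'def, LinearMap.BilinForm.finrank_orthogonal hB]
    omega
  obtain ⟨x, hxC, hx, hx'⟩ : ∃ x ∈ C, x ∉ W ∧ x ∉ W' := by
    by_contra hcon
    push Not at hcon
    have hle : ∀ b ∈ W', g b ∈ W' := by
      have hall : ∀ b ∈ W', g b ∈ W ∨ g b ∈ W' := fun b hb => by
        by_contra h; push Not at h; exact h.2 (hcon _ (hconj g hgK b (hW'C b hb)) h.1)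
      by_contra hb
      push Not at hb
      obtain ⟨b₀, hb₀, hgb₀⟩ := hb
      have h₀ := (hall b₀ hb₀).resolve_right hgb₀
      have hallW : W'.map (g : V →ₗ[F] V) ≤ W := by
        refine Submodule.map_le_iff_le_comap.2 fun b hb => ?_
        show g b ∈ W
        rcases hall b hb with h | h
        · exact h
        · rcases hall (b₀ + b) (W'.add_mem hb₀ hb) with h' | h'
          · simpa using W.sub_mem h' h₀
          · exact absurd (by simpa using W'.sub_mem h' h) hgb₀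
      have := Submodule.finrank_mono hallW
      rw [LinearEquiv.finrank_map_eq] at this
      omega
    refine hg ?_
    have h1 : g w₀ ∈ B.orthogonal W' := fun b hb => by
      have hb' : g.symm b ∈ W' :=
        (subspace_mem_iff_of_le hle (g.symm b)).2 (by rwa [LinearEquiv.apply_symm_apply])
      show B b (g w₀) = 0
      rw [← LinearEquiv.apply_symm_apply g b, hK hgK]
      exact hor _ hb' w₀ hw₀
    rwa [hW'def, LinearMap.BilinForm.orthogonal_orthogonal hB hA.isRefl] at h1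
  obtain ⟨a₀, ha₀, b₀, hb₀, rfl⟩ :=
    Submodule.mem_sup.1 (hcd.sup_eq_top.ge (Submodule.mem_top (x := x)))
  have ha₀0 : a₀ ≠ 0 := fun e => hx' (by rw [e, zero_add]; exact hb₀)
  have hb₀0 : b₀ ≠ 0 := fun e => hx (by rw [e, add_zero]; exact ha₀)
  refine (Subgroup.closure_le _).2 ?_
  rintro _ ⟨v, e, rfl⟩
  suffices v ∈ C from this e
  obtain ⟨a, ha, b, hb, rfl⟩ :=
    Submodule.mem_sup.1 (hcd.sup_eq_top.ge (Submodule.mem_top (x := v)))
  by_cases ha0 : a = 0
  · rw [ha0, zero_add]; exact hW'C b hb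
  by_cases hb0 : b = 0
  · rw [hb0, add_zero]; exact hWC a ha
  have h1 := hmove W hWC hndW a₀ ha₀ a ha ha₀0 ha0 b₀ (fun y hy => hor b₀ hb₀ y hy) hxC
  rw [add_comm] at h1
  have h2 := hmove W' hW'C hndW' b₀ hb₀ b hb hb₀0 hb0 a (fun y hy => hW'.1 hy a ha) h1
  rwa [add_comm]

open scoped Matrix MatrixGroups in
/-- The stabiliser of a subspace, seen through linear automorphisms. -/
theorem glOf_mem_subspaceStab {F : Type*} [Field F] {ι : Type} [Fintype ι] [DecidableEq ι]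
    {W : Submodule F (ι → F)} {g : (ι → F) ≃ₗ[F] (ι → F)} :
    glOf g ∈ Cfsg.Geo.subspaceStabilizer W ↔ ∀ v ∈ W, g v ∈ W := by
  constructor
  · intro h v hv
    rw [← glOf_mulVec g v]
    exact (h v).1 hv
  · intro h v
    show v ∈ W ↔ ((glOf g : GL ι F) : Matrix ι ι F) *ᵥ v ∈ W
    rw [glOf_mulVec]
    exact subspace_mem_iff_of_le h v

end Cfsg.Agent.TransvMax
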