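import Cfsg.Agent.Lib.TransvMax.UnitarySim
import Cfsg.Agent.Lib.TransvMax.SubspaceSp
import Cfsg.Agent.Lib.TransvMax.SubfieldSL

/-!
Subspace stabilisers in a special linear group.
-/

set_option autoImplicit false

namespace Cfsg.Agent.TransvMax

open scoped Matrix MatrixGroups
open Cfsg.Agent

variable {ι : Type} [Fintype ι] [DecidableEq ι] {F : Type*} [Field F]

theorem mem_stab_of_le {W : Submodule F (ι → F)} {g : GL ι F}
    (h : ∀ v ∈ W, (g : Matrix ι ι F) *ᵥ v ∈ W) : g ∈ Cfsg.Geo.subspaceStabilizer W :=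
  fun v => subspace_mem_iff_of_le (g := linOf g) h v

theorem trv_mem_stab {W : Submodule F (ι → F)} {v φ : ι → F} (h : φ ⬝ᵥ v = 0)
    (hv : v ∈ W ∨ ∀ w ∈ W, φ ⬝ᵥ w = 0) : trv v φ h ∈ Cfsg.Geo.subspaceStabilizer W := by
  refine mem_stab_of_le fun w hw => ?_
  rw [trv_mulVec]
  rcases hv with hv | hv
  · exact W.add_mem hw (W.smul_mem _ hv)
  · rwa [hv w hw, zero_smul, add_zero]

/-- A functional with value one outside a subspace and zero on it. -/
theorem exists_functional {S : Submodule F (ι → F)} {u : ι → F} (hu : u ∉ S) :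
    ∃ φ : ι → F, φ ⬝ᵥ u = 1 ∧ ∀ w ∈ S, φ ⬝ᵥ w = 0 := by
  obtain ⟨ψ, hψu, hψ⟩ := Submodule.exists_le_ker_of_notMem hu
  refine ⟨fun i => (ψ u)⁻¹ * ψ (Pi.single i 1), ?_, fun w hw => ?_⟩
  all_goals
    have key : ∀ x : ι → F, (fun i => (ψ u)⁻¹ * ψ (Pi.single i 1)) ⬝ᵥ x = (ψ u)⁻¹ * ψ x := fun x => by
      conv_rhs => rw [pi_eq_sum_univ' x, map_sum, Finset.mul_sum]
      exact Finset.sum_congr rfl fun i _ => by rw [map_smul, smul_eq_mul]; ring
    rw [key]
  · exact inv_mul_cancel₀ hψu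
  · rw [LinearMap.mem_ker.1 (hψ hw), mul_zero]

/-- A transvection stabilising one subspace and moving another. -/
theorem exists_trv_fix_move {W U : Submodule F (ι → F)} (hUW : ¬ U ≤ W) (hW : W ≠ ⊥) (hU : U ≠ ⊤)
    (hcase : W ≤ U ∨ W ⊓ U = ⊥) :
    ∃ g ∈ Cfsg.Geo.subspaceStabilizer W ⊓ Cfsg.Geo.specialLinear ι F,
      g ∉ Cfsg.Geo.subspaceStabilizer U := by
  obtain ⟨u, hu, huW⟩ := SetLike.not_le_iff_exists.1 hUW
  -- a centre `x` outside `U` and a functional with value one at `u`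
  obtain ⟨x, φ, hx, hφu, hφx, hfix⟩ : ∃ x φ, x ∉ U ∧ φ ⬝ᵥ u = 1 ∧ φ ⬝ᵥ x = 0 ∧
      (x ∈ W ∨ ∀ w ∈ W, φ ⬝ᵥ w = 0) := by
    rcases hcase with hle | hd
    · obtain ⟨x, hx⟩ : ∃ x, x ∉ U := by
        by_contra hc
        push Not at hc
        exact hU (eq_top_iff.2 fun v _ => hc v)
      have hn : u ∉ W ⊔ Submodule.span F {x} := by
        intro hn
        obtain ⟨w, hw, y, hy, e⟩ := Submodule.mem_sup.1 hn
        obtain ⟨c, rfl⟩ := Submodule.mem_span_singleton.1 hy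
        rcases eq_or_ne c 0 with rfl | hc
        · rw [zero_smul, add_zero] at e
          exact huW (e ▸ hw)
        refine hx ?_
        rw [show x = c⁻¹ • (u - w) by rw [← e, add_sub_cancel_left, inv_smul_smul₀ hc]]
        exact U.smul_mem _ (U.sub_mem hu (hle hw))
      obtain ⟨φ, hφu, hφ⟩ := exists_functional hn
      exact ⟨x, φ, hx, hφu, hφ x (Submodule.mem_sup_right (Submodule.mem_span_singleton_self x)),
        Or.inr fun w hw => hφ w (Submodule.mem_sup_left hw)⟩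
    · obtain ⟨x, hxW, hx0⟩ := Submodule.exists_mem_ne_zero_of_ne_bot hW
      have hx : x ∉ U := fun h => hx0 (by
        rw [← Submodule.mem_bot F, ← hd]; exact ⟨hxW, h⟩)
      obtain ⟨φ, hφu, hφ⟩ := exists_functional (S := Submodule.span F {x}) (u := u) (fun h => by
        obtain ⟨c, rfl⟩ := Submodule.mem_span_singleton.1 h
        exact huW (W.smul_mem _ hxW))
      exact ⟨x, φ, hx, hφu, hφ x (Submodule.mem_span_singleton_self x), Or.inl hxW⟩
  refine ⟨trv x φ hφx, ⟨trv_mem_stab hφx hfix, trv_mem_specialLinear _ _ _⟩, fun h => hx ?_⟩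
  have h1 : (trv x φ hφx : Matrix ι ι F) *ᵥ u ∈ U := (h u).1 hu
  rw [trv_mulVec, hφu, one_smul] at h1
  simpa using U.sub_mem h1 hu

theorem exists_trv_move {W : Submodule F (ι → F)} (hW0 : W ≠ ⊥) (hW1 : W ≠ ⊤) :
    ∃ g ∈ Cfsg.Geo.specialLinear ι F, g ∉ Cfsg.Geo.subspaceStabilizer W := by
  obtain ⟨x, hx⟩ : ∃ x, x ∉ W := by
    by_contra hc
    push Not at hc
    exact hW1 (eq_top_iff.2 fun v _ => hc v)
  obtain ⟨u, hu, hu0⟩ := Submodule.exists_mem_ne_zero_of_ne_bot hW0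
  obtain ⟨φ, hφu, hφ⟩ := exists_functional (S := Submodule.span F {x}) (u := u) (fun h => by
    obtain ⟨c, rfl⟩ := Submodule.mem_span_singleton.1 h
    rcases eq_or_ne c 0 with rfl | hc
    · exact hu0 (zero_smul F x)
    · exact hx (by simpa [smul_smul, inv_mul_cancel₀ hc] using W.smul_mem c⁻¹ hu))
  refine ⟨trv x φ (hφ x (Submodule.mem_span_singleton_self x)), trv_mem_specialLinear _ _ _,
    fun h => hx ?_⟩
  have h1 : (trv x φ (hφ x (Submodule.mem_span_singleton_self x)) : Matrix ι ι F) *ᵥ u ∈ W :=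
    (h u).1 hu
  rw [trv_mulVec, hφu, one_smul] at h1
  simpa using W.sub_mem h1 hu

/-- A subspace stabiliser is maximal in the special linear group. -/
theorem subspaceSL_maximal [Finite F] {W : Submodule F (ι → F)} (hW0 : W ≠ ⊥) (hW1 : W ≠ ⊤) :
    Cfsg.Geo.IsMaximalIn (Cfsg.Geo.specialLinear ι F)
      (Cfsg.Geo.subspaceStabilizer W ⊓ Cfsg.Geo.specialLinear ι F) := by
  obtain ⟨g₀, hg₀, hg₀'⟩ := exists_trv_move hW0 hW1
  refine ⟨lt_of_le_of_ne inf_le_right fun e => hg₀' ((e ▸ hg₀ : _).1), fun K hHK hK => ?_⟩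
  rcases hHK.eq_or_lt with e | hlt
  · exact Or.inl e.symm
  refine Or.inr (le_antisymm hK ?_)
  obtain ⟨g, hgK, hg⟩ := SetLike.exists_of_lt hlt
  have hin : ∀ v ∈ W, FullCentre K v := fun v hv φ h =>
    hHK ⟨trv_mem_stab h (Or.inl hv), trv_mem_specialLinear _ _ _⟩
  obtain ⟨w₀, hw₀, hgw₀⟩ : ∃ w ∈ W, (g : Matrix ι ι F) *ᵥ w ∉ W := by
    by_contra hc
    push Not at hc
    exact hg ⟨mem_stab_of_le hc, hK hgK⟩
  have hx₀ := (hin w₀ hw₀).map hgK
  set x₀ := (g : Matrix ι ι F) *ᵥ w₀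
  refine specialLinear_le_of_elem fun i j hij c h => ?_
  suffices hall : ∀ v, FullCentre K v from hall _ _ h
  intro v
  by_cases hv : v ∈ W
  · exact hin v hv
  -- move one outside centre to another
  have hstep : ∀ y y' : ι → F, y' ∉ W ⊔ Submodule.span F {y} → y ∉ W → FullCentre K y →
      FullCentre K y' := by
    intro y y' hy' hy hC
    have hn : y ∉ W ⊔ Submodule.span F {y' - y} := by
      intro hn
      obtain ⟨w, hw, z, hz, e⟩ := Submodule.mem_sup.1 hn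
      obtain ⟨d, rfl⟩ := Submodule.mem_span_singleton.1 hz
      rcases eq_or_ne d 0 with rfl | hd
      · rw [zero_smul, add_zero] at e
        exact hy (e ▸ hw)
      refine hy' (Submodule.mem_sup.2 ⟨-(d⁻¹ • w), W.neg_mem (W.smul_mem _ hw), (1 + d⁻¹) • y,
        Submodule.smul_mem _ _ (Submodule.mem_span_singleton_self y), ?_⟩)
      have e2 : d⁻¹ • (w + d • (y' - y)) = d⁻¹ • y := by rw [e]
      rw [smul_add, inv_smul_smul₀ hd] at e2
      linear_combination (norm := module) -e2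
    obtain ⟨φ, hφy, hφ⟩ := exists_functional hn
    have hφd : φ ⬝ᵥ (y' - y) = 0 :=
      hφ _ (Submodule.mem_sup_right (Submodule.mem_span_singleton_self _))
    have h1 := hC.map (hHK ⟨trv_mem_stab hφd (Or.inr fun w hw => hφ w (Submodule.mem_sup_left hw)),
      trv_mem_specialLinear _ _ _⟩)
    rwa [trv_mulVec, hφy, one_smul, add_sub_cancel] at h1
  by_cases hsp : v ∈ W ⊔ Submodule.span F {x₀}
  · obtain ⟨w, hw, z, hz, e⟩ := Submodule.mem_sup.1 hsp
    obtain ⟨d, rfl⟩ := Submodule.mem_span_singleton.1 hz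
    have hd : d ≠ 0 := fun h => hv (by rw [← e, h, zero_smul, add_zero]; exact hw)
    have hy : d • x₀ ∉ W := fun h => hgw₀ (by
      simpa [smul_smul, inv_mul_cancel₀ hd] using W.smul_mem d⁻¹ h)
    obtain ⟨φ, hφ₁, hφ⟩ := exists_functional hy
    have h1 := (trv_mem_smul_left hx₀ d).map (hHK ⟨trv_mem_stab (hφ w hw) (Or.inl hw),
      trv_mem_specialLinear _ _ _⟩)
    rwa [trv_mulVec, hφ₁, one_smul, add_comm, e] at h1
  · exact hstep x₀ v hsp hgw₀ hx₀

/-- Joint stabilisers that are not maximal. -/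
theorem pair_not_maximal {W U : Submodule F (ι → F)} (hUW : ¬ U ≤ W) (hW : W ≠ ⊥) (hW' : W ≠ ⊤)
    (hU : U ≠ ⊤) (hcase : W ≤ U ∨ W ⊓ U = ⊥) :
    ∃ K : Subgroup (GL ι F),
      Cfsg.Geo.subspaceStabilizer W ⊓ Cfsg.Geo.subspaceStabilizer U ⊓ Cfsg.Geo.specialLinear ι F < K ∧
        K < Cfsg.Geo.specialLinear ι F := by
  refine ⟨Cfsg.Geo.subspaceStabilizer W ⊓ Cfsg.Geo.specialLinear ι F,
    lt_of_le_of_ne (fun g hg => ⟨hg.1.1, hg.2⟩) fun e => ?_, lt_of_le_of_ne inf_le_right fun e => ?_⟩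
  · obtain ⟨g, hg, hgU⟩ := exists_trv_fix_move hUW hW hU hcase
    rw [← e] at hg
    exact hgU hg.1.2
  · obtain ⟨g, hg, hgW⟩ := exists_trv_move hW hW'
    rw [← e] at hg
    exact hgW hg.1

end Cfsg.Agent.TransvMax
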