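import Cfsg.Agent.Lib.TransvMax.Basic

/-!
The similitude group of a symplectic form is maximal in the special linear group.
-/

set_option autoImplicit false

namespace Cfsg.Agent.TransvMax

open scoped Matrix MatrixGroups
open Cfsg.Agent

variable {ι : Type} [Fintype ι] [DecidableEq ι] {F : Type*} [Field F]
  {f : (ι → F) → (ι → F) → F}

/-- The bilinear form of a symplectic form given as a function. -/
noncomputable def toBil (hf : Cfsg.Geo.IsSymplecticForm f) : LinearMap.BilinForm F (ι → F) :=
  LinearMap.mk₂ F f hf.bilinear.add_left hf.bilinear.smul_left hf.bilinear.add_right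
    hf.bilinear.smul_right

theorem toBil_apply (hf : Cfsg.Geo.IsSymplecticForm f) (u v : ι → F) : toBil hf u v = f u v := rfl

theorem toBil_alt (hf : Cfsg.Geo.IsSymplecticForm f) : LinearMap.IsAlt (toBil hf) :=
  hf.alternating

theorem toBil_nondeg (hf : Cfsg.Geo.IsSymplecticForm f) : LinearMap.Nondegenerate (toBil hf) := by
  constructor
  · intro v hv
    by_contra h
    obtain ⟨x, hx⟩ := (hf.nondegenerate v h).2
    exact hx (hv x)
  · intro v hv
    by_contra h
    obtain ⟨x, hx⟩ := (hf.nondegenerate v h).1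
    exact hx (hv x)

theorem eq_of_toBil_right (hf : Cfsg.Geo.IsSymplecticForm f) {v w : ι → F}
    (h : ∀ x, f x v = f x w) : v = w := by
  by_contra hne
  obtain ⟨x, hx⟩ := (hf.nondegenerate (v - w) (sub_ne_zero.mpr hne)).1
  refine hx ?_
  rw [← toBil_apply hf, map_sub, toBil_apply, toBil_apply, h x, sub_self]

/-- The row vector representing `x ↦ f x v`. -/
noncomputable def formRow (hf : Cfsg.Geo.IsSymplecticForm f) (v : ι → F) : ι → F :=
  fun j => toBil hf (Pi.single j 1) v

theorem formRow_dot (hf : Cfsg.Geo.IsSymplecticForm f) (v x : ι → F) :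
    formRow hf v ⬝ᵥ x = f x v := by
  conv_rhs => rw [← toBil_apply hf, pi_eq_sum_univ' x]
  rw [map_sum, LinearMap.sum_apply]
  simp [dotProduct, formRow, mul_comm]

theorem exists_formRow (hf : Cfsg.Geo.IsSymplecticForm f) (φ : ι → F) :
    ∃ b, φ = formRow hf b := by
  let L : (ι → F) →ₗ[F] (ι → F) := LinearMap.pi fun j => toBil hf (Pi.single j 1)
  have hL : Function.Injective L := by
    intro v w h
    refine eq_of_toBil_right hf fun x => ?_
    rw [← formRow_dot hf, ← formRow_dot hf]
    exact congrArg (· ⬝ᵥ x) h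
  obtain ⟨b, hb⟩ := (LinearMap.injective_iff_surjective.mp hL) φ
  exact ⟨b, hb.symm⟩

theorem exists_values_of_indep (hf : Cfsg.Geo.IsSymplecticForm f) {a b : ι → F}
    (h : ∀ s t : F, s • a + t • b = 0 → s = 0 ∧ t = 0) (α β : F) :
    ∃ x, f x a = α ∧ f x b = β := by
  refine exists_two_values (f := (toBil hf).flip a) (g := (toBil hf).flip b) (fun s t he => ?_) α β
  refine h s t (eq_of_toBil_right hf fun x => ?_)
  have h1 := LinearMap.congr_fun he x
  simpa [← toBil_apply hf] using h1

theorem tau_glOf_eq_trv (hf : Cfsg.Geo.IsSymplecticForm f) (v : ι → F) (c : F)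
    (h : (c • formRow hf v) ⬝ᵥ v = 0) :
    glOf (FormsLib.tau (toBil_alt hf) v c) = trv v (c • formRow hf v) h := by
  refine gl_ext fun x => ?_
  rw [glOf_mulVec, trv_mulVec, FormsLib.tau_apply, smul_dotProduct, formRow_dot, toBil_apply,
    smul_eq_mul]

theorem formRow_smul_dot_self (hf : Cfsg.Geo.IsSymplecticForm f) (v : ι → F) (c : F) :
    (c • formRow hf v) ⬝ᵥ v = 0 := by
  rw [smul_dotProduct, formRow_dot, hf.alternating, smul_zero]

theorem tau_mem_sim (hf : Cfsg.Geo.IsSymplecticForm f) (v : ι → F) (c : F) :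
    glOf (FormsLib.tau (toBil_alt hf) v c) ∈
      Cfsg.Geo.similarityGroup f ⊓ Cfsg.Geo.specialLinear ι F := by
  refine ⟨⟨1, fun x y => ?_⟩, ?_⟩
  · rw [glOf_mulVec, glOf_mulVec, Units.val_one, one_mul]
    exact FormsLib.tau_mem (toBil_alt hf) v c x y
  · rw [tau_glOf_eq_trv hf v c (formRow_smul_dot_self hf v c)]
    exact trv_mem_specialLinear _ _ _

theorem exists_isometry_map_pair (hf : Cfsg.Geo.IsSymplecticForm f) {a b a' b' : ι → F}
    (h : ∀ s t : F, s • a + t • b = 0 → s = 0 ∧ t = 0)
    (h' : ∀ s t : F, s • a' + t • b' = 0 → s = 0 ∧ t = 0) (hab : f a b = f a' b') :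
    ∃ g ∈ FormsLib.tauGroup (toBil_alt hf), g a = a' ∧ g b = b' := by
  have hli : ∀ {a b : ι → F}, (∀ s t : F, s • a + t • b = 0 → s = 0 ∧ t = 0) →
      LinearIndependent F ![a, b] := fun {a b} h =>
    LinearIndependent.pair_iff.mpr h
  set X := Submodule.span F (Set.range ![a, b])
  let B := Module.Basis.span (hli h)
  let φ : X →ₗ[F] (ι → F) := B.constr F ![a', b']
  have hφB : ∀ i, φ (B i) = ![a', b'] i := fun i => B.constr_basis F _ i
  have hBv : ∀ i, ((B i : X) : ι → F) = ![a, b] i := fun i =>
    congrArg Subtype.val (Module.Basis.span_apply (hli h) i)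
  have hinj : Function.Injective φ := by
    rw [← LinearMap.ker_eq_bot, LinearMap.ker_eq_bot']
    intro x hx
    rw [← B.sum_repr x] at hx ⊢
    simp only [Fin.sum_univ_two, map_add, map_smul, hφB] at hx
    obtain ⟨h0, h1⟩ := h' _ _ hx
    exact B.ext_elem fun i => by fin_cases i <;> simp [h0, h1]
  have hpres : ∀ i j, toBil hf (![a', b'] i) (![a', b'] j) = toBil hf (![a, b] i) (![a, b] j) := by
    intro i j
    simp only [toBil_apply]
    fin_cases i <;> fin_cases j <;>
      simp [hf.alternating, hab, hf.skew b a, hf.skew b' a']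
  obtain ⟨g, hg, hgx⟩ := FormsLib.exists_extend_tauGroup (toBil_alt hf) (toBil_nondeg hf) X φ hinj
    (fun x y => by
      rw [← B.sum_repr x, ← B.sum_repr y]
      simp only [Fin.sum_univ_two, map_add, map_smul, Submodule.coe_add, Submodule.coe_smul, hBv,
        hφB, LinearMap.add_apply, LinearMap.smul_apply, hpres])
  refine ⟨g, hg, ?_, ?_⟩
  · have := hgx (B 0)
    rwa [hBv, hφB] at this
  · have := hgx (B 1)
    rwa [hBv, hφB] at this

theorem exists_conj_not_ray (hf : Cfsg.Geo.IsSymplecticForm f) (g : GL ι F)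
    (hg : g ∉ Cfsg.Geo.similarityGroup f) :
    ∃ v : ι → F, v ≠ 0 ∧ ¬ ∃ μ : F, ∀ x,
      f ((g : Matrix ι ι F) *ᵥ x) ((g : Matrix ι ι F) *ᵥ v) = μ * f x v := by
  by_contra hcon
  push Not at hcon
  obtain ⟨v₀, hv₀⟩ | hz := em (∃ v : ι → F, v ≠ 0)
  · obtain ⟨μ₀, hμ₀⟩ := hcon v₀ hv₀
    have hall : ∀ v x, f ((g : Matrix ι ι F) *ᵥ x) ((g : Matrix ι ι F) *ᵥ v) = μ₀ * f x v := by
      intro v x
      by_cases hdep : ∀ s t : F, s • v₀ + t • v = 0 → s = 0 ∧ t = 0
      · have hv : v ≠ 0 := fun e => one_ne_zero (hdep 0 1 (by simp [e])).2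
        have hvv : v₀ + v ≠ 0 := fun e => one_ne_zero (hdep 1 1 (by simpa using e)).1
        obtain ⟨μ, hμ⟩ := hcon v hv
        obtain ⟨ν, hν⟩ := hcon (v₀ + v) hvv
        have key : ∀ y, (ν - μ₀) * f y v₀ + (ν - μ) * f y v = 0 := by
          intro y
          have h3 := hν y
          rw [Matrix.mulVec_add, hf.bilinear.add_right, hf.bilinear.add_right, hμ₀, hμ] at h3
          linear_combination -h3
        have : (ν - μ₀) • v₀ + (ν - μ) • v = 0 := by
          refine eq_of_toBil_right hf fun y => ?_
          rw [hf.bilinear.add_right, hf.bilinear.smul_right, hf.bilinear.smul_right, key y,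
            ← toBil_apply hf, map_zero]
        obtain ⟨e1, e2⟩ := hdep _ _ this
        rw [hμ x, ← sub_eq_zero.mp e1, sub_eq_zero.mp e2]
      · push Not at hdep
        obtain ⟨s, t, hst, hne⟩ := hdep
        have ht : t ≠ 0 := by
          rintro rfl
          simp only [zero_smul, add_zero, smul_eq_zero, hv₀, or_false] at hst
          exact hne hst rfl
        have : v = (-(s / t)) • v₀ := by
          rw [← sub_eq_zero, ← smul_right_injective (ι → F) ht |>.eq_iff, smul_zero, smul_sub,
            smul_smul, mul_neg, mul_div_cancel₀ _ ht, neg_smul, sub_neg_eq_add, add_comm, hst]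
        rw [this, Matrix.mulVec_smul, hf.bilinear.smul_right, hf.bilinear.smul_right, hμ₀]
        ring
    have hμ : μ₀ ≠ 0 := by
      intro e
      obtain ⟨x, hx⟩ := (hf.nondegenerate ((g : Matrix ι ι F) *ᵥ v₀) (fun e' => hv₀ (by
        rw [← inv_mulVec_mulVec g v₀, e', Matrix.mulVec_zero]))).1
      refine hx ?_
      rw [← mulVec_inv_mulVec g x, hall, e, zero_mul]
    exact hg ⟨Units.mk0 μ₀ hμ, fun x v => hall v x⟩
  · refine hg ⟨1, fun u v => ?_⟩
    push Not at hz
    rw [hz u, hz v, Matrix.mulVec_zero, Units.val_one, one_mul]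

/-- The similitude group of a symplectic form is maximal in the special linear group. -/
theorem sympSim_maximal (hf : Cfsg.Geo.IsSymplecticForm f) (hn : 3 ≤ Fintype.card ι) :
    Cfsg.Geo.IsMaximalIn (Cfsg.Geo.specialLinear ι F)
      (Cfsg.Geo.similarityGroup f ⊓ Cfsg.Geo.specialLinear ι F) := by
  refine ⟨lt_of_le_of_ne inf_le_right fun e => ?_, fun K hHK hKS => ?_⟩
  · obtain ⟨a, ha⟩ : ∃ a : ι → F, a ≠ 0 := by
      obtain ⟨i⟩ : Nonempty ι := Fintype.card_pos_iff.mp (by omega)
      exact ⟨Pi.single i 1, by simp⟩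
    obtain ⟨b, hb, hab⟩ : ∃ b, b ∉ Submodule.span F {a} ∧ f a b = 0 := by
      by_contra hc
      push Not at hc
      have hle : LinearMap.ker (toBil hf a) ≤ Submodule.span F {a} := by
        intro b hb
        by_contra h'
        exact hc b h' hb
      have h1 := Submodule.finrank_mono hle
      have h2 : Module.finrank F (Submodule.span F ({a} : Set (ι → F))) = 1 :=
        finrank_span_singleton ha
      have h3 := LinearMap.finrank_range_add_finrank_ker (toBil hf a)
      have h4 := Submodule.finrank_le (LinearMap.range (toBil hf a))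
      rw [Module.finrank_self] at h4
      rw [Module.finrank_fintype_fun_eq_card] at h3
      omega
    have hind : ∀ s t : F, s • a + t • b = 0 → s = 0 ∧ t = 0 := by
      intro s t hst
      by_cases ht : t = 0
      · refine ⟨?_, ht⟩
        simpa [ht, ha] using hst
      · refine absurd ?_ hb
        rw [Submodule.mem_span_singleton]
        exact ⟨-(s / t), by
          rw [← smul_right_injective (ι → F) ht |>.eq_iff, smul_smul, mul_neg,
            mul_div_cancel₀ _ ht, neg_smul]
          exact neg_eq_of_add_eq_zero_right hst⟩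
    have hrow : formRow hf b ⬝ᵥ a = 0 := by rw [formRow_dot, hab]
    have hmem := trv_mem_specialLinear a (formRow hf b) hrow
    rw [← e] at hmem
    obtain ⟨c, hc⟩ := hmem.1
    obtain ⟨x, hxa, hxb⟩ := exists_values_of_indep hf hind 0 1
    have hindx : ∀ s t : F, s • a + t • x = 0 → s = 0 ∧ t = 0 := by
      intro s t hst
      have h1 := congrArg (fun z => f z b) hst
      simp only [hf.bilinear.add_left, hf.bilinear.smul_left, hab, hxb, mul_zero, zero_add,
        mul_one] at h1
      rw [← toBil_apply hf, map_zero, LinearMap.zero_apply] at h1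
      refine ⟨?_, h1⟩
      simpa [h1, ha] using hst
    obtain ⟨y, hya, hyx⟩ := exists_values_of_indep hf hindx 1 0
    have h1 := hc x y
    rw [trv_mulVec, trv_mulVec, formRow_dot, formRow_dot, hxb] at h1
    simp only [hf.bilinear.add_left, hf.bilinear.smul_left, hf.bilinear.add_right,
      hf.bilinear.smul_right, hxa, hf.skew a y, hya, hf.skew x y, hyx, hf.alternating, neg_zero,
      mul_zero, add_zero, zero_add, one_mul] at h1
    exact one_ne_zero (neg_eq_zero.mp h1)
  · rcases hHK.eq_or_lt with e | hlt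
    · exact Or.inl e.symm
    right
    obtain ⟨g, hgK, hgH⟩ := SetLike.exists_of_lt hlt
    have hgsim : g ∉ Cfsg.Geo.similarityGroup f := fun h => hgH ⟨h, hKS hgK⟩
    obtain ⟨v, hv, hv'⟩ := exists_conj_not_ray hf g hgsim
    have h0 : formRow hf v ⬝ᵥ v = 0 := by rw [formRow_dot, hf.alternating]
    have hTv : trv v (formRow hf v) h0 ∈ K := by
      have := hHK (tau_mem_sim hf v 1)
      rw [tau_glOf_eq_trv hf v 1 (formRow_smul_dot_self hf v 1)] at this
      convert this using 2
      rw [one_smul]
    set a := (g : Matrix ι ι F) *ᵥ v with ha_def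
    obtain ⟨b, hb⟩ := exists_formRow hf (Matrix.vecMul (formRow hf v) ((g⁻¹ : GL ι F) : Matrix ι ι F))
    have hab' : formRow hf b ⬝ᵥ a = 0 := by rw [← hb, vecMul_inv_dot, h0]
    have hab : f a b = 0 := by rw [← formRow_dot hf, hab']
    have hTab : trv a (formRow hf b) hab' ∈ K := by
      have h1 := K.mul_mem (K.mul_mem hgK hTv) (K.inv_mem hgK)
      rw [conj_trv g v _ h0 (by rw [vecMul_inv_dot, h0])] at h1
      convert h1 using 2
      exact hb.symm
    have hind : ∀ s t : F, s • a + t • b = 0 → s = 0 ∧ t = 0 := by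
      intro s t hst
      have ha0 : a ≠ 0 := fun e => hv (by rw [← inv_mulVec_mulVec g v, ← ha_def, e, Matrix.mulVec_zero])
      by_cases ht : t = 0
      · refine ⟨?_, ht⟩
        simpa [ht, ha0] using hst
      · exfalso
        by_cases hs : s = 0
        · have hb0 : b = 0 := by simpa [hs, ht] using hst
          obtain ⟨y, hy⟩ := (hf.nondegenerate v hv).1
          refine hy ?_
          have h2 : formRow hf b ⬝ᵥ ((g : Matrix ι ι F) *ᵥ y) = 0 := by
            rw [formRow_dot, hb0, ← toBil_apply hf, map_zero]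
          rwa [← hb, vecMul_inv_dot, formRow_dot] at h2
        · refine hv' ⟨-(t / s), fun x => ?_⟩
          have hb' : b = (-(s / t)) • a := by
            rw [← smul_right_injective (ι → F) ht |>.eq_iff, smul_smul, mul_neg,
              mul_div_cancel₀ _ ht, neg_smul]
            exact (neg_eq_of_add_eq_zero_right hst).symm
          have h2 : formRow hf b ⬝ᵥ ((g : Matrix ι ι F) *ᵥ x) = f x v := by
            rw [← hb, vecMul_inv_dot, formRow_dot]
          rw [formRow_dot, hb', hf.bilinear.smul_right] at h2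
          rw [← h2]
          field_simp
    refine le_antisymm hKS (specialLinear_le_of_trv fun a' φ' hφ' => ?_)
    obtain ⟨b', rfl⟩ := exists_formRow hf φ'
    by_cases hind' : ∀ s t : F, s • a' + t • b' = 0 → s = 0 ∧ t = 0
    · have hab'' : f a' b' = 0 := by rw [← formRow_dot hf, hφ']
      obtain ⟨k, hk, hka, hkb⟩ := exists_isometry_map_pair hf hind hind' (hab.trans hab''.symm)
      have hkiso := (FormsLib.tauGroup_le (toBil_alt hf)) hk
      have hkK : glOf k ∈ K := by
        clear hka hkb hkiso
        induction hk using Subgroup.closure_induction with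
        | mem x hx => obtain ⟨w, c, rfl⟩ := hx; exact hHK (tau_mem_sim hf w c)
        | one => rw [map_one]; exact K.one_mem
        | mul x y hx hy hx' hy' => rw [map_mul]; exact K.mul_mem hx' hy'
        | inv x hx hx' => rw [map_inv]; exact K.inv_mem hx'
      have h1 := K.mul_mem (K.mul_mem hkK hTab) (K.inv_mem hkK)
      rw [conj_trv (glOf k) a _ hab' (by rw [vecMul_inv_dot, hab'])] at h1
      convert h1 using 1
      refine trv_congr (by rw [glOf_mulVec, hka]) ?_
      refine dotProduct_eq _ _ fun x => ?_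
      have h2 : Matrix.vecMul (formRow hf b) (((glOf k)⁻¹ : GL ι F) : Matrix ι ι F) ⬝ᵥ x
          = f (k.symm x) b := by
        rw [← Matrix.dotProduct_mulVec, formRow_dot]
        congr 1
        conv_lhs => rw [← k.apply_symm_apply x, ← glOf_mulVec k, inv_mulVec_mulVec]
      rw [h2, formRow_dot, ← hkb, ← toBil_apply hf, ← toBil_apply hf,
        ← hkiso (k.symm x) b, k.apply_symm_apply]
    · push Not at hind'
      obtain ⟨s, t, hst, hne⟩ := hind'
      by_cases ha' : a' = 0
      · convert K.one_mem using 1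
        exact gl_ext fun x => by rw [trv_mulVec, ha']; simp
      have ht : t ≠ 0 := by
        rintro rfl
        simp only [zero_smul, add_zero, smul_eq_zero, ha', or_false] at hst
        exact hne hst rfl
      have hb' : b' = (-(s / t)) • a' := by
        rw [← smul_right_injective (ι → F) ht |>.eq_iff, smul_smul, mul_neg,
          mul_div_cancel₀ _ ht, neg_smul]
        exact (neg_eq_of_add_eq_zero_right hst).symm
      have h1 := hHK (tau_mem_sim hf a' (-(s / t)))
      rw [tau_glOf_eq_trv hf a' _ (formRow_smul_dot_self hf a' _)] at h1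
      convert h1 using 1
      refine trv_congr rfl (dotProduct_eq _ _ fun x => ?_)
      rw [formRow_dot, smul_dotProduct, formRow_dot, hb', hf.bilinear.smul_right, smul_eq_mul]

end Cfsg.Agent.TransvMax
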