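import Mathlib
import Cfsg.Prelude.Def_GeometricClasses

/-!
Coordinates of a decomposition and rank one elements.
-/

set_option autoImplicit false

namespace Cfsg.Agent.FrameLib

open Matrix

variable {F : Type*} [Field F] {ι : Type} [Fintype ι] [DecidableEq ι]

/-- An element `x ↦ x + φ x • v` of the general linear group. -/
theorem exists_rankOne (φ : (ι → F) →ₗ[F] F) (v : ι → F) (h : 1 + φ v ≠ 0) :
    ∃ g : GL ι F, (∀ x, (g : Matrix ι ι F) *ᵥ x = x + φ x • v) ∧
      (g : Matrix ι ι F).det = 1 + φ v := by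
  set w : ι → F := fun i => φ (Pi.single i 1)
  have hw : ∀ x, w ⬝ᵥ x = φ x := fun x => by
    conv_rhs => rw [pi_eq_sum_univ' x]
    rw [map_sum, dotProduct]
    exact Finset.sum_congr rfl fun i _ => by rw [map_smul, smul_eq_mul, mul_comm]
  set M : Matrix ι ι F := 1 + Matrix.replicateCol Unit v * Matrix.replicateRow Unit w
  have hdet : M.det = 1 + φ v := by
    show (1 + Matrix.replicateCol Unit v * Matrix.replicateRow Unit w).det = _
    rw [Matrix.det_one_add_replicateCol_mul_replicateRow, hw]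
  refine ⟨Matrix.GeneralLinearGroup.mkOfDetNeZero M (hdet ▸ h), fun x => ?_, hdet⟩
  show M *ᵥ x = _
  rw [Matrix.add_mulVec, Matrix.one_mulVec, ← Matrix.mulVec_mulVec]
  congr 1
  ext i
  have h1 : Matrix.replicateRow Unit w *ᵥ x = fun _ => φ x := funext fun _ => hw x
  rw [h1]
  simp [Matrix.mulVec, dotProduct, Matrix.replicateCol, mul_comm]

theorem mem_SL_iff {g : GL ι F} :
    g ∈ Cfsg.Geo.specialLinear ι F ↔ (g : Matrix ι ι F).det = 1 := by
  rw [Cfsg.Geo.specialLinear, MonoidHom.mem_ker, ← Units.val_eq_one, Matrix.GeneralLinearGroup.val_det_apply]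

/-- The group preserving a function. -/
def presGroup {X : Type*} (N : (ι → F) → X) : Subgroup (GL ι F) where
  carrier := {g | ∀ x, N ((g : Matrix ι ι F) *ᵥ x) = N x}
  one_mem' x := by simp
  mul_mem' {a b} ha hb x := by rw [Units.val_mul, ← Matrix.mulVec_mulVec, ha, hb]
  inv_mem' {a} ha x := by
    rw [← ha (((a⁻¹ : GL ι F) : Matrix ι ι F) *ᵥ x), Matrix.mulVec_mulVec, Units.mul_inv,
      Matrix.one_mulVec]

variable {t m : ℕ} {D : Fin t → Submodule F (ι → F)}

/-- Coordinates adapted to a decomposition, with a chosen basis of each member. -/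
theorem exists_coords_of_basis (hind : iSupIndep D) (hsup : iSup D = ⊤)
    (b : ∀ i, Module.Basis (Fin m) F (D i)) :
    ∃ c : (ι → F) ≃ₗ[F] (Fin t → Fin m → F), (∀ i x, x ∈ D i ↔ ∀ j, j ≠ i → c x j = 0) ∧
      ∀ i a, c (b i a : ι → F) = Pi.single i (Pi.single a 1) := by
  classical
  have hint : DirectSum.IsInternal D :=
    DirectSum.isInternal_submodule_of_iSupIndep_of_iSup_eq_top hind hsup
  set B := (hint.collectedBasis b).reindex (Equiv.sigmaEquivProd (Fin t) (Fin m)) with hB
  let c : (ι → F) ≃ₗ[F] (Fin t → Fin m → F) :=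
    B.equivFun.trans (LinearEquiv.curry F F (Fin t) (Fin m))
  have hBap : ∀ i a, B (i, a) = (b i a : ι → F) := fun i a => by
    rw [hB, Module.Basis.reindex_apply, DirectSum.IsInternal.collectedBasis_coe]; rfl
  have hc : ∀ i a, c (b i a : ι → F) = Pi.single i (Pi.single a 1) := by
    intro i a
    rw [← hBap]
    funext j l
    show B.equivFun (B (i, a)) (j, l) = _
    rw [Module.Basis.equivFun_self, Pi.single_apply]
    split_ifs with h1 h2 h2
    · subst h2; simp [(Prod.mk.injEq ..).mp h1 |>.2]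
    · exact absurd ((Prod.mk.injEq ..).mp h1).1.symm h2
    · subst h2
      rw [Pi.single_apply, if_neg]
      exact fun e => h1 (by rw [e])
    · rfl
  refine ⟨c, fun i x => ⟨fun hx j hj => ?_, fun h => ?_⟩, hc⟩
  · have hsum : x = ∑ a, (b i).repr ⟨x, hx⟩ a • (b i a : ι → F) := by
      have := congrArg Subtype.val ((b i).sum_repr ⟨x, hx⟩)
      simp only [Submodule.coe_sum, Submodule.coe_smul] at this; exact this.symm
    rw [hsum, map_sum, Finset.sum_apply]
    exact Finset.sum_eq_zero fun a _ => by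
      rw [map_smul, Pi.smul_apply, hc, Pi.single_eq_of_ne hj, smul_zero]
  · have hx : x = ∑ a, c x i a • (b i a : ι → F) := c.injective (by
      rw [map_sum]
      funext j
      rw [Finset.sum_apply]
      simp only [map_smul, Pi.smul_apply, hc]
      by_cases hj : j = i
      · subst hj
        funext l
        simp [Pi.single_apply]
      · simp [Pi.single_eq_of_ne hj, h j hj])
    rw [hx]
    exact Submodule.sum_mem _ fun a _ => Submodule.smul_mem _ _ (b i a).2

theorem exists_coords (hD : Cfsg.Geo.IsMDecomposition m D) :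
    ∃ c : (ι → F) ≃ₗ[F] (Fin t → Fin m → F), ∀ i x, x ∈ D i ↔ ∀ j, j ≠ i → c x j = 0 := by
  obtain ⟨c, hc, -⟩ := exists_coords_of_basis hD.indep hD.iSup_eq_top
    (fun i => Module.finBasisOfFinrankEq F (D i) (hD.finrank_eq i))
  exact ⟨c, hc⟩

/-- A member of the stabiliser permutes the supports. -/
theorem stab_comp {c : (ι → F) ≃ₗ[F] (Fin t → Fin m → F)}
    (hc : ∀ i x, x ∈ D i ↔ ∀ j, j ≠ i → c x j = 0) {g : GL ι F}
    (hg : g ∈ Cfsg.Geo.decompositionStabilizer D) :
    ∃ σ : Equiv.Perm (Fin t), ∀ x i, c ((g : Matrix ι ι F) *ᵥ x) (σ i) = 0 ↔ c x i = 0 := by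
  classical
  obtain ⟨σ, hσ⟩ := hg
  refine ⟨σ, fun x i => ?_⟩
  set y : Fin t → ι → F := fun j => c.symm (Pi.single j (c x j))
  have hy : ∀ j, y j ∈ D j := fun j => by
    rw [hc]; intro l hl; simp [y, Pi.single_eq_of_ne hl]
  have hx : x = ∑ j, y j := c.injective (by
    rw [map_sum]; simp [y, Finset.univ_sum_single])
  have hgy : ∀ j, (g : Matrix ι ι F) *ᵥ y j ∈ D (σ j) := fun j => by
    rw [← hσ j]; exact ⟨y j, hy j, Matrix.toLin'_apply ..⟩
  have hmain : c ((g : Matrix ι ι F) *ᵥ x) (σ i) = c ((g : Matrix ι ι F) *ᵥ y i) (σ i) := by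
    conv_lhs => rw [hx, Matrix.mulVec_sum, map_sum, Finset.sum_apply]
    exact Finset.sum_eq_single i (fun j _ hj => (hc _ _).mp (hgy j) (σ i) (fun e => hj (σ.injective e).symm))
      (fun h => absurd (Finset.mem_univ i) h)
  rw [hmain]
  constructor
  · intro h
    have h0 : c ((g : Matrix ι ι F) *ᵥ y i) = 0 := by
      funext j
      by_cases hj : j = σ i
      · rw [hj]; exact h
      · exact (hc _ _).mp (hgy i) j hj
    rw [← map_zero c] at h0
    have h1 := c.injective h0
    have h2 : y i = 0 := by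
      have := congrArg (fun z => ((g⁻¹ : GL ι F) : Matrix ι ι F) *ᵥ z) h1
      simpa [Matrix.mulVec_mulVec] using this
    have h3 := congrArg (fun z => c z i) h2
    simpa [y] using h3
  · intro h
    have : y i = 0 := by simp [y, h]
    simp [this]

end Cfsg.Agent.FrameLib
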