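import Cfsg.Agent.Lib.TransvMax.MonomialOrbit

/-! A proper overgroup of the monomial group of determinant one contains all elementary
transvections. -/

set_option autoImplicit false
set_option linter.unusedSectionVars false
set_option linter.style.haveILetI false

namespace Cfsg.Agent.MonomialMax

variable {F : Type*} [Field F] {κ : Type*} [Fintype κ] [DecidableEq κ]
  {K : Subgroup ((κ → F) ≃ₗ[F] (κ → F))}

/-- The elements of `K` with this line invariant, on the quotient by it. -/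
def quot (K : Subgroup ((κ → F) ≃ₗ[F] (κ → F))) (i : κ) :
    Subgroup (({l // l ≠ i} → F) ≃ₗ[F] ({l // l ≠ i} → F)) where
  carrier := {h | ∃ g ∈ K, (∀ k, k ≠ i → g (Pi.single i 1) k = 0) ∧
    ∀ (v : κ → F) (k : {l // l ≠ i}), g v k = h (fun l => v l) k}
  one_mem' := ⟨1, K.one_mem, fun k hk => by simp [hk], fun v k => rfl⟩
  mul_mem' := by
    rintro h h' ⟨g, hg, hi, hv⟩ ⟨g', hg', hi', hv'⟩
    refine ⟨g * g', K.mul_mem hg hg', fun k hk => ?_, fun v k => ?_⟩
    · show g (g' (Pi.single i 1)) k = 0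
      rw [eq_single_of_line hi', single_eq_smul, map_smul, Pi.smul_apply, hi k hk, smul_zero]
    · show g (g' v) k = _
      rw [hv (g' v) k, show (fun l : {l // l ≠ i} => g' v l) = h' (fun l => v l) from funext (hv' v)]
      rfl
  inv_mem' := by
    rintro h ⟨g, hg, hi, hv⟩
    have ha : g (Pi.single i 1) i ≠ 0 := fun e => by
      have : g (Pi.single i 1) = 0 := by rw [eq_single_of_line hi, e, Pi.single_zero]
      rw [map_eq_zero_iff g g.injective, Pi.single_eq_zero_iff] at this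
      exact one_ne_zero this
    refine ⟨g⁻¹, K.inv_mem hg, fun k hk => ?_, fun v k => ?_⟩
    · have : g.symm (Pi.single i 1) = (g (Pi.single i 1) i)⁻¹ • Pi.single i 1 := by
        rw [LinearEquiv.symm_apply_eq, map_smul]
        conv_rhs => rw [eq_single_of_line hi]
        rw [← Pi.single_smul, smul_eq_mul]
        simp [ha]
      show g.symm _ k = 0
      rw [this, Pi.smul_apply, Pi.single_eq_of_ne hk, smul_zero]
    · show g.symm v k = h.symm (fun l => v l) k
      have : h (fun l : {l // l ≠ i} => g.symm v l) = fun l : {l // l ≠ i} => v l := funext fun l => by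
        rw [← hv (g.symm v) l, LinearEquiv.apply_symm_apply]
      rw [← this, LinearEquiv.symm_apply_apply]

theorem det_rk1 (u : κ → F) (φ : (κ → F) →ₗ[F] F) (h : 1 + φ u ≠ 0) :
    (LinearEquiv.det (rk1 u φ h) : F) = 1 + φ u := by
  rw [LinearEquiv.coe_det, rk1_det]

/-- An element fixing all lines modulo one coordinate is a transvection times the rest. -/
theorem det_shift {g T : (κ → F) ≃ₗ[F] (κ → F)} {i : κ} {χ : (κ → F) →ₗ[F] F}
    (hTi : T (Pi.single i 1) = Pi.single i 1) (hg : ∀ v, g v = T v + χ v • Pi.single i 1)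
    (hgd : LinearEquiv.det g = 1) (hTd : LinearEquiv.det T = 1) : χ (Pi.single i 1) = 0 := by
  have hne : 1 + χ (Pi.single i 1) ≠ 0 := fun e => by
    have h0 : g (Pi.single i 1) = 0 := by
      rw [hg, hTi]
      conv_lhs => arg 1; rw [← one_smul F (Pi.single i (1 : F) : κ → F)]
      rw [← add_smul, e, zero_smul]
    rw [map_eq_zero_iff g g.injective, Pi.single_eq_zero_iff] at h0
    exact one_ne_zero h0
  have hcomp : χ.comp (T.symm : (κ → F) →ₗ[F] (κ → F)) (Pi.single i 1) = χ (Pi.single i 1) := by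
    show χ (T.symm _) = _
    rw [show T.symm (Pi.single i (1 : F)) = Pi.single i 1 by rw [LinearEquiv.symm_apply_eq, hTi]]
  have e : g = rk1 (Pi.single i 1) (χ.comp (T.symm : (κ → F) →ₗ[F] (κ → F))) (hcomp.symm ▸ hne) * T :=
    LinearEquiv.ext fun v => by
      rw [LinearEquiv.mul_apply, rk1_apply, hg]
      simp
  rw [e, map_mul, hTd, mul_one] at hgd
  have := congrArg Units.val hgd
  rw [det_rk1, hcomp, Units.val_one, add_eq_left] at this
  exact this

variable [Fintype F]

theorem dil_pair_mem (hH : ∀ g, Mono g → LinearEquiv.det g = 1 → g ∈ K) (j m : κ) (c : Fˣ) :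
    dil j c * dil m c⁻¹ ∈ K :=
  hH _ ((monE_mono _ _).mul (monE_mono _ _)) (by
    rw [map_mul]
    refine Units.ext ?_
    rw [Units.val_mul, LinearEquiv.coe_det, LinearEquiv.coe_det, dil_det, dil_det, ← Units.val_mul,
      mul_inv_cancel])

theorem dil_pair_symm_pr (j m : κ) (c : Fˣ) (hjm : j ≠ m) (φ : (κ → F) →ₗ[F] F) (l : κ) :
    φ ((dil j c * dil m c⁻¹).symm (Pi.single l 1)) =
      (if l = j then (↑c⁻¹ : F) else if l = m then (c : F) else 1) * φ (Pi.single l 1) := by
  have h : (dil j c * dil m c⁻¹).symm (Pi.single l 1) =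
      Pi.single l (if l = j then (↑c⁻¹ : F) else if l = m then (c : F) else 1) := by
    rw [LinearEquiv.symm_apply_eq]
    show _ = dil j c (dil m c⁻¹ _)
    funext k
    by_cases hk : k = l
    · subst hk
      split_ifs with h1 h2
      · subst h1; simp [dil, monE_single, hjm]
      · subst h2; simp [dil, monE_single, hjm.symm]
      · simp [dil, monE_single, h1, h2]
    · simp [dil, monE_single, hk]
  rw [h, single_eq_smul, map_smul, smul_eq_mul]

theorem elementary_of_centre (h5 : 5 ≤ Fintype.card F) (h4 : 4 ≤ Fintype.card κ)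
    (hH : ∀ g, Mono g → LinearEquiv.det g = 1 → g ∈ K) {i : κ} {φ : (κ → F) →ₗ[F] F} (hφ : φ ≠ 0)
    (h : Tv K (Pi.single i 1) φ) : Elem K := by
  classical
  obtain ⟨c, hc, hc1⟩ := exists_ne_two h5
  obtain ⟨j, hj⟩ : ∃ j, φ (Pi.single j 1) ≠ 0 := by
    by_contra hcon
    push Not at hcon
    exact hφ (LinearMap.pi_ext fun l a => by
      rw [single_eq_smul, map_smul, hcon, smul_zero, LinearMap.zero_apply])
  have hij : i ≠ j := fun e => hj (e ▸ h.1)
  obtain ⟨m, hm, m', hm', hmm⟩ := Finset.one_lt_card.mp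
    (show 1 < ((Finset.univ.erase i).erase j).card by
      rw [Finset.card_erase_of_mem (Finset.mem_erase.mpr ⟨hij.symm, Finset.mem_univ _⟩),
        Finset.card_erase_of_mem (Finset.mem_univ _), Finset.card_univ]; omega)
  simp only [Finset.mem_erase, Finset.mem_univ, and_true] at hm hm'
  have step : ∀ {ψ : (κ → F) →ₗ[F] F}, Tv K (Pi.single i 1) ψ → ∀ m, m ≠ i → m ≠ j → ∃ ψ',
      Tv K (Pi.single i 1) ψ' ∧ ∀ l, ψ' (Pi.single l 1) =
        ((if l = j then c⁻¹ else if l = m then c else 1) - 1) * ψ (Pi.single l 1) := by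
    intro ψ hψ m hmi hmj
    have h2 := hψ.conj (dil_pair_mem hH j m (Units.mk0 c hc))
    have hfix : (dil j (Units.mk0 c hc) * dil m (Units.mk0 c hc)⁻¹) (Pi.single i (1 : F)) = Pi.single i 1 := by
      show dil j _ (dil m _ _) = _
      simp [dil, monE_single, hij, hmi.symm]
    rw [hfix] at h2
    refine ⟨_, hψ.sub h2, fun l => ?_⟩
    simp only [LinearMap.sub_apply, LinearMap.comp_apply, LinearEquiv.coe_coe]
    rw [dil_pair_symm_pr j m _ hmj.symm]
    simp only [Units.val_inv_eq_inv_val, Units.val_mk0]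
    ring
  obtain ⟨φ₁, h₁, e₁⟩ := step h m hm.2 hm.1
  obtain ⟨φ₂, h₂, e₂⟩ := step h₁ m' hm'.2 hm'.1
  refine ⟨i, j, hij, (c⁻¹ - 1) * ((c⁻¹ - 1) * φ (Pi.single j 1)), ?_, ?_⟩
  · have : c⁻¹ - 1 ≠ 0 := sub_ne_zero.mpr fun e => hc1 (inv_eq_one.mp e)
    exact mul_ne_zero this (mul_ne_zero this hj)
  convert h₂ using 1
  refine LinearMap.pi_ext fun l a => ?_
  rw [single_eq_smul l a, map_smul, map_smul, e₂, e₁]
  by_cases hl : l = j
  · subst hl; simp
  · by_cases hl' : l = m'
    · subst hl'; simp [hl, Ne.symm hl, Ne.symm hmm]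
    · simp [hl, Ne.symm hl, hl']

theorem spread_elementary (h4 : 4 ≤ Fintype.card κ) (hH : ∀ g, Mono g → LinearEquiv.det g = 1 → g ∈ K)
    (h : Elem K) {a b : κ} (hab : a ≠ b) (t : F) :
    ∃ y ∈ K, ∀ x, y x = x + (t * x b) • Pi.single a 1 := by
  classical
  by_cases ht : t = 0
  · exact ⟨1, K.one_mem, fun x => by simp [ht]⟩
  obtain ⟨a₀, b₀, h₀, s, hs, hT⟩ := h
  obtain ⟨z, hz, hz'⟩ := Finset.exists_mem_notMem_of_card_lt_card (s := ({a₀, b₀} : Finset κ))
    (t := Finset.univ) (by rw [Finset.card_univ]; have := Finset.card_le_two (a := a₀) (b := b₀); omega)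
  simp only [Finset.mem_insert, Finset.mem_singleton, not_or] at hz'
  obtain ⟨σ, hσa, hσb⟩ : ∃ σ : Equiv.Perm κ, σ a₀ = a ∧ σ b₀ = b := by
    refine ⟨Equiv.swap (Equiv.swap a₀ a b₀) b * Equiv.swap a₀ a, ?_, ?_⟩
    · show Equiv.swap _ b (Equiv.swap a₀ a a₀) = a
      rw [Equiv.swap_apply_left, Equiv.swap_apply_of_ne_of_ne ?_ hab]
      intro e
      exact h₀ ((Equiv.swap a₀ a).injective (by rw [Equiv.swap_apply_left]; exact e))
    · show Equiv.swap _ b (Equiv.swap a₀ a b₀) = b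
      rw [Equiv.swap_apply_left]
  obtain ⟨c, hcdef⟩ : ∃ c : κ → Fˣ, c = Function.update (1 : κ → Fˣ) a₀ (Units.mk0 (t / s) (div_ne_zero ht hs)) := ⟨_, rfl⟩
  obtain ⟨δ, hδ⟩ : ∃ δ : Fˣ, δ = (LinearEquiv.det (monE σ c))⁻¹ := ⟨_, rfl⟩
  have hM : monE σ c * dil z δ ∈ K := hH _ ((monE_mono _ _).mul (monE_mono _ _)) (by
    rw [map_mul, show LinearEquiv.det (dil z δ) = δ from Units.ext (by rw [LinearEquiv.coe_det, dil_det]),
      hδ, mul_inv_cancel])
  obtain ⟨h1, y, hy, hyx⟩ := hT.conj hM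
  refine ⟨y, hy, fun x => ?_⟩
  rw [hyx]
  congr 1
  obtain ⟨w, rfl⟩ := (monE σ c * dil z δ).surjective x
  have hb' : (monE σ c * dil z δ) w b = w b₀ := by
    show monE σ c (dil z δ w) b = _
    rw [monE_apply, show σ.symm b = b₀ by rw [Equiv.symm_apply_eq, hσb], hcdef,
      Function.update_of_ne (Ne.symm h₀), dil_apply]
    simp [hz'.2, Ne.symm hz'.2]
  have ha' : (monE σ c * dil z δ) (Pi.single a₀ 1) = (t / s) • Pi.single a 1 := by
    show monE σ c (dil z δ _) = _
    rw [dil_apply, Pi.single_eq_of_ne hz'.1, mul_zero, zero_smul, add_zero, monE_single, hσa, hcdef,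
      Function.update_self, mul_one, ← Pi.single_smul, smul_eq_mul, mul_one]
    rfl
  rw [hb', ha']
  simp only [LinearMap.comp_apply, LinearEquiv.coe_coe, LinearEquiv.symm_apply_apply,
    LinearMap.smul_apply, LinearMap.proj_apply, smul_eq_mul, smul_smul]
  congr 1
  field_simp

/-- A proper overgroup of the monomial group of determinant one contains the transvections. -/
theorem contains_elementary (h5 : 5 ≤ Fintype.card F) (h13 : 6 ≤ Fintype.card κ)
    (hdet : ∀ g ∈ K, LinearEquiv.det g = 1) (hH : ∀ g, Mono g → LinearEquiv.det g = 1 → g ∈ K)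
    {g : (κ → F) ≃ₗ[F] (κ → F)} (hg : g ∈ K) (hgn : ¬ Mono g) {a b : κ} (hab : a ≠ b) (t : F) :
    ∃ y ∈ K, ∀ x, y x = x + (t * x b) • Pi.single a 1 := by
  classical
  refine spread_elementary (by omega) hH ?_ hab t
  obtain ⟨x, hx, i, hxi, hxn⟩ : ∃ x ∈ K, ∃ i, (∀ k, k ≠ i → x (Pi.single i 1) k = 0) ∧ ¬ Mono x := by
    by_contra hcon
    push Not at hcon
    exact hgn (all_mono h5 h13 hdet hH hcon g hg)
  set κ' := {l // l ≠ i}
  have hxsymm : ∀ k, k ≠ i → x.symm (Pi.single i 1) k = 0 := fun k hk => by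
    have ha : x (Pi.single i 1) i ≠ 0 := fun e => by
      have : x (Pi.single i 1) = 0 := by rw [eq_single_of_line hxi, e, Pi.single_zero]
      rw [map_eq_zero_iff x x.injective, Pi.single_eq_zero_iff] at this
      exact one_ne_zero this
    have : x.symm (Pi.single i 1) = (x (Pi.single i 1) i)⁻¹ • Pi.single i 1 := by
      rw [LinearEquiv.symm_apply_eq, map_smul]
      conv_rhs => rw [eq_single_of_line hxi]
      rw [← Pi.single_smul, smul_eq_mul]
      simp [ha]
    rw [this, Pi.smul_apply, Pi.single_eq_of_ne hk, smul_zero]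
  let ext0 : (κ' → F) →ₗ[F] (κ → F) :=
    { toFun := fun z l => if h : l ≠ i then z ⟨l, h⟩ else 0
      map_add' := fun z z' => funext fun l => by simp only [Pi.add_apply]; split_ifs <;> simp
      map_smul' := fun s z => funext fun l => by simp only [Pi.smul_apply, RingHom.id_apply]; split_ifs <;> simp }
  have hext : ∀ (v : κ → F), v = ext0 (fun l => v l) + v i • Pi.single i 1 := fun v => funext fun l => by
    by_cases h : l = i
    · subst h; simp [ext0]
    · simp [ext0, h]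
  have hres : ∀ {f : (κ → F) ≃ₗ[F] (κ → F)}, (∀ k, k ≠ i → f (Pi.single i 1) k = 0) →
      ∀ (v : κ → F) (k : κ'), f v k = f (ext0 (fun l => v l)) k := fun {f} hf v k => by
    conv_lhs => rw [hext v]
    rw [map_add, map_smul, Pi.add_apply, Pi.smul_apply, hf k k.2, smul_zero, add_zero]
  let h : (κ' → F) ≃ₗ[F] (κ' → F) :=
    { toFun := fun z k => x (ext0 z) k
      invFun := fun z k => x.symm (ext0 z) k
      map_add' := fun z z' => funext fun k => by simp
      map_smul' := fun s z => funext fun k => by simp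
      left_inv := fun z => funext fun k => by
        show x.symm (ext0 fun k' => x (ext0 z) k') k = z k
        rw [← hres hxsymm (x (ext0 z)) k, LinearEquiv.symm_apply_apply]
        simp [ext0, k.2]
      right_inv := fun z => funext fun k => by
        show x (ext0 fun k' => x.symm (ext0 z) k') k = z k
        rw [← hres hxi (x.symm (ext0 z)) k, LinearEquiv.apply_symm_apply]
        simp [ext0, k.2] }
  have hhQ : h ∈ quot K i := ⟨x, hx, hxi, fun v k => hres hxi v k⟩
  -- lifting monomial maps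
  have hlift : ∀ (σ : Equiv.Perm κ') (c : κ' → Fˣ), ∃ M ∈ K, Mono M ∧
      (∀ k, k ≠ i → M (Pi.single i 1) k = 0) ∧ ∀ (v : κ → F) (k : κ'), M v k = monE σ c (fun l => v l) k := by
    intro σ c
    obtain ⟨σ', hσ'⟩ : ∃ σ', σ' = Equiv.Perm.ofSubtype σ := ⟨_, rfl⟩
    obtain ⟨c', hc'⟩ : ∃ c' : κ → Fˣ, c' = fun l => if h : l ≠ i then c ⟨l, h⟩ else 1 := ⟨_, rfl⟩
    have hσi : σ' i = i := by rw [hσ']; exact Equiv.Perm.ofSubtype_apply_of_not_mem σ (by simp)
    obtain ⟨δ, hδ⟩ : ∃ δ : Fˣ, δ = (LinearEquiv.det (monE σ' c'))⁻¹ := ⟨_, rfl⟩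
    refine ⟨monE σ' c' * dil i δ, hH _ ((monE_mono _ _).mul (monE_mono _ _)) (by
      rw [map_mul, show LinearEquiv.det (dil i δ) = δ from Units.ext (by rw [LinearEquiv.coe_det, dil_det]),
        hδ, mul_inv_cancel]), (monE_mono _ _).mul (monE_mono _ _), fun k hk => ?_, fun v k => ?_⟩
    · show monE σ' c' (dil i δ _) k = 0
      rw [dil, monE_single, monE_single]
      simp [Equiv.Perm.one_def, hσi, hk]
    · show monE σ' c' (dil i δ v) k = _
      have hk : σ'.symm k = (σ.symm k : κ) := by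
        rw [Equiv.symm_apply_eq, hσ', Equiv.Perm.ofSubtype_apply_coe, Equiv.apply_symm_apply]
      rw [monE_apply, hk, monE_apply, dil_apply, Pi.add_apply, Pi.smul_apply,
        Pi.single_eq_of_ne (σ.symm k).2, smul_zero, add_zero, hc']
      simp [(σ.symm k).2]
  by_cases hm : Mono h
  · -- the difference from a monomial map is a transvection centred at the fixed line
    obtain ⟨σ, c, hσc⟩ := exists_monE hm
    obtain ⟨M, hM, hMm, hMi, hMv⟩ := hlift σ c
    obtain ⟨y, hy⟩ : ∃ y, y = M⁻¹ * x := ⟨_, rfl⟩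
    have hyK : y ∈ K := hy ▸ K.mul_mem (K.inv_mem hM) hx
    have hyv : ∀ (v : κ → F) (k : κ'), y v k = v k := by
      intro v k
      have h1 : ∀ k' : κ', M (y v) k' = x v k' := fun k' => by rw [hy]; simp [LinearEquiv.mul_apply]
      have h2 : (fun l : κ' => y v l) = fun l : κ' => v l := (monE σ c).injective (funext fun k' => by
        rw [← hMv, h1, ← hσc]
        exact hres hxi v k')
      exact congrFun h2 k
    let χ : (κ → F) →ₗ[F] F := (pr i).comp ((y : (κ → F) →ₗ[F] (κ → F)) - LinearMap.id)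
    have hy2 : ∀ v, y v = v + χ v • Pi.single i 1 := fun v => funext fun l => by
      by_cases hl : l = i
      · subst hl; simp [χ]
      · rw [Pi.add_apply, Pi.smul_apply, Pi.single_eq_of_ne hl, smul_zero, add_zero]
        exact hyv v ⟨l, hl⟩
    have hχi : χ (Pi.single i 1) = 0 := det_shift (T := 1) rfl hy2 (hdet y hyK) (map_one _)
    refine elementary_of_centre h5 (by omega) hH (fun h0 => hxn ?_) ⟨hχi, y, hyK, hy2⟩
    have : y = 1 := LinearEquiv.ext fun v => by rw [hy2, h0]; simp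
    rw [hy, inv_mul_eq_one] at this
    rw [← this]; exact hMm
  simp only [Mono, not_forall, not_exists, exists_prop] at hm
  obtain ⟨j, hj⟩ := hm
  obtain ⟨a', -, ha'⟩ := hj j
  obtain ⟨b', hb'a, hb'⟩ := hj a'
  obtain ⟨a₀, b₀, hab₀, s, hs, -, T, hT, hTx⟩ := elem_of_not_monomial (K := quot K i) h5
    (by rw [Fintype.card_subtype_compl, Fintype.card_subtype_eq]; omega)
    (fun σ c => by
      obtain ⟨M, hM, -, hMi, hMv⟩ := hlift σ c
      exact ⟨M, hM, hMi, hMv⟩)
    hhQ (Ne.symm hb'a) ha' hb'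
  obtain ⟨y, hy, hyi, hyv⟩ := hT
  -- split off the part along the fixed line
  have hTne : 1 + (s • pr (F := F) (b₀ : κ)) (Pi.single (a₀ : κ) 1) ≠ 0 := by
    simp [show (b₀ : κ) ≠ a₀ from fun e => hab₀ (Subtype.ext e.symm)]
  obtain ⟨T', hT'⟩ : ∃ T', T' = rk1 (Pi.single (a₀ : κ) 1) (s • pr (F := F) (b₀ : κ)) hTne := ⟨_, rfl⟩
  have hT'x : ∀ v, T' v = v + (s * v b₀) • Pi.single (a₀ : κ) 1 := fun v => by simp [hT']
  let χ : (κ → F) →ₗ[F] F := (pr i).comp ((y : (κ → F) →ₗ[F] (κ → F)) - (T' : (κ → F) →ₗ[F] (κ → F)))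
  have hyT : ∀ v, y v = T' v + χ v • Pi.single i 1 := fun v => funext fun l => by
    by_cases hl : l = i
    · subst hl; simp [χ]
    · rw [Pi.add_apply, Pi.smul_apply, Pi.single_eq_of_ne hl, smul_zero, add_zero, hT'x, Pi.add_apply]
      rw [hyv v ⟨l, hl⟩, hTx]
      simp [Pi.single_apply, Subtype.ext_iff]
  have hχi : χ (Pi.single i 1) = 0 := det_shift (T := T') (by
      rw [hT'x, Pi.single_eq_of_ne b₀.2, mul_zero, zero_smul, add_zero]) hyT (hdet y hy) (Units.ext (by
      rw [hT', det_rk1, Units.val_one]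
      simp [show (b₀ : κ) ≠ a₀ from fun e => hab₀ (Subtype.ext e.symm)]))
  obtain ⟨c, hc, hc1⟩ := exists_ne_two h5
  by_cases hall : ∀ m : κ, m ≠ i → m ≠ a₀ → m ≠ b₀ → ∀ v,
      c * χ ((dil i (Units.mk0 c hc) * dil m (Units.mk0 c hc)⁻¹).symm v) = χ v
  · refine ⟨a₀, b₀, fun e => hab₀ (Subtype.ext e), s, hs, by
      simp [show (b₀ : κ) ≠ a₀ from fun e => hab₀ (Subtype.ext e.symm)], y, hy, fun v => ?_⟩
    obtain ⟨m, hm, m', hm', hmm⟩ := Finset.one_lt_card.mp
      (show 1 < (Finset.univ \ ({i, (a₀ : κ), (b₀ : κ)} : Finset κ)).card by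
        rw [Finset.card_sdiff_of_subset (Finset.subset_univ _), Finset.card_univ]
        have := Finset.card_le_three (a := i) (b := (a₀ : κ)) (c := (b₀ : κ))
        omega)
    simp only [Finset.mem_sdiff, Finset.mem_univ, true_and, Finset.mem_insert, Finset.mem_singleton,
      not_or] at hm hm'
    have hzero : χ = 0 := LinearMap.pi_ext fun l t => by
      rw [single_eq_smul, map_smul, LinearMap.zero_apply]
      by_cases hli : l = i
      · rw [hli, hχi, smul_zero]
      obtain ⟨m₀, hm₀, hlm⟩ : ∃ m₀, (m₀ ≠ i ∧ m₀ ≠ a₀ ∧ m₀ ≠ b₀) ∧ l ≠ m₀ := by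
        by_cases hlm : l = m
        · exact ⟨m', hm', hlm ▸ hmm⟩
        · exact ⟨m, hm, hlm⟩
      have := hall m₀ hm₀.1 hm₀.2.1 hm₀.2.2 (Pi.single l 1)
      rw [dil_pair_symm_pr i m₀ _ (Ne.symm hm₀.1), if_neg hli, if_neg hlm, one_mul] at this
      have : (c - 1) * χ (Pi.single l 1) = 0 := by linear_combination this
      rw [(mul_eq_zero.mp this).resolve_left (sub_ne_zero.mpr hc1), smul_zero]
    rw [hyT, hzero, hT'x]
    simp
  push Not at hall
  obtain ⟨m, hmi, hma, hmb, v₀, hv₀⟩ := hall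
  obtain ⟨d, hd⟩ : ∃ d, d = dil i (Units.mk0 c hc) * dil m (Units.mk0 c hc)⁻¹ := ⟨_, rfl⟩
  rw [← hd] at hv₀
  have hdK : d ∈ K := hd ▸ dil_pair_mem hH i m _
  obtain ⟨y', hy'⟩ : ∃ y', y' = d * y * d⁻¹ := ⟨_, rfl⟩
  have hd_i : d (Pi.single i (1 : F)) = c • Pi.single i 1 := by
    rw [hd, LinearEquiv.mul_apply, dil_apply m, Pi.single_eq_of_ne hmi, mul_zero, zero_smul, add_zero,
      dil_apply]
    funext l
    by_cases hl : l = i
    · subst hl; simp
    · simp [hl]
  have hd_a : d (Pi.single (a₀ : κ) (1 : F)) = Pi.single (a₀ : κ) 1 := by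
    rw [hd, LinearEquiv.mul_apply, dil_apply m, Pi.single_eq_of_ne hma, mul_zero, zero_smul, add_zero,
      dil_apply, Pi.single_eq_of_ne a₀.2.symm, mul_zero, zero_smul, add_zero]
  have hy'x : ∀ w, y' w = T' w + (c * χ (d.symm w)) • Pi.single i 1 := by
    intro w
    obtain ⟨u, rfl⟩ := d.surjective w
    have hb : d u b₀ = u b₀ := by
      rw [hd, LinearEquiv.mul_apply, dil_apply i, Pi.add_apply, Pi.smul_apply,
        Pi.single_eq_of_ne b₀.2, smul_zero, add_zero, dil_apply, Pi.add_apply, Pi.smul_apply,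
        Pi.single_eq_of_ne (Ne.symm hmb), smul_zero, add_zero]
    rw [hy']
    show d (y (d.symm (d u))) = _
    rw [LinearEquiv.symm_apply_apply, hyT, hT'x, map_add, map_add, map_smul, map_smul, hd_a, hd_i,
      hT'x, hb, smul_smul, mul_comm (χ u) c]
  refine elementary_of_centre h5 (by omega) hH (i := i) (φ :=
    (c • χ.comp (d.symm : (κ → F) →ₗ[F] (κ → F)) - χ).comp (y.symm : (κ → F) →ₗ[F] (κ → F)))
    (fun h0 => hv₀ ?_) ⟨?_, y' * y⁻¹, K.mul_mem (hy' ▸ K.mul_mem (K.mul_mem hdK hy) (K.inv_mem hdK)) (K.inv_mem hy),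
      fun w => ?_⟩
  · have := LinearMap.congr_fun h0 (y v₀)
    simpa [sub_eq_zero] using this
  · have hyi' : y.symm (Pi.single i 1) = Pi.single i 1 := by
      rw [LinearEquiv.symm_apply_eq, hyT, hχi, zero_smul, add_zero, hT'x, Pi.single_eq_of_ne b₀.2,
        mul_zero, zero_smul, add_zero]
    have hdi' : d.symm (Pi.single i 1) = c⁻¹ • Pi.single i 1 := by
      rw [LinearEquiv.symm_apply_eq, map_smul, hd_i, smul_smul, inv_mul_cancel₀ hc, one_smul]
    simp [hyi', hdi', hχi]
  · obtain ⟨u, rfl⟩ := y.surjective w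
    show y' (y.symm (y u)) = _
    simp only [LinearMap.comp_apply, LinearMap.sub_apply, LinearMap.smul_apply, LinearEquiv.coe_coe,
      LinearEquiv.symm_apply_apply, smul_eq_mul]
    rw [hy'x, hyT]
    module

end Cfsg.Agent.MonomialMax
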