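import Cfsg.Agent.Lib.TransvMax.BlockMax
import Cfsg.Agent.Lib.TransvMax.MonomialMax
import Cfsg.Agent.Lib.TransvMax.Frame
import Cfsg.Agent.Lib.TransvMax.SubfieldSL

/-! The stabiliser of a decomposition is maximal in the special linear group. -/

set_option autoImplicit false
set_option linter.unusedSectionVars false
set_option linter.style.haveILetI false

namespace Cfsg.Agent.MonomialMax

open Matrix

variable {F : Type*} [Field F] {ι : Type} [Fintype ι] [DecidableEq ι]

/-- Linear maps in coordinates as matrices. -/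
noncomputable def conjGL {V : Type*} [AddCommGroup V] [Module F V] (c : (ι → F) ≃ₗ[F] V) :
    (V ≃ₗ[F] V) →* GL ι F :=
  MonoidHom.mk' (fun h => TransvMax.glOf (c.trans (h.trans c.symm))) fun h h' =>
    TransvMax.gl_ext fun x => by simp [← Matrix.mulVec_mulVec, LinearEquiv.mul_apply]

theorem conjGL_mulVec {V : Type*} [AddCommGroup V] [Module F V] (c : (ι → F) ≃ₗ[F] V)
    (h : V ≃ₗ[F] V) (x : ι → F) : (conjGL c h : Matrix ι ι F) *ᵥ x = c.symm (h (c x)) := by
  simp [conjGL]

theorem conjGL_det {V : Type*} [AddCommGroup V] [Module F V] (c : (ι → F) ≃ₗ[F] V) (h : V ≃ₗ[F] V) :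
    conjGL c h ∈ Cfsg.Geo.specialLinear ι F ↔ LinearEquiv.det h = 1 := by
  rw [FrameLib.mem_SL_iff, ← Units.val_eq_one, LinearEquiv.coe_det]
  have e : ((conjGL c h : GL ι F) : Matrix ι ι F) =
      LinearMap.toMatrix' ((c.symm : V →ₗ[F] (ι → F)) ∘ₗ (h : V →ₗ[F] V) ∘ₗ (c : (ι → F) →ₗ[F] V)) := rfl
  rw [e, LinearMap.det_toMatrix']
  have := LinearMap.det_conj (h : V →ₗ[F] V) c.symm
  rw [LinearEquiv.symm_symm] at this
  rw [this]

theorem conjGL_surjective {V : Type*} [AddCommGroup V] [Module F V] (c : (ι → F) ≃ₗ[F] V) (g : GL ι F) :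
    conjGL c (c.symm.trans ((TransvMax.linOf g).trans c)) = g :=
  TransvMax.gl_ext fun x => by simp [conjGL_mulVec]

variable [Fintype F] {t m : ℕ} {D : Fin t → Submodule F (ι → F)}

theorem wreath_maximal (hD : Cfsg.Geo.IsMDecomposition m D) (hn : 6 ≤ Fintype.card ι)
    (h1 : m = 1 → 5 ≤ Fintype.card F) (h2 : m = 2 → 3 ≤ Fintype.card F) :
    Cfsg.Geo.IsMaximalIn (Cfsg.Geo.specialLinear ι F)
      (Cfsg.Geo.decompositionStabilizer D ⊓ Cfsg.Geo.specialLinear ι F) := by
  classical
  obtain ⟨c, hc⟩ := FrameLib.exists_coords hD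
  have hm0 : 0 < m := hD.pos
  have ht : t * m = Fintype.card ι := by
    have := c.finrank_eq
    simp [Module.finrank_pi_fintype] at this
    exact this.symm
  have ht2 : 2 ≤ t := hD.two_le
  -- the stabiliser is the block monomial group
  have hmem : ∀ (i : Fin t) (w : Fin m → F), c.symm (Pi.single i w) ∈ D i := fun i w => by
    rw [hc]; intro l hl; rw [LinearEquiv.apply_symm_apply, Pi.single_eq_of_ne hl]
  have hfw : ∀ h, BMono h → conjGL c h ∈ Cfsg.Geo.decompositionStabilizer D := by
    intro h hh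
    choose f hf using hh
    have hle : ∀ i, (D i).map (Matrix.toLin' (conjGL c h : Matrix ι ι F)) ≤ D (f i) := by
      rintro i _ ⟨x, hx, rfl⟩
      rw [Matrix.toLin'_apply, conjGL_mulVec, hc]
      intro l hl
      rw [LinearEquiv.apply_symm_apply]
      rw [show c x = Pi.single i (c x i) from funext fun a => by
        by_cases ha : a = i
        · subst ha; simp
        · rw [Pi.single_eq_of_ne ha]; exact (hc i x).mp hx a ha]
      exact hf i _ l hl
    have hinjL : Function.Injective (Matrix.toLin' (conjGL c h : Matrix ι ι F)) := fun x y e => by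
      simp only [Matrix.toLin'_apply, conjGL_mulVec] at e
      simpa using e
    have heq : ∀ i, (D i).map (Matrix.toLin' (conjGL c h : Matrix ι ι F)) = D (f i) := fun i =>
      Submodule.eq_of_le_of_finrank_eq (hle i) (by
        rw [← (Submodule.equivMapOfInjective _ hinjL (D i)).finrank_eq, hD.finrank_eq, hD.finrank_eq])
    have hinj : Function.Injective f := by
      intro a b e
      by_contra hne
      have h3 := Submodule.map_injective_of_injective hinjL (((heq a).trans (congrArg D e)).trans (heq b).symm)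
      have h4 := hD.indep.pairwiseDisjoint hne
      simp only [Function.onFun] at h4
      rw [h3, disjoint_self] at h4
      have h5 := hD.finrank_eq b
      rw [h4, finrank_bot] at h5
      omega
    exact ⟨Equiv.ofBijective f (Finite.injective_iff_bijective.mp hinj), heq⟩
  have hbw : ∀ h, conjGL c h ∈ Cfsg.Geo.decompositionStabilizer D → BMono h := by
    intro h hh i
    obtain ⟨σ, hσ⟩ := FrameLib.stab_comp hc hh
    refine ⟨σ i, fun w k hk => ?_⟩
    have := (hσ (c.symm (Pi.single i w)) (σ.symm k)).2 (by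
      rw [LinearEquiv.apply_symm_apply, Pi.single_eq_of_ne fun e => hk (by rw [← e, Equiv.apply_symm_apply])])
    rwa [Equiv.apply_symm_apply, conjGL_mulVec, LinearEquiv.apply_symm_apply,
      LinearEquiv.apply_symm_apply] at this
  set a₀ : Fin m := ⟨0, hm0⟩
  set p₀ : Fin t := ⟨0, by omega⟩
  set p₁ : Fin t := ⟨1, by omega⟩
  have hp : p₀ ≠ p₁ := fun e => by simp [p₀, p₁] at e
  refine ⟨lt_of_le_of_ne inf_le_right fun e => ?_, fun M hHM hM => ?_⟩
  · -- an element outside
    have hne : 1 + bfun p₁ (LinearMap.proj a₀ : (Fin m → F) →ₗ[F] F)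
        (Pi.single p₀ (Pi.single a₀ (1 : F))) ≠ 0 := by simp [bfun, hp.symm]
    obtain ⟨h, hh⟩ : ∃ h, h = rk1 _ _ hne := ⟨_, rfl⟩
    have hd : conjGL c h ∈ Cfsg.Geo.specialLinear ι F := by
      rw [conjGL_det]
      refine Units.ext ?_
      rw [LinearEquiv.coe_det, hh, rk1_det, Units.val_one]
      simp [bfun, hp.symm]
    rw [← e] at hd
    obtain ⟨j, hj⟩ := hbw h hd.1 p₁
    have hval : h (Pi.single p₁ (Pi.single a₀ 1)) =
        Pi.single p₁ (Pi.single a₀ 1) + Pi.single p₀ (Pi.single a₀ 1) := by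
      rw [hh, rk1_apply]; simp [bfun]
    by_cases hjp : j = p₀
    · have := congrFun (hj (Pi.single a₀ 1) p₁ (fun e => hp (e.trans hjp).symm)) a₀
      simp [hval, hp.symm] at this
    · have := congrFun (hj (Pi.single a₀ 1) p₀ (Ne.symm hjp)) a₀
      simp [hval, hp] at this
  by_cases hall : ∀ g ∈ M, g ∈ Cfsg.Geo.decompositionStabilizer D
  · exact Or.inl (le_antisymm (fun g hg => ⟨hall g hg, hM hg⟩) hHM)
  push Not at hall
  obtain ⟨g, hgM, hgS⟩ := hall
  refine Or.inr (le_antisymm hM ?_)
  obtain ⟨K, hK⟩ : ∃ K, K = M.comap (conjGL c) := ⟨_, rfl⟩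
  have hKdet : ∀ h ∈ K, LinearEquiv.det h = 1 := fun h hh => (conjGL_det c h).mp (hM (by rw [hK] at hh; exact hh))
  have hKH : ∀ h, BMono h → LinearEquiv.det h = 1 → h ∈ K := fun h hh hd => by
    rw [hK]; exact hHM ⟨hfw h hh, (conjGL_det c h).mpr hd⟩
  obtain ⟨g', hg'⟩ : ∃ g', g' = c.symm.trans ((TransvMax.linOf g).trans c) := ⟨_, rfl⟩
  have hg'K : g' ∈ K := by
    rw [hK, Subgroup.mem_comap, hg', conjGL_surjective]; exact hgM
  have hg'n : ¬ BMono g' := fun hb => hgS (by
    have := hfw g' hb
    rwa [hg', conjGL_surjective] at this)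
  -- all coordinate transvections
  have helem : ∀ (i j : Fin t) (a b : Fin m), (i, a) ≠ (j, b) → ∀ s : F,
      ∃ y ∈ K, ∀ x : Fin t → Fin m → F, y x = x + (s * x j b) •
        (Pi.single i (Pi.single a (1 : F) : Fin m → F) : Fin t → Fin m → F) := by
    intro i j a b hne s
    by_cases hij : i = j
    · subst hij
      have hab : a ≠ b := fun e => hne (by rw [e])
      obtain ⟨-, y, hy, hyx⟩ := tv_block hKH i (a := Pi.single a 1)
        (φ := s • (LinearMap.proj b : (Fin m → F) →ₗ[F] F)) (by simp [hab.symm])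
      exact ⟨y, hy, fun x => by rw [hyx]; simp [bfun]⟩
    rcases Nat.lt_or_ge m 2 with hm | hm
    · obtain rfl : m = 1 := by omega
      let u : (Fin t → Fin 1 → F) ≃ₗ[F] (Fin t → F) :=
        LinearEquiv.piCongrRight fun _ => LinearEquiv.funUnique (Fin 1) F F
      have huu : ∀ (x : Fin t → Fin 1 → F) l, u x l = x l 0 := fun x l => rfl
      obtain ⟨K₁, hK₁⟩ : ∃ K₁, K₁ = K.comap (MonoidHom.mk' (fun h : (Fin t → F) ≃ₗ[F] (Fin t → F) =>
          u.trans (h.trans u.symm)) (fun h h' => LinearEquiv.ext fun x => by simp [LinearEquiv.mul_apply])) :=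
        ⟨_, rfl⟩
      have hconv : ∀ h : (Fin t → F) ≃ₗ[F] (Fin t → F), h ∈ K₁ ↔ u.trans (h.trans u.symm) ∈ K := fun h => by
        rw [hK₁]; rfl
      have hdconv : ∀ h : (Fin t → F) ≃ₗ[F] (Fin t → F),
          LinearEquiv.det (u.trans (h.trans u.symm)) = LinearEquiv.det h := fun h => by
        refine Units.ext ?_
        rw [LinearEquiv.coe_det, LinearEquiv.coe_det]
        have := LinearMap.det_conj (h : (Fin t → F) →ₗ[F] (Fin t → F)) u.symm
        rw [LinearEquiv.symm_symm] at this
        exact this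
      obtain ⟨g₁, hg₁⟩ : ∃ g₁, g₁ = u.symm.trans (g'.trans u) := ⟨_, rfl⟩
      have hback : u.trans (g₁.trans u.symm) = g' := LinearEquiv.ext fun x => by simp [hg₁]
      have hmono : ∀ h : (Fin t → F) ≃ₗ[F] (Fin t → F), Mono h → BMono (u.trans (h.trans u.symm)) := by
        intro h hh l
        obtain ⟨k, hk⟩ := hh l
        refine ⟨k, fun w r hr => ?_⟩
        have hw : u (Pi.single l w) = w 0 • Pi.single l 1 := funext fun r' => by
          rw [huu]
          by_cases h' : r' = l
          · subst h'; simp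
          · simp [h']
        have : u ((u.trans (h.trans u.symm)) (Pi.single l w)) r = 0 := by
          simp only [LinearEquiv.trans_apply, LinearEquiv.apply_symm_apply]
          rw [hw, map_smul, Pi.smul_apply, hk r hr, smul_zero]
        funext a'
        rw [Subsingleton.elim a' 0]
        exact this
      obtain ⟨y, hy, hyx⟩ := contains_elementary (K := K₁) (h1 rfl)
        (by rw [Fintype.card_fin]; omega) (fun h hh => by rw [← hdconv]; exact hKdet _ ((hconv h).mp hh))
        (fun h hh hd => (hconv h).mpr (hKH _ (hmono h hh) (by rw [hdconv]; exact hd)))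
        ((hconv g₁).mpr (by rw [hback]; exact hg'K)) (fun hb => hg'n (hback ▸ hmono g₁ hb)) hij s
      refine ⟨_, (hconv y).mp hy, fun x => u.injective ?_⟩
      rw [LinearEquiv.trans_apply, LinearEquiv.trans_apply, LinearEquiv.apply_symm_apply, hyx, map_add,
        map_smul]
      congr 1
      rw [huu, show b = 0 from Subsingleton.elim _ _, show a = 0 from Subsingleton.elim _ _]
      congr 1
      funext l
      rw [huu]
      by_cases hl : l = i
      · subst hl; simp
      · simp [hl]
    · obtain ⟨-, y, hy, hyx⟩ := contains_cross (W := Fin m → F)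
        (by rw [Module.finrank_fin_fun]; omega) hKH
        (by
          rw [Module.finrank_fin_fun]
          rcases Nat.lt_or_ge m 3 with h | h
          · exact Or.inl (h2 (by omega))
          · exact Or.inr h)
        (by
          rw [Module.finrank_fin_fun, Fintype.card_fin]
          rcases Nat.lt_or_ge t 3 with h | h
          · right
            have : t * m ≤ 2 * m := Nat.mul_le_mul_right _ (by omega)
            omega
          · exact Or.inl h)
        hg'K hg'n hij (Pi.single a 1) (s • (LinearMap.proj b : (Fin m → F) →ₗ[F] F))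
      exact ⟨y, hy, fun x => by rw [hyx]; simp [bfun]⟩
  -- pass to flattened coordinates
  let fl : (ι → F) ≃ₗ[F] (Fin t × Fin m → F) :=
    c.trans (LinearEquiv.curry F F (Fin t) (Fin m)).symm
  have hfl : ∀ x i a, fl x (i, a) = c x i a := fun x i a => rfl
  obtain ⟨L, hL⟩ : ∃ L : Subgroup (GL (Fin t × Fin m) F),
      L = (M.comap (conjGL fl)).map TransvMax.glOf := ⟨_, rfl⟩
  have hSL : Cfsg.Geo.specialLinear (Fin t × Fin m) F ≤ L := by
    refine TransvMax.specialLinear_le_of_elem fun p q hpq s hd => ?_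
    obtain ⟨y, hy, hyx⟩ := helem p.1 q.1 p.2 q.2 hpq s
    rw [hL]
    refine ⟨fl.symm.trans ((TransvMax.linOf (conjGL c y)).trans fl), ?_, ?_⟩
    · show conjGL fl _ ∈ M
      rw [conjGL_surjective]
      rw [hK] at hy
      exact hy
    refine TransvMax.gl_ext fun x => ?_
    rw [TransvMax.glOf_mulVec, TransvMax.trv_mulVec, single_dotProduct]
    funext r
    obtain ⟨r1, r2⟩ := r
    rw [LinearEquiv.trans_apply, LinearEquiv.trans_apply, TransvMax.linOf_apply, conjGL_mulVec, hfl,
      LinearEquiv.apply_symm_apply, hyx]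
    simp only [Pi.add_apply, Pi.smul_apply, smul_eq_mul]
    rw [← hfl (fl.symm x), ← hfl (fl.symm x), LinearEquiv.apply_symm_apply, Prod.mk.eta]
    congr 1
    by_cases h : r1 = p.1
    · subst h
      by_cases h' : r2 = p.2
      · subst h'; simp
      · rw [Pi.single_eq_same, Pi.single_eq_of_ne h', Pi.single_eq_of_ne (fun e => h' (by rw [← e]))]
    · rw [Pi.single_eq_of_ne h, Pi.single_eq_of_ne (fun e => h (by rw [← e]))]; rfl
  intro x hx
  obtain ⟨x', hx'⟩ : ∃ x', x' = fl.symm.trans ((TransvMax.linOf x).trans fl) := ⟨_, rfl⟩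
  have hdx : LinearEquiv.det x' = 1 := by
    rw [← conjGL_det fl, hx', conjGL_surjective]; exact hx
  have : TransvMax.glOf x' ∈ L := hSL (by
    rw [FrameLib.mem_SL_iff]
    show (LinearMap.toMatrix' (x' : (Fin t × Fin m → F) →ₗ[F] (Fin t × Fin m → F))).det = 1
    rw [LinearMap.det_toMatrix', ← LinearEquiv.coe_det, hdx, Units.val_one])
  rw [hL] at this
  obtain ⟨z, hz, hze⟩ := this
  have hzx : z = x' := LinearEquiv.ext fun v => by
    rw [← TransvMax.glOf_mulVec z v, hze, TransvMax.glOf_mulVec]
  rw [hzx] at hz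
  have := (show conjGL fl x' ∈ M from hz)
  rwa [hx', conjGL_surjective] at this

end Cfsg.Agent.MonomialMax
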