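import Cfsg.Agent.Lib.TwoRank.Orth
import Cfsg.Agent.Lib.Spinor.Discr
import Cfsg.Agent.Lib.TransvMax.Basic
import Cfsg.Agent.Lib.LinearGroups.OrthOrder
import Mathlib.Algebra.QuadraticAlgebra.Basic

/-!
Self-adjoint square roots of a non-square on an orthogonal space of odd characteristic: they are all
conjugate under the isometry group, and their stabilisers cover the spinor norms.
-/

set_option autoImplicit false
set_option linter.unusedSectionVars false

namespace Cfsg.Agent.SymRoot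

open Cfsg.Agent Cfsg.Agent.FormsLib Module QuadraticMap
open scoped QuadraticAlgebra

variable {F : Type*} [Field F] [Fintype F]

/-- `J` is self-adjoint for the polar form and squares to `δ`. -/
structure IsSRoot {V : Type*} [AddCommGroup V] [Module F V] (Q : QuadraticForm F V) (δ : F)
    (J : V →ₗ[F] V) : Prop where
  self : ∀ u v, polar Q (J u) v = polar Q u (J v)
  sq : ∀ v, J (J v) = δ • v

theorem IsSRoot.quad {V : Type*} [AddCommGroup V] [Module F V] {Q : QuadraticForm F V} {δ : F}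
    {J : V →ₗ[F] V} (h : IsSRoot Q δ J) (h2 : (2 : F) ≠ 0) (v : V) : Q (J v) = δ * Q v := by
  apply mul_left_cancel₀ h2
  rw [← polar_self' Q (J v), h.self, h.sq, polar_smul_right, smul_eq_mul, polar_self']
  ring

theorem IsSRoot.conj {V W : Type*} [AddCommGroup V] [Module F V] [AddCommGroup W] [Module F W]
    {Q : QuadraticForm F V} {Q' : QuadraticForm F W} {δ : F}
    {J : V →ₗ[F] V} (h : IsSRoot Q δ J) (e : V ≃ₗ[F] W) (he : ∀ v, Q' (e v) = Q v) :
    IsSRoot Q' δ (e.conj J) where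
  self u v := by
    obtain ⟨u, rfl⟩ := e.surjective u
    obtain ⟨v, rfl⟩ := e.surjective v
    simp only [LinearEquiv.conj_apply, LinearMap.comp_apply, LinearEquiv.coe_coe, LinearEquiv.symm_apply_apply]
    simp only [polar, ← map_add, he]
    exact h.self u v
  sq v := by
    obtain ⟨v, rfl⟩ := e.surjective v
    simp [LinearEquiv.conj_apply, h.sq]

/-- The weights `c, 1, …, 1`. -/
def wgt {d : ℕ} {R : Type*} [One R] (c : R) (i : Fin d) : R := if (i : ℕ) = 0 then c else 1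

section

variable {δ : F} [hδ : Fact (∀ t : F, t ^ 2 ≠ δ + 0 * t)]

local notation "L" => QuadraticAlgebra F δ 0

theorem fact_of_not_isSquare {c : F} (h : ¬ IsSquare c) : Fact (∀ t : F, t ^ 2 ≠ c + 0 * t) :=
  ⟨fun t ht => h ⟨t, by rw [← pow_two, ht]; ring⟩⟩

instance : Finite L := Finite.of_equiv _ (QuadraticAlgebra.equivProd δ (0 : F)).symm

theorem delta_not_isSquare : ¬ IsSquare δ := fun ⟨t, ht⟩ => hδ.out t (by rw [zero_mul, add_zero, ht, pow_two])

theorem delta_ne_zero : δ ≠ 0 := fun h => delta_not_isSquare (δ := δ) (h ▸ IsSquare.zero)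

theorem two_ne_zero_L (h2 : (2 : F) ≠ 0) : (2 : L) ≠ 0 := fun h => h2 (by
  simpa [QuadraticAlgebra.re_ofNat] using congrArg QuadraticAlgebra.re h)

/-- Square classes are seen by the norm. -/
theorem isSquare_of_norm (h2 : (2 : F) ≠ 0) {z : L} (hz : z ≠ 0) (h : IsSquare (QuadraticAlgebra.norm z)) :
    IsSquare z := by
  by_contra hns
  obtain ⟨ν, hν⟩ := FiniteField.exists_nonsquare (F := F) (Spinor.ringChar_ne_two h2)
  obtain ⟨x, y, hxy⟩ : ∃ x y : F, x * x - δ * y * y = ν := by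
    obtain ⟨x, y, h'⟩ := FiniteField.exists_root_sum_quadratic (R := F)
      (f := Polynomial.X ^ 2 - Polynomial.C ν) (g := Polynomial.C (-δ) * Polynomial.X ^ 2)
      (Polynomial.degree_X_pow_sub_C (by decide) _)
      (Polynomial.degree_C_mul_X_pow 2 (neg_ne_zero.2 (delta_ne_zero (δ := δ))))
      (FiniteField.odd_card_of_char_ne_two (Spinor.ringChar_ne_two h2))
    simp at h'
    exact ⟨x, y, by linear_combination h'⟩
  set w : L := ⟨x, y⟩
  have hNw : QuadraticAlgebra.norm w = ν := by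
    rw [QuadraticAlgebra.norm_def]
    linear_combination hxy
  have hsq : ∀ a : L, IsSquare a → IsSquare (QuadraticAlgebra.norm a) := by
    rintro a ⟨b, rfl⟩
    exact ⟨QuadraticAlgebra.norm b, map_mul _ b b⟩
  have hw : ¬ IsSquare w := fun h' => hν (hNw ▸ hsq w h')
  have hw0 : w ≠ 0 := fun h' => hw (h' ▸ IsSquare.zero)
  have h3 := hsq _ ((Spinor.isSquare_mul_iff' hz hw0).2 (iff_of_false hns hw))
  rw [map_mul, hNw] at h3
  have hν0 : ν ≠ 0 := fun h' => hν (h' ▸ IsSquare.zero)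
  exact hν (((Spinor.isSquare_mul_iff' (fun h' => hz (QuadraticAlgebra.norm_eq_zero_iff_eq_zero.1 h')) hν0).1 h3).1 h)

theorem re_smul_mul (a : F) (z : L) : (a • z).re = a * z.re := rfl

/-- The quadratic form on coordinates. -/
def coordForm {d : ℕ} (c : L) (u : Fin d → L) : F := (∑ i, wgt c i * (u i * u i)).re

/-- Coordinates adapted to a root. -/
theorem exists_coords {V : Type*} [AddCommGroup V] [Module F V] [FiniteDimensional F V]
    {Q : QuadraticForm F V} (hQ : (polarBilin Q).Nondegenerate) (h2 : (2 : F) ≠ 0) {J : V →ₗ[F] V}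
    (hJ : IsSRoot Q δ J) {d : ℕ} (hd : 0 < d) (hdim : finrank F V = 2 * d) :
    ∃ c : L, c.re ≠ 0 ∧ ∃ e : (Fin d → L) ≃ₗ[F] V,
      (∀ u, Q (e u) = coordForm c u) ∧ ∀ u, J (e u) = e ((QuadraticAlgebra.omega : L) • u) := by
  classical
  have hδ0 : δ ≠ 0 := delta_ne_zero
  let ρ : L →ₐ[F] Module.End F V := QuadraticAlgebra.lift ⟨J, by
    refine LinearMap.ext fun v => ?_
    simp [hJ.sq v]⟩
  have hρ : ∀ (a : L) v, ρ a v = a.re • v + a.im • J v := fun a v => by
    simp [ρ]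
  letI : Module L V := Module.compHom V ρ.toRingHom
  have hsmul : ∀ (a : L) (v : V), a • v = a.re • v + a.im • J v := fun a v => hρ a v
  haveI : IsScalarTower F L V := ⟨fun c a v => by
    simp [hsmul, smul_add, smul_smul]⟩
  haveI : FiniteDimensional L V := Module.Finite.of_restrictScalars_finite F L V
  -- the bilinear form over the extension
  let b : LinearMap.BilinForm L V := LinearMap.mk₂ L (fun u v => (⟨polar Q u v / 2, polar Q (J u) v / (2 * δ)⟩ : L))
    (fun u u' v => by ext <;> simp [polar_add_left] <;> ring)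
    (fun a u v => by
      ext <;> simp [hsmul, polar_add_left, polar_smul_left, hJ.sq] <;> field_simp <;> ring)
    (fun u v v' => by ext <;> simp [polar_add_right] <;> ring)
    (fun a u v => by
      ext <;> simp [hsmul, polar_add_right, polar_smul_right, ← hJ.self, hJ.sq, polar_smul_left] <;>
        field_simp <;> ring)
  have hb : ∀ u v, b u v = (⟨polar Q u v / 2, polar Q (J u) v / (2 * δ)⟩ : L) := fun u v => rfl
  have hbs : ∀ u v, b u v = b v u := fun u v => by
    rw [hb, hb, polar_comm Q v u, polar_comm Q (J v) u, ← hJ.self]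
  let Qb : QuadraticForm L V := b.toQuadraticMap
  have hQb : ∀ v, Qb v = b v v := fun v => rfl
  have hre : ∀ v, (Qb v).re = Q v := fun v => by
    rw [hQb, hb]
    show polar Q v v / 2 = Q v
    rw [polar_self']; field_simp
  have hd' : finrank L V = d := by
    have := Module.finrank_mul_finrank F L V
    rw [QuadraticAlgebra.finrank_eq_two, hdim] at this
    omega
  obtain ⟨n, rfl⟩ : ∃ n, d = n + 1 := ⟨d - 1, by omega⟩
  let e₀ : (Fin (n + 1) → L) ≃ₗ[L] V := (Module.finBasisOfFinrankEq L V hd').equivFun.symm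
  let Q' : QuadraticForm L (Fin (n + 1) → L) := Qb.comp e₀.toLinearMap
  have hpol : ∀ u v, polar Q' u v = 2 * b (e₀ u) (e₀ v) := fun u v => by
    show polar (fun x => Qb (e₀ x)) u v = _
    simp only [polar, hQb, map_add, LinearMap.add_apply]
    rw [hbs (e₀ v) (e₀ u)]
    ring
  have hnd : (polarBilin Q').Nondegenerate := OrthOrder.nondegenerate_iff.2 fun x hx => by
    refine e₀.map_eq_zero_iff.1 (hQ.1 _ fun w => ?_)
    obtain ⟨y, rfl⟩ := e₀.surjective w
    have h := hx y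
    rw [hpol, mul_eq_zero, or_iff_right (two_ne_zero_L h2), hb] at h
    have h' := congrArg QuadraticAlgebra.re h
    simpa [h2] using h'
  haveI : Fintype L := Fintype.ofFinite L
  obtain ⟨bs, horth, hne, hone⟩ := Spinor.exists_ones (two_ne_zero_L h2) Q' hnd
  -- rescale the first vector
  obtain ⟨u₀, hu₀, hc⟩ : ∃ u₀ : L, u₀ ≠ 0 ∧ (Q' (bs 0) * (u₀ * u₀)).re ≠ 0 := by
    by_cases h : (Q' (bs 0)).re = 0
    · refine ⟨⟨1, 1⟩, fun e => one_ne_zero (congrArg QuadraticAlgebra.re e), ?_⟩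
      have him : (Q' (bs 0)).im ≠ 0 := fun e => hne 0 (QuadraticAlgebra.ext h e)
      simp [h, hδ0, him, h2, one_add_one_eq_two]
    · exact ⟨1, one_ne_zero, by rwa [mul_one, mul_one]⟩
  refine ⟨Q' (bs 0) * (u₀ * u₀), hc, ?_⟩
  let bs' := bs.isUnitSMul (w := fun i => if i = 0 then u₀ else 1) fun i => by split_ifs <;> simp [hu₀]
  have hbs' : ∀ i j, b (e₀ (bs' i)) (e₀ (bs' j)) = if i = j then wgt (Q' (bs 0) * (u₀ * u₀)) i else 0 := fun i j => by
    by_cases hij : i = j
    · subst hij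
      rw [if_pos rfl]
      simp only [bs', Module.Basis.isUnitSMul_apply, map_smul, LinearMap.smul_apply, smul_eq_mul]
      by_cases hi : i = 0
      · subst hi
        simp only [wgt, if_true, Fin.val_zero]
        show u₀ * (u₀ * b (e₀ (bs 0)) (e₀ (bs 0))) = Qb (e₀ (bs 0)) * (u₀ * u₀)
        rw [hQb]; ring
      · simp only [wgt, if_neg hi, if_neg (fun h : (i : ℕ) = 0 => hi (Fin.ext h)), one_mul]
        exact hone i hi
    · rw [if_neg hij]
      have h := horth i j hij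
      rw [hpol, mul_eq_zero, or_iff_right (two_ne_zero_L h2)] at h
      simp only [bs', Module.Basis.isUnitSMul_apply, map_smul, LinearMap.smul_apply, h, smul_zero]
  let E : (Fin (n + 1) → L) ≃ₗ[L] V := (bs'.map e₀).equivFun.symm
  refine ⟨E.restrictScalars F, fun u => ?_, fun u => ?_⟩
  · show Q (E u) = _
    rw [← hre, hQb, coordForm]
    congr 1
    simp only [E, Module.Basis.equivFun_symm_apply, Module.Basis.map_apply, map_sum, map_smul,
      LinearMap.sum_apply, LinearMap.smul_apply, smul_eq_mul, hbs']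
    refine Finset.sum_congr rfl fun i _ => ?_
    rw [Finset.sum_eq_single i (fun j _ hj => by simp [hj]) (by simp), if_pos rfl]
    ring
  · show J (E u) = E (_ • u)
    rw [map_smul, hsmul]
    simp

section

variable {ι : Type} [Fintype ι] [DecidableEq ι] {Q : QuadraticForm F (ι → F)}

/-- An orthogonal basis over the ground field. -/
private theorem isOrth_coords (h2 : (2 : F) ≠ 0) {d : ℕ} {c : L} (hc : c.re ≠ 0)
    (e : (Fin d → L) ≃ₗ[F] (ι → F)) (he : ∀ u, Q (e u) = coordForm c u) (hd : 0 < d) :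
    ∃ v : Fin d × Fin 2 → ι → F, TwoRank.IsOrth Q v ∧
      ∃ t : F, t ≠ 0 ∧ ∏ i, Q (v i) = δ ^ d * QuadraticAlgebra.norm c * (t * t) := by
  classical
  have hδ0 : δ ≠ 0 := delta_ne_zero
  let z : Fin d → L := fun i => QuadraticAlgebra.omega * star (wgt c i)
  let p : Fin d × Fin 2 → L := fun i => if i.2 = 0 then 1 else z i.1
  let v : Fin d × Fin 2 → ι → F := fun i => e (Pi.single i.1 (p i))
  have hQv : ∀ i, Q (v i) = (wgt c i.1 * (p i * p i)).re := fun i => by
    rw [he, coordForm]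
    congr 1
    rw [Finset.sum_eq_single i.1 (fun j _ hj => by simp [hj]) (by simp)]
    simp
  have hw : ∀ i : Fin d, (wgt c i).re ≠ 0 := fun i => by
    rw [wgt]; split_ifs
    · exact hc
    · simp
  have hval : ∀ i : Fin d, Q (v (i, 0)) = (wgt c i).re ∧
      Q (v (i, 1)) = δ * QuadraticAlgebra.norm (wgt c i) * (wgt c i).re := fun i => by
    rw [hQv, hQv]
    constructor
    · simp [p]
    · simp [p, z, QuadraticAlgebra.norm_def]
      ring
  have hne : ∀ i, Q (v i) ≠ 0 := fun i => by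
    obtain ⟨i, j⟩ := i
    fin_cases j
    · exact (hval i).1 ▸ hw i
    · rw [show ((⟨1, by omega⟩ : Fin 2)) = 1 from rfl, (hval i).2]
      refine mul_ne_zero (mul_ne_zero hδ0 fun h => ?_) (hw i)
      exact hw i (by rw [QuadraticAlgebra.norm_eq_zero_iff_eq_zero.1 h]; rfl)
  have horth : ∀ i j, i ≠ j → polar Q (v i) (v j) = 0 := fun i j hij => by
    simp only [polar, v, ← map_add, he, coordForm, ← QuadraticAlgebra.re_sub, ← Finset.sum_sub_distrib]
    by_cases h1 : i.1 = j.1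
    · rw [Finset.sum_eq_single i.1 (fun k _ hk => by simp [hk, h1 ▸ hk]) (by simp)]
      obtain ⟨i, a⟩ := i
      obtain ⟨j, b⟩ := j
      simp only at h1
      subst h1
      fin_cases a <;> fin_cases b <;> simp at hij <;> simp [p, z] <;> ring
    · refine (congrArg QuadraticAlgebra.re (Finset.sum_eq_zero fun k _ => ?_)).trans rfl
      by_cases hk : k = i.1
      · subst hk; simp [h1]
      · simp [hk]
  have hli : LinearIndependent F v := by
    refine LinearMap.BilinForm.linearIndependent_of_iIsOrtho (B := polarBilin Q) ?_ fun i => ?_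
    · exact fun i j hij => horth i j hij
    · show ¬ polar Q (v i) (v i) = 0
      rw [polar_self']
      exact mul_ne_zero h2 (hne i)
  refine ⟨v, ⟨horth, hne, (hli.span_eq_top_of_card_eq_finrank' ?_).ge⟩, ?_⟩
  · rw [← e.finrank_eq, finrank_pi_fintype, Finset.sum_const, Finset.card_univ, Fintype.card_fin,
      QuadraticAlgebra.finrank_eq_two, Fintype.card_prod, Fintype.card_fin, Fintype.card_fin, smul_eq_mul]
  · refine ⟨c.re, hc, ?_⟩
    rw [Fintype.prod_prod_type]
    simp only [Fin.prod_univ_two, fun i => (hval i).1, fun i => (hval i).2]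
    obtain ⟨n, rfl⟩ : ∃ n, d = n + 1 := ⟨d - 1, by omega⟩
    rw [Fin.prod_univ_succ]
    simp [wgt]
    ring

/-- All roots are conjugate under the isometry group. -/
theorem exists_conj (h2 : (2 : F) ≠ 0) (hQ : (polarBilin Q).Nondegenerate) {J₁ J₂ : (ι → F) →ₗ[F] (ι → F)}
    (h₁ : IsSRoot Q δ J₁) (h₂ : IsSRoot Q δ J₂) {d : ℕ} (hd : 0 < d) (hdim : Fintype.card ι = 2 * d) :
    ∃ g ∈ oGroup Q, ∀ v, g (J₁ v) = J₂ (g v) := by
  classical
  have hfr : finrank F (ι → F) = 2 * d := by rw [finrank_fintype_fun_eq_card, hdim]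
  obtain ⟨c₁, hc₁, e₁, he₁, hJ₁⟩ := exists_coords hQ h2 h₁ hd hfr
  obtain ⟨c₂, hc₂, e₂, he₂, hJ₂⟩ := exists_coords hQ h2 h₂ hd hfr
  obtain ⟨v₁, hv₁, t₁, ht₁, hp₁⟩ := isOrth_coords h2 hc₁ e₁ he₁ hd
  obtain ⟨v₂, hv₂, t₂, ht₂, hp₂⟩ := isOrth_coords h2 hc₂ e₂ he₂ hd
  have h := TwoRank.disc_eq h2 hv₁ hv₂
  have hδd : δ ^ d ≠ 0 := pow_ne_zero _ delta_ne_zero
  have hn : ∀ {c : L}, c.re ≠ 0 → QuadraticAlgebra.norm c ≠ 0 := fun hc h =>
    hc (by rw [QuadraticAlgebra.norm_eq_zero_iff_eq_zero.1 h]; rfl)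
  have hc₁0 : c₁ ≠ 0 := fun h => hc₁ (by rw [h]; rfl)
  have hc₂0 : c₂ ≠ 0 := fun h => hc₂ (by rw [h]; rfl)
  rw [hp₁, hp₂, TwoRank.cls_mul (mul_ne_zero hδd (hn hc₁)) (mul_ne_zero ht₁ ht₁),
    TwoRank.cls_mul (mul_ne_zero hδd (hn hc₂)) (mul_ne_zero ht₂ ht₂), TwoRank.cls_sq, TwoRank.cls_sq,
    TwoRank.cls_mul hδd (hn hc₁), TwoRank.cls_mul hδd (hn hc₂), mul_one, mul_one, mul_right_inj] at h
  have hsq : IsSquare (c₁ * c₂) := isSquare_of_norm h2 (mul_ne_zero hc₁0 hc₂0) (by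
    rw [map_mul, ← TwoRank.cls_eq_one, TwoRank.cls_mul (hn hc₁) (hn hc₂), h, ← TwoRank.cls_mul (hn hc₂) (hn hc₂),
      TwoRank.cls_sq])
  obtain ⟨s, hs⟩ := hsq
  have hs0 : s ≠ 0 := fun h => mul_ne_zero hc₁0 hc₂0 (by rw [hs, h, mul_zero])
  set z := s / c₂ with hz
  have hz2 : c₂ * (z * z) = c₁ := by
    rw [hz]
    field_simp
    linear_combination -hs
  let S : (Fin d → L) ≃ₗ[F] (Fin d → L) :=
    LinearEquiv.piCongrRight fun i => (LinearEquiv.smulOfNeZero L L (wgt z i)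
      (by rw [wgt]; split_ifs <;> simp [hz, div_ne_zero, hs0, hc₂0])).restrictScalars F
  have hS : ∀ u i, S u i = wgt z i * u i := fun u i => rfl
  refine ⟨e₁.symm.trans (S.trans e₂), fun v => ?_, fun v => ?_⟩
  · obtain ⟨u, rfl⟩ := e₁.surjective v
    simp only [LinearEquiv.trans_apply, LinearEquiv.symm_apply_apply, he₁, he₂, coordForm, hS]
    congr 1
    refine Finset.sum_congr rfl fun i _ => ?_
    simp only [wgt]
    split_ifs
    · rw [← hz2]; ring
    · ring
  · obtain ⟨u, rfl⟩ := e₁.surjective v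
    simp only [LinearEquiv.trans_apply, hJ₁, LinearEquiv.symm_apply_apply, hJ₂]
    congr 1
    funext i
    simp only [hS, Pi.smul_apply, smul_eq_mul]
    ring

/-- Membership in `Ω`. -/
theorem glOf_mem_omega (h2 : (2 : F) ≠ 0) (hQ : (polarBilin Q).Nondegenerate) (g : oGroup Q)
    (hd : Spinor.dick g = 1) (hs : Spinor.spin g = 1) :
    TransvMax.glOf g.1 ∈ Cfsg.Geo.omegaGL ⇑Q := by
  refine ⟨(oEquiv Q).symm g, ?_, ?_⟩
  · refine (OrthRows.mem_omega hQ (Or.inl (Spinor.card_ne_two h2))).2 ⟨?_, ?_⟩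
    · show Spinor.dick (oEquiv Q ((oEquiv Q).symm g)) = 1
      rw [MulEquiv.apply_symm_apply, hd]
    · show Spinor.spin (oEquiv Q ((oEquiv Q).symm g)) = 1
      rw [MulEquiv.apply_symm_apply, hs]
  · refine TransvMax.gl_ext fun v => ?_
    rw [TransvMax.glOf_mulVec]
    exact LinearMap.toMatrix'_mulVec g.1.toLinearMap v

/-- An isometry of odd order lies in `Ω`. -/
theorem glOf_mem_omega_of_pow (h2 : (2 : F) ≠ 0) (hQ : (polarBilin Q).Nondegenerate) {g : (ι → F) ≃ₗ[F] (ι → F)}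
    (hg : g ∈ oGroup Q) {r : ℕ} (hr : Odd r) (hgr : g ^ r = 1) :
    TransvMax.glOf g ∈ Cfsg.Geo.omegaGL ⇑Q := by
  have hgen := Spinor.reflGroup_eq_top_of_odd hQ h2
  have hone : ∀ φ : oGroup Q →* ℤˣ, φ ⟨g, hg⟩ = 1 := fun φ => by
    have h : φ ⟨g, hg⟩ ^ r = 1 := by
      rw [← map_pow, show (⟨g, hg⟩ : oGroup Q) ^ r = 1 from Subtype.ext hgr, map_one]
    rcases Int.units_eq_one_or (φ ⟨g, hg⟩) with h' | h'
    · exact h'
    · rw [h', hr.neg_one_pow] at h; exact absurd h (by decide)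
  exact glOf_mem_omega h2 hQ ⟨g, hg⟩ (hone (Spinor.dickHom hQ hgen)) (hone (Spinor.spinHom hQ hgen))

/-- Two orbits at most: a root is carried by `Ω` to one of any pair swapped by an improper isometry. -/
theorem exists_omega_conj (h2 : (2 : F) ≠ 0) (hQ : (polarBilin Q).Nondegenerate)
    {J₀ J₁ : (ι → F) →ₗ[F] (ι → F)} (h₀ : IsSRoot Q δ J₀) (h₁ : IsSRoot Q δ J₁) (c : oGroup Q)
    (hc : Spinor.dick c = -1) {d : ℕ} (hd : 2 ≤ d) (hdim : Fintype.card ι = 2 * d) :
    ∃ g : (ι → F) ≃ₗ[F] (ι → F), TransvMax.glOf g ∈ Cfsg.Geo.omegaGL ⇑Q ∧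
      ((∀ v, g (J₀ v) = J₁ (g v)) ∨ (∀ v, g (J₀ v) = c.1 (J₁ (c.1.symm (g v))))) := by
  classical
  have hgen := Spinor.reflGroup_eq_top_of_odd hQ h2
  have hfr : finrank F (ι → F) = 2 * d := by rw [finrank_fintype_fun_eq_card, hdim]
  obtain ⟨c₀, hc₀, e, he, hJe⟩ := exists_coords hQ h2 h₀ (by omega) hfr
  -- an element centralising `J₀` with non-square spinor norm
  let i₁ : Fin d := ⟨1, by omega⟩
  set v₁ := e (Pi.single i₁ 1)
  set v₂ := e (Pi.single i₁ QuadraticAlgebra.omega)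
  have hw : wgt c₀ i₁ = 1 := if_neg (by simp [i₁])
  have hQ₁ : Q v₁ = 1 := by
    rw [he, coordForm, Finset.sum_eq_single i₁ (fun j _ hj => by simp [hj]) (by simp)]
    simp [hw]
  have hQ₂ : Q v₂ = δ := by
    rw [he, coordForm, Finset.sum_eq_single i₁ (fun j _ hj => by simp [hj]) (by simp)]
    simp [hw]
  have hv₁ : Q v₁ ≠ 0 := by rw [hQ₁]; exact one_ne_zero
  have hv₂ : Q v₂ ≠ 0 := by rw [hQ₂]; exact delta_ne_zero
  set h := oRefl Q v₁ hv₁ * oRefl Q v₂ hv₂ with hh
  have hdh : Spinor.dick h = 1 := by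
    rw [hh, Spinor.dick_mul hQ hgen, Spinor.dick_oRefl hQ, Spinor.dick_oRefl hQ]; rfl
  have hsh : Spinor.spin h = -1 := by
    rw [hh, Spinor.spin_mul hQ hgen, Spinor.spin_oRefl hQ, Spinor.spin_oRefl hQ, hQ₁, hQ₂, if_pos IsSquare.one,
      if_neg (delta_not_isSquare (δ := δ)), one_mul]
  have hp : ∀ (u : Fin d → L) (a : L), polar Q (e u) (e (Pi.single i₁ a)) = 2 * (u i₁ * a).re := fun u a => by
    simp only [polar, ← map_add, he, coordForm, ← QuadraticAlgebra.re_sub, ← Finset.sum_sub_distrib]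
    rw [Finset.sum_eq_single i₁ (fun j _ hj => by simp [hj]) (by simp)]
    simp [hw]
    ring
  have hhe : ∀ u, h.1 (e u) = e (fun j => if j = i₁ then -u j else u j) := fun u => by
    show refl Q v₁ hv₁ (refl Q v₂ hv₂ (e u)) = _
    simp only [refl_apply, hQ₁, hQ₂, v₁, v₂, hp, ← map_smul, ← map_sub]
    congr 1
    funext j
    by_cases hj : j = i₁
    · subst hj
      have hδ0 : δ ≠ 0 := delta_ne_zero
      ext <;> simp <;> field_simp <;> ring
    · simp [hj]
  have hhJ : ∀ v, h.1 (J₀ v) = J₀ (h.1 v) := fun v => by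
    obtain ⟨u, rfl⟩ := e.surjective v
    rw [hJe, hhe, hhe, hJe]
    congr 1
    funext j
    simp only [Pi.smul_apply, smul_eq_mul]
    split_ifs <;> ring
  obtain ⟨g₀, hg₀, hgJ⟩ := exists_conj h2 hQ h₀ h₁ (by omega) hdim
  obtain ⟨g, hdg, hg⟩ : ∃ g : oGroup Q, Spinor.dick g = 1 ∧
      ((∀ v, g.1 (J₀ v) = J₁ (g.1 v)) ∨ (∀ v, g.1 (J₀ v) = c.1 (J₁ (c.1.symm (g.1 v))))) := by
    rcases Int.units_eq_one_or (Spinor.dick (⟨g₀, hg₀⟩ : oGroup Q)) with h' | h'
    · exact ⟨_, h', Or.inl hgJ⟩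
    · refine ⟨c * ⟨g₀, hg₀⟩, by rw [Spinor.dick_mul hQ hgen, hc, h']; rfl, Or.inr fun v => ?_⟩
      show c.1 (g₀ (J₀ v)) = c.1 (J₁ (c.1.symm (c.1 (g₀ v))))
      rw [LinearEquiv.symm_apply_apply, hgJ]
  rcases Int.units_eq_one_or (Spinor.spin g) with h' | h'
  · exact ⟨g.1, glOf_mem_omega h2 hQ g hdg h', hg⟩
  · refine ⟨(g * h).1, glOf_mem_omega h2 hQ (g * h) ?_ ?_, ?_⟩
    · rw [Spinor.dick_mul hQ hgen, hdg, hdh, one_mul]
    · rw [Spinor.spin_mul hQ hgen, h', hsh]; rfl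
    · refine hg.imp (fun hg v => ?_) (fun hg v => ?_) <;>
        show g.1 (h.1 (J₀ v)) = _ <;> rw [hhJ, hg] <;> rfl

end

end

end Cfsg.Agent.SymRoot
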