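import Cfsg.Agent.Lib.TransvMax.QuadPerp
import Mathlib.LinearAlgebra.QuadraticForm.Basic

/-!
In every characteristic the Siegel transformations lie in the derived group of the orthogonal group
and generate it.
-/

set_option autoImplicit false

namespace Cfsg.Agent.QMax

open scoped Matrix MatrixGroups commutatorElement
open Cfsg.Agent Cfsg.Agent.TransvMax

variable {ι : Type} [Fintype ι] [DecidableEq ι] {F : Type*} [Field F]
  {Q : QuadraticForm F (ι → F)} (S : QSetting Q)

include S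

/-- The group generated by the Siegel transformations. -/
def siegelGroup : Subgroup ((ι → F) ≃ₗ[F] (ι → F)) :=
  Subgroup.closure {g | ∃ u w, ∃ (hu : Q u = 0) (hw : pB Q w u = 0), g = S.siegel u w hu hw}

theorem siegel_mem_siegelGroup {u w : ι → F} (hu : Q u = 0) (hw : pB Q w u = 0) :
    S.siegel u w hu hw ∈ siegelGroup S := Subgroup.subset_closure ⟨u, w, hu, hw, rfl⟩

theorem siegelGroup_le : siegelGroup S ≤ FormsLib.oGroup Q := by
  refine (Subgroup.closure_le _).2 ?_
  rintro _ ⟨u, w, hu, hw, rfl⟩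
  exact S.siegel_mem_oGroup hu hw

variable [Finite F]

/-- Transitivity on non-zero vectors of equal norm. -/
theorem exists_siegelGroup_map {x y : ι → F} (hx : x ≠ 0) (hy : y ≠ 0) (h : Q x = Q y) :
    ∃ g ∈ siegelGroup S, g x = y := by
  have step : ∀ a b : ι → F, Q a = Q b → LinearIndependent F ![a, b] →
      ∃ g ∈ siegelGroup S, g a = b := by
    intro a b hab hli
    obtain ⟨u, -, hu, hu'⟩ := S.topDec.exists_values_in (v := ![a, b]) (fun i => Submodule.mem_top) hli
      (by rw [S.finrank_top_eq]; have := S.dim; omega) ![1, 1] 0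
    have hau : pB Q a u = 1 := by rw [S.pB_comm]; exact hu' 0
    have hbu : pB Q b u = 1 := by rw [S.pB_comm]; exact hu' 1
    have hw : pB Q (b - a) u = 0 := by rw [map_sub, LinearMap.sub_apply, hau, hbu, sub_self]
    exact ⟨_, siegel_mem_siegelGroup S hu hw, S.siegel_map hu hau hab hw⟩
  obtain ⟨z, -, hQz, -, hz⟩ := S.topDec.exists_norm_out (k := 0) ![]
    (Submodule.span F (Set.range ![x, y])) (by rw [S.finrank_top_eq]; have := S.dim; omega) (by
      have : Module.finrank F (Submodule.span F (Set.range ![x, y])) ≤ 2 :=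
        (finrank_range_le_card ![x, y]).trans (by simp)
      rw [S.finrank_top_eq]
      have := S.dim
      omega) (Q x)
  have hzne : ∀ v ∈ ({x, y} : Set (ι → F)), v ≠ 0 → LinearIndependent F ![v, z] := fun v hv hv0 =>
    (LinearIndependent.pair_iff' hv0).2 fun c e => hz (e ▸ Submodule.smul_mem _ c
      (Submodule.subset_span (by rcases hv with rfl | rfl; exacts [⟨0, rfl⟩, ⟨1, rfl⟩])))
  obtain ⟨g₁, hg₁, e₁⟩ := step x z hQz.symm (hzne x (Or.inl rfl) hx)
  obtain ⟨g₂, hg₂, e₂⟩ := step z y (hQz.trans h)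
    (LinearIndependent.pair_symm_iff.1 (hzne y (Or.inr rfl) hy))
  exact ⟨g₂ * g₁, mul_mem hg₂ hg₁, by rw [LinearEquiv.mul_apply, e₁, e₂]⟩

omit [Finite F] in
/-- Reflections and Siegel transformations generate the orthogonal group. -/
theorem oGroup_le_of_gens {M : Subgroup ((ι → F) ≃ₗ[F] (ι → F))}
    (hS : ∀ u w (hu : Q u = 0) (hw : pB Q w u = 0), S.siegel u w hu hw ∈ M)
    (hR : ∀ v (hv : Q v ≠ 0), FormsLib.refl Q v hv ∈ M) : FormsLib.oGroup Q ≤ M := by
  let Fx : ((ι → F) ≃ₗ[F] (ι → F)) → Submodule F (ι → F) := fun g =>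
    LinearMap.ker ((g : (ι → F) →ₗ[F] (ι → F)) - LinearMap.id)
  have hFx : ∀ g x, x ∈ Fx g ↔ g x = x := fun g x => by simp [Fx, sub_eq_zero]
  suffices h : ∀ d, ∀ g ∈ FormsLib.oGroup Q,
      Fintype.card ι - Module.finrank F (Fx g) = d → g ∈ M from fun g hg => h _ g hg rfl
  intro d
  induction d using Nat.strong_induction_on with
  | _ d ih =>
  intro g hg hd
  by_cases h1 : g = 1
  · rw [h1]; exact one_mem _
  have key : ∀ T ∈ M, T ∈ FormsLib.oGroup Q → (∀ f, g f = f → T f = f) →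
      (∃ a, g a ≠ a ∧ T (g a) = a) → g ∈ M := by
    rintro T hTM hTo hfix ⟨a, ha, hTa⟩
    have hle : Fx g < Fx (T * g) := by
      refine lt_of_le_of_ne (fun f hf => ?_) fun e => ha ((hFx g a).1 (e.symm ▸ (hFx _ a).2 ?_))
      · rw [hFx] at hf ⊢
        rw [LinearEquiv.mul_apply, hf, hfix f hf]
      · rw [LinearEquiv.mul_apply, hTa]
    have h2 := Submodule.finrank_lt_finrank_of_lt hle
    have h3 := Submodule.finrank_le (Fx (T * g))
    rw [Module.finrank_fintype_fun_eq_card] at h3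
    simpa using M.mul_mem (M.inv_mem hTM) (ih _ (by omega) (T * g) (mul_mem hTo hg) rfl)
  by_cases hc : ∃ x, Q (g x - x) ≠ 0
  · obtain ⟨x, hx⟩ := hc
    refine key _ (hR _ hx) (FormsLib.refl_mem Q hx) (fun f hf => FormsLib.refl_fix Q hx ?_)
      ⟨x, fun e => hx (by rw [e, sub_self, QuadraticMap.map_zero]), FormsLib.refl_sub_apply Q (hg x) hx⟩
    rw [← QuadraticMap.polarBilin_apply_apply, map_sub]
    nth_rw 1 [← hf]
    rw [S.pB_of_mem hg, sub_self]
  push Not at hc
  have hBB : ∀ x y, pB Q (g x - x) (g y - y) = 0 := by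
    intro x y
    have h := S.quad_add (g x - x) (g y - y)
    rw [show g x - x + (g y - y) = g (x + y) - (x + y) by rw [map_add]; abel, hc, hc, hc] at h
    linear_combination -h
  have hself : ∀ x, pB Q x (g x - x) = 0 := by
    intro x
    have h := S.quad_add x (g x - x)
    rw [add_sub_cancel, hg, hc] at h
    linear_combination -h
  have hskew : ∀ x y, pB Q x (g y - y) = -pB Q y (g x - x) := by
    intro x y
    have h := hself (x + y)
    rw [show g (x + y) - (x + y) = g x - x + (g y - y) by rw [map_add]; abel] at h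
    simp only [map_add, LinearMap.add_apply, hself] at h
    linear_combination h
  obtain ⟨a, ha⟩ : ∃ a, g a ≠ a := by
    by_contra h
    push Not at h
    exact h1 (LinearEquiv.ext h)
  obtain ⟨b, hb⟩ : ∃ b, pB Q b (g a - a) ≠ 0 := by
    by_contra h
    push Not at h
    exact ha (sub_eq_zero.1 (S.eq_of_forall fun z => by rw [h z, map_zero]))
  set β := pB Q b (g a - a)
  have hwu : pB Q (β⁻¹ • (g b - b)) (g a - a) = 0 := by
    rw [map_smul, LinearMap.smul_apply, hBB, smul_zero]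
  have hTa : S.siegel (g a - a) (β⁻¹ • (g b - b)) (hc a) hwu a = g a := by
    rw [S.siegel_apply, siegelHom_apply, hself a, map_smul, hskew a b]
    show a + (0 : F) • β⁻¹ • (g b - b) - (β⁻¹ • -β) • (g a - a) - _ = g a
    rw [smul_eq_mul, mul_neg, inv_mul_cancel₀ hb, mul_zero, zero_smul, zero_smul]
    module
  refine key _ (M.inv_mem (hS _ _ (hc a) hwu)) (inv_mem (S.siegel_mem_oGroup _ _)) (fun f hf => ?_)
    ⟨a, ha, ?_⟩
  · have hz : ∀ z, pB Q f (g z - z) = 0 := fun z => by
      rw [map_sub]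
      nth_rw 1 [← hf]
      rw [S.pB_of_mem hg, sub_self]
    have h2 : S.siegel (g a - a) (β⁻¹ • (g b - b)) (hc a) hwu f = f := by
      rw [S.siegel_apply, siegelHom_apply, hz a, map_smul, hz b]
      simp
    have h3 := congrArg (S.siegel (g a - a) (β⁻¹ • (g b - b)) (hc a) hwu).symm h2
    rw [LinearEquiv.symm_apply_apply] at h3
    exact h3.symm
  · have h2 := congrArg (S.siegel (g a - a) (β⁻¹ • (g b - b)) (hc a) hwu).symm hTa
    rw [LinearEquiv.symm_apply_apply] at h2
    exact h2.symm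

theorem siegelGroup_normal {g : (ι → F) ≃ₗ[F] (ι → F)} (hg : g ∈ FormsLib.oGroup Q)
    {s : (ι → F) ≃ₗ[F] (ι → F)} (hs : s ∈ siegelGroup S) : g * s * g⁻¹ ∈ siegelGroup S := by
  induction hs using Subgroup.closure_induction with
  | mem x hx =>
    obtain ⟨u, w, hu, hw, rfl⟩ := hx
    rw [S.siegel_conj hg]
    exact siegel_mem_siegelGroup S _ _
  | one => simp
  | mul a b _ _ ha hb =>
    have := mul_mem ha hb
    simpa [mul_assoc] using this
  | inv a _ ha =>
    have := inv_mem ha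
    simpa [mul_assoc] using this

/-- Two commuting reflections covering every norm up to squares. -/
theorem exists_two_refl : ∃ (p p' : ι → F) (hp : Q p ≠ 0) (hp' : Q p' ≠ 0),
    FormsLib.refl Q p hp * FormsLib.refl Q p' hp' = FormsLib.refl Q p' hp' * FormsLib.refl Q p hp ∧
    ∀ c : F, c ≠ 0 → ∃ t : F, t ≠ 0 ∧ (c = t * t * Q p ∨ c = t * t * Q p') := by
  obtain ⟨p, -, -, hQp⟩ := S.topDec.exists_aniso (k := 0) ![]
    (by rw [S.finrank_top_eq]; have := S.dim; omega)
  by_cases h2 : (2 : F) = 0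
  · refine ⟨p, p, hQp, hQp, rfl, fun c hc => ?_⟩
    obtain ⟨t, ht⟩ := S.exists_sq h2 (c / Q p)
    refine ⟨t, fun e => hc ?_, Or.inl (by rw [ht, div_mul_cancel₀ _ hQp])⟩
    rw [e, mul_zero, eq_comm, div_eq_zero_iff] at ht
    exact ht.resolve_right hQp
  have hodd : ringChar F ≠ 2 := fun h => h2 (by
    have := CharP.cast_eq_zero F (ringChar F); rw [h] at this; exact_mod_cast this)
  obtain ⟨ν, hν⟩ := FiniteField.exists_nonsquare (F := F) hodd
  have hν0 : ν ≠ 0 := fun e => hν (e ▸ IsSquare.zero)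
  obtain ⟨r, -, hr, hQr⟩ := S.topDec.exists_aniso (k := 1) ![p]
    (by rw [S.finrank_top_eq]; have := S.dim; omega)
  obtain ⟨e, -, he, hQe⟩ := S.topDec.exists_aniso (k := 2) ![p, r]
    (by rw [S.finrank_top_eq]; have := S.dim; omega)
  obtain ⟨s, t, hst⟩ := S.exists_binary hQr hQe (ν * Q p)
  have hrp : pB Q r p = 0 := hr 0
  have hep : pB Q e p = 0 := he 0
  have her : pB Q e r = 0 := he 1
  set p' := s • r + t • e with hp'def
  have hQp' : Q p' = ν * Q p := by
    simp only [hp'def, S.quad_add, S.quad_smul, map_smul, LinearMap.smul_apply, smul_eq_mul,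
      S.pB_comm r e, her, mul_zero, add_zero]
    linear_combination hst
  have hp'0 : Q p' ≠ 0 := by rw [hQp']; exact mul_ne_zero hν0 hQp
  have hfix : FormsLib.refl Q p' hp'0 p = p := FormsLib.refl_fix Q hp'0 (by
    rw [← QuadraticMap.polarBilin_apply_apply, S.pB_comm]
    simp [hp'def, hrp, hep])
  refine ⟨p, p', hQp, hp'0, ?_, fun c hc => ?_⟩
  · have h := FormsLib.refl_conj Q hQp (FormsLib.refl_mem Q hp'0)
    rw [FormsLib.refl_congr Q _ hQp hfix, mul_inv_eq_iff_eq_mul] at h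
    exact h.symm
  haveI := Fintype.ofFinite F
  rcases em (IsSquare (c / Q p)) with ⟨d, hd⟩ | hns
  · refine ⟨d, fun e => hc ?_, Or.inl (by rw [← hd, div_mul_cancel₀ _ hQp])⟩
    rw [e, mul_zero, div_eq_zero_iff] at hd
    exact hd.resolve_right hQp
  · have hd0 : c / Q p ≠ 0 := div_ne_zero hc hQp
    have h1 := (FiniteField.pow_dichotomy hodd hd0).resolve_left
      ((FiniteField.isSquare_iff hodd hd0).not.1 hns)
    have h3 := (FiniteField.pow_dichotomy hodd hν0).resolve_left
      ((FiniteField.isSquare_iff hodd hν0).not.1 hν)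
    obtain ⟨d, hd⟩ : IsSquare (c / Q p') := by
      refine (FiniteField.isSquare_iff hodd (div_ne_zero hc hp'0)).2 ?_
      rw [show c / Q p' = c / Q p / ν by rw [hQp', div_div, mul_comm ν], div_pow, h1, h3,
        div_self (neg_ne_zero.2 one_ne_zero)]
    refine ⟨d, fun e => hc ?_, Or.inr (by rw [← hd, div_mul_cancel₀ _ hp'0])⟩
    rw [e, mul_zero, div_eq_zero_iff] at hd
    exact hd.resolve_right hp'0

/-- Commutators of isometries are products of Siegel transformations. -/
theorem commutator_le_siegelGroup :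
    ⁅FormsLib.oGroup Q, FormsLib.oGroup Q⁆ ≤ siegelGroup S := by
  set Sg := siegelGroup S with hSg
  obtain ⟨p, p', hQp, hp'0, hAB, hcov⟩ := exists_two_refl S
  set A := FormsLib.refl Q p hQp
  set B := FormsLib.refl Q p' hp'0
  let Rg : Subgroup ((ι → F) ≃ₗ[F] (ι → F)) := Subgroup.closure {A, B}
  have hRo : Rg ≤ FormsLib.oGroup Q := (Subgroup.closure_le _).2 (by
    rintro x (rfl | rfl) <;> exact FormsLib.refl_mem Q _)
  have hRc : ∀ a ∈ Rg, ∀ b ∈ Rg, a * b = b * a := by
    have hgen : ∀ a ∈ ({A, B} : Set _), ∀ b ∈ ({A, B} : Set _), a * b = b * a := by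
      rintro a (rfl | rfl) b (rfl | rfl) <;> first | rfl | exact hAB | exact hAB.symm
    haveI := Subgroup.isMulCommutative_closure hgen
    intro a ha b hb
    exact congrArg Subtype.val (IsMulCommutative.is_comm.comm (⟨a, ha⟩ : Rg) ⟨b, hb⟩)
  let M : Subgroup ((ι → F) ≃ₗ[F] (ι → F)) :=
    { carrier := {g | ∃ x ∈ Sg, ∃ y ∈ Rg, g = x * y}
      one_mem' := ⟨1, one_mem _, 1, one_mem _, by simp⟩
      mul_mem' := by
        rintro _ _ ⟨x, hx, y, hy, rfl⟩ ⟨x', hx', y', hy', rfl⟩
        exact ⟨x * (y * x' * y⁻¹), mul_mem hx (siegelGroup_normal S (hRo hy) hx'), y * y',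
          mul_mem hy hy', by group⟩
      inv_mem' := by
        rintro _ ⟨x, hx, y, hy, rfl⟩
        exact ⟨y⁻¹ * x⁻¹ * y⁻¹⁻¹, siegelGroup_normal S (inv_mem (hRo hy)) (inv_mem hx), y⁻¹,
          inv_mem hy, by group⟩ }
  have hOM : FormsLib.oGroup Q ≤ M := by
    refine oGroup_le_of_gens S
      (fun u w hu hw => ⟨_, siegel_mem_siegelGroup S hu hw, 1, one_mem _, (mul_one _).symm⟩)
      fun v hv => ?_
    have key : ∀ (z : ι → F) (hz : Q z ≠ 0), FormsLib.refl Q z hz ∈ Rg →
        ∀ c : F, c ≠ 0 → Q v = c * c * Q z → FormsLib.refl Q v hv ∈ M := by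
      intro z hz hzR c hc hcz
      have hcz' : Q (c • z) ≠ 0 := by rw [S.quad_smul]; exact mul_ne_zero (mul_ne_zero hc hc) hz
      obtain ⟨g, hg, hgz⟩ := exists_siegelGroup_map S
        (smul_ne_zero hc fun e => hz (by rw [e, QuadraticMap.map_zero]))
        (fun e => hv (by rw [e, QuadraticMap.map_zero])) ((S.quad_smul c z).trans hcz.symm)
      have e1 : FormsLib.refl Q (c • z) hcz' = FormsLib.refl Q z hz := LinearEquiv.ext fun x => by
        rw [FormsLib.refl_apply, FormsLib.refl_apply, QuadraticMap.polar_smul_right, S.quad_smul,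
          smul_smul, smul_eq_mul]
        congr 2
        field_simp
      have h1 := FormsLib.refl_conj Q (v := c • z) hcz' (siegelGroup_le S hg)
      rw [FormsLib.refl_congr Q _ hv hgz, e1] at h1
      set T := FormsLib.refl Q z hz
      refine ⟨g * (T * g⁻¹ * T⁻¹), mul_mem hg (siegelGroup_normal S (hRo hzR) (inv_mem hg)), T, hzR, ?_⟩
      rw [← h1]
      group
    obtain ⟨t, ht, h | h⟩ := hcov (Q v) hv
    · exact key p hQp (Subgroup.subset_closure (Or.inl rfl)) t ht h
    · exact key p' hp'0 (Subgroup.subset_closure (Or.inr rfl)) t ht h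
  rw [Subgroup.commutator_le]
  intro g hg h hh
  obtain ⟨x, hx, y, hy, rfl⟩ := hOM hg
  obtain ⟨x', hx', y', hy', rfl⟩ := hOM hh
  have e : ⁅x * y, x' * y'⁆ = x * (y * x' * y⁻¹) * ((y * y' * y⁻¹) * x⁻¹ * y'⁻¹) * x'⁻¹ := by
    rw [commutatorElement_def]
    group
  have hc1 : y * y' * y⁻¹ = y' := by rw [hRc y hy y' hy', mul_inv_cancel_right]
  rw [e, hc1]
  exact mul_mem (mul_mem (mul_mem hx (siegelGroup_normal S (hRo hy) hx'))
    (siegelGroup_normal S (hRo hy') (inv_mem hx))) (inv_mem hx')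

/-- A Siegel transformation is a commutator of isometries. -/
theorem siegel_mem_commutator {u w : ι → F} (hu : Q u = 0) (hw : pB Q w u = 0) :
    S.siegel u w hu hw ∈ ⁅FormsLib.oGroup Q, FormsLib.oGroup Q⁆ := by
  by_cases hu0 : u = 0
  · have : S.siegel u w hu hw = 1 := LinearEquiv.ext fun x => by
      rw [S.siegel_apply, siegelHom_apply, hu0]
      simp
    rw [this]
    exact one_mem _
  have aniso : ∀ (z : ι → F) (hz : pB Q z u = 0), Q z ≠ 0 →
      S.siegel u z hu hz ∈ ⁅FormsLib.oGroup Q, FormsLib.oGroup Q⁆ := by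
    intro z hz hQz
    have hzu : z ∉ Submodule.span F {u} := fun h => hQz (by
      obtain ⟨c, rfl⟩ := Submodule.mem_span_singleton.1 h
      rw [QuadraticMap.map_smul, hu, smul_zero])
    obtain ⟨z', hz'⟩ := S.exists_values (S.sing_indep_pair hu0 hzu) ![-Q z, 0]
    have hz'z : pB Q z' z = -Q z := hz' 0
    have hz'u : pB Q z' u = 0 := hz' 1
    have hru : FormsLib.refl Q z hQz u = u := FormsLib.refl_fix Q hQz (by
      rw [← QuadraticMap.polarBilin_apply_apply, S.pB_comm]; exact hz)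
    have hrz : FormsLib.refl Q z hQz z' = z' + z := by
      rw [FormsLib.refl_apply, ← QuadraticMap.polarBilin_apply_apply, hz'z, mul_neg,
        inv_mul_cancel₀ hQz, neg_smul, one_smul, sub_neg_eq_add]
    have hzz : pB Q (z' + z) u = 0 := by rw [map_add, LinearMap.add_apply, hz'u, hz, add_zero]
    have h2 := Subgroup.commutator_mem_commutator (FormsLib.refl_mem Q hQz)
      (S.siegel_mem_oGroup hu hz'u)
    rwa [commutatorElement_def, S.siegel_conj (FormsLib.refl_mem Q hQz), S.siegel_inv,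
      S.siegel_congr hru hrz (hu' := hu) (hw' := hzz), S.siegel_mul,
      S.siegel_congr rfl (show z' + z + -z' = z by abel) (hu' := hu) (hw' := hz)] at h2
  by_cases hQw : Q w = 0
  · obtain ⟨p, -, hp, hQp⟩ := S.topDec.exists_aniso (k := 2) ![u, w]
      (by rw [S.finrank_top_eq]; have := S.dim; omega)
    have hpu : pB Q p u = 0 := hp 0
    have hpw : pB Q p w = 0 := hp 1
    have hwp : pB Q (w - p) u = 0 := by rw [map_sub, LinearMap.sub_apply, hw, hpu, sub_zero]
    have hQwp : Q (w - p) ≠ 0 := by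
      rw [sub_eq_add_neg, S.quad_add, QuadraticMap.map_neg, map_neg, hQw, S.pB_comm w p, hpw,
        neg_zero, add_zero, zero_add]
      exact hQp
    rw [S.siegel_congr rfl (add_sub_cancel p w).symm (hu' := hu)
      (hw' := by rw [add_sub_cancel]; exact hw), ← S.siegel_mul hu hpu hwp]
    exact mul_mem (aniso p hpu hQp) (aniso _ hwp hQwp)
  · exact aniso w hw hQw

omit [Finite F] in
theorem glOf_mem_isometryGroup {g : (ι → F) ≃ₗ[F] (ι → F)} :
    glOf g ∈ Cfsg.isometryGroup F ⇑Q ↔ g ∈ FormsLib.oGroup Q := by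
  refine ⟨fun h v => ?_, fun h u v => ?_⟩
  · have := h v v
    simpa using this
  · show Q (((glOf g : GL ι F) : Matrix ι ι F) *ᵥ u) = Q u
    rw [glOf_mulVec]
    exact h u

omit [Finite F] in
theorem omegaGL_eq : Cfsg.Geo.omegaGL ⇑Q = ⁅FormsLib.oGroup Q, FormsLib.oGroup Q⁆.map glOf := by
  have h : (FormsLib.oGroup Q).map (glOf (ι := ι) (F := F)) = Cfsg.isometryGroup F ⇑Q := by
    refine le_antisymm (Subgroup.map_le_iff_le_comap.2 fun g hg => (glOf_mem_isometryGroup S).2 hg)
      fun g hg => ⟨linOf g, ?_, glOf_linOf g⟩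
    rw [← glOf_linOf g] at hg
    exact (glOf_mem_isometryGroup S).1 hg
  rw [Subgroup.map_commutator, h, Cfsg.Geo.omegaGL, Cfsg.Omega, map_commutator_eq]
  simp

theorem glOf_siegel_mem_omega {u w : ι → F} (hu : Q u = 0) (hw : pB Q w u = 0) :
    glOf (S.siegel u w hu hw) ∈ Cfsg.Geo.omegaGL ⇑Q := by
  rw [omegaGL_eq S]
  exact ⟨_, siegel_mem_commutator S hu hw, rfl⟩

omit [Finite F] in
theorem omegaGL_iso {g : GL ι F} (hg : g ∈ Cfsg.Geo.omegaGL ⇑Q) : linOf g ∈ FormsLib.oGroup Q := by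
  obtain ⟨x, -, rfl⟩ := hg
  exact fun v => x.2 v v

/-- The criterion for maximality inside the derived orthogonal group. -/
theorem omegaGL_le_of_siegel {K : Subgroup (GL ι F)}
    (h : ∀ u w (hu : Q u = 0) (hw : pB Q w u = 0), glOf (S.siegel u w hu hw) ∈ K) :
    Cfsg.Geo.omegaGL ⇑Q ≤ K := by
  rw [omegaGL_eq S, Subgroup.map_le_iff_le_comap]
  refine (commutator_le_siegelGroup S).trans ((Subgroup.closure_le _).2 ?_)
  rintro _ ⟨u, w, hu, hw, rfl⟩
  exact h u w hu hw

theorem maximal_in_omegaGL (H : Subgroup (GL ι F)) (hH : H ≤ Cfsg.Geo.omegaGL ⇑Q)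
    (hne : ∃ g ∈ Cfsg.Geo.omegaGL ⇑Q, g ∉ H)
    (hover : ∀ K : Subgroup (GL ι F), H ≤ K → K ≤ Cfsg.Geo.omegaGL ⇑Q → (∃ g ∈ K, g ∉ H) →
      ∀ u w (hu : Q u = 0) (hw : pB Q w u = 0), glOf (S.siegel u w hu hw) ∈ K) :
    Cfsg.Geo.IsMaximalIn (Cfsg.Geo.omegaGL ⇑Q) H := by
  obtain ⟨g₀, hg₀, hg₀H⟩ := hne
  refine ⟨lt_of_le_of_ne hH fun e => hg₀H (e ▸ hg₀), fun K hHK hK => ?_⟩
  rcases hHK.eq_or_lt with e | hlt
  · exact Or.inl e.symm
  exact Or.inr (le_antisymm hK
    (omegaGL_le_of_siegel S (hover K hHK hK (SetLike.exists_of_lt hlt))))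

/-- Two reflections at vectors of equal norm multiply to an element of the derived group. -/
theorem refl_pair_mem_omega {p p' : ι → F} (hp : Q p ≠ 0) (hp' : Q p' ≠ 0) (h : Q p = Q p') :
    glOf (FormsLib.refl Q p' hp' * FormsLib.refl Q p hp) ∈ Cfsg.Geo.omegaGL ⇑Q := by
  obtain ⟨g, hg, hgp⟩ := exists_siegelGroup_map S
    (fun e => hp (by rw [e, QuadraticMap.map_zero])) (fun e => hp' (by rw [e, QuadraticMap.map_zero])) h
  rw [omegaGL_eq S]
  refine ⟨_, Subgroup.commutator_mem_commutator (siegelGroup_le S hg) (FormsLib.refl_mem Q hp), ?_⟩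
  rw [commutatorElement_def, FormsLib.refl_conj Q hp (siegelGroup_le S hg), FormsLib.refl_inv,
    FormsLib.refl_congr Q _ hp' hgp]

omit [Finite F] in
/-- A torus element scaling a singular vector by a square. -/
theorem exists_torus_sq {u u' : ι → F} (hu : Q u = 0) (hu' : Q u' = 0) (huu' : pB Q u u' = 1)
    {t : F} (ht : t ≠ 0) :
    ∃ h : (ι → F) ≃ₗ[F] (ι → F), glOf h ∈ Cfsg.Geo.omegaGL ⇑Q ∧ h ∈ FormsLib.oGroup Q ∧
      h u = (t * t) • u ∧ ∀ x, pB Q x u = 0 → pB Q x u' = 0 → h x = x := by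
  have huu : pB Q u u = 0 := by rw [S.pB_self, hu, mul_zero]
  have hu'u' : pB Q u' u' = 0 := by rw [S.pB_self, hu', mul_zero]
  have hu'u : pB Q u' u = 1 := by rw [S.pB_comm, huu']
  have hQ : ∀ c : F, Q (u - c • u') = -c := fun c => by
    rw [sub_eq_add_neg, ← neg_smul, S.quad_add, S.quad_smul, hu, hu', map_smul, smul_eq_mul, huu']
    ring
  have hrefl : ∀ (c : F) (hc : Q (u - c • u') ≠ 0) (α β : F),
      FormsLib.refl Q (u - c • u') hc (α • u + β • u') = (β / c) • u + (α * c) • u' := by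
    intro c hc α β
    have hc0 : c ≠ 0 := fun e => hc (by rw [hQ, e, neg_zero])
    rw [FormsLib.refl_apply, hQ, ← QuadraticMap.polarBilin_apply_apply]
    simp only [map_add, map_sub, map_smul, LinearMap.add_apply, LinearMap.smul_apply, smul_eq_mul, huu,
      huu', hu'u, hu'u', mul_zero, mul_one, add_zero, zero_add, sub_zero]
    match_scalars <;> field_simp <;> ring
  have h1 : Q (u - (1 : F) • u') ≠ 0 := by rw [hQ]; exact neg_ne_zero.2 one_ne_zero
  have ht' : Q (u - t⁻¹ • u') ≠ 0 := by rw [hQ]; exact neg_ne_zero.2 (inv_ne_zero ht)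
  set a := FormsLib.refl Q (u - t⁻¹ • u') ht'
  set b := FormsLib.refl Q (u - (1 : F) • u') h1
  have ha : a ∈ FormsLib.oGroup Q := FormsLib.refl_mem Q _
  have hb : b ∈ FormsLib.oGroup Q := FormsLib.refl_mem Q _
  refine ⟨⁅a, b⁆, ?_, ?_, ?_, fun x hx hx' => ?_⟩
  · rw [omegaGL_eq S]
    exact ⟨_, Subgroup.commutator_mem_commutator ha hb, rfl⟩
  · rw [commutatorElement_def]
    exact mul_mem (mul_mem (mul_mem ha hb) (inv_mem ha)) (inv_mem hb)
  · rw [commutatorElement_def, FormsLib.refl_inv, FormsLib.refl_inv, LinearEquiv.mul_apply,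
      LinearEquiv.mul_apply, LinearEquiv.mul_apply]
    have e := congrArg (fun x => a (b (a (b x))))
      (show u = (1 : F) • u + (0 : F) • u' by simp)
    rw [e]
    simp only [a, b, hrefl]
    match_scalars <;> field_simp <;> ring
  · have key : ∀ (c : F) (hc : Q (u - c • u') ≠ 0), FormsLib.refl Q (u - c • u') hc x = x :=
      fun c hc => FormsLib.refl_fix Q hc (by
        rw [← QuadraticMap.polarBilin_apply_apply, map_sub, map_smul, hx, hx', smul_zero, sub_zero])
    rw [commutatorElement_def, FormsLib.refl_inv, FormsLib.refl_inv, LinearEquiv.mul_apply,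
      LinearEquiv.mul_apply, LinearEquiv.mul_apply, key, key, key, key]

end Cfsg.Agent.QMax
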