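import Cfsg.Agent.Lib.TransvMax.JordanModel
import Cfsg.Agent.Lib.TransvMax.QuadOmega
import Cfsg.Agent.Lib.LinearGroups.OrthForms
import Cfsg.Agent.Lib.Forms.OddInvol

/-!
Elements of order `p` of orthogonal groups in odd characteristic with prescribed blocks, and the
partitions of their invariant non-degenerate subspaces.
-/

set_option autoImplicit false

namespace Cfsg.Agent.JordanOrth

open Cfsg.Agent
open scoped Matrix

variable {F : Type*} [Field F] [Fintype F] {p : ℕ}

/-- Elements of odd order lie in the derived group. -/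
theorem mem_omega_of_pow {κ : Type} [Fintype κ] [DecidableEq κ] {Q : QuadraticForm F (κ → F)}
    (S : QMax.QSetting Q) (h2 : (2 : F) ≠ 0) {g : (κ → F) ≃ₗ[F] (κ → F)}
    (hg : g ∈ FormsLib.oGroup Q) {r : ℕ} (hr : Odd r) (hgr : g ^ r = 1) :
    TransvMax.glOf g ∈ Cfsg.Geo.omegaGL ⇑Q := by
  have hgen := Spinor.reflGroup_eq_top_of_odd S.nondeg h2
  have hu : ∀ u : ℤˣ, u ^ r = 1 → u = 1 := fun u h => by
    rcases Int.units_eq_one_or u with rfl | rfl
    · rfl
    · rwa [hr.neg_one_pow] at h
  have hG : (⟨g, hg⟩ : FormsLib.oGroup Q) ^ r = 1 := Subtype.ext hgr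
  have hc : (⟨g, hg⟩ : FormsLib.oGroup Q) ∈ commutator (FormsLib.oGroup Q) := by
    refine (Spinor.mem_commutator_iff S.nondeg (Or.inl (Spinor.card_ne_two h2)) _).2 ⟨?_, ?_⟩
    · refine hu _ ?_
      show Spinor.dickHom S.nondeg hgen _ ^ r = 1
      rw [← map_pow, hG, map_one]
    · refine hu _ ?_
      show Spinor.spinHom S.nondeg hgen _ ^ r = 1
      rw [← map_pow, hG, map_one]
  rw [QMax.omegaGL_eq S]
  refine ⟨g, ?_, rfl⟩
  have := Subgroup.mem_map_of_mem (FormsLib.oGroup Q).subtype hc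
  rwa [map_commutator_eq, Subgroup.range_subtype] at this

/-- All elements of order `p` fix a subspace of the given kind. -/
def AllFixP {κ : Type} [Fintype κ] [DecidableEq κ] (p : ℕ) (Q : (κ → F) → F)
    (C : Submodule F (κ → F) → Prop) : Prop :=
  ∀ x : GL κ F, x ∈ Cfsg.Geo.omegaGL Q → x ^ p = 1 → orderOf x = p →
    (∀ z : F, (x : Matrix κ κ F) ≠ z • (1 : Matrix κ κ F)) →
    ∃ W, C W ∧ W.map (Matrix.toLin' (x : Matrix κ κ F)) ≤ W

/-- The partition condition. -/
def Subpart (m : ℕ) (μ : Multiset ℕ) : Prop :=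
  ∃ ν : Multiset ℕ, ν ≤ μ ∧ ν.sum = m ∧ ∀ e : ℕ, Even e → Even (ν.count e)

theorem split_of_allFix [Fact p.Prime] [CharP F p] (hp2 : p ≠ 2) {κ : Type} [Fintype κ] [DecidableEq κ]
    {Q : QuadraticForm F (κ → F)} (S : QMax.QSetting Q) (C : Submodule F (κ → F) → Prop) {m : ℕ}
    (hC : ∀ W, C W → Module.finrank F W = m ∧ Cfsg.Geo.IsNondegenerateOn (QuadraticMap.polar ⇑Q) W)
    (hall : AllFixP p ⇑Q C) {μ : Multiset ℕ} (hμ : ∀ e ∈ μ, 1 ≤ e ∧ e ≤ p) (h1 : ∃ e ∈ μ, 2 ≤ e)
    {l : Idx p μ → F} (hl : BlockConst l) (L : (Idx p μ → F) ≃ₗ[F] (κ → F)) {c : F}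
    (hL : ∀ x y, QuadraticMap.polar ⇑Q (L x) (L y) = c * form l x y) :
    ∃ W ν, C W ∧ ν ≤ μ ∧ ν.sum = m ∧ (∀ e, Even e → Even (ν.count e)) ∧
      ((∀ e ∈ ν, e = 2) → Cfsg.Geo.IsPlusTypeOn ⇑Q W) := by
  have h2 : (2 : F) ≠ 0 := by
    intro h
    have : ((2 : ℕ) : F) = 0 := by exact_mod_cast h
    rw [CharP.cast_eq_zero_iff F p] at this
    exact hp2 ((Nat.prime_dvd_prime_iff_eq Fact.out Nat.prime_two).1 this)
  obtain ⟨g, hg, hgp, hgn, hgr⟩ := exists_iso (F := F) (p := p) (μ := μ) fun e he => (hμ e he).2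
  let G := (L.symm.trans g).trans L
  have hGp : ∀ n : ℕ, ∀ v, (G ^ n) v = L ((g ^ n) (L.symm v)) := by
    intro n
    induction n with
    | zero => intro v; simp
    | succ n ih =>
      intro v
      rw [pow_succ', LinearEquiv.mul_apply, ih, pow_succ', LinearEquiv.mul_apply]
      show L (g (L.symm (L _))) = _
      rw [LinearEquiv.symm_apply_apply]
  have hG1 : G ^ p = 1 := LinearEquiv.ext fun v => by
    rw [hGp, hgp]
    exact L.apply_symm_apply v
  have hGB : ∀ u v, QuadraticMap.polar ⇑Q (G u) (G v) = QuadraticMap.polar ⇑Q u v := by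
    intro u v
    obtain ⟨a, rfl⟩ := L.surjective u
    obtain ⟨b, rfl⟩ := L.surjective v
    show QuadraticMap.polar ⇑Q (L (g (L.symm (L a)))) (L (g (L.symm (L b)))) = _
    rw [LinearEquiv.symm_apply_apply, LinearEquiv.symm_apply_apply, hL, hg l hl, ← hL]
  have hGQ : G ∈ FormsLib.oGroup Q := fun v => by
    have h := hGB v v
    rw [QuadraticMap.polar_self, QuadraticMap.polar_self, two_nsmul, two_nsmul] at h
    exact mul_left_cancel₀ h2 (by linear_combination h)
  -- ranks of the transported map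
  set N := (G : (κ → F) →ₗ[F] (κ → F)) - LinearMap.id
  set n := (g : (Idx p μ → F) →ₗ[F] (Idx p μ → F)) - LinearMap.id
  have hNn : ∀ k, ∀ v, (N ^ k) (L v) = L ((n ^ k) v) := by
    intro k
    induction k with
    | zero => intro v; rfl
    | succ k ih =>
      intro v
      rw [pow_succ', Module.End.mul_apply, ih, pow_succ', Module.End.mul_apply]
      show L (g (L.symm (L _))) - L _ = L (g _ - _)
      rw [LinearEquiv.symm_apply_apply, map_sub]
      rfl
  have hNp : N ^ p = 0 := LinearMap.ext fun v => by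
    obtain ⟨a, rfl⟩ := L.surjective v
    rw [hNn, hgn]
    simp
  have hNr : ∀ k, pr N ⊤ k = rk μ k := by
    intro k
    rw [← hgr hp2 k, pr, pr, ← LinearEquiv.finrank_map_eq L ((⊤ : Submodule F _).map (n ^ k)),
      ← Submodule.map_comp, Submodule.map_top, Submodule.map_top]
    have : (N ^ k).comp (L : (Idx p μ → F) →ₗ[F] (κ → F)) = (L : (Idx p μ → F) →ₗ[F] (κ → F)).comp (n ^ k) :=
      LinearMap.ext (hNn k)
    rw [← this, LinearMap.range_comp_of_range_eq_top _ (LinearEquiv.range L)]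
  set x := TransvMax.glOf G
  have hx1 : x ^ p = 1 := by rw [← map_pow, hG1, map_one]
  have hxne : ∀ z : F, (x : Matrix κ κ F) ≠ z • (1 : Matrix κ κ F) := by
    intro z hz
    obtain ⟨e, he, he2⟩ := h1
    have hGz : ∀ v, G v = z • v := fun v => by
      rw [← TransvMax.glOf_mulVec G v, hz, Matrix.smul_mulVec, Matrix.one_mulVec]
    have hpow : ∀ k v, (N ^ k) v = (z - 1) ^ k • v := by
      intro k
      induction k with
      | zero => intro v; simp
      | succ k ih =>
        intro v
        rw [pow_succ', Module.End.mul_apply, ih, map_smul]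
        show (z - 1) ^ k • (G v - v) = _
        rw [hGz, pow_succ, ← smul_smul, sub_smul, one_smul]
    have hz1 : z = 1 := by
      haveI : Nonempty κ := Fintype.card_pos_iff.1 (by have := S.dim; omega)
      obtain ⟨i⟩ := ‹Nonempty κ›
      have h := congrFun (hpow p (Pi.single i 1)) i
      rw [hNp] at h
      simp only [LinearMap.zero_apply, Pi.zero_apply, Pi.smul_apply, Pi.single_eq_same, smul_eq_mul,
        mul_one] at h
      exact sub_eq_zero.1 (pow_eq_zero_iff (Fact.out : p.Prime).ne_zero |>.1 h.symm)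
    have hN0 : N = 0 := LinearMap.ext fun v => by
      show G v - v = 0
      rw [hGz, hz1, one_smul, sub_self]
    have h := hNr 1
    rw [pr, pow_one, hN0, Submodule.map_zero, finrank_bot] at h
    have hle : e - 1 ≤ rk μ 1 := Multiset.le_sum_of_mem (Multiset.mem_map_of_mem (· - 1) he)
    omega
  have hxo : orderOf x = p := by
    refine orderOf_eq_prime hx1 fun e => hxne 1 ?_
    rw [e, Units.val_one, one_smul]
  obtain ⟨W, hW, hWm⟩ := hall x
    (mem_omega_of_pow S h2 hGQ ((Fact.out : p.Prime).odd_of_ne_two hp2) hG1) hx1 hxo hxne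
  obtain ⟨hfr, hnd⟩ := hC W hW
  have hB : ∀ u v, QuadraticMap.polarBilin Q u v = QuadraticMap.polar ⇑Q u v := fun u v => rfl
  obtain ⟨ν, hν, hsum, hev, hts⟩ := exists_split (B := QuadraticMap.polarBilin Q) h2
    (fun u v => by rw [hB, hB, QuadraticMap.polar_comm]) (fun v hv => S.nondeg.1 v hv) (p := p) G hGB hNp
    μ hμ hNr W
    (by
      rintro _ ⟨v, hv, rfl⟩
      have := hWm ⟨v, hv, rfl⟩
      rwa [Matrix.toLin'_apply, TransvMax.glOf_mulVec] at this)
    (fun w hw h0 => by
      by_contra hw0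
      obtain ⟨-, y, hy, hwy⟩ := hnd w hw hw0
      exact hwy (h0 y hy))
  refine ⟨W, ν, hW, hν, hsum.trans hfr, hev, fun h => ?_⟩
  obtain ⟨U, hU, hU0, hUd⟩ := hts h
  refine ⟨U, hU, fun u hu => ?_, hUd⟩
  have := hU0 u hu
  rw [hB, QuadraticMap.polar_self, two_nsmul] at this
  exact mul_left_cancel₀ h2 (by linear_combination this)

/-- Odd-dimensional non-degenerate forms are multiples of the standard one. -/
theorem equiv_odd (h2 : (2 : F) ≠ 0) {V : Type*} [AddCommGroup V] [Module F V] [FiniteDimensional F V]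
    {d : ℕ} (hV : Module.finrank F V = 2 * d + 1) (Q : QuadraticForm F V)
    (hQ : (QuadraticMap.polarBilin Q).Nondegenerate) :
    ∃ (L : V ≃ₗ[F] (Unit ⊕ (Fin d ⊕ Fin d) → F)) (a : F), a ≠ 0 ∧
      ∀ v, FormsLib.qOdd d F (L v) = a * Q v := by
  obtain ⟨r, e, f, h, han, hr1, hr2⟩ := Spinor.witt_decomposition hQ
  rw [hV] at hr1 hr2
  obtain rfl : r = d := by omega
  let T : V →ₗ[F] ((Fin r → F) × (Fin r → F)) :=
    (LinearMap.pi fun i => QuadraticMap.polarBilin Q (e i)).prod (LinearMap.pi fun i => QuadraticMap.polarBilin Q (f i))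
  obtain ⟨z, hz, hz0⟩ : ∃ z ∈ LinearMap.ker T, z ≠ 0 := by
    refine Submodule.exists_mem_ne_zero_of_ne_bot fun hb => ?_
    have h1 := T.finrank_range_add_finrank_ker
    rw [hb, finrank_bot, hV] at h1
    have h3 := Submodule.finrank_le (LinearMap.range T)
    rw [Module.finrank_prod, Module.finrank_fintype_fun_eq_card, Fintype.card_fin] at h3
    omega
  have hzp : ∀ i, QuadraticMap.polar Q (e i) z = 0 ∧ QuadraticMap.polar Q (f i) z = 0 := fun i =>
    ⟨congrFun (congrArg Prod.fst hz) i, congrFun (congrArg Prod.snd hz) i⟩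
  have ha : Q z ≠ 0 := fun h0 => hz0 (han z hzp h0)
  set a := (Q z)⁻¹
  have ha0 : a ≠ 0 := inv_ne_zero ha
  have hQ' : (QuadraticMap.polarBilin (a • Q)).Nondegenerate := by
    refine OrthOrder.nondegenerate_iff.2 fun x hx => OrthOrder.nondegenerate_iff.1 hQ x fun y => ?_
    have h' := hx y
    rw [QuadraticMap.coeFn_smul, QuadraticMap.polar_smul, smul_eq_mul] at h'
    exact (mul_eq_zero.1 h').resolve_left ha0
  have hpol : ∀ u v, QuadraticMap.polar ⇑(a • Q) u v = a * QuadraticMap.polar ⇑Q u v := fun u v => by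
    rw [QuadraticMap.coeFn_smul, QuadraticMap.polar_smul, smul_eq_mul]
  have h' : Spinor.IsHyp (a • Q) (fun i => a⁻¹ • e i) f := by
    refine ⟨fun i => ?_, fun i => ?_, fun i j => ?_, fun i j => ?_, fun i j => ?_⟩
    · simp [QuadraticMap.map_smul, h.singe]
    · simp [h.singf]
    · rw [hpol, QuadraticMap.polar_smul_left, smul_eq_mul, h.ef, ← mul_assoc, mul_inv_cancel₀ ha0, one_mul]
    · rw [hpol, QuadraticMap.polar_smul_left, QuadraticMap.polar_smul_right, h.ee, smul_zero, smul_zero,
        mul_zero]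
    · rw [hpol, h.ff, mul_zero]
  obtain ⟨b, hb⟩ := Spinor.exists_basis hQ' h' (fun _ : Unit => z)
    (linearIndependent_unique_iff.2 hz0) (fun _ i => by
      rw [hpol, hpol, QuadraticMap.polar_smul_left, (hzp i).1, (hzp i).2, smul_zero, mul_zero]
      exact ⟨rfl, rfl⟩)
    (by rw [hV, Fintype.card_unit])
  let B := b.reindex (Equiv.sumComm (Fin r ⊕ Fin r) Unit)
  refine ⟨B.equivFun, a, ha0, fun v => ?_⟩
  rw [show a * Q v = (a • Q) v from rfl]
  refine (Spinor.quad_ext B (a • Q) _ B.equivFun (fun i => ?_) (fun i j => ?_) v).symm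
  · rw [B.equivFun_apply, B.repr_self, Finsupp.single_eq_pi_single, FormsLib.qOdd_apply]
    rcases i with i | i | i <;>
      simp [B, hb, h.singe, h.singf, a, ha, QuadraticMap.map_smul, Pi.single_apply]
  · rw [B.equivFun_apply, B.equivFun_apply, B.repr_self, B.repr_self, Finsupp.single_eq_pi_single,
      Finsupp.single_eq_pi_single, hpol]
    have hq : ∀ u w : Unit ⊕ (Fin r ⊕ Fin r) → F, QuadraticMap.polar ⇑(FormsLib.qOdd r F) u w =
        2 * (u (.inl ()) * w (.inl ())) + ∑ l, (u (.inr (.inl l)) * w (.inr (.inr l)) +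
          w (.inr (.inl l)) * u (.inr (.inr l))) := fun u w => by
      simp only [QuadraticMap.polar, FormsLib.qOdd_apply, Pi.add_apply, add_mul, mul_add,
        Finset.sum_add_distrib]
      ring
    rw [hq]
    have hfe : ∀ i j, QuadraticMap.polar Q (f i) (e j) = if j = i then 1 else 0 := fun i j => by
      rw [QuadraticMap.polar_comm]; exact h.ef j i
    have hz1 : ∀ i, QuadraticMap.polar Q z (e i) = 0 := fun i => by
      rw [QuadraticMap.polar_comm]; exact (hzp i).1
    have hz2 : ∀ i, QuadraticMap.polar Q z (f i) = 0 := fun i => by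
      rw [QuadraticMap.polar_comm]; exact (hzp i).2
    rcases i with i | i | i <;> rcases j with j | j | j <;>
      simp [B, hb, h.ef, h.ee, h.ff, hfe, hz1, hz2, (hzp _).1, (hzp _).2, a, ha,
        QuadraticMap.polar_smul_left, QuadraticMap.polar_smul_right, QuadraticMap.polar_self,
        Pi.single_apply, eq_comm, two_nsmul, mul_add, one_add_one_eq_two, ← two_mul, mul_left_comm _ (2 : F)]

/-- The quadratic form of a model. -/
noncomputable def model {μ : Multiset ℕ} (l : Idx p μ → F) : QuadraticForm F (Idx p μ → F) :=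
  LinearMap.BilinMap.toQuadraticMap (form l)

theorem model_polar {μ : Multiset ℕ} {l : Idx p μ → F} (hl : BlockConst l)
    (hμ : ∀ e, Even e → Even (μ.count e)) (x y : Idx p μ → F) :
    QuadraticMap.polar ⇑(model l) x y = 2 * form l x y := by
  rw [model, LinearMap.BilinMap.polar_toQuadraticMap]
  have : form l y x = form l x y := by
    rw [form, Matrix.toBilin'_apply', Matrix.toBilin'_apply', Matrix.dotProduct_mulVec,
      ← Matrix.mulVec_transpose, (gram_symm hl hμ).eq, dotProduct_comm]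
  rw [this, two_mul]

theorem model_nondeg (h2 : (2 : F) ≠ 0) {μ : Multiset ℕ} {l : Idx p μ → F} (hl : BlockConst l)
    (hl0 : ∀ s, l s ≠ 0) (hμ : ∀ e, Even e → Even (μ.count e)) :
    (QuadraticMap.polarBilin (model l)).Nondegenerate :=
  OrthOrder.nondegenerate_iff.2 fun x hx => form_nondeg hl0 fun w => by
    have h := hx w
    rw [model_polar hl hμ] at h
    exact (mul_eq_zero.1 h).resolve_left h2

/-- A model of each of the two classes in even dimension. -/
theorem exists_even_model [Fact p.Prime] [CharP F p] (h2 : (2 : F) ≠ 0) {d : ℕ} (hd : 1 ≤ d)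
    {μ : Multiset ℕ} (hμ : ∀ e ∈ μ, e ≤ p) (hev : ∀ e, Even e → Even (μ.count e))
    (hodd : ∃ e ∈ μ, Odd e) (hsum : μ.sum = 2 * d) (a b : F)
    (hab : ∀ z₁ z₂ : F, z₁ ^ 2 + a * z₁ * z₂ + b * z₂ ^ 2 = 0 → z₁ = 0 ∧ z₂ = 0) :
    (∃ l, BlockConst l ∧ ∃ L : (Idx p μ → F) ≃ₗ[F] (Fin d ⊕ Fin d → F),
      ∀ v, Cfsg.quadFormPlus d F (L v) = model l v) ∧
    (∃ l, BlockConst l ∧ ∃ L : (Idx p μ → F) ≃ₗ[F] ((Fin (d - 1) ⊕ Fin (d - 1)) ⊕ Fin 2 → F),
      ∀ v, Cfsg.quadFormMinus (d - 1) F a b (L v) = model l v) := by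
  classical
  haveI := ringChar.charP F
  obtain ⟨ν, hν⟩ := FiniteField.exists_nonsquare (F := F) (Spinor.ringChar_ne_two h2)
  obtain ⟨l, l', hl, hl', hl0, hl0', hne⟩ := exists_pair ⟨ν, hν⟩ hμ hodd
  have hfr : Module.finrank F (Idx p μ → F) = 2 * d := by
    rw [Module.finrank_fintype_fun_eq_card, card_idx hμ, hsum]
  have e1 := Spinor.equiv_plus_or_minus hd hfr (model l) (model_nondeg h2 hl hl0 hev) a b hab
  have e2 := Spinor.equiv_plus_or_minus hd hfr (model l') (model_nondeg h2 hl' hl0' hev) a b hab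
  have key : ∀ {κ : Type} (R : (κ → F) → F) (L L' : (Idx p μ → F) ≃ₗ[F] (κ → F)),
      (∀ v, R (L v) = model l v) → (∀ v, R (L' v) = model l' v) → False := by
    intro κ R L L' hL hL'
    let M := L.trans L'.symm
    have hM : ∀ v, model l' (M v) = model l v := fun v => by
      rw [← hL', ← hL]
      show R (L' (L'.symm (L v))) = _
      rw [LinearEquiv.apply_symm_apply]
    have hB : ∀ u v, form l' (M u) (M v) = form l u v := fun u v => mul_left_cancel₀ h2 (by
      rw [← model_polar hl' hev, ← model_polar hl hev, QuadraticMap.polar, QuadraticMap.polar, ← map_add,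
        hM, hM, hM])
    refine hne (LinearMap.toMatrix' (M : (Idx p μ → F) →ₗ[F] (Idx p μ → F))) ?_
    ext i j
    have := hB (Pi.single i 1) (Pi.single j 1)
    rw [form, form, Matrix.toBilin'_single] at this
    rw [← this, Matrix.toBilin'_apply', Matrix.mul_assoc, Matrix.mul_apply, dotProduct]
    refine Finset.sum_congr rfl fun k _ => ?_
    rw [Matrix.transpose_apply, LinearMap.toMatrix'_apply]
    congr 1
  rcases e1 with ⟨L, hL⟩ | ⟨L, hL⟩ <;> rcases e2 with ⟨L', hL'⟩ | ⟨L', hL'⟩
  · exact (key _ L L' hL hL').elim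
  · exact ⟨⟨l, hl, L, hL⟩, ⟨l', hl', L', hL'⟩⟩
  · exact ⟨⟨l', hl', L', hL'⟩, ⟨l, hl, L, hL⟩⟩
  · exact (key _ L L' hL hL').elim

theorem polar_of_equiv {κ : Type} {μ : Multiset ℕ} {Q : QuadraticForm F (κ → F)} {l : Idx p μ → F}
    (hl : BlockConst l) (hμ : ∀ e, Even e → Even (μ.count e))
    (L : (Idx p μ → F) ≃ₗ[F] (κ → F)) {a : F} (hL : ∀ v, Q (L v) = a * model l v) (x y : Idx p μ → F) :
    QuadraticMap.polar ⇑Q (L x) (L y) = (a * 2) * form l x y := by
  rw [mul_assoc, ← model_polar hl hμ, QuadraticMap.polar, QuadraticMap.polar, ← map_add, hL, hL, hL]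
  ring

theorem subpart_ones {μ : Multiset ℕ} (h : ∀ e ∈ μ, e = 1) {m : ℕ} (hm : m ≤ μ.sum) : Subpart m μ := by
  have hμ : μ = Multiset.replicate μ.card 1 := Multiset.eq_replicate_card.2 h
  rw [hμ, Multiset.sum_replicate, smul_eq_mul, mul_one] at hm
  refine ⟨Multiset.replicate m 1, ?_, by simp, fun e he => ?_⟩
  · rw [hμ]
    exact Multiset.replicate_le_replicate 1 |>.2 hm
  · rw [Multiset.count_replicate, if_neg (by rintro rfl; exact Nat.not_even_one he)]
    exact ⟨0, rfl⟩

/-- Partitions with an odd part suffice. -/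
theorem subpart_of_odd {m n : ℕ} (hme : Even m) (hn : 0 < n) (hp : Odd p)
    (h : ∀ μ : Multiset ℕ, (∀ e ∈ μ, 0 < e ∧ e ≤ p) → (∀ e : ℕ, Even e → Even (μ.count e)) →
      μ.sum = n → (∃ e ∈ μ, Odd e) → Subpart m μ)
    {μ : Multiset ℕ} (hμ : ∀ e ∈ μ, 0 < e ∧ e ≤ p) (hev : ∀ e : ℕ, Even e → Even (μ.count e))
    (hsum : μ.sum = n) : Subpart m μ := by
  classical
  by_cases hodd : ∃ e ∈ μ, Odd e
  · exact h μ hμ hev hsum hodd
  push Not at hodd
  obtain ⟨e, he⟩ : ∃ e, e ∈ μ := Multiset.exists_mem_of_ne_zero fun e => by simp [e] at hsum; omega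
  have hee : Even e := Nat.not_odd_iff_even.1 (hodd e he)
  obtain ⟨u, hu⟩ := hee
  have he0 := (hμ e he).1
  have hep : e + 1 ≤ p := by
    rcases Nat.lt_or_eq_of_le (hμ e he).2 with h | h
    · omega
    · subst h; exact absurd ⟨u, hu⟩ (Nat.not_even_iff_odd.2 hp)
  have hc2 : 2 ≤ μ.count e := by
    obtain ⟨t, ht⟩ := hev e ⟨u, hu⟩
    have := Multiset.count_pos.2 he
    omega
  have hnot : ∀ z, ¬ Even z → μ.count z = 0 := fun z hz =>
    Multiset.count_eq_zero.2 fun hm => hz (Nat.not_odd_iff_even.1 (hodd z hm))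
  set μ₀ := μ - Multiset.replicate 2 e
  have hsplit : μ₀ + Multiset.replicate 2 e = μ :=
    tsub_add_cancel_of_le (Multiset.le_count_iff_replicate_le.1 hc2)
  obtain ⟨ν, hν, hνs, hνe⟩ := h (μ₀ + {e + 1, e - 1}) (by
      intro z hz
      rcases Multiset.mem_add.1 hz with hz | hz
      · exact hμ z (Multiset.mem_of_le (Multiset.sub_le_self _ _) hz)
      · simp only [Multiset.insert_eq_cons, Multiset.mem_cons, Multiset.mem_singleton] at hz
        rcases hz with rfl | rfl <;> omega)
    (by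
      intro z hz
      have := congrArg (Multiset.count z) hsplit
      rw [Multiset.count_add, Multiset.count_replicate] at this
      obtain ⟨t, ht⟩ := hev z hz
      obtain ⟨w, hw⟩ := hz
      rw [Multiset.count_add, Multiset.insert_eq_cons, Multiset.count_cons, Multiset.count_singleton,
        if_neg (show ¬ z = e + 1 by omega), if_neg (show ¬ z = e - 1 by omega), add_zero, add_zero]
      split at this
      · exact ⟨t - 1, by omega⟩
      · exact ⟨t, by omega⟩)
    (by
      have := congrArg Multiset.sum hsplit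
      rw [Multiset.sum_add, Multiset.sum_replicate, smul_eq_mul] at this
      rw [Multiset.sum_add, Multiset.insert_eq_cons, Multiset.sum_cons, Multiset.sum_singleton]
      omega)
    ⟨e + 1, Multiset.mem_add.2 (Or.inr (by simp)), ⟨u, by omega⟩⟩
  have hcnt : ∀ z, ν.count z ≤ μ₀.count z + ((if z = e + 1 then 1 else 0) + if z = e - 1 then 1 else 0) := by
    intro z
    have := Multiset.le_iff_count.1 hν z
    rw [Multiset.count_add, Multiset.insert_eq_cons, Multiset.count_cons, Multiset.count_singleton] at this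
    omega
  have h0 : ∀ z, ¬ Even z → μ₀.count z = 0 := fun z hz => by
    have := Multiset.count_le_of_le z (Multiset.sub_le_self μ (Multiset.replicate 2 e))
    rw [hnot z hz] at this
    exact Nat.le_zero.1 this
  have hou : ¬ Even (e + 1) := Nat.not_even_iff_odd.2 ⟨u, by omega⟩
  have hol : ¬ Even (e - 1) := Nat.not_even_iff_odd.2 ⟨u - 1, by omega⟩
  have k1 := hcnt (e + 1)
  have k2 := hcnt (e - 1)
  rw [h0 _ hou, if_pos rfl, if_neg (show ¬ e + 1 = e - 1 by omega)] at k1
  rw [h0 _ hol, if_pos rfl, if_neg (show ¬ e - 1 = e + 1 by omega)] at k2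
  set a₁ := ν.count (e + 1)
  set a₂ := ν.count (e - 1)
  set ν₀ := ν - (Multiset.replicate a₁ (e + 1) + Multiset.replicate a₂ (e - 1))
  have hsp : ν₀ + (Multiset.replicate a₁ (e + 1) + Multiset.replicate a₂ (e - 1)) = ν := by
    refine tsub_add_cancel_of_le (Multiset.le_iff_count.2 fun z => ?_)
    rw [Multiset.count_add, Multiset.count_replicate, Multiset.count_replicate]
    split <;> split <;> subst_vars <;> omega
  have hc0 : ∀ z, ν₀.count z = if z = e + 1 ∨ z = e - 1 then 0 else ν.count z := by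
    intro z
    have := congrArg (Multiset.count z) hsp
    rw [Multiset.count_add, Multiset.count_add, Multiset.count_replicate, Multiset.count_replicate] at this
    by_cases hz1 : z = e + 1
    · subst hz1
      rw [if_pos rfl, if_neg (show ¬ e - 1 = e + 1 by omega)] at this
      rw [if_pos (Or.inl rfl)]
      omega
    · by_cases hz2 : z = e - 1
      · subst hz2
        rw [if_neg (show ¬ e + 1 = e - 1 by omega), if_pos rfl] at this
        rw [if_pos (Or.inr rfl)]
        omega
      · rw [if_neg (Ne.symm hz1), if_neg (Ne.symm hz2)] at this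
        rw [if_neg (by tauto)]
        omega
  have hzero : ∀ z ∈ ν₀, Even z := fun z hz => by
    by_contra hz'
    have := Multiset.count_pos.2 hz
    rw [hc0] at this
    split at this
    · omega
    · rename_i hne
      have := hcnt z
      rw [h0 z hz', if_neg (fun e => hne (Or.inl e)), if_neg (fun e => hne (Or.inr e))] at this
      omega
  obtain ⟨s₀, hs₀⟩ : Even ν₀.sum := by
    have aux : ∀ ζ : Multiset ℕ, (∀ z ∈ ζ, Even z) → Even ζ.sum := by
      intro ζ
      induction ζ using Multiset.induction_on with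
      | empty => simp
      | cons z ζ ih =>
        intro h
        rw [Multiset.sum_cons]
        exact (h z (Multiset.mem_cons_self _ _)).add (ih fun w hw => h w (Multiset.mem_cons_of_mem hw))
    exact aux ν₀ hzero
  have hsum' := congrArg Multiset.sum hsp
  rw [Multiset.sum_add, Multiset.sum_add, Multiset.sum_replicate, Multiset.sum_replicate, smul_eq_mul,
    smul_eq_mul, hνs] at hsum'
  obtain ⟨w, hw⟩ := hme
  have heq : a₁ = a₂ := by
    rcases (show a₁ = 0 ∨ a₁ = 1 by omega) with h1 | h1 <;>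
      rcases (show a₂ = 0 ∨ a₂ = 1 by omega) with h2 | h2 <;> rw [h1, h2] at hsum' <;> omega
  refine ⟨ν₀ + Multiset.replicate (2 * a₁) e, ?_, ?_, fun z hz => ?_⟩
  · refine Multiset.le_iff_count.2 fun z => ?_
    rw [Multiset.count_add, hc0, Multiset.count_replicate]
    have h5 := congrArg (Multiset.count z) hsplit
    rw [Multiset.count_add, Multiset.count_replicate] at h5
    have := hcnt z
    by_cases hz : e = z
    · subst hz
      rw [if_pos rfl] at h5
      rw [if_neg (show ¬ e = e + 1 by omega), if_neg (show ¬ e = e - 1 by omega)] at this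
      rw [if_neg (by omega), if_pos rfl]
      omega
    · rw [if_neg hz] at h5
      rw [if_neg hz]
      split
      · omega
      · rename_i hne
        rw [if_neg (fun e => hne (Or.inl e)), if_neg (fun e => hne (Or.inr e))] at this
        omega
  · rw [Multiset.sum_add, Multiset.sum_replicate, smul_eq_mul]
    rcases (show a₁ = 0 ∨ a₁ = 1 by omega) with h1 | h1 <;> rw [← heq, h1] at hsum' <;> rw [h1] <;> omega
  · rw [Multiset.count_add, hc0, Multiset.count_replicate, if_neg (by
      rintro (rfl | rfl)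
      · exact hou hz
      · exact hol hz)]
    refine (hνe z hz).add ?_
    split
    · exact ⟨a₁, by ring⟩
    · exact ⟨0, rfl⟩

/-- Parts at most three. -/
theorem sum_small {ν : Multiset ℕ} (h : ∀ e ∈ ν, e = 1 ∨ e = 2 ∨ e = 3) :
    ν.sum = ν.count 1 + 2 * ν.count 2 + 3 * ν.count 3 := by
  induction ν using Multiset.induction_on with
  | empty => simp
  | cons a ν ih =>
    rw [Multiset.sum_cons, ih fun e he => h e (Multiset.mem_cons_of_mem he)]
    rcases h a (Multiset.mem_cons_self a ν) with rfl | rfl | rfl <;> simp [Multiset.count_cons] <;> ring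

end Cfsg.Agent.JordanOrth
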