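import Cfsg.Agent.Lib.TransvMax.NonsingPoints
import Cfsg.Agent.Lib.Spinor.EvenClass
import Cfsg.Agent.Lib.Spinor.TSMinus

/-!
Isometries of prime order without fixed vectors for the even-dimensional forms in characteristic two.
-/

set_option autoImplicit false

namespace Cfsg.Agent.NonsingPoints

open Cfsg.Agent
open scoped Matrix

variable {F : Type*} [Field F] [Fintype F]

theorem not_dvd_card (h2 : (2 : F) = 0) {r : ℕ} (hr : r.Prime) (hr2 : r ≠ 2) :
    ¬ r ∣ Fintype.card F := by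
  intro h
  obtain ⟨k, hk⟩ : ∃ k : ℕ, Fintype.card F = 2 ^ k := by
    haveI : CharP F 2 := CharTwo.of_one_ne_zero_of_two_eq_zero one_ne_zero h2
    obtain ⟨n, -, hn⟩ := FiniteField.card F 2
    exact ⟨n, hn⟩
  rw [hk] at h
  exact hr2 ((Nat.prime_dvd_prime_iff_eq hr Nat.prime_two).1 (hr.dvd_of_dvd_pow h))

/-- An element of order `r` in an extension field. -/
theorem exists_root_of_unity (n : ℕ) (hn : 1 ≤ n) {r : ℕ} (hr : r.Prime)
    (hdvd : r ∣ Fintype.card F ^ n - 1) :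
    ∃ (K : Type) (_ : Field K) (_ : Fintype K) (_ : Algebra F K),
      Module.finrank F K = n ∧ Fintype.card K = Fintype.card F ^ n ∧
      ∃ ζ : K, ζ ^ r = 1 ∧ ζ ≠ 1 := by
  obtain ⟨p, hp⟩ := CharP.exists F
  have : Fact p.Prime := ⟨CharP.char_is_prime F p⟩
  have : NeZero n := ⟨by omega⟩
  let E := FiniteField.Extension F p n
  have : Fintype E := Fintype.ofFinite E
  have hc : Fintype.card E = Fintype.card F ^ n := by
    rw [← Nat.card_eq_fintype_card, FiniteField.natCard_extension, Nat.card_eq_fintype_card]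
  obtain ⟨u, hu⟩ := exists_prime_orderOf_dvd_card' (G := Eˣ) r (hp := ⟨hr⟩) (by
    rw [Nat.card_units, Nat.card_eq_fintype_card, hc]; exact hdvd)
  refine ⟨E, inferInstance, inferInstance, inferInstance, FiniteField.finrank_extension F p n, hc,
    (u : E), ?_, ?_⟩
  · rw [← Units.val_pow_eq_pow_val, ← hu, pow_orderOf_eq_one, Units.val_one]
  · intro h
    rw [Units.val_eq_one.1 h, orderOf_one] at hu
    exact hr.one_lt.ne hu

/-- The hyperbolic form has an isometry of order `r` without fixed vectors when `r ∣ q^d - 1`. -/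
theorem exists_fpf_plus (d : ℕ) (hd : 1 ≤ d) {r : ℕ} (hr : r.Prime)
    (hdvd : r ∣ Fintype.card F ^ d - 1) :
    ∃ g : (Fin d ⊕ Fin d → F) ≃ₗ[F] (Fin d ⊕ Fin d → F),
      (∀ v, Cfsg.quadFormPlus d F (g v) = Cfsg.quadFormPlus d F v) ∧ g ^ r = 1 ∧
      ∀ v, g v = v → v = 0 := by
  obtain ⟨K, _, _, _, hK, -, ζ, hζ, hζ1⟩ := exists_root_of_unity (F := F) d hd hr hdvd
  haveI : Module.Finite F K := Module.finite_of_finrank_pos (by omega)
  let b : Module.Basis (Fin d) F K := Module.finBasisOfFinrankEq F K hK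
  let L : K →* Matrix (Fin d) (Fin d) F := (Algebra.leftMulMatrix b).toMonoidHom
  have hz0 : ζ ≠ 0 := fun e => by rw [e, zero_pow hr.ne_zero] at hζ; exact zero_ne_one hζ
  have hA : L ζ * L ζ⁻¹ = 1 := by rw [← map_mul, mul_inv_cancel₀ hz0, map_one]
  have hA' : L ζ⁻¹ * L ζ = 1 := by rw [← map_mul, inv_mul_cancel₀ hz0, map_one]
  let A := L ζ
  let B := (L ζ⁻¹)ᵀ
  let g : (Fin d ⊕ Fin d → F) ≃ₗ[F] (Fin d ⊕ Fin d → F) :=
    { toFun := fun v => Sum.elim (A *ᵥ (v ∘ Sum.inl)) (B *ᵥ (v ∘ Sum.inr))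
      invFun := fun v => Sum.elim (L ζ⁻¹ *ᵥ (v ∘ Sum.inl)) ((L ζ)ᵀ *ᵥ (v ∘ Sum.inr))
      map_add' := fun v w => by
        funext i
        rcases i with i | i
        · show (A *ᵥ ((v + w) ∘ Sum.inl)) i = (A *ᵥ (v ∘ Sum.inl)) i + (A *ᵥ (w ∘ Sum.inl)) i
          rw [show (v + w) ∘ Sum.inl = v ∘ Sum.inl + w ∘ Sum.inl from rfl, Matrix.mulVec_add]; rfl
        · show (B *ᵥ ((v + w) ∘ Sum.inr)) i = (B *ᵥ (v ∘ Sum.inr)) i + (B *ᵥ (w ∘ Sum.inr)) i
          rw [show (v + w) ∘ Sum.inr = v ∘ Sum.inr + w ∘ Sum.inr from rfl, Matrix.mulVec_add]; rfl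
      map_smul' := fun c v => by
        funext i
        rcases i with i | i
        · show (A *ᵥ ((c • v) ∘ Sum.inl)) i = c • (A *ᵥ (v ∘ Sum.inl)) i
          rw [show (c • v) ∘ Sum.inl = c • (v ∘ Sum.inl) from rfl, Matrix.mulVec_smul]; rfl
        · show (B *ᵥ ((c • v) ∘ Sum.inr)) i = c • (B *ᵥ (v ∘ Sum.inr)) i
          rw [show (c • v) ∘ Sum.inr = c • (v ∘ Sum.inr) from rfl, Matrix.mulVec_smul]; rfl
      left_inv := fun v => by
        funext i
        rcases i with i | i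
        · show (L ζ⁻¹ *ᵥ (A *ᵥ (v ∘ Sum.inl))) i = v (Sum.inl i)
          rw [Matrix.mulVec_mulVec, hA', Matrix.one_mulVec]; rfl
        · show ((L ζ)ᵀ *ᵥ (B *ᵥ (v ∘ Sum.inr))) i = v (Sum.inr i)
          rw [Matrix.mulVec_mulVec, ← Matrix.transpose_mul, hA', Matrix.transpose_one, Matrix.one_mulVec]; rfl
      right_inv := fun v => by
        funext i
        rcases i with i | i
        · show (A *ᵥ (L ζ⁻¹ *ᵥ (v ∘ Sum.inl))) i = v (Sum.inl i)
          rw [Matrix.mulVec_mulVec, hA, Matrix.one_mulVec]; rfl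
        · show (B *ᵥ ((L ζ)ᵀ *ᵥ (v ∘ Sum.inr))) i = v (Sum.inr i)
          rw [Matrix.mulVec_mulVec, ← Matrix.transpose_mul, hA, Matrix.transpose_one, Matrix.one_mulVec]; rfl }
  have hgk : ∀ (k : ℕ) v, (g ^ k) v =
      Sum.elim (L (ζ ^ k) *ᵥ (v ∘ Sum.inl)) ((L (ζ⁻¹ ^ k))ᵀ *ᵥ (v ∘ Sum.inr)) := by
    intro k
    induction k with
    | zero => intro v; funext i; rcases i with i | i <;> simp
    | succ k ih =>
      intro v
      rw [pow_succ', LinearEquiv.mul_apply, ih]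
      show Sum.elim (A *ᵥ _) (B *ᵥ _) = _
      rw [Sum.elim_comp_inl, Sum.elim_comp_inr, Matrix.mulVec_mulVec, Matrix.mulVec_mulVec,
        ← Matrix.transpose_mul, ← map_mul, ← map_mul, pow_succ', pow_succ]
  refine ⟨g, fun v => ?_, LinearEquiv.ext fun v => ?_, fun v hv => ?_⟩
  · show (A *ᵥ (v ∘ Sum.inl)) ⬝ᵥ (B *ᵥ (v ∘ Sum.inr)) = (v ∘ Sum.inl) ⬝ᵥ (v ∘ Sum.inr)
    rw [Matrix.dotProduct_mulVec, Matrix.vecMul_transpose, Matrix.mulVec_mulVec, hA',
      Matrix.one_mulVec]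
  · rw [hgk, inv_pow, hζ, inv_one, map_one, Matrix.transpose_one, Matrix.one_mulVec, Matrix.one_mulVec]
    exact Sum.elim_comp_inl_inr v
  · have hl : A *ᵥ (v ∘ Sum.inl) = v ∘ Sum.inl := congrArg (· ∘ Sum.inl) hv
    have hr' : B *ᵥ (v ∘ Sum.inr) = v ∘ Sum.inr := congrArg (· ∘ Sum.inr) hv
    have hu : ∀ z : K, z ≠ 0 → IsUnit (L z).det := fun z hz => by
      rw [← Matrix.isUnit_iff_isUnit_det]
      exact (isUnit_iff_ne_zero.2 hz).map L
    have hd1 : IsUnit (A - 1).det := by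
      have := hu (ζ - 1) (sub_ne_zero.2 hζ1)
      rwa [show L (ζ - 1) = A - 1 by
        show Algebra.leftMulMatrix b (ζ - 1) = _
        rw [map_sub, map_one]; rfl] at this
    have hd2 : IsUnit (B - 1).det := by
      have := hu (ζ⁻¹ - 1) (sub_ne_zero.2 fun e => hζ1 (inv_eq_one.1 e))
      rw [show L (ζ⁻¹ - 1) = L ζ⁻¹ - 1 by
        show Algebra.leftMulMatrix b (ζ⁻¹ - 1) = _
        rw [map_sub, map_one]; rfl] at this
      rw [show B - 1 = (L ζ⁻¹ - 1)ᵀ by rw [Matrix.transpose_sub, Matrix.transpose_one],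
        Matrix.det_transpose]
      exact this
    have z1 : v ∘ Sum.inl = 0 := by
      refine Matrix.mulVec_injective_iff_isUnit.2 ((Matrix.isUnit_iff_isUnit_det _).2 hd1) ?_
      rw [Matrix.sub_mulVec, Matrix.one_mulVec, hl, sub_self, Matrix.mulVec_zero]
    have z2 : v ∘ Sum.inr = 0 := by
      refine Matrix.mulVec_injective_iff_isUnit.2 ((Matrix.isUnit_iff_isUnit_det _).2 hd2) ?_
      rw [Matrix.sub_mulVec, Matrix.one_mulVec, hr', sub_self, Matrix.mulVec_zero]
    funext i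
    rcases i with i | i
    · exact congrFun z1 i
    · exact congrFun z2 i

/-- A fixed-point-free isometry of order `r ∣ q^d + 1` forces minus type. -/
theorem plus_no_fpf (h2 : (2 : F) = 0) {d r : ℕ} (hr : r.Prime) (hr2 : r ≠ 2)
    (hdvd : r ∣ Fintype.card F ^ d + 1)
    (g : (Fin d ⊕ Fin d → F) ≃ₗ[F] (Fin d ⊕ Fin d → F))
    (hQ : ∀ v, Cfsg.quadFormPlus d F (g v) = Cfsg.quadFormPlus d F v) (hgr : g ^ r = 1)
    (hfix : ∀ v, g v = v → v = 0) : False := by
  classical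
  haveI : Fact r.Prime := ⟨hr⟩
  let T := {v : Fin d ⊕ Fin d → F // Cfsg.quadFormPlus d F v = 0}
  have hmem : ∀ v, Cfsg.quadFormPlus d F v = 0 ↔ Cfsg.quadFormPlus d F (g v) = 0 := fun v => by rw [hQ]
  let σ : Equiv.Perm T := Equiv.subtypeEquiv g.toEquiv hmem
  have hσk : ∀ (k : ℕ) (t : T), ((σ ^ k) t : Fin d ⊕ Fin d → F) = (g ^ k) t.1 := by
    intro k
    induction k with
    | zero => intro t; rfl
    | succ k ih => intro t; rw [pow_succ', pow_succ', Equiv.Perm.mul_apply, LinearEquiv.mul_apply, ← ih]; rfl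
  have hσ : σ ^ r ^ 1 = 1 := Equiv.ext fun t => Subtype.ext (by rw [pow_one, hσk, hgr]; rfl)
  have hmod := Equiv.Perm.card_compl_support_modEq (p := r) (n := 1) hσ
  have hone : (σ.support)ᶜ.card = 1 := by
    rw [Finset.card_eq_one]
    refine ⟨⟨0, by simp [Cfsg.quadFormPlus]⟩, ?_⟩
    ext t
    simp only [Finset.mem_compl, Equiv.Perm.mem_support, not_not, Finset.mem_singleton]
    refine ⟨fun h => Subtype.ext (hfix t.1 (congrArg Subtype.val h)), fun h => ?_⟩
    rw [h]; exact Subtype.ext (map_zero g)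
  rw [hone] at hmod
  have hcard := FormCount.card_plus d (0 : F)
  rw [if_pos rfl, mul_one, Nat.card_eq_fintype_card] at hcard
  have hz : ((Fintype.card F : ℕ) : ZMod r) ^ d = -1 := by
    refine eq_neg_of_add_eq_zero_left ?_
    have := (CharP.cast_eq_zero_iff (ZMod r) r _).2 hdvd
    push_cast at this
    exact this
  have hT : ((Fintype.card T : ℕ) : ZMod r) = 1 := by
    have := (ZMod.natCast_eq_natCast_iff _ _ r).2 hmod
    rw [Nat.cast_one] at this
    exact this.symm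
  have hc := congrArg (Int.cast : ℤ → ZMod r) hcard
  push_cast at hc
  rw [hT, pow_mul', hz] at hc
  have h2r : (2 : ZMod r) ≠ 0 := by
    intro h
    have : ((2 : ℕ) : ZMod r) = 0 := by exact_mod_cast h
    exact hr2 ((Nat.prime_dvd_prime_iff_eq hr Nat.prime_two).1 ((CharP.cast_eq_zero_iff (ZMod r) r _).1 this))
  have hq1 : ((Fintype.card F : ℕ) : ZMod r) = 1 := by
    have h0 : (2 : ZMod r) * (((Fintype.card F : ℕ) : ZMod r) - 1) = 0 := by linear_combination hc
    exact sub_eq_zero.1 ((mul_eq_zero.1 h0).resolve_left h2r)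
  rw [hq1, one_pow] at hz
  exact h2r (by linear_combination hz)

/-- The elliptic form has an isometry of order `r` without fixed vectors when `r ∣ q^d + 1`. -/
theorem exists_fpf_minus (h2 : (2 : F) = 0) (d : ℕ) (hd : 1 ≤ d) (a b : F)
    (hab : ∀ z₁ z₂ : F, z₁ ^ 2 + a * z₁ * z₂ + b * z₂ ^ 2 = 0 → z₁ = 0 ∧ z₂ = 0)
    {r : ℕ} (hr : r.Prime) (hr2 : r ≠ 2) (hdvd : r ∣ Fintype.card F ^ d + 1) :
    ∃ g : ((Fin (d - 1) ⊕ Fin (d - 1)) ⊕ Fin 2 → F) ≃ₗ[F] ((Fin (d - 1) ⊕ Fin (d - 1)) ⊕ Fin 2 → F),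
      (∀ v, Cfsg.quadFormMinus (d - 1) F a b (g v) = Cfsg.quadFormMinus (d - 1) F a b v) ∧
      g ^ r = 1 ∧ ∀ v, g v = v → v = 0 := by
  classical
  set q := Fintype.card F with hq
  have hq2 : 2 ≤ q := Fintype.one_lt_card
  have hpos : 1 ≤ q ^ d := Nat.one_le_pow _ _ (by omega)
  have hsq : q ^ (2 * d) - 1 = (q ^ d + 1) * (q ^ d - 1) := by
    rw [mul_comm 2 d, pow_mul, show (1 : ℕ) = 1 ^ 2 by norm_num, Nat.sq_sub_sq, one_pow]
  obtain ⟨K, _, _, _, hK, hKc, ζ, hζ, hζ1⟩ := exists_root_of_unity (F := F) (2 * d) (by omega) hr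
    (by rw [hsq]; exact dvd_mul_of_dvd_left hdvd _)
  haveI : Module.Finite F K := Module.finite_of_finrank_pos (by omega)
  let σ : K ≃ₐ[F] K := FiniteField.frobeniusAlgEquivOfAlgebraic F K ^ d
  have hσ : ∀ x : K, σ x = x ^ (q ^ d) := by
    have h : ∀ (k : ℕ) (x : K),
        (FiniteField.frobeniusAlgEquivOfAlgebraic F K ^ k) x = x ^ (q ^ k) := by
      intro k
      induction k with
      | zero => intro x; simp
      | succ k ih =>
        intro x
        rw [pow_succ, AlgEquiv.mul_apply, ih, pow_succ', pow_mul, hq]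
        simp [FiniteField.coe_frobeniusAlgEquivOfAlgebraic]
    exact h d
  have hσσ : ∀ x, σ (σ x) = x := fun x => by
    rw [hσ, hσ, ← pow_mul, ← pow_add, ← two_mul, ← hKc, FiniteField.pow_card]
  have h2K : (2 : K) = 0 := by rw [← map_ofNat (algebraMap F K) 2, h2, map_zero]
  obtain ⟨t, ht⟩ : ∃ t, σ t ≠ t := by
    by_contra hc
    push Not at hc
    obtain ⟨u, hu⟩ := IsCyclic.exists_generator (α := Kˣ)
    have hu1 : u ^ (q ^ d - 1) = 1 := by
      refine Units.ext ?_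
      refine mul_right_cancel₀ u.ne_zero ?_
      rw [Units.val_pow_eq_pow_val, ← pow_succ, Nat.sub_add_cancel hpos, ← hσ, hc, Units.val_one, one_mul]
    have hle := Nat.le_of_dvd (by
      have : 2 ≤ q ^ d := le_trans hq2 (Nat.le_self_pow (by omega) q)
      omega) (orderOf_dvd_of_pow_eq_one hu1)
    rw [orderOf_eq_card_of_forall_mem_zpowers hu, Nat.card_units, Nat.card_eq_fintype_card, hKc, hsq] at hle
    have : 2 ≤ q ^ d := le_trans hq2 (Nat.le_self_pow (by omega) q)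
    have h3 : (q ^ d + 1) * (q ^ d - 1) ≥ 3 * (q ^ d - 1) := Nat.mul_le_mul_right _ (by omega)
    omega
  have htt : t + σ t ≠ 0 := fun e => ht (by linear_combination e - t * h2K)
  set γ := t / (t + σ t) with hγ
  have hγ1 : γ + σ γ = 1 := by
    rw [hγ, map_div₀, map_add, hσσ, add_comm (σ t) t, ← add_div, div_self htt]
  let T := Algebra.trace F K
  have hTσ : ∀ z, T (σ z) = T z := fun z => Algebra.trace_eq_of_algEquiv σ z
  let Qf : K → F := fun v => T (γ * (σ v * v))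
  have hpol : ∀ x y, QuadraticMap.polar Qf x y = T (σ x * y) := by
    intro x y
    have e : γ * (σ (x + y) * (x + y)) - γ * (σ x * x) - γ * (σ y * y) =
        γ * (σ x * y) + γ * (σ y * x) := by rw [map_add]; ring
    simp only [QuadraticMap.polar, Qf]
    rw [← map_sub, ← map_sub, e, map_add, ← hTσ (γ * (σ y * x)), map_mul σ γ, map_mul σ (σ y), hσσ, ← map_add]
    congr 1
    linear_combination (σ x * y) * hγ1
  let Q : QuadraticForm F K := QuadraticMap.ofPolar Qf
    (fun c v => by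
      show T (γ * (σ (c • v) * (c • v))) = (c * c) • T (γ * (σ v * v))
      simp only [map_smul, Algebra.smul_mul_assoc, Algebra.mul_smul_comm, smul_smul])
    (fun x x' y => by rw [hpol, hpol, hpol, map_add, add_mul, map_add])
    (fun c x y => by rw [hpol, hpol, map_smul, Algebra.smul_mul_assoc, map_smul])
  have hnd : (QuadraticMap.polarBilin Q).Nondegenerate := by
    refine OrthOrder.nondegenerate_iff.2 fun x hx => ?_
    by_contra hx0
    obtain ⟨y, hy⟩ : ∃ y, T y ≠ 0 := by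
      obtain ⟨y, hy⟩ := Algebra.trace_surjective F K 1
      exact ⟨y, by rw [show T y = 1 from hy]; exact one_ne_zero⟩
    have h := hx ((σ x)⁻¹ * y)
    have h' : T (σ x * ((σ x)⁻¹ * y)) = 0 := (hpol _ _).symm.trans h
    rw [← mul_assoc, mul_inv_cancel₀ (fun e => hx0 (σ.injective (by rw [e, map_zero]))), one_mul] at h'
    exact hy h'
  have hz0 : ζ ≠ 0 := fun e => by rw [e, zero_pow hr.ne_zero] at hζ; exact zero_ne_one hζ
  have hzσ : σ ζ * ζ = 1 := by
    rw [hσ, ← pow_succ]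
    obtain ⟨k, hk⟩ := hdvd
    rw [hk, pow_mul, hζ, one_pow]
  let μ : K ≃ₗ[F] K := (LinearEquiv.ofLinearMap (LinearMap.mulLeft F ζ) (LinearMap.mulLeft F ζ⁻¹)
    (LinearMap.ext fun v => by simp [hz0]) (LinearMap.ext fun v => by simp [hz0]))
  have hμQ : ∀ v, Q (μ v) = Q v := fun v => by
    show T (γ * (σ (ζ * v) * (ζ * v))) = T (γ * (σ v * v))
    congr 1
    rw [map_mul]
    linear_combination (γ * (σ v * v)) * hzσ
  have transport : ∀ {V : Type _} [AddCommGroup V] [Module F V] (L : K ≃ₗ[F] V),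
      (L.symm.trans (μ.trans L)) ^ r = 1 ∧ ∀ v, L.symm.trans (μ.trans L) v = v → v = 0 := by
    intro V _ _ L
    refine ⟨LinearEquiv.ext fun v => ?_, fun v hv => ?_⟩
    · have hk : ∀ k : ℕ, ((L.symm.trans (μ.trans L)) ^ k) v = L (ζ ^ k * L.symm v) := by
        intro k
        induction k with
        | zero => simp
        | succ k ih =>
          rw [pow_succ', LinearEquiv.mul_apply, ih]
          show L (ζ * L.symm (L _)) = _
          rw [LinearEquiv.symm_apply_apply, pow_succ', mul_assoc]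
      rw [hk, hζ, one_mul, LinearEquiv.apply_symm_apply]
      rfl
    · have h' : ζ * L.symm v = L.symm v := by
        have := congrArg L.symm hv
        simpa [μ] using this
      have : (ζ - 1) * L.symm v = 0 := by rw [sub_mul, h', one_mul, sub_self]
      rcases mul_eq_zero.1 this with h | h
      · exact absurd (sub_eq_zero.1 h) hζ1
      · exact (LinearEquiv.map_eq_zero_iff L.symm).1 h
  rcases Spinor.equiv_plus_or_minus hd hK Q hnd a b hab with ⟨L, hL⟩ | ⟨L, hL⟩
  · refine (plus_no_fpf h2 hr hr2 hdvd (L.symm.trans (μ.trans L)) (fun v => ?_) (transport L).1 (transport L).2).elim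
    obtain ⟨w, rfl⟩ := L.surjective v
    show Cfsg.quadFormPlus d F (L (μ (L.symm (L w)))) = _
    rw [LinearEquiv.symm_apply_apply, hL, hμQ, hL]
  · refine ⟨L.symm.trans (μ.trans L), fun v => ?_, (transport L).1, (transport L).2⟩
    obtain ⟨w, rfl⟩ := L.surjective v
    show Cfsg.quadFormMinus (d - 1) F a b (L (μ (L.symm (L w)))) = _
    rw [LinearEquiv.symm_apply_apply, hL, hμQ, hL]

end Cfsg.Agent.NonsingPoints
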