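import Cfsg.Agent.Lib.TransvMax.QuadBasic
import Cfsg.Agent.Lib.Forms.Alt

/-!
The Jordan blocks of a unipotent isometry in odd characteristic and of its restriction to an
invariant non-degenerate subspace.
-/

set_option autoImplicit false

namespace Cfsg.Agent.JordanOrth

open Cfsg.Agent

/-- The rank of the `k`-th power of a nilpotent map with block sizes `μ`. -/
def rk (μ : Multiset ℕ) (k : ℕ) : ℕ := (μ.map (· - k)).sum

theorem rk_zero (μ : Multiset ℕ) : rk μ 0 = μ.sum := by simp [rk]

theorem count_eq_rk (μ : Multiset ℕ) {e : ℕ} (he : 1 ≤ e) :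
    (μ.count e : ℤ) = rk μ (e - 1) + rk μ (e + 1) - 2 * rk μ e := by
  induction μ using Multiset.induction_on with
  | empty => simp [rk]
  | cons a μ ih =>
    simp only [rk, Multiset.map_cons, Multiset.sum_cons] at ih ⊢
    rw [Multiset.count_cons]
    split <;> omega

theorem rk_eq_sum (μ : Multiset ℕ) {p : ℕ} (h : ∀ e ∈ μ, e ≤ p) (k : ℕ) :
    rk μ k = ∑ e : Fin (p + 1), μ.count (e : ℕ) * ((e : ℕ) - k) := by
  induction μ using Multiset.induction_on with
  | empty => simp [rk]
  | cons a μ ih =>
    have ha : a ≤ p := h a (Multiset.mem_cons_self a μ)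
    have ih' := ih fun e he => h e (Multiset.mem_cons_of_mem he)
    simp only [rk, Multiset.map_cons, Multiset.sum_cons] at ih' ⊢
    have hstep : ∀ e : Fin (p + 1), (a ::ₘ μ).count (e : ℕ) * ((e : ℕ) - k) =
        μ.count (e : ℕ) * ((e : ℕ) - k) + (if e = ⟨a, by omega⟩ then a - k else 0) := by
      intro e
      rw [Multiset.count_cons]
      by_cases he : e = ⟨a, by omega⟩
      · subst he; simp [add_mul]
      · have : (e : ℕ) ≠ a := fun e' => he (Fin.ext e')
        simp [he, this]
    rw [ih', Finset.sum_congr rfl (fun e _ => hstep e)]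
    rw [Finset.sum_add_distrib, Finset.sum_ite_eq' Finset.univ _ (fun _ => a - k)]
    simp [add_comm]

/-- A multiset of the parts `1, …, p` with prescribed second differences. -/
theorem exists_multiset (r : ℕ → ℕ) (p : ℕ) (hc : ∀ e, 1 ≤ e → 2 * r e ≤ r (e - 1) + r (e + 1))
    (hp : ∀ k, p ≤ k → r k = 0) :
    ∃ ν : Multiset ℕ, ν.sum = r 0 ∧ (∀ e ∈ ν, 1 ≤ e ∧ e ≤ p) ∧
      ∀ e, 1 ≤ e → e ≤ p → (ν.count e : ℤ) = r (e - 1) + r (e + 1) - 2 * r e := by
  let c : ℕ → ℕ := fun e => r (e - 1) + r (e + 1) - 2 * r e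
  refine ⟨∑ e ∈ Finset.Icc 1 p, Multiset.replicate (c e) e, ?_, ?_, ?_⟩
  · rw [← Multiset.coe_sumAddMonoidHom, map_sum]
    simp only [Multiset.coe_sumAddMonoidHom, Multiset.sum_replicate, smul_eq_mul]
    have key : ∀ n : ℕ, ((∑ e ∈ Finset.Icc 1 n, c e * e : ℕ) : ℤ) =
        r 0 - ((n : ℤ) + 1) * r n + n * r (n + 1) := by
      intro n
      induction n with
      | zero => simp
      | succ n ih =>
        rw [Finset.sum_Icc_succ_top (by omega), Nat.cast_add, ih, Nat.cast_mul]
        have h := hc (n + 1) (by omega)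
        simp only [c, Nat.add_sub_cancel] at h ⊢
        rw [Nat.cast_sub h]
        push_cast
        ring
    have := key p
    rw [hp p le_rfl, hp (p + 1) (by omega)] at this
    omega
  · intro e he
    obtain ⟨i, hi, hie⟩ := Multiset.mem_sum.1 he
    rw [Finset.mem_Icc] at hi
    rw [Multiset.eq_of_mem_replicate hie]
    exact hi
  · intro e he hep
    rw [Multiset.count_sum', Finset.sum_eq_single e (fun b _ hb => by
      rw [Multiset.count_replicate, if_neg hb]) (fun h => absurd (Finset.mem_Icc.2 ⟨he, hep⟩) h),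
      Multiset.count_replicate, if_pos rfl]
    have := hc e he
    simp only [c]
    omega

variable {F V : Type*} [Field F] [AddCommGroup V] [Module F V] [FiniteDimensional F V]

/-- The dimension of the image of a subspace under a power. -/
noncomputable def pr (N : V →ₗ[F] V) (W : Submodule F V) (k : ℕ) : ℕ :=
  Module.finrank F (W.map (N ^ k))

theorem pr_zero (N : V →ₗ[F] V) (W : Submodule F V) : pr N W 0 = Module.finrank F W := by
  rw [pr, pow_zero, show (1 : V →ₗ[F] V) = LinearMap.id from rfl, Submodule.map_id]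

theorem finrank_map_add (N : V →ₗ[F] V) (U : Submodule F V) :
    Module.finrank F (U.map N) + Module.finrank F (U ⊓ LinearMap.ker N : Submodule F V) =
      Module.finrank F U := by
  have h := (N.domRestrict U).finrank_range_add_finrank_ker
  have e1 : LinearMap.range (N.domRestrict U) = U.map N := by
    ext v
    simp [Submodule.mem_map]
  have e2 : Module.finrank F (LinearMap.ker (N.domRestrict U)) =
      Module.finrank F (U ⊓ LinearMap.ker N : Submodule F V) := by
    rw [← Submodule.finrank_map_subtype_eq U (LinearMap.ker (N.domRestrict U))]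
    rw [show Submodule.map U.subtype (LinearMap.ker (N.domRestrict U)) = U ⊓ LinearMap.ker N from ?_]
    ext v
    constructor
    · rintro ⟨⟨w, hw⟩, hk, rfl⟩
      exact ⟨hw, hk⟩
    · rintro ⟨hv, hk⟩
      exact ⟨⟨v, hv⟩, hk, rfl⟩
  rw [e1, e2] at h
  exact h

theorem pr_convex (N : V →ₗ[F] V) (W : Submodule F V) (hW : W.map N ≤ W) {e : ℕ} (he : 1 ≤ e) :
    2 * pr N W e ≤ pr N W (e - 1) + pr N W (e + 1) := by
  obtain ⟨j, rfl⟩ : ∃ j, e = j + 1 := ⟨e - 1, by omega⟩
  rw [Nat.add_sub_cancel]
  have hs : ∀ k, W.map (N ^ (k + 1)) = (W.map (N ^ k)).map N := fun k => by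
    rw [pow_succ', ← Submodule.map_comp]
    rfl
  have hle : W.map (N ^ (j + 1)) ≤ W.map (N ^ j) := by
    rw [pow_succ, show N ^ j * N = (N ^ j).comp N from rfl, Submodule.map_comp]
    exact Submodule.map_mono hW
  have h1 := finrank_map_add N (W.map (N ^ j))
  have h2 := finrank_map_add N (W.map (N ^ (j + 1)))
  rw [← hs] at h1 h2
  have h3 := Submodule.finrank_mono (inf_le_inf_right (LinearMap.ker N) hle)
  simp only [pr]
  omega

/-- An alternating form has even rank. -/
theorem even_rank {B : LinearMap.BilinForm F V} {W : Submodule F V}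
    (hW : ∀ w ∈ W, (∀ x ∈ W, B w x = 0) → w = 0) (S : V →ₗ[F] V) (hS : W.map S ≤ W)
    (halt : ∀ u, B (S u) u = 0) : Even (Module.finrank F (W.map S)) := by
  obtain ⟨C, hC⟩ := Submodule.exists_isCompl ((W ⊓ LinearMap.ker S).comap W.subtype)
  let β : LinearMap.BilinForm F C :=
    (LinearMap.comp B (S.comp (W.subtype.comp C.subtype))).compl₂ (W.subtype.comp C.subtype)
  have hβ : ∀ u v : C, β u v = B (S (u : W)) ((v : W) : V) := fun u v => rfl
  have halt' : LinearMap.IsAlt β := fun u => by rw [hβ]; exact halt _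
  have hnd : LinearMap.Nondegenerate β := by
    have hl : LinearMap.SeparatingLeft β := by
      intro u hu
      have h0 : S (u : W) = 0 := hW _ (hS ⟨_, (u : W).2, rfl⟩) fun x hx => by
        obtain ⟨a, ha, c, hc, hac⟩ := Submodule.mem_sup.1
          (show (⟨x, hx⟩ : W) ∈ (W ⊓ LinearMap.ker S).comap W.subtype ⊔ C by rw [hC.sup_eq_top]; trivial)
        have hx' : x = (a : V) + (c : V) := (congrArg Subtype.val hac).symm
        have hsk : B (S (u : W)) (a : V) = 0 := by
          have hh := halt ((u : W) + (a : V))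
          have ha0 : S (a : V) = 0 := ha.2
          simp only [map_add, ha0, add_zero, halt, zero_add] at hh
          exact hh
        rw [hx', map_add, hsk, zero_add]
        exact hu ⟨c, hc⟩
      exact Subtype.ext (Submodule.disjoint_def.1 hC.disjoint _
        (show (u : W) ∈ (W ⊓ LinearMap.ker S).comap W.subtype from ⟨(u : W).2, h0⟩) u.2)
    exact ⟨hl, fun v hv => hl v fun u => by rw [← halt'.neg, hv u, neg_zero]⟩
  obtain ⟨m, b, -⟩ := FormsLib.exists_symplectic_basis_nondeg halt' hnd
  have hd := Module.finrank_eq_card_basis b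
  rw [Fintype.card_sum, Fintype.card_fin] at hd
  have h1 := finrank_map_add S W
  have h2 := Submodule.finrank_add_eq_of_isCompl hC
  have h3 : Module.finrank F ((W ⊓ LinearMap.ker S).comap W.subtype) =
      Module.finrank F (W ⊓ LinearMap.ker S : Submodule F V) :=
    (Submodule.comapSubtypeEquivOfLe inf_le_left).finrank_eq
  exact ⟨m, by omega⟩

/-- The blocks of the restriction to an invariant non-degenerate subspace. -/
theorem exists_split {B : LinearMap.BilinForm F V} (h2 : (2 : F) ≠ 0)
    (hsym : ∀ x y, B x y = B y x) (hnd : ∀ v, (∀ w, B v w = 0) → v = 0) {p : ℕ} (g : V ≃ₗ[F] V)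
    (hg : ∀ x y, B (g x) (g y) = B x y)
    (hp : ((g : V →ₗ[F] V) - LinearMap.id) ^ p = 0)
    (μ : Multiset ℕ) (hμ : ∀ e ∈ μ, 1 ≤ e ∧ e ≤ p)
    (hr : ∀ k, pr ((g : V →ₗ[F] V) - LinearMap.id) ⊤ k = rk μ k)
    (W : Submodule F V) (hW : W.map (g : V →ₗ[F] V) ≤ W)
    (hWnd : ∀ w ∈ W, (∀ x ∈ W, B w x = 0) → w = 0) :
    ∃ ν : Multiset ℕ, ν ≤ μ ∧ ν.sum = Module.finrank F W ∧ (∀ e, Even e → Even (ν.count e)) ∧
      ((∀ e ∈ ν, e = 2) → ∃ U ≤ W, (∀ u ∈ U, B u u = 0) ∧ 2 * Module.finrank F U = Module.finrank F W) := by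
  set N : V →ₗ[F] V := (g : V →ₗ[F] V) - LinearMap.id with hN
  have hNv : ∀ v, N v = g v - v := fun v => rfl
  have hWN : W.map N ≤ W := by
    rintro _ ⟨v, hv, rfl⟩
    rw [hNv]
    exact W.sub_mem (hW ⟨v, hv, rfl⟩) hv
  have hgW : W.map (g : V →ₗ[F] V) = W :=
    Submodule.eq_of_le_of_finrank_eq hW (LinearEquiv.finrank_map_eq g W)
  -- the orthogonal complement
  set W' := B.orthogonal W with hW'
  have hW'mem : ∀ v, v ∈ W' ↔ ∀ w ∈ W, B w v = 0 := fun v => Iff.rfl
  have hW'N : W'.map N ≤ W' := by
    rintro _ ⟨v, hv, rfl⟩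
    rw [hW'mem]
    intro w hw
    obtain ⟨w', hw', rfl⟩ : ∃ w' ∈ W, g w' = w := by
      rw [← hgW] at hw
      exact hw
    rw [hNv, map_sub, hg, (hW'mem v).1 hv w' hw', (hW'mem v).1 hv (g w') hw, sub_zero]
  have hrefl : B.IsRefl := fun x y h => by rw [hsym]; exact h
  have hdisj : Disjoint W W' := Submodule.disjoint_def.2 fun v hv hv' =>
    hWnd v hv fun x hx => by rw [hsym]; exact (hW'mem v).1 hv' x hx
  have hndB : B.Nondegenerate := ⟨fun v h => hnd v h, fun v h => hnd v fun w => by rw [hsym]; exact h w⟩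
  have hcompl : IsCompl W W' :=
    (LinearMap.BilinForm.isCompl_orthogonal_iff_disjoint hrefl).2 hdisj
  have hpow : ∀ (U : Submodule F V), U.map N ≤ U → ∀ k, U.map (N ^ k) ≤ U := by
    intro U hU k
    induction k with
    | zero => rw [pow_zero, show (1 : V →ₗ[F] V) = LinearMap.id from rfl, Submodule.map_id]
    | succ k ih =>
      rw [pow_succ', show N * N ^ k = N.comp (N ^ k) from rfl, Submodule.map_comp]
      exact (Submodule.map_mono ih).trans hU
  have hadd : ∀ k, pr N W k + pr N W' k = pr N ⊤ k := by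
    intro k
    simp only [pr]
    rw [← hcompl.sup_eq_top, Submodule.map_sup,
      ← Submodule.finrank_sup_add_finrank_inf_eq (W.map (N ^ k)) (W'.map (N ^ k)),
      (disjoint_iff.1 (hdisj.mono (hpow W hWN k) (hpow W' hW'N k))), finrank_bot, add_zero]
  have hzero : ∀ k, p ≤ k → pr N W k = 0 := by
    intro k hk
    simp only [pr]
    rw [show N ^ k = 0 by rw [← Nat.sub_add_cancel hk, pow_add, hp, mul_zero], Submodule.map_zero,
      finrank_bot]
  obtain ⟨ν, hνsum, hνp, hνc⟩ := exists_multiset (pr N W) p (fun e he => pr_convex N W hWN he) hzero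
  rw [pr_zero] at hνsum
  have hle : ν ≤ μ := by
    rw [Multiset.le_iff_count]
    intro e
    by_cases he : e ∈ ν
    · obtain ⟨h1, h2⟩ := hνp e he
      have hc := count_eq_rk μ h1
      rw [← hr, ← hr, ← hr, ← hadd, ← hadd, ← hadd] at hc
      have hc' := hνc e h1 h2
      have := pr_convex N W' hW'N h1
      omega
    · rw [Multiset.count_eq_zero.2 he]
      exact Nat.zero_le _
  -- the skew-adjoint companion
  let A : V →ₗ[F] V := (g : V →ₗ[F] V) + LinearMap.id
  have hA : ∀ v, A v = g v + v := fun v => rfl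
  have hnilp : ∀ v, N v = (-2 : F) • v → v = 0 := by
    intro v hv
    have : ∀ k, (N ^ k) v = (-2 : F) ^ k • v := by
      intro k
      induction k with
      | zero => simp
      | succ k ih => rw [pow_succ', Module.End.mul_apply, ih, map_smul, hv, smul_smul, ← pow_succ]
    have h := this p
    rw [hp, LinearMap.zero_apply] at h
    exact (smul_eq_zero.1 h.symm).resolve_left (pow_ne_zero _ (neg_ne_zero.2 h2))
  have hAinj : Function.Injective A := by
    refine (injective_iff_map_eq_zero A).2 fun v hv => hnilp v ?_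
    rw [hA] at hv
    rw [hNv, eq_neg_of_add_eq_zero_left hv]
    module
  let Ae : V ≃ₗ[F] V := LinearEquiv.ofBijective A ⟨hAinj, LinearMap.surjective_of_injective hAinj⟩
  have hAW : W.map A = W := by
    refine Submodule.eq_of_le_of_finrank_eq ?_ (LinearEquiv.finrank_map_eq Ae W)
    rintro _ ⟨v, hv, rfl⟩
    rw [hA]
    exact W.add_mem (hW ⟨v, hv, rfl⟩) hv
  let T : V →ₗ[F] V := N.comp (Ae.symm : V →ₗ[F] V)
  have hTA : ∀ v, T (A v) = N v := fun v => by
    show N (Ae.symm (Ae v)) = N v
    rw [LinearEquiv.symm_apply_apply]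
  have hcomm : ∀ v, A (N v) = N (A v) := fun v => by
    simp only [hA, hNv, map_sub, map_add]
    abel
  have hskew : ∀ u v, B (T u) v = -B u (T v) := by
    intro u v
    obtain ⟨a, rfl⟩ := Ae.surjective u
    obtain ⟨b, rfl⟩ := Ae.surjective v
    show B (T (A a)) (A b) = -B (A a) (T (A b))
    rw [hTA, hTA, hA, hA, hNv, hNv]
    simp only [map_sub, map_add, LinearMap.sub_apply, LinearMap.add_apply, hg]
    ring
  have hNT : ∀ (k : ℕ) v, (T ^ k) ((A ^ k) v) = (N ^ k) v := by
    intro k
    induction k with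
    | zero => intro v; rfl
    | succ k ih =>
      intro v
      rw [pow_succ T, pow_succ' A, pow_succ N, Module.End.mul_apply, Module.End.mul_apply,
        Module.End.mul_apply, hTA]
      have : N ((A ^ k) v) = (A ^ k) (N v) := by
        clear ih
        induction k with
        | zero => rfl
        | succ k ih' => rw [pow_succ', Module.End.mul_apply, Module.End.mul_apply, ← hcomm, ih']
      rw [this, ih]
  have hmapT : ∀ k, W.map (T ^ k) = W.map (N ^ k) := by
    intro k
    have hAk : ∀ j, W.map (A ^ j) = W := by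
      intro j
      induction j with
      | zero => rw [pow_zero, show (1 : V →ₗ[F] V) = LinearMap.id from rfl, Submodule.map_id]
      | succ j ih =>
        rw [pow_succ', show A * A ^ j = A.comp (A ^ j) from rfl, Submodule.map_comp, ih, hAW]
    conv_lhs => rw [← hAk k, ← Submodule.map_comp]
    congr 1
    exact LinearMap.ext (hNT k)
  refine ⟨ν, hle, hνsum, fun e he => ?_, fun h2' => ?_⟩
  · by_cases hmem : e ∈ ν
    · obtain ⟨h1, h2''⟩ := hνp e hmem
      obtain ⟨j, rfl⟩ := he
      have hodd : ∀ k, Odd k → Even (pr N W k) := by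
        intro k hk
        rw [pr, ← hmapT]
        refine even_rank (B := B) hWnd (T ^ k) (hmapT k ▸ hpow W hWN k) fun u => ?_
        have hs : ∀ (k : ℕ) u v, B ((T ^ k) u) v = (-1) ^ k * B u ((T ^ k) v) := by
          intro k
          induction k with
          | zero => intro u v; simp
          | succ k ih =>
            intro u v
            conv_lhs => rw [pow_succ', Module.End.mul_apply, hskew, ih]
            rw [pow_succ' T, pow_succ' (-1 : F)]
            have : T ((T ^ k) v) = (T ^ k) (T v) := by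
              rw [← Module.End.mul_apply, ← pow_succ', pow_succ, Module.End.mul_apply]
            simp only [Module.End.mul_apply, this]
            ring
        have := hs k u u
        rw [hk.neg_one_pow, hsym u] at this
        have h' : (2 : F) * B ((T ^ k) u) u = 0 := by linear_combination this
        exact (mul_eq_zero.1 h').resolve_left h2
      have hc := hνc _ h1 h2''
      obtain ⟨x, hx⟩ := hodd (j + j - 1) ⟨j - 1, by omega⟩
      obtain ⟨y, hy⟩ := hodd (j + j + 1) ⟨j, by omega⟩
      rw [hx, hy] at hc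
      exact ⟨x + y - pr N W (j + j), by omega⟩
    · rw [Multiset.count_eq_zero.2 hmem]
      exact ⟨0, rfl⟩
  · have h0 : ∀ e, 1 ≤ e → e ≤ p → e ≠ 2 →
        (pr N W (e - 1) : ℤ) + pr N W (e + 1) - 2 * pr N W e = 0 := by
      intro e h1 hep he
      rw [← hνc e h1 hep, Multiset.count_eq_zero.2 fun hm => he (h2' e hm)]
      rfl
    have h3 : ∀ j, ∀ k, 2 ≤ k → p ≤ k + j → pr N W k = 0 := by
      intro j
      induction j with
      | zero => intro k _ hk; exact hzero k (by omega)
      | succ j ih =>
        intro k hk hkp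
        by_cases hpk : p ≤ k
        · exact hzero k hpk
        have a1 := ih (k + 1) (by omega) (by omega)
        have a2 := ih (k + 2) (by omega) (by omega)
        have := h0 (k + 1) (by omega) (by omega) (by omega)
        rw [Nat.add_sub_cancel, a1, show k + 1 + 1 = k + 2 from rfl, a2] at this
        omega
    have hN2 : pr N W 2 = 0 := h3 p 2 le_rfl (by omega)
    have hm : Module.finrank F W = 2 * pr N W 1 := by
      by_cases hp1 : 1 ≤ p
      · have := h0 1 le_rfl hp1 (by omega)
        simp only [Nat.sub_self, pr_zero, show 1 + 1 = 2 from rfl, hN2] at this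
        omega
      · have e0 := hzero 0 (by omega)
        have e1 := hzero 1 (by omega)
        rw [pr_zero] at e0
        omega
    refine ⟨W.map N, hWN, ?_, by rw [hm, pr, pow_one]⟩
    rintro _ ⟨v, hv, rfl⟩
    have hb : W.map (N ^ 2) = ⊥ := Submodule.finrank_eq_zero.1 hN2
    have hNN : N (N v) = 0 := by
      have : (N ^ 2) v ∈ W.map (N ^ 2) := ⟨v, hv, rfl⟩
      rw [hb, Submodule.mem_bot] at this
      rwa [pow_two, Module.End.mul_apply] at this
    have hgN : g (N v) = N v := sub_eq_zero.1 hNN
    have h := hg (N v) v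
    rw [hgN] at h
    rw [show B (N v) (N v) = B (N v) (g v) - B (N v) v by rw [← map_sub]; rfl, h, sub_self]

end Cfsg.Agent.JordanOrth
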