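import Cfsg.Agent.Lib.TransvMax.SymRoot

/-!
Isometries of odd order whose moved space has dimension `2e` with `e` odd centralise no self-adjoint root
of a non-square; models of such isometries.
-/

set_option autoImplicit false
set_option linter.unusedSectionVars false

namespace Cfsg.Agent.SymRoot

open Cfsg.Agent Cfsg.Agent.FormsLib Module QuadraticMap
open scoped QuadraticAlgebra

variable {F : Type*} [Field F] [Fintype F]

section NoRoot

variable {δ : F} [hδ : Fact (∀ t : F, t ^ 2 ≠ δ + 0 * t)]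

local notation "L" => QuadraticAlgebra F δ 0

/-- The moved space of an isometry of odd order commuting with a root has dimension divisible by four. -/
theorem four_dvd_rank {V : Type*} [AddCommGroup V] [Module F V] [FiniteDimensional F V]
    {Q : QuadraticForm F V} (hQ : (polarBilin Q).Nondegenerate) (h2 : (2 : F) ≠ 0) {J : V →ₗ[F] V}
    (hJ : IsSRoot Q δ J) {g : V ≃ₗ[F] V} (hg : g ∈ oGroup Q) {r : ℕ} (hr : Odd r) (hgr : g ^ r = 1)
    (hc : ∀ v, g (J v) = J (g v)) {d : ℕ} (hd : 0 < d) (hdim : finrank F V = 2 * d) :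
    4 ∣ finrank F (LinearMap.range ((g : V →ₗ[F] V) - LinearMap.id)) := by
  classical
  obtain ⟨c, hc0, e, he, hJe⟩ := exists_coords hQ h2 hJ hd hdim
  haveI : Fintype L := Fintype.ofFinite L
  let g₀ : (Fin d → L) ≃ₗ[F] (Fin d → L) := (e.trans g).trans e.symm
  have hg₀ : ∀ u, g₀ u = e.symm (g (e u)) := fun u => rfl
  have hω : ∀ u, g₀ ((QuadraticAlgebra.omega : L) • u) = (QuadraticAlgebra.omega : L) • g₀ u := fun u => by
    apply e.injective
    rw [← hJe, hg₀, hg₀, e.apply_symm_apply, e.apply_symm_apply, ← hJe, hc]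
  let g₁ : (Fin d → L) ≃ₗ[L] (Fin d → L) :=
    { g₀ with
      map_smul' := fun a u => by
        show g₀ (a • u) = a • g₀ u
        have ha : a • u = a.re • u + a.im • ((QuadraticAlgebra.omega : L) • u) := by
          funext i; ext <;> simp <;> ring
        have ha' : a • g₀ u = a.re • g₀ u + a.im • ((QuadraticAlgebra.omega : L) • g₀ u) := by
          funext i; ext <;> simp <;> ring
        rw [ha, ha', map_add, map_smul, map_smul, hω] }
  have hg₁ : ∀ u, g₁ u = g₀ u := fun u => rfl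
  let Q₁ : QuadraticForm L (Fin d → L) := weightedSumSquares L (wgt c : Fin d → L)
  have hQ₁v : ∀ u, Q₁ u = ∑ i, wgt c i * (u i * u i) := fun u => by
    simp [Q₁, weightedSumSquares_apply]
  have hre : ∀ u, (Q₁ u).re = Q (e u) := fun u => by rw [hQ₁v, he, coordForm]
  have hc0' : c ≠ 0 := fun h => hc0 (by rw [h]; rfl)
  have hpol : ∀ u v, polar Q₁ u v = 2 * ∑ i, wgt c i * (u i * v i) := fun u v => by
    simp only [polar, hQ₁v, Pi.add_apply, ← Finset.sum_sub_distrib, Finset.mul_sum]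
    exact Finset.sum_congr rfl fun i _ => by ring
  have hnd : (polarBilin Q₁).Nondegenerate := OrthOrder.nondegenerate_iff.2 fun u hu => funext fun i => by
    have h := hu (Pi.single i 1)
    rw [hpol, Finset.sum_eq_single i (fun j _ hj => by simp [hj]) (by simp)] at h
    have hw : wgt c i ≠ 0 := by rw [wgt]; split_ifs <;> simp [hc0']
    simpa [two_ne_zero_L (δ := δ) h2, hw] using h
  have hg₁Q : g₁ ∈ oGroup Q₁ := fun u => by
    apply QuadraticAlgebra.ext
    · rw [hre, hre, hg₁, hg₀, e.apply_symm_apply, hg]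
    · -- the imaginary part is the real part of a multiple
      have him : ∀ v, δ * (Q₁ v).im = ((QuadraticAlgebra.omega : L) * Q₁ v).re := fun v => by simp
      have hωQ : ∀ v, ((QuadraticAlgebra.omega : L) * Q₁ v).re =
          (polar Q (e ((QuadraticAlgebra.omega : L) • v)) (e v)) / 2 := fun v => by
        have h1 : ((QuadraticAlgebra.omega : L) * Q₁ v).re * 2 =
            (polar Q₁ ((QuadraticAlgebra.omega : L) • v) v).re := by
          rw [show polar Q₁ ((QuadraticAlgebra.omega : L) • v) v = QuadraticAlgebra.omega * Q₁ v * 2 by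
            rw [polar_smul_left, polar_self', smul_eq_mul]; ring]
          simp [QuadraticAlgebra.re_ofNat, QuadraticAlgebra.im_ofNat]
        rw [eq_div_iff h2, h1]
        simp only [polar, QuadraticAlgebra.re_sub, hre, map_add]
      apply mul_left_cancel₀ (delta_ne_zero (δ := δ))
      rw [him, him, hωQ, hωQ, hg₁, ← hω, hg₀, hg₀, e.apply_symm_apply, e.apply_symm_apply, polar_of_mem hg]
  have hpow : ∀ n : ℕ, ∀ u, (g₁ ^ n) u = e.symm ((g ^ n) (e u)) := by
    intro n
    induction n with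
    | zero => intro u; simp
    | succ n ih =>
      intro u
      rw [pow_succ, pow_succ, LinearEquiv.mul_apply, LinearEquiv.mul_apply, ih, hg₁, hg₀, e.apply_symm_apply]
  have hgen := Spinor.reflGroup_eq_top_of_odd hnd (two_ne_zero_L (δ := δ) h2)
  have h1 : Spinor.dickHom hnd hgen ⟨g₁, hg₁Q⟩ = 1 := by
    set φ := Spinor.dickHom hnd hgen
    have h : φ ⟨g₁, hg₁Q⟩ ^ r = 1 := by
      rw [← map_pow, show (⟨g₁, hg₁Q⟩ : oGroup Q₁) ^ r = 1 from
        Subtype.ext (LinearEquiv.ext fun u => by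
          show (g₁ ^ r) u = u
          rw [hpow, hgr]; simp), map_one]
    rcases Int.units_eq_one_or (φ ⟨g₁, hg₁Q⟩) with h' | h'
    · exact h'
    · rw [h', hr.neg_one_pow] at h; exact absurd h (by decide)
  have hev : Even (Spinor.rk g₁) := by
    by_contra hodd
    have h : ((-1 : ℤˣ)) ^ Spinor.rk g₁ = 1 := h1
    rw [(Nat.not_even_iff_odd.1 hodd).neg_one_pow] at h
    exact absurd h (by decide)
  -- compare the dimensions
  let R := (Spinor.mov g₁).restrictScalars F
  have hR : R.map (e : (Fin d → L) →ₗ[F] V) = LinearMap.range ((g : V →ₗ[F] V) - LinearMap.id) := by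
    ext v
    constructor
    · rintro ⟨_, ⟨u, rfl⟩, rfl⟩
      exact ⟨e u, by simp [hg₁, hg₀]⟩
    · rintro ⟨w, rfl⟩
      exact ⟨_, ⟨e.symm w, rfl⟩, by simp [hg₁, hg₀]⟩
  rw [← hR, LinearEquiv.finrank_map_eq,
    show finrank F R = finrank F L * finrank L (Spinor.mov g₁) from
      (Module.finrank_mul_finrank F L (Spinor.mov g₁)).symm, QuadraticAlgebra.finrank_eq_two]
  obtain ⟨t, ht⟩ := hev
  exact ⟨t, by rw [show finrank L (Spinor.mov g₁) = Spinor.rk g₁ from rfl, ht]; ring⟩

end NoRoot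

section Models

/-- Prescribed values on pairwise orthogonal vectors. -/
theorem exists_orth_values {V : Type*} [AddCommGroup V] [Module F V] [FiniteDimensional F V]
    {Q : QuadraticForm F V} (h2 : (2 : F) ≠ 0) :
    ∀ (k : ℕ) (a : Fin k → F), (∀ i, a i ≠ 0) → ∀ W : Submodule F V,
      W ⊓ LinearMap.BilinForm.orthogonal (polarBilin Q) W = ⊥ → k < finrank F W →
      ∃ v : Fin k → V, (∀ i, v i ∈ W) ∧ (∀ i j, i ≠ j → polar Q (v i) (v j) = 0) ∧ ∀ i, Q (v i) = a i := by
  intro k
  induction k with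
  | zero => exact fun a _ W _ _ => ⟨Fin.elim0, fun i => i.elim0, fun i => i.elim0, fun i => i.elim0⟩
  | succ k ih =>
    intro a ha W hW hk
    obtain ⟨u, hu, hQu⟩ := Spinor.exists_norm hW (Or.inl (by omega)) (ha 0)
    have hnle : ¬ W ≤ LinearMap.ker ((polarBilin Q).flip u) := fun h => by
      have := Spinor.mem_ker_polar.1 (h hu)
      rw [polar_self', hQu] at this
      exact mul_ne_zero h2 (ha 0) this
    set W' := W ⊓ LinearMap.ker ((polarBilin Q).flip u) with hW'def
    have hd := Spinor.finrank_inf_ker hnle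
    rw [← hW'def] at hd
    have hW' : W' ⊓ LinearMap.BilinForm.orthogonal (polarBilin Q) W' = ⊥ := by
      rw [Submodule.eq_bot_iff]
      rintro x ⟨hx, hx'⟩
      refine (Submodule.eq_bot_iff _).1 hW x ⟨hx.1, fun y hy => ?_⟩
      show polar Q y x = 0
      set s := polar Q y u / (2 * a 0) with hs
      have h0 : (2 : F) * a 0 ≠ 0 := mul_ne_zero h2 (ha 0)
      have hy' : y - s • u ∈ W' := by
        refine ⟨W.sub_mem hy (W.smul_mem _ hu), Spinor.mem_ker_polar.2 ?_⟩
        rw [polar_sub_left, polar_smul_left, polar_self', hQu, smul_eq_mul, hs]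
        have ha0 := ha 0
        field_simp
        ring
      have h4 : polar Q (y - s • u) x = 0 := hx' _ hy'
      rwa [polar_sub_left, polar_smul_left, polar_comm Q u x, Spinor.mem_ker_polar.1 hx.2, smul_zero, sub_zero] at h4
    obtain ⟨v, hvW, hv1, hv2⟩ := ih (a ∘ Fin.succ) (fun i => ha _) W' hW' (by omega)
    have hvu : ∀ i, polar Q (v i) u = 0 := fun i => Spinor.mem_ker_polar.1 (hvW i).2
    refine ⟨Fin.cons u v, fun i => ?_, fun i j hij => ?_, fun i => ?_⟩
    · refine Fin.cases ?_ (fun l => ?_) i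
      · simpa using hu
      · simpa using (hvW l).1
    · revert hij
      refine Fin.cases ?_ (fun l => ?_) i <;> refine Fin.cases ?_ (fun m => ?_) j <;> intro hij
      · exact absurd rfl hij
      · simpa [polar_comm Q u] using hvu m
      · simpa using hvu l
      · simpa using hv1 l m fun h => hij (by rw [h])
    · refine Fin.cases ?_ (fun l => ?_) i
      · simpa using hQu
      · simpa using hv2 l

/-- A non-degenerate space embeds isometrically in any larger one. -/
theorem exists_embed {V W : Type*} [AddCommGroup V] [Module F V] [FiniteDimensional F V] [AddCommGroup W]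
    [Module F W] [FiniteDimensional F W] {Q : QuadraticForm F V} {Q' : QuadraticForm F W} (h2 : (2 : F) ≠ 0)
    (hQ : (polarBilin Q).Nondegenerate) (hQ' : (polarBilin Q').Nondegenerate)
    (hlt : finrank F W < finrank F V) : ∃ φ : W →ₗ[F] V, ∀ w, Q (φ w) = Q' w := by
  classical
  rcases Nat.eq_zero_or_pos (finrank F W) with h0 | h0
  · haveI : Subsingleton W := Module.finrank_zero_iff.1 h0
    exact ⟨0, fun w => by rw [Subsingleton.elim w 0]; simp⟩
  obtain ⟨n, hn⟩ : ∃ n, finrank F W = n + 1 := ⟨finrank F W - 1, by omega⟩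
  let e : (Fin (n + 1) → F) ≃ₗ[F] W := (Module.finBasisOfFinrankEq F W hn).equivFun.symm
  let Q₀ : QuadraticForm F (Fin (n + 1) → F) := Q'.comp e.toLinearMap
  have hQ₀v : ∀ u, Q₀ u = Q' (e u) := fun u => rfl
  have hQ₀ : (polarBilin Q₀).Nondegenerate := OrthOrder.nondegenerate_congr e (fun u => (hQ₀v u).symm) hQ'
  obtain ⟨b, hb, hne, -⟩ := Spinor.exists_ones h2 Q₀ hQ₀
  obtain ⟨v, -, hv, hva⟩ := exists_orth_values (Q := Q) h2 (n + 1) (fun i => Q₀ (b i)) hne ⊤
    (Spinor.top_inf_orth hQ) (by rw [finrank_top]; omega)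
  let ψ := b.constr F v
  have key : (polarBilin Q).compl₁₂ ψ ψ = polarBilin Q₀ := b.ext fun i => b.ext fun j => by
    show polar Q (ψ (b i)) (ψ (b j)) = polar Q₀ (b i) (b j)
    rw [Module.Basis.constr_basis, Module.Basis.constr_basis]
    rcases eq_or_ne i j with rfl | hij
    · rw [polar_self', polar_self', hva]
    · rw [hv i j hij, hb i j hij]
  refine ⟨ψ ∘ₗ e.symm.toLinearMap, fun w => mul_left_cancel₀ h2 ?_⟩
  obtain ⟨u, rfl⟩ := e.surjective w
  rw [← polar_self', ← hQ₀v, ← polar_self' Q₀]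
  show polar Q (ψ (e.symm (e u))) (ψ (e.symm (e u))) = polar Q₀ u u
  rw [e.symm_apply_apply]
  exact LinearMap.congr_fun₂ key u u

/-- Extension of an isometry along an isometric embedding. -/
theorem exists_ext {V W : Type*} [AddCommGroup V] [Module F V] [FiniteDimensional F V] [AddCommGroup W]
    [Module F W] [FiniteDimensional F W] {Q : QuadraticForm F V} {Q' : QuadraticForm F W}
    (hQ' : (polarBilin Q').Nondegenerate) (φ : W →ₗ[F] V) (hφ : ∀ w, Q (φ w) = Q' w)
    {g₁ : W ≃ₗ[F] W} (hg₁ : g₁ ∈ oGroup Q') {r : ℕ} (hgr : g₁ ^ r = 1) :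
    ∃ g ∈ oGroup Q, g ^ r = 1 ∧ finrank F (LinearMap.range ((g : V →ₗ[F] V) - LinearMap.id)) =
      finrank F (LinearMap.range ((g₁ : W →ₗ[F] W) - LinearMap.id)) := by
  classical
  have hp : ∀ u w, polar Q (φ u) (φ w) = polar Q' u w := fun u w => by simp only [polar, ← map_add, hφ]
  let T := LinearMap.BilinForm.toDual (polarBilin Q') hQ'
  let π : V →ₗ[F] W := T.symm.toLinearMap ∘ₗ (polarBilin Q).compl₂ φ
  have hπ : ∀ v w, polar Q' (π v) w = polar Q v (φ w) := fun v w =>
    LinearMap.BilinForm.apply_toDual_symm_apply (hB := hQ') ((polarBilin Q).compl₂ φ v) w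
  have hπφ : ∀ w, π (φ w) = w := fun w => sub_eq_zero.1 (hQ'.1 _ fun u => by
    show polar Q' (π (φ w) - w) u = 0
    rw [polar_sub_left, hπ, hp, sub_self])
  have hinj : Function.Injective φ := fun a b h => by rw [← hπφ a, h, hπφ]
  let G : V →ₗ[F] V := LinearMap.id + φ ∘ₗ ((g₁ : W →ₗ[F] W) - LinearMap.id) ∘ₗ π
  have hG : ∀ v, G v = v + φ (g₁ (π v) - π v) := fun v => rfl
  have hGπ : ∀ v, π (G v) = g₁ (π v) := fun v => by rw [hG, map_add, hπφ]; abel
  have hGi : Function.Injective G := (injective_iff_map_eq_zero G).2 fun v hv => by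
    have h : π v = 0 := g₁.map_eq_zero_iff.1 (by rw [← hGπ, hv, map_zero])
    rwa [hG, h, map_zero, sub_self, map_zero, add_zero] at hv
  let g : V ≃ₗ[F] V := LinearEquiv.ofBijective G ⟨hGi, LinearMap.injective_iff_surjective.1 hGi⟩
  have hgv : ∀ v, g v = v + φ (g₁ (π v) - π v) := hG
  have hgπ : ∀ v, π (g v) = g₁ (π v) := hGπ
  refine ⟨g, fun v => ?_, LinearEquiv.ext fun v => ?_, ?_⟩
  · rw [hgv, quad_add, hφ, ← hπ, sub_eq_add_neg (g₁ (π v)), quad_add, QuadraticMap.map_neg, hg₁, polar_neg_right,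
      polar_add_right, polar_neg_right, polar_self', polar_comm Q' (g₁ (π v)) (π v)]
    ring
  · have key : ∀ n : ℕ, (g ^ n) v = v + φ ((g₁ ^ n) (π v) - π v) ∧ π ((g ^ n) v) = (g₁ ^ n) (π v) := by
      intro n
      induction n with
      | zero => simp
      | succ n ih =>
        rw [pow_succ', pow_succ', LinearEquiv.mul_apply, LinearEquiv.mul_apply, hgπ, ih.2]
        refine ⟨?_, rfl⟩
        rw [hgv, ih.2, ih.1, map_sub, map_sub, map_sub]
        abel
    rw [(key r).1, hgr]
    simp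
  · have hsur : Function.Surjective π := fun w => ⟨φ w, hπφ w⟩
    have h : LinearMap.range ((g : V →ₗ[F] V) - LinearMap.id) =
        (LinearMap.range ((g₁ : W →ₗ[F] W) - LinearMap.id)).map φ := by
      ext v
      constructor
      · rintro ⟨u, rfl⟩
        exact ⟨_, ⟨π u, rfl⟩, by simp [hgv]⟩
      · rintro ⟨_, ⟨w, rfl⟩, rfl⟩
        obtain ⟨u, rfl⟩ := hsur w
        exact ⟨u, by simp [hgv]⟩
    rw [h]
    exact (Submodule.equivMapOfInjective φ hinj _).finrank_eq.symm

/-- Two forms not isometric to a third one are isometric. -/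
theorem exists_iso_of_not {U V W : Type*} [AddCommGroup U] [Module F U] [FiniteDimensional F U]
    [AddCommGroup V] [Module F V] [FiniteDimensional F V] [AddCommGroup W] [Module F W] [FiniteDimensional F W]
    (h2 : (2 : F) ≠ 0) {Q₁ : QuadraticForm F U} {Q₂ : QuadraticForm F V} {Q₃ : QuadraticForm F W}
    (h₁ : (polarBilin Q₁).Nondegenerate) (h₂ : (polarBilin Q₂).Nondegenerate) (h₃ : (polarBilin Q₃).Nondegenerate)
    {n : ℕ} (hU : finrank F U = n) (hV : finrank F V = n) (hW : finrank F W = n)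
    (h13 : ¬ ∃ e : U ≃ₗ[F] W, ∀ u, Q₃ (e u) = Q₁ u) (h23 : ¬ ∃ e : V ≃ₗ[F] W, ∀ u, Q₃ (e u) = Q₂ u) :
    ∃ e : U ≃ₗ[F] V, ∀ u, Q₂ (e u) = Q₁ u := by
  classical
  let a : (Fin n → F) ≃ₗ[F] U := (Module.finBasisOfFinrankEq F U hU).equivFun.symm
  let b : (Fin n → F) ≃ₗ[F] V := (Module.finBasisOfFinrankEq F V hV).equivFun.symm
  let c : (Fin n → F) ≃ₗ[F] W := (Module.finBasisOfFinrankEq F W hW).equivFun.symm
  let P₁ : QuadraticForm F (Fin n → F) := Q₁.comp a.toLinearMap
  let P₂ : QuadraticForm F (Fin n → F) := Q₂.comp b.toLinearMap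
  let P₃ : QuadraticForm F (Fin n → F) := Q₃.comp c.toLinearMap
  have n₁ : (polarBilin P₁).Nondegenerate := OrthOrder.nondegenerate_congr a (fun u => rfl) h₁
  have n₂ : (polarBilin P₂).Nondegenerate := OrthOrder.nondegenerate_congr b (fun u => rfl) h₂
  have n₃ : (polarBilin P₃).Nondegenerate := OrthOrder.nondegenerate_congr c (fun u => rfl) h₃
  have f13 : ¬ IsSquare ((Spinor.gramMat P₁).det * (Spinor.gramMat P₃).det) := fun h => by
    obtain ⟨g, hg⟩ := (Spinor.isometric_iff h2 P₁ P₃ n₁ n₃).2 h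
    exact h13 ⟨a.symm.trans (g.trans c), fun u => by
      show P₃ (g (a.symm u)) = Q₁ u
      rw [hg]; simp [P₁]⟩
  have f23 : ¬ IsSquare ((Spinor.gramMat P₂).det * (Spinor.gramMat P₃).det) := fun h => by
    obtain ⟨g, hg⟩ := (Spinor.isometric_iff h2 P₂ P₃ n₂ n₃).2 h
    exact h23 ⟨b.symm.trans (g.trans c), fun u => by
      show P₃ (g (b.symm u)) = Q₂ u
      rw [hg]; simp [P₂]⟩
  have f12 : IsSquare ((Spinor.gramMat P₁).det * (Spinor.gramMat P₂).det) := by
    set x := (Spinor.gramMat P₁).det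
    set y := (Spinor.gramMat P₂).det
    set z := (Spinor.gramMat P₃).det
    have hz : z ≠ 0 := fun h => f13 (by rw [h, mul_zero]; exact IsSquare.zero)
    have hx : x ≠ 0 := fun h => f13 (by rw [h, zero_mul]; exact IsSquare.zero)
    have hy : y ≠ 0 := fun h => f23 (by rw [h, zero_mul]; exact IsSquare.zero)
    rw [Spinor.isSquare_mul_iff' hx hy]
    rw [Spinor.isSquare_mul_iff' hx hz] at f13
    rw [Spinor.isSquare_mul_iff' hy hz] at f23
    tauto
  obtain ⟨g, hg⟩ := (Spinor.isometric_iff h2 P₁ P₂ n₁ n₂).2 f12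
  exact ⟨a.symm.trans (g.trans b), fun u => by
    show P₂ (g (a.symm u)) = Q₁ u
    rw [hg]; simp [P₁]⟩

/-- A unipotent isometry moving a plane. -/
theorem exists_unipotent {V : Type*} [AddCommGroup V] [Module F V] [FiniteDimensional F V]
    {Q : QuadraticForm F V} (hQ : (polarBilin Q).Nondegenerate) {p : ℕ} [Fact p.Prime] [CharP F p]
    (h2 : (2 : F) ≠ 0) (hdim : 4 ≤ finrank F V) :
    ∃ g ∈ oGroup Q, g ^ p = 1 ∧ finrank F (LinearMap.range ((g : V →ₗ[F] V) - LinearMap.id)) = 2 := by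
  classical
  let Q₀ : QuadraticForm F (Fin 3 → F) :=
    linMulLin (LinearMap.proj 0) (LinearMap.proj 1) + linMulLin (LinearMap.proj 2) (LinearMap.proj 2)
  have hQ₀ : ∀ x, Q₀ x = x 0 * x 1 + x 2 * x 2 := fun x => rfl
  have hnd : (polarBilin Q₀).Nondegenerate := OrthOrder.nondegenerate_iff.2 fun x hx => by
    have h0 := hx ![1, 0, 0]
    have h1 := hx ![0, 1, 0]
    have h3 := hx ![0, 0, 1]
    simp only [polar, hQ₀, Pi.add_apply, Matrix.cons_val_zero, Matrix.cons_val_one, Matrix.cons_val] at h0 h1 h3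
    have e3 : (2 : F) * x 2 = 0 := by linear_combination h3
    funext i; fin_cases i
    · exact (by linear_combination h1 : x 0 = 0)
    · exact (by linear_combination h0 : x 1 = 0)
    · exact (mul_eq_zero.1 e3).resolve_left h2
  let u : F → (Fin 3 → F) →ₗ[F] (Fin 3 → F) := fun t => Matrix.toLin' !![1, -(t * t), -(2 * t); 0, 1, 0; 0, t, 1]
  have hu : ∀ t x, u t x = ![x 0 - t * t * x 1 - 2 * t * x 2, x 1, t * x 1 + x 2] := fun t x => by
    funext i
    fin_cases i <;> simp [u, Matrix.mulVec, dotProduct, Fin.sum_univ_three] <;> ring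
  have huu : ∀ s t x, u s (u t x) = u (s + t) x := fun s t x => by
    rw [hu, hu, hu]
    funext i
    fin_cases i <;> simp <;> ring
  have h0 : ∀ x, u 0 x = x := fun x => by rw [hu]; funext i; fin_cases i <;> simp
  let g₁ : (Fin 3 → F) ≃ₗ[F] (Fin 3 → F) := LinearEquiv.ofLinearMap (u 1) (u (-1))
    (LinearMap.ext fun x => by simp [huu, h0]) (LinearMap.ext fun x => by simp [huu, h0])
  have hg₁ : ∀ x, g₁ x = u 1 x := fun x => rfl
  have hpow : ∀ (n : ℕ) x, (g₁ ^ n) x = u (n : F) x := by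
    intro n
    induction n with
    | zero => intro x; simp [h0]
    | succ n ih => intro x; rw [pow_succ', LinearEquiv.mul_apply, ih, hg₁, huu]; push_cast; rw [add_comm]
  obtain ⟨φ, hφ⟩ := exists_embed h2 hQ hnd (by rw [finrank_fin_fun]; omega)
  obtain ⟨g, hg, hgp, hrk⟩ := exists_ext hnd φ hφ (g₁ := g₁) (r := p) (fun x => by
      rw [hQ₀, hQ₀, hg₁, hu]; simp; ring)
    (LinearEquiv.ext fun x => by rw [hpow, CharP.cast_eq_zero, h0]; rfl)
  refine ⟨g, hg, hgp, hrk.trans ?_⟩
  have h : LinearMap.range ((g₁ : (Fin 3 → F) →ₗ[F] _) - LinearMap.id) =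
      LinearMap.ker (LinearMap.proj 1 : (Fin 3 → F) →ₗ[F] F) := by
    ext y
    constructor
    · rintro ⟨x, rfl⟩
      simp [hg₁, hu, Matrix.vecHead, Matrix.vecTail]
    · intro hy
      rw [LinearMap.mem_ker, LinearMap.proj_apply] at hy
      refine ⟨![0, y 2, -(y 0 + y 2) / 2], ?_⟩
      funext i
      fin_cases i <;> simp [hg₁, hu, hy]
      field_simp
      ring
  rw [h]
  have := LinearMap.finrank_range_add_finrank_ker (LinearMap.proj 1 : (Fin 3 → F) →ₗ[F] F)
  rw [LinearMap.range_eq_top.2 (LinearMap.proj_surjective (R := F) (φ := fun _ : Fin 3 => F) 1), finrank_top,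
    finrank_self, finrank_fin_fun] at this
  omega

variable {r : ℕ} [Fact r.Prime] (p : ℕ) [Fact p.Prime] [CharP F p]
include p

/-- An elliptic torus element, moving a space of dimension `ord q`. -/
theorem exists_elliptic (h2 : (2 : F) ≠ 0) (hr2 : r ≠ 2) {i : ℕ}
    (ho : orderOf (Fintype.card F : ZMod r) = 2 * i) (hi : 0 < i) :
    ∃ (Q₀ : QuadraticForm F (Fin (2 * i) → F)) (g₁ : (Fin (2 * i) → F) ≃ₗ[F] (Fin (2 * i) → F)),
      (polarBilin Q₀).Nondegenerate ∧ g₁ ∈ oGroup Q₀ ∧ g₁ ^ r = 1 ∧ g₁ ≠ 1 ∧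
      finrank F (LinearMap.range ((g₁ : (Fin (2 * i) → F) →ₗ[F] _) - LinearMap.id)) = 2 * i := by
  classical
  have hr : r.Prime := Fact.out
  set q := Fintype.card F with hq
  have hq2 : 2 ≤ q := Fintype.one_lt_card
  haveI : NeZero (2 * i) := ⟨by omega⟩
  let K := FiniteField.Extension F p (2 * i)
  have hK : Nat.card K = q ^ (2 * i) := by rw [FiniteField.natCard_extension, Nat.card_eq_fintype_card]
  have hfr : finrank F K = 2 * i := FiniteField.finrank_extension F p (2 * i)
  haveI : Finite K := Nat.finite_of_card_ne_zero (by rw [hK]; positivity)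
  haveI : Module.Finite F K := Module.Finite.of_finite
  haveI : Fintype K := Fintype.ofFinite K
  obtain ⟨y, hy⟩ := exists_prime_orderOf_dvd_card' r (show r ∣ Nat.card Kˣ by
    rw [Nat.card_units, hK, ← ZMod.natCast_eq_zero_iff, Nat.cast_sub (Nat.one_le_pow _ _ (by omega)), sub_eq_zero,
      Nat.cast_pow, Nat.cast_one, ← ho, pow_orderOf_eq_one])
  have hyr : (y : K) ^ r = 1 := by rw [← Units.val_pow_eq_pow_val, ← hy, pow_orderOf_eq_one, Units.val_one]
  have hy1 : (y : K) ≠ 1 := fun h => hr.ne_one (by rw [← hy, orderOf_eq_one_iff]; exact Units.ext h)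
  have hqi : (q : ZMod r) ^ i = -1 := by
    have h1 : ((q : ZMod r) ^ i) ^ 2 = 1 := by rw [← pow_mul, mul_comm, ← ho, pow_orderOf_eq_one]
    exact (sq_eq_one_iff.1 h1).resolve_left fun h => by
      have := Nat.le_of_dvd hi (orderOf_dvd_of_pow_eq_one h)
      omega
  let τ : K ≃ₐ[F] K := FiniteField.frobeniusAlgEquivOfAlgebraic F K ^ i
  have hτ : ∀ z, τ z = z ^ q ^ i := fun z => by
    show (⇑(FiniteField.frobeniusAlgEquivOfAlgebraic F K ^ i)) z = _
    rw [AlgEquiv.coe_pow, FiniteField.coe_frobeniusAlgEquivOfAlgebraic_iterate]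
  have hττ : ∀ z, τ (τ z) = z := fun z => by
    rw [hτ, hτ, ← pow_mul, ← pow_add, ← two_mul, ← hK, Nat.card_eq_fintype_card, FiniteField.pow_card]
  have hyy : τ (y : K) * (y : K) = 1 := by
    obtain ⟨s, hs⟩ : r ∣ q ^ i + 1 := by
      rw [← ZMod.natCast_eq_zero_iff]; push_cast; rw [hqi]; ring
    rw [hτ, ← pow_succ, hs, pow_mul, hyr, one_pow]
  let e : (Fin (2 * i) → F) ≃ₗ[F] K := (Module.finBasisOfFinrankEq F K hfr).equivFun.symm
  let B₀ : LinearMap.BilinForm F K := (Algebra.traceForm F K).compl₁₂ τ.toLinearMap LinearMap.id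
  have hB₀ : ∀ a b, B₀ a b = Algebra.trace F K (τ a * b) := fun a b => rfl
  have hsym : ∀ a b, B₀ a b = B₀ b a := fun a b => by
    rw [hB₀, hB₀, ← Algebra.trace_eq_of_algEquiv τ (τ b * a), map_mul τ, hττ, mul_comm (τ a)]
  let QK : QuadraticForm F K := B₀.toQuadraticMap
  have hQK : ∀ a, QK a = B₀ a a := fun a => rfl
  have hpol : ∀ a b, polar QK a b = 2 * B₀ a b := fun a b => by
    simp only [polar, hQK, map_add, LinearMap.add_apply]
    rw [hsym b a]; ring
  have hnd : (polarBilin QK).Nondegenerate := OrthOrder.nondegenerate_iff.2 fun a ha => τ.injective (by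
    rw [map_zero]
    refine (traceForm_nondegenerate F K).1 _ fun b => ?_
    have h := ha b
    rw [hpol, mul_eq_zero, or_iff_right h2] at h
    exact h)
  let m : K ≃ₗ[F] K := (LinearEquiv.smulOfUnit y : K ≃ₗ[K] K).restrictScalars F
  have hm : ∀ a, m a = (y : K) * a := fun a => rfl
  have hpow : ∀ n : ℕ, ∀ a, ((e.trans (m.trans e.symm)) ^ n) a = e.symm ((y : K) ^ n * e a) := by
    intro n
    induction n with
    | zero => intro a; simp
    | succ n ih =>
      intro a
      rw [pow_succ', LinearEquiv.mul_apply, ih]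
      simp [hm, pow_succ', mul_assoc]
  refine ⟨QK.comp e.toLinearMap, e.trans (m.trans e.symm), OrthOrder.nondegenerate_congr e (fun _ => rfl) hnd,
    fun a => ?_, LinearEquiv.ext fun a => by rw [hpow, hyr, one_mul]; simp, fun h => hy1 ?_, ?_⟩
  · show QK (e (e.symm (m (e a)))) = QK (e a)
    rw [e.apply_symm_apply, hm, hQK, hQK, hB₀, hB₀, map_mul τ,
      show τ (y : K) * τ (e a) * ((y : K) * e a) = τ (y : K) * (y : K) * (τ (e a) * e a) by ring, hyy, one_mul]
  · have h1 := congrArg (fun g : (Fin (2 * i) → F) ≃ₗ[F] _ => e (g (e.symm 1))) h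
    simpa [hm] using h1
  · rw [LinearMap.range_eq_top.2, finrank_top, finrank_fin_fun]
    refine LinearMap.injective_iff_surjective.1 ((injective_iff_map_eq_zero _).2 fun a ha => ?_)
    have h1 : m (e a) = e a := by
      have := congrArg e ha
      simpa [sub_eq_zero] using this
    refine e.map_eq_zero_iff.1 ((mul_eq_zero.1 (show ((y : K) - 1) * e a = 0 by
      rw [sub_one_mul, ← hm, h1, sub_self])).resolve_left (sub_ne_zero.2 hy1))

/-- A hyperbolic torus element, moving a space of dimension `2 ord q`. -/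
theorem exists_hyperbolic (h2 : (2 : F) ≠ 0) (hr2 : r ≠ 2) {i : ℕ}
    (ho : orderOf (Fintype.card F : ZMod r) = i) (hi : 0 < i) :
    ∃ g₁ : (Fin i ⊕ Fin i → F) ≃ₗ[F] (Fin i ⊕ Fin i → F),
      g₁ ∈ oGroup (OrthOrder.qPlus i F) ∧ g₁ ^ r = 1 ∧
      finrank F (LinearMap.range ((g₁ : (Fin i ⊕ Fin i → F) →ₗ[F] _) - LinearMap.id)) = 2 * i := by
  classical
  have hr : r.Prime := Fact.out
  set q := Fintype.card F with hq
  have hq2 : 2 ≤ q := Fintype.one_lt_card
  haveI : NeZero i := ⟨by omega⟩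
  let K := FiniteField.Extension F p i
  have hK : Nat.card K = q ^ i := by rw [FiniteField.natCard_extension, Nat.card_eq_fintype_card]
  have hfr : finrank F K = i := FiniteField.finrank_extension F p i
  haveI : Finite K := Nat.finite_of_card_ne_zero (by rw [hK]; positivity)
  haveI : Module.Finite F K := Module.Finite.of_finite
  haveI : Fintype K := Fintype.ofFinite K
  obtain ⟨y, hy⟩ := exists_prime_orderOf_dvd_card' r (show r ∣ Nat.card Kˣ by
    rw [Nat.card_units, hK, ← ZMod.natCast_eq_zero_iff, Nat.cast_sub (Nat.one_le_pow _ _ (by omega)), sub_eq_zero,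
      Nat.cast_pow, Nat.cast_one, ← ho, pow_orderOf_eq_one])
  have hyr : (y : K) ^ r = 1 := by rw [← Units.val_pow_eq_pow_val, ← hy, pow_orderOf_eq_one, Units.val_one]
  have hy1 : (y : K) ≠ 1 := fun h => hr.ne_one (by rw [← hy, orderOf_eq_one_iff]; exact Units.ext h)
  let b := Module.finBasisOfFinrankEq F K hfr
  let T : K →ₗ[F] (Fin i → F) := LinearMap.pi fun j => Algebra.traceForm F K (b j)
  have hT : ∀ a j, T a j = Algebra.trace F K (b j * a) := fun a j => rfl
  have hTi : Function.Injective T := (injective_iff_map_eq_zero T).2 fun a ha => by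
    refine (traceForm_nondegenerate F K).2 a fun c => ?_
    have h : ((Algebra.traceForm F K).flip a) = 0 := b.ext fun j => by
      show Algebra.trace F K (b j * a) = 0
      rw [← hT, ha]; rfl
    exact LinearMap.congr_fun h c
  let T' : K ≃ₗ[F] (Fin i → F) := LinearEquiv.ofBijective T
    ⟨hTi, (LinearMap.injective_iff_surjective_of_finrank_eq_finrank (by rw [hfr, finrank_fin_fun])).1 hTi⟩
  let Φ : (K × K) ≃ₗ[F] (Fin i ⊕ Fin i → F) :=
    (b.equivFun.prodCongr T').trans (LinearEquiv.sumArrowLequivProdArrow (Fin i) (Fin i) F F).symm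
  have hΦ : ∀ a : K × K, OrthOrder.qPlus i F (Φ a) = Algebra.trace F K (a.1 * a.2) := fun a => by
    rw [OrthOrder.qPlus_apply]
    show ∑ j, b.equivFun a.1 j * T a.2 j = _
    conv_rhs => rw [← b.sum_equivFun a.1, Finset.sum_mul, map_sum]
    simp only [hT, smul_mul_assoc, map_smul, smul_eq_mul]
  let m : (K × K) ≃ₗ[F] (K × K) := ((LinearEquiv.smulOfUnit y : K ≃ₗ[K] K).restrictScalars F).prodCongr
    ((LinearEquiv.smulOfUnit y⁻¹ : K ≃ₗ[K] K).restrictScalars F)
  have hm : ∀ a, m a = ((y : K) * a.1, (y : K)⁻¹ * a.2) := fun a =>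
    Prod.ext rfl (by show ((y⁻¹ : Kˣ) : K) * a.2 = _; rw [Units.val_inv_eq_inv_val])
  have hpow : ∀ n : ℕ, ∀ a, ((Φ.symm.trans (m.trans Φ)) ^ n) a =
      Φ ((y : K) ^ n * (Φ.symm a).1, ((y : K)⁻¹) ^ n * (Φ.symm a).2) := by
    intro n
    induction n with
    | zero => intro a; simp
    | succ n ih =>
      intro a
      rw [pow_succ', LinearEquiv.mul_apply, ih]
      simp [hm, pow_succ', mul_assoc]
  refine ⟨Φ.symm.trans (m.trans Φ), fun a => ?_,
    LinearEquiv.ext fun a => by rw [hpow, hyr, inv_pow, hyr, inv_one, one_mul, one_mul]; simp, ?_⟩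
  · obtain ⟨a, rfl⟩ := Φ.surjective a
    simp only [LinearEquiv.trans_apply, LinearEquiv.symm_apply_apply, hΦ, hm]
    rw [mul_mul_mul_comm, mul_inv_cancel₀ y.ne_zero, one_mul]
  · rw [LinearMap.range_eq_top.2, finrank_top, finrank_fintype_fun_eq_card, Fintype.card_sum, Fintype.card_fin,
      two_mul]
    refine LinearMap.injective_iff_surjective.1 ((injective_iff_map_eq_zero _).2 fun a ha => ?_)
    obtain ⟨a, rfl⟩ := Φ.surjective a
    have h1 : m a = a := by
      have := congrArg Φ.symm ha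
      simpa [sub_eq_zero] using this
    rw [hm, Prod.ext_iff] at h1
    simp only at h1
    have e1 : a.1 = 0 := (mul_eq_zero.1 (show ((y : K) - 1) * a.1 = 0 by rw [sub_one_mul, h1.1, sub_self])).resolve_left
      (sub_ne_zero.2 hy1)
    have e2 : a.2 = 0 := (mul_eq_zero.1 (show ((y : K)⁻¹ - 1) * a.2 = 0 by
      rw [sub_one_mul, h1.2, sub_self])).resolve_left (sub_ne_zero.2 fun e => hy1 (inv_eq_one.1 e))
    rw [show a = 0 from Prod.ext e1 e2, map_zero]

end Models

end Cfsg.Agent.SymRoot
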