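import Cfsg.Agent.Lib.TransvMax.SymRoot
import Cfsg.Agent.Lib.TransvMax.SymRootModels
import Cfsg.Agent.S0286
import Cfsg.Agent.S0287
import Cfsg.Agent.S0288

/-!
The order of the centraliser of a self-adjoint root of a non-square.
-/

set_option autoImplicit false
set_option linter.unusedSectionVars false

namespace Cfsg.Agent.SymRoot

open Cfsg.Agent Cfsg.Agent.FormsLib Module QuadraticMap
open scoped QuadraticAlgebra

variable {F : Type*} [Field F] [Fintype F]

theorem card_oGroup_qPlus (K : Type*) [Field K] [Fintype K] (k : ℕ) :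
    Nat.card (oGroup (OrthOrder.qPlus (k + 1) K)) =
      2 * Fintype.card K ^ ((k + 1) * k) * (Fintype.card K ^ (k + 1) - 1) *
        ∏ i ∈ Finset.range k, (Fintype.card K ^ (2 * (i + 1)) - 1) := by
  rw [← S0287.card_plus_group]
  exact OrthOrder.card_oGroup_congr
    { toFun := fun v => (v, 0)
      map_add' := fun _ _ => Prod.ext rfl (Subsingleton.elim _ _)
      map_smul' := fun _ _ => Prod.ext rfl (Subsingleton.elim _ _)
      invFun := Prod.fst
      left_inv := fun _ => rfl
      right_inv := fun v => Prod.ext rfl (Subsingleton.elim _ _) }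
    fun v => by simp [OrthOrder.qSum_apply, OrthOrder.qPlus_apply]

theorem qPlus_nondeg (K : Type*) [Field K] (k : ℕ) : (polarBilin (OrthOrder.qPlus k K)).Nondegenerate := by
  refine OrthOrder.nondegenerate_congr
    ({ toFun := fun v => (v, 0)
       map_add' := fun _ _ => Prod.ext rfl (Subsingleton.elim _ _)
       map_smul' := fun _ _ => Prod.ext rfl (Subsingleton.elim _ _)
       invFun := Prod.fst
       left_inv := fun _ => rfl
       right_inv := fun v => Prod.ext rfl (Subsingleton.elim _ _) } :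
      (Fin k ⊕ Fin k → K) ≃ₗ[K] ((Fin k ⊕ Fin k → K) × (Fin 0 → K)))
    (Q' := OrthOrder.qSum k (0 : QuadraticForm K (Fin 0 → K)))
    (fun v => by simp [OrthOrder.qSum_apply, OrthOrder.qPlus_apply]) ?_
  exact OrthOrder.qSum_nondeg (OrthOrder.nondegenerate_iff.2 fun x _ => Subsingleton.elim _ _) k

variable {δ : F} [hδ : Fact (∀ t : F, t ^ 2 ≠ δ + 0 * t)]

local notation "L" => QuadraticAlgebra F δ 0

theorem card_L [Fintype L] : Fintype.card L = Fintype.card F ^ 2 := by
  rw [Fintype.card_congr (QuadraticAlgebra.equivProd δ (0 : F)), Fintype.card_prod, pow_two]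

/-- The centraliser of a root is the isometry group over the extension. -/
theorem card_cent (h2 : (2 : F) ≠ 0) {V : Type*} [AddCommGroup V] [Module F V] {Q : QuadraticForm F V}
    {J : V →ₗ[F] V} {T : Type*} [AddCommGroup T] [Module F T] [Module L T] [IsScalarTower F L T]
    (P : QuadraticForm L T) (e : T ≃ₗ[F] V) (he : ∀ u, Q (e u) = (P u).re)
    (hJe : ∀ u, J (e u) = e ((QuadraticAlgebra.omega : L) • u)) :
    Nat.card {g : oGroup Q // ∀ v, g.1 (J v) = J (g.1 v)} = Nat.card (oGroup P) := by
  have hsplit : ∀ (a : L) (u : T), a • u = a.re • u + a.im • ((QuadraticAlgebra.omega : L) • u) := fun a u => by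
    have ha : a = a.re • (1 : L) + a.im • (QuadraticAlgebra.omega : L) := by ext <;> simp
    conv_lhs => rw [ha, add_smul, smul_assoc, smul_assoc, one_smul]
  have hωQ : ∀ v, 2 * ((QuadraticAlgebra.omega : L) * P v).re =
      polar Q (e ((QuadraticAlgebra.omega : L) • v)) (e v) := fun v => by
    simp only [polar, ← map_add, he]
    rw [← QuadraticAlgebra.re_sub, ← QuadraticAlgebra.re_sub,
      show P ((QuadraticAlgebra.omega : L) • v + v) - P ((QuadraticAlgebra.omega : L) • v) - P v =
        (QuadraticAlgebra.omega : L) * P v * 2 by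
        show polar P _ v = _
        rw [polar_smul_left, polar_self', smul_eq_mul]; ring]
    simp [QuadraticAlgebra.re_ofNat, QuadraticAlgebra.im_ofNat]
    ring
  refine Nat.card_congr
    { toFun := fun g => ⟨
        { ((e.trans g.1.1).trans e.symm) with
          map_smul' := fun a u => by
            show e.symm (g.1.1 (e (a • u))) = a • e.symm (g.1.1 (e u))
            rw [hsplit, hsplit a (e.symm _), map_add, map_smul, map_smul, ← hJe, map_add, map_smul, map_smul,
              g.2, map_add, map_smul, map_smul]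
            congr 2
            apply e.injective
            rw [e.apply_symm_apply, ← hJe, e.apply_symm_apply] }, fun u => by
          show P (e.symm (g.1.1 (e u))) = P u
          apply QuadraticAlgebra.ext
          · rw [← he, ← he, e.apply_symm_apply, g.1.2]
          · apply mul_left_cancel₀ (mul_ne_zero h2 (delta_ne_zero (δ := δ)))
            have him : ∀ v, 2 * δ * (P v).im = 2 * ((QuadraticAlgebra.omega : L) * P v).re := fun v => by simp; ring
            rw [him, him, hωQ, hωQ, ← hJe, ← hJe, e.apply_symm_apply, ← g.2, polar_of_mem g.1.2]⟩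
      invFun := fun h => ⟨⟨(e.symm.trans (h.1.restrictScalars F)).trans e, fun v => by
          show Q (e (h.1 (e.symm v))) = Q v
          rw [he, h.2, ← he, e.apply_symm_apply]⟩, fun v => by
          obtain ⟨u, rfl⟩ := e.surjective v
          show e (h.1 (e.symm (J (e u)))) = J (e (h.1 (e.symm (e u))))
          rw [hJe, hJe, e.symm_apply_apply, e.symm_apply_apply, map_smul]⟩
      left_inv := fun g => Subtype.ext (Subtype.ext (LinearEquiv.ext fun v => by
        show e (e.symm (g.1.1 (e (e.symm v)))) = g.1.1 v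
        simp))
      right_inv := fun h => Subtype.ext (LinearEquiv.ext fun u => by
        show e.symm (e (h.1 (e.symm (e u)))) = h.1 u
        simp) }

/-- Conjugate roots have centralisers of the same order. -/
theorem card_cent_conj {V : Type*} [AddCommGroup V] [Module F V] {Q : QuadraticForm F V} {J J' : V →ₗ[F] V}
    {g : V ≃ₗ[F] V} (hg : g ∈ oGroup Q) (h : ∀ v, g (J v) = J' (g v)) :
    Nat.card {x : oGroup Q // ∀ v, x.1 (J v) = J (x.1 v)} = Nat.card {x : oGroup Q // ∀ v, x.1 (J' v) = J' (x.1 v)} := by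
  have hs : ∀ v, g.symm (J' v) = J (g.symm v) := fun v => by
    rw [LinearEquiv.symm_apply_eq, h, LinearEquiv.apply_symm_apply]
  refine Nat.card_congr (Equiv.subtypeEquiv (MulAut.conj (⟨g, hg⟩ : oGroup Q)).toEquiv fun x => ?_)
  constructor <;> intro hx v
  · show g (x.1 (g.symm (J' v))) = J' (g (x.1 (g.symm v)))
    rw [hs, hx, h]
  · have := hx (g v)
    rw [← h] at this
    change g (x.1 (g.symm (g (J v)))) = J' (g (x.1 (g.symm (g v)))) at this
    rw [g.symm_apply_apply, g.symm_apply_apply, ← h] at this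
    exact g.injective this

variable {ι : Type} [Fintype ι] [DecidableEq ι] {Q : QuadraticForm F (ι → F)}

/-- The order of the centraliser in the case of odd rank over the extension. -/
theorem card_cent_odd (h2 : (2 : F) ≠ 0) (hQ : (polarBilin Q).Nondegenerate) {J : (ι → F) →ₗ[F] (ι → F)}
    (hJ : IsSRoot Q δ J) {h : ℕ} (hdim : Fintype.card ι = 2 * (2 * h + 1)) :
    Nat.card {g : oGroup Q // ∀ v, g.1 (J v) = J (g.1 v)} =
      2 * (Fintype.card F ^ 2) ^ (h ^ 2) *
        ∏ i ∈ Finset.range h, ((Fintype.card F ^ 2) ^ (2 * (i + 1)) - 1) := by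
  classical
  haveI : Fintype L := Fintype.ofFinite L
  have h2L := two_ne_zero_L (δ := δ) h2
  obtain ⟨c, hc, e, he, hJe⟩ := exists_coords hQ h2 hJ (d := 2 * h + 1) (by omega)
    (by rw [finrank_fintype_fun_eq_card, hdim])
  let P : QuadraticForm L (Fin (2 * h + 1) → L) := weightedSumSquares L (wgt c : Fin (2 * h + 1) → L)
  rw [card_cent h2 P e (fun u => by rw [he, coordForm]; simp [P, weightedSumSquares_apply]) hJe, ← card_L (δ := δ),
    ← S0286.card_odd_group h2L]
  -- transfer to a common coordinate space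
  have hfr : finrank L ((Fin h ⊕ Fin h → L) × (Unit → L)) = 2 * h + 1 := by
    rw [finrank_prod, finrank_fintype_fun_eq_card, finrank_fintype_fun_eq_card, Fintype.card_sum, Fintype.card_fin,
      Fintype.card_unit]
    omega
  let a : (Fin (2 * h + 1) → L) ≃ₗ[L] ((Fin h ⊕ Fin h → L) × (Unit → L)) :=
    (Module.finBasisOfFinrankEq L _ hfr).equivFun.symm
  let P₂ : QuadraticForm L (Fin (2 * h + 1) → L) := (OrthOrder.qSum h (S0286.sqForm L)).comp a.toLinearMap
  have hP : (polarBilin P).Nondegenerate := OrthOrder.nondegenerate_iff.2 fun u hu => funext fun i => by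
    have h' := hu (Pi.single i 1)
    simp only [polar, P, weightedSumSquares_apply, Pi.add_apply, ← Finset.sum_sub_distrib] at h'
    rw [Finset.sum_eq_single i (fun j _ hj => by simp [hj]) (by simp)] at h'
    have hw : wgt c i ≠ 0 := by
      rw [wgt]; split_ifs
      · exact fun e => hc (by rw [e]; rfl)
      · exact one_ne_zero
    have h'' : 2 * (wgt c i * u i) = 0 := by
      simp at h'
      linear_combination h'
    exact (mul_eq_zero.1 ((mul_eq_zero.1 h'').resolve_left h2L)).resolve_left hw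
  have hP₂ : (polarBilin P₂).Nondegenerate :=
    OrthOrder.nondegenerate_congr a (fun u => rfl) (OrthOrder.qSum_nondeg (S0286.sqForm_nondeg h2L) h)
  set x := (Spinor.gramMat P).det
  set y := (Spinor.gramMat P₂).det
  have hdet : ∀ (R : QuadraticForm L (Fin (2 * h + 1) → L)), (polarBilin R).Nondegenerate →
      (Spinor.gramMat R).det ≠ 0 := fun R hR e => by
    obtain ⟨b, hb, hne, -⟩ := Spinor.exists_ones h2L R hR
    obtain ⟨t, -, ht⟩ := Spinor.det_diag_gram R b hb
    rw [e, mul_zero] at ht
    exact mul_ne_zero (pow_ne_zero _ h2L) (Finset.prod_ne_zero_iff.2 fun i _ => hne i) ht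
  have hs : x * y ≠ 0 := mul_ne_zero (hdet P hP) (hdet P₂ hP₂)
  have hgram : (Spinor.gramMat ((x * y) • P₂)).det = (x * y) ^ (2 * h + 1) * y := by
    rw [show Spinor.gramMat ((x * y) • P₂) = (x * y) • Spinor.gramMat P₂ by
      refine Matrix.ext fun i j => ?_
      simp [Spinor.gramMat, polar, mul_sub], Matrix.det_smul, Fintype.card_fin]
  have hnd : (polarBilin ((x * y) • P₂)).Nondegenerate := OrthOrder.nondegenerate_iff.2 fun u hu =>
    (OrthOrder.nondegenerate_iff.1 hP₂) u fun w => (mul_eq_zero.1 (show (x * y) * polar P₂ u w = 0 by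
      rw [← hu w]; simp [polar, mul_sub])).resolve_left hs
  obtain ⟨g, hg⟩ := (Spinor.isometric_iff h2L P ((x * y) • P₂) hP hnd).2
    (by rw [hgram]; exact ⟨(x * y) ^ (h + 1), by ring⟩)
  rw [OrthOrder.card_oGroup_congr g hg]
  have hsmul : oGroup ((x * y) • P₂) = oGroup P₂ := by
    ext k
    simp only [mem_oGroup, smul_apply]
    exact forall_congr' fun v => ⟨fun e => smul_right_injective L hs e, fun e => by rw [e]⟩
  rw [hsmul]
  exact OrthOrder.card_oGroup_congr a fun v => rfl

/-- A root of the hyperbolic form in dimension `4m`. -/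
theorem exists_root_plus (h2 : (2 : F) ≠ 0) (m : ℕ) :
    ∃ (e : (Fin m ⊕ Fin m → L) ≃ₗ[F] (Fin (m + m) ⊕ Fin (m + m) → F)),
      ∀ u, OrthOrder.qPlus (m + m) F (e u) = (OrthOrder.qPlus m L u).re := by
  have hδ0 : δ ≠ 0 := delta_ne_zero
  let e : (Fin m ⊕ Fin m → L) ≃ₗ[F] (Fin (m + m) ⊕ Fin (m + m) → F) :=
    { toFun := fun u => Sum.elim
        (fun k => Sum.elim (fun i => (u (.inl i)).re) (fun i => (u (.inl i)).im) (finSumFinEquiv.symm k))
        (fun k => Sum.elim (fun i => (u (.inr i)).re) (fun i => δ * (u (.inr i)).im) (finSumFinEquiv.symm k))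
      map_add' := fun u v => by
        funext k
        rcases k with k | k <;> rcases hk : finSumFinEquiv.symm k with i | i <;>
          simp only [Sum.elim_inl, Sum.elim_inr, Pi.add_apply, hk, QuadraticAlgebra.re_add, QuadraticAlgebra.im_add,
            mul_add]
      map_smul' := fun c v => by
        funext k
        rcases k with k | k <;> rcases hk : finSumFinEquiv.symm k with i | i <;>
          simp only [Sum.elim_inl, Sum.elim_inr, Pi.smul_apply, hk, QuadraticAlgebra.re_smul, QuadraticAlgebra.im_smul,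
            smul_eq_mul, RingHom.id_apply, mul_left_comm]
      invFun := fun v => Sum.elim
        (fun i => ⟨v (.inl (finSumFinEquiv (.inl i))), v (.inl (finSumFinEquiv (.inr i)))⟩)
        (fun i => ⟨v (.inr (finSumFinEquiv (.inl i))), δ⁻¹ * v (.inr (finSumFinEquiv (.inr i)))⟩)
      left_inv := fun u => by
        funext k
        rcases k with i | i <;> ext <;> simp [hδ0, -finSumFinEquiv_apply_left, -finSumFinEquiv_apply_right]
      right_inv := fun v => by
        funext k
        rcases k with k | k <;> obtain ⟨s, rfl⟩ := finSumFinEquiv.surjective k <;> rcases s with i | i <;>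
          simp [hδ0, -finSumFinEquiv_apply_left, -finSumFinEquiv_apply_right] }
  refine ⟨e, fun u => ?_⟩
  have hsum : ∀ f : Fin m → L, (∑ i, f i).re = ∑ i, (f i).re := fun f => map_sum (QuadraticAlgebra.reₗ δ 0) f _
  rw [OrthOrder.qPlus_apply, OrthOrder.qPlus_apply]
  simp only [Cfsg.quadFormPlus, hsum]
  rw [← Equiv.sum_comp finSumFinEquiv, Fintype.sum_sum_type, ← Finset.sum_add_distrib]
  refine Finset.sum_congr rfl fun i _ => ?_
  simp [e, -finSumFinEquiv_apply_left, -finSumFinEquiv_apply_right]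
  ring

/-- A root on a space isometric to the trace of a form over the extension. -/
theorem root_of_coords (h2 : (2 : F) ≠ 0) {V : Type*} [AddCommGroup V] [Module F V] {Q' : QuadraticForm F V}
    {T : Type*} [AddCommGroup T] [Module F T] [Module L T] [IsScalarTower F L T] [SMulCommClass F L T]
    (P : QuadraticForm L T) (e : T ≃ₗ[F] V) (he : ∀ u, Q' (e u) = (P u).re) :
    ∃ J : V →ₗ[F] V, IsSRoot Q' δ J ∧ ∀ u, J (e u) = e ((QuadraticAlgebra.omega : L) • u) := by
  refine ⟨e.conj ((DistribSMul.toLinearMap F T (QuadraticAlgebra.omega : L))), ⟨fun u v => ?_, fun v => ?_⟩,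
    fun u => by simp [LinearEquiv.conj_apply]⟩
  · obtain ⟨u, rfl⟩ := e.surjective u
    obtain ⟨v, rfl⟩ := e.surjective v
    simp only [LinearEquiv.conj_apply, LinearMap.comp_apply, LinearEquiv.coe_coe, e.symm_apply_apply,
      DistribSMul.toLinearMap_apply]
    simp only [polar, ← map_add, he, ← QuadraticAlgebra.re_sub]
    congr 1
    show polar P _ v = polar P u _
    rw [polar_smul_left, polar_smul_right]
  · obtain ⟨v, rfl⟩ := e.surjective v
    simp only [LinearEquiv.conj_apply, LinearMap.comp_apply, LinearEquiv.coe_coe, e.symm_apply_apply,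
      DistribSMul.toLinearMap_apply, smul_smul, ← map_smul e]
    congr 1
    rw [QuadraticAlgebra.omega_mul_omega_eq_algebraMap, map_zero, zero_mul, add_zero, algebraMap_smul]

/-- The order of the centraliser on a hyperbolic space of dimension `4m`. -/
theorem card_cent_plus (h2 : (2 : F) ≠ 0) (hQ : (polarBilin Q).Nondegenerate) {J : (ι → F) →ₗ[F] (ι → F)}
    (hJ : IsSRoot Q δ J) {k : ℕ} (hdim : Fintype.card ι = 2 * (2 * (k + 1)))
    {φ : (Fin (k + 1 + (k + 1)) ⊕ Fin (k + 1 + (k + 1)) → F) ≃ₗ[F] (ι → F)}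
    (hφ : ∀ v, Q (φ v) = OrthOrder.qPlus (k + 1 + (k + 1)) F v) :
    Nat.card {g : oGroup Q // ∀ v, g.1 (J v) = J (g.1 v)} =
      2 * (Fintype.card F ^ 2) ^ ((k + 1) * k) * ((Fintype.card F ^ 2) ^ (k + 1) - 1) *
        ∏ i ∈ Finset.range k, ((Fintype.card F ^ 2) ^ (2 * (i + 1)) - 1) := by
  haveI : Fintype L := Fintype.ofFinite L
  obtain ⟨e, he⟩ := exists_root_plus (δ := δ) h2 (k + 1)
  have he' : ∀ u, Q ((e.trans φ) u) = (OrthOrder.qPlus (k + 1) L u).re := fun u => by
    rw [LinearEquiv.trans_apply, hφ, he]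
  obtain ⟨J', hJ', hJe⟩ := root_of_coords h2 _ (e.trans φ) he'
  obtain ⟨g, hg, hgJ⟩ := exists_conj h2 hQ hJ hJ' (d := 2 * (k + 1)) (by omega) hdim
  rw [card_cent_conj hg hgJ, card_cent h2 _ (e.trans φ) he' hJe, card_oGroup_qPlus, card_L]

/-- The order of the centraliser on an elliptic space of dimension `4m`. -/
theorem card_cent_minus (h2 : (2 : F) ≠ 0) (hQ : (polarBilin Q).Nondegenerate) {J : (ι → F) →ₗ[F] (ι → F)}
    (hJ : IsSRoot Q δ J) {k : ℕ} (hdim : Fintype.card ι = 2 * (2 * (k + 1)))
    (hminus : ¬ ∃ φ : (ι → F) ≃ₗ[F] (Fin (k + 1 + (k + 1)) ⊕ Fin (k + 1 + (k + 1)) → F),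
      ∀ v, OrthOrder.qPlus (k + 1 + (k + 1)) F (φ v) = Q v) :
    Nat.card {g : oGroup Q // ∀ v, g.1 (J v) = J (g.1 v)} =
      2 * (Fintype.card F ^ 2) ^ ((k + 1) * k) * ((Fintype.card F ^ 2) ^ (k + 1) + 1) *
        ∏ i ∈ Finset.range k, ((Fintype.card F ^ 2) ^ (2 * (i + 1)) - 1) := by
  classical
  haveI : Fintype L := Fintype.ofFinite L
  have h2L := two_ne_zero_L (δ := δ) h2
  obtain ⟨ν, hν⟩ := FiniteField.exists_nonsquare (F := L) (Spinor.ringChar_ne_two h2L)
  have hab : ∀ z₁ z₂ : L, z₁ ^ 2 + 0 * z₁ * z₂ + -ν * z₂ ^ 2 = 0 → z₁ = 0 ∧ z₂ = 0 := fun z₁ z₂ h => by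
    rcases eq_or_ne z₂ 0 with hz | hz
    · subst hz
      exact ⟨(pow_eq_zero_iff two_ne_zero).1 (by linear_combination h), rfl⟩
    · exact absurd ⟨z₁ / z₂, by field_simp; linear_combination -h⟩ hν
  let P := OrthOrder.qSum k (S0288.binForm (0 : L) (-ν))
  have hP : (polarBilin P).Nondegenerate := OrthOrder.qSum_nondeg (S0288.binForm_nondeg _ _ hab) k
  -- the trace form
  let T := (Fin k ⊕ Fin k → L) × (Fin 2 → L)
  let W : QuadraticForm F T := (QuadraticAlgebra.reₗ δ 0).compQuadraticMap (P.restrictScalars)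
  have hW : ∀ u, W u = (P u).re := fun u => rfl
  have hWnd : (polarBilin W).Nondegenerate := OrthOrder.nondegenerate_iff.2 fun u hu =>
    (OrthOrder.nondegenerate_iff.1 hP) u fun v => by
      have h0 : ∀ w, (polar P u w).re = 0 := fun w =>
        (show (polar P u w).re = polar W u w by simp [polar, hW]).trans (hu w)
      refine QuadraticAlgebra.ext (h0 v) ?_
      have h1 := h0 ((QuadraticAlgebra.omega : L) • v)
      rw [polar_smul_right, smul_eq_mul] at h1
      simpa [delta_ne_zero (δ := δ)] using h1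
  have hTd : finrank F T = 2 * (2 * (k + 1)) := by
    rw [← Module.finrank_mul_finrank F L T, QuadraticAlgebra.finrank_eq_two, finrank_prod, finrank_fintype_fun_eq_card,
      finrank_fin_fun, Fintype.card_sum, Fintype.card_fin]
    omega
  have hcard := S0288.card_minus_group (0 : L) (-ν) hab k
  have hWplus : ¬ ∃ ψ : T ≃ₗ[F] (Fin (k + 1 + (k + 1)) ⊕ Fin (k + 1 + (k + 1)) → F),
      ∀ u, OrthOrder.qPlus (k + 1 + (k + 1)) F (ψ u) = W u := by
    rintro ⟨ψ, hψ⟩
    obtain ⟨J', hJ', hJe⟩ := root_of_coords h2 P ψ (fun u => (hψ u).trans (hW u))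
    have h := card_cent_plus h2 (qPlus_nondeg F _) hJ' (k := k)
      (by rw [Fintype.card_sum, Fintype.card_fin]; omega) (φ := LinearEquiv.refl F _) (fun v => rfl)
    rw [card_cent h2 P ψ (fun u => (hψ u).trans (hW u)) hJe, hcard, card_L] at h
    have hpos : 0 < ∏ i ∈ Finset.range k, ((Fintype.card F ^ 2) ^ (2 * (i + 1)) - 1) :=
      Finset.prod_pos fun i _ => by
        have : 1 < (Fintype.card F ^ 2) ^ (2 * (i + 1)) :=
          Nat.one_lt_pow (by omega) (Nat.one_lt_pow two_ne_zero Fintype.one_lt_card)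
        omega
    have h' := Nat.eq_of_mul_eq_mul_left (Nat.mul_pos two_pos (pow_pos (pow_pos Fintype.card_pos 2) _))
      (Nat.eq_of_mul_eq_mul_right hpos h)
    omega
  obtain ⟨ψ, hψ⟩ := exists_iso_of_not h2 hWnd hQ (qPlus_nondeg F (k + 1 + (k + 1))) hTd
    (by rw [finrank_fintype_fun_eq_card, hdim]) (by rw [finrank_fintype_fun_eq_card, Fintype.card_sum, Fintype.card_fin]; omega)
    hWplus hminus
  obtain ⟨J', hJ', hJe⟩ := root_of_coords h2 P ψ (fun u => (hψ u).trans (hW u))
  obtain ⟨g, hg, hgJ⟩ := exists_conj h2 hQ hJ hJ' (d := 2 * (k + 1)) (by omega) hdim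
  rw [card_cent_conj hg hgJ, card_cent h2 P ψ (fun u => (hψ u).trans (hW u)) hJe, hcard, card_L]

end Cfsg.Agent.SymRoot
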