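import Cfsg.Agent.Lib.TransvMax.SimTools
import Cfsg.Agent.Lib.TransvMax.SymRootOrder
import Cfsg.Agent.Lib.Elusive.QuadraticExt
import Cfsg.Agent.Lib.Elusive.FormIsometry

/-!
Elements of prime order of `SL n q` and the similitude group of a quadratic form, `q` odd.
-/

set_option autoImplicit false
set_option linter.unusedSectionVars false

namespace Cfsg.Agent.SimEl

open Cfsg.Agent Cfsg.Agent.FormsLib Module QuadraticMap
open scoped Matrix MatrixGroups

variable {F : Type*} [Field F] [Fintype F] {n : ℕ}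

theorem gram_det_weighted (w : Fin n → F) :
    (Spinor.gramMat (weightedSumSquares F w)).det = 2 ^ n * ∏ i, w i := by
  have : Spinor.gramMat (weightedSumSquares F w) = Matrix.diagonal fun i => 2 * w i := by
    refine Matrix.ext fun i j => ?_
    simp only [Spinor.gramMat, Matrix.of_apply, polar, weightedSumSquares_apply, Pi.add_apply, smul_eq_mul,
      ← Finset.sum_sub_distrib]
    rcases eq_or_ne i j with rfl | hij
    · rw [Matrix.diagonal_apply_eq, Finset.sum_eq_single i (fun k _ hk => by simp [hk]) (by simp)]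
      simp; ring
    · rw [Matrix.diagonal_apply_ne _ hij]
      refine Finset.sum_eq_zero fun k _ => ?_
      rcases eq_or_ne k i with rfl | hki
      · simp [hij]
      · simp [hki]
  rw [this, Matrix.det_diagonal, Finset.prod_mul_distrib, Finset.prod_const, Finset.card_univ, Fintype.card_fin]

theorem gram_det_ne_zero (h2 : (2 : F) ≠ 0) {n : ℕ} (R : QuadraticForm F (Fin n → F))
    (hR : (polarBilin R).Nondegenerate) : (Spinor.gramMat R).det ≠ 0 := by
  intro e
  rcases n with _ | n
  · simp at e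
  obtain ⟨b, hb, hne, -⟩ := Spinor.exists_ones h2 R hR
  obtain ⟨t, -, ht⟩ := Spinor.det_diag_gram R b hb
  rw [e, mul_zero] at ht
  exact mul_ne_zero (pow_ne_zero _ h2) (Finset.prod_ne_zero_iff.2 fun i _ => hne i) ht

theorem weighted_nondeg (h2 : (2 : F) ≠ 0) (w : Fin n → F) (hw : ∀ i, w i ≠ 0) :
    (polarBilin (weightedSumSquares F w)).Nondegenerate := OrthOrder.nondegenerate_iff.2 fun u hu => funext fun i => by
  have h' := hu (Pi.single i 1)
  simp only [polar, weightedSumSquares_apply, smul_eq_mul, Pi.add_apply, ← Finset.sum_sub_distrib] at h'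
  rw [Finset.sum_eq_single i (fun j _ hj => by simp [hj]) (by simp)] at h'
  simp at h'
  exact (mul_eq_zero.1 ((mul_eq_zero.1 (show (2 : F) * (w i * u i) = 0 by linear_combination h')).resolve_left h2)).resolve_left
    (hw i)

/-- Isometries with sums of squares. -/
theorem exists_iso_diag (h2 : (2 : F) ≠ 0) {Q : QuadraticForm F (Fin n → F)} (hQ : (polarBilin Q).Nondegenerate) :
    ∃ d : F, d ≠ 0 ∧ ∀ w : Fin n → F, (∀ i, w i ≠ 0) → IsSquare ((∏ i, w i) * d) →
      ∃ φ : (Fin n → F) ≃ₗ[F] (Fin n → F), ∀ v, Q (φ v) = ∑ i, w i * (v i * v i) := by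
  refine ⟨2 ^ n * (Spinor.gramMat Q).det, mul_ne_zero (pow_ne_zero _ h2) (gram_det_ne_zero h2 Q hQ),
    fun w hw hsq => ?_⟩
  obtain ⟨φ, hφ⟩ := (Spinor.isometric_iff h2 (weightedSumSquares F w) Q (weighted_nondeg h2 w hw) hQ).2 (by
    rw [gram_det_weighted]; convert hsq using 1; ring)
  exact ⟨φ, fun v => by rw [hφ, weightedSumSquares_apply]; simp only [smul_eq_mul]⟩

/-- In odd dimension all non-degenerate forms are similar. -/
theorem exists_similar (h2 : (2 : F) ≠ 0) (hn : Odd n) {Q P : QuadraticForm F (Fin n → F)}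
    (hQ : (polarBilin Q).Nondegenerate) (hP : (polarBilin P).Nondegenerate) :
    ∃ (φ : (Fin n → F) ≃ₗ[F] (Fin n → F)) (s : F), s ≠ 0 ∧ ∀ v, Q (φ v) = s * P v := by
  obtain ⟨h, rfl⟩ := hn
  set x := (Spinor.gramMat Q).det
  set y := (Spinor.gramMat P).det
  have hs : x * y ≠ 0 := mul_ne_zero (gram_det_ne_zero h2 Q hQ) (gram_det_ne_zero h2 P hP)
  have hgram : (Spinor.gramMat ((x * y) • P)).det = (x * y) ^ (2 * h + 1) * y := by
    rw [show Spinor.gramMat ((x * y) • P) = (x * y) • Spinor.gramMat P by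
      refine Matrix.ext fun i j => ?_
      simp [Spinor.gramMat, polar, mul_sub], Matrix.det_smul, Fintype.card_fin]
  have hnd : (polarBilin ((x * y) • P)).Nondegenerate := OrthOrder.nondegenerate_iff.2 fun u hu =>
    (OrthOrder.nondegenerate_iff.1 hP) u fun w => (mul_eq_zero.1 (show (x * y) * polar P u w = 0 by
      rw [← hu w]; simp [polar, mul_sub])).resolve_left hs
  obtain ⟨φ, hφ⟩ := (Spinor.isometric_iff h2 ((x * y) • P) Q hnd hQ).2
    (by rw [hgram]; exact ⟨(x * y) ^ (h + 1), by ring⟩)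
  exact ⟨φ, x * y, hs, fun v => by rw [hφ]; rfl⟩

variable {Q : QuadraticForm F (Fin n → F)}

/-- A form conjugate to one left invariant up to a scalar. -/
theorem mem_sim_of_conj {x : GL (Fin n) F} (hx : Adj x) (φ : (Fin n → F) ≃ₗ[F] (Fin n → F)) {c : F} (hc : c ≠ 0)
    (h : ∀ v, Q (φ ((x : Matrix (Fin n) (Fin n) F) *ᵥ v)) = c * Q (φ v)) :
    ∃ g ∈ Cfsg.Geo.specialLinear (Fin n) F, g⁻¹ * x * g ∈ Cfsg.Geo.quadSimilarityGroup ⇑Q := by
  obtain ⟨g, hg, hgx⟩ := exists_conj hx φ
  refine ⟨g, hg, Units.mk0 c hc, fun v => ?_⟩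
  obtain ⟨u, rfl⟩ := φ.surjective v
  rw [hgx]
  exact h u

theorem equivFun_eigen {x : GL (Fin n) F} {ι : Type*} [Fintype ι] (b : Basis ι F (Fin n → F)) (w : ι → F)
    (h : ∀ i, (x : Matrix (Fin n) (Fin n) F) *ᵥ b i = w i • b i) (v : Fin n → F) (i : ι) :
    b.equivFun ((x : Matrix (Fin n) (Fin n) F) *ᵥ v) i = w i * b.equivFun v i := by
  classical
  have : (b.coord i).comp (Matrix.toLin' (x : Matrix (Fin n) (Fin n) F)) = w i • b.coord i := b.ext fun j => by
    simp only [LinearMap.comp_apply, Matrix.toLin'_apply, h, map_smul, LinearMap.smul_apply, Basis.coord_apply,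
      Basis.repr_self, smul_eq_mul]
    rcases eq_or_ne j i with rfl | hji
    · rfl
    · simp [hji]
  exact LinearMap.congr_fun this v

/-- The norm form of a quadratic extension takes every value. -/
theorem exists_norm_value (h2 : (2 : F) ≠ 0) {z : F} (hz : z ≠ 0) (t : F) : ∃ a b : F, a * a - z * (b * b) = t := by
  have hodd : Fintype.card F % 2 = 1 := by
    rcases Nat.even_or_odd (Fintype.card F) with h | h
    · exact absurd (FiniteField.even_card_iff_char_two.2 (Nat.even_iff.1 h))
        (fun e => Spinor.ringChar_ne_two h2 (FiniteField.even_card_iff_char_two.2 (Nat.even_iff.1 h)))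
    · exact Nat.odd_iff.1 h
  obtain ⟨a, b, hab⟩ := FiniteField.exists_root_sum_quadratic
    (f := (Polynomial.X ^ 2 : Polynomial F)) (g := Polynomial.C (-z) * Polynomial.X ^ 2 - Polynomial.C t)
    (Polynomial.degree_X_pow 2)
    (by rw [Polynomial.degree_sub_C (by rw [Polynomial.degree_C_mul_X_pow 2 (neg_ne_zero.2 hz)]; norm_num),
      Polynomial.degree_C_mul_X_pow 2 (neg_ne_zero.2 hz)]; rfl) hodd
  simp at hab
  exact ⟨a, b, by linear_combination hab⟩

/-- Elements squaring to a scalar are conjugate into the similitude group. -/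
theorem exists_conj_invol (h2 : (2 : F) ≠ 0) (hQ : (polarBilin Q).Nondegenerate) (hn : 0 < n) {x : GL (Fin n) F}
    {z : F} (hz0 : z ≠ 0) (hz : ((x ^ 2 : GL (Fin n) F) : Matrix (Fin n) (Fin n) F) = z • 1) :
    ∃ g ∈ Cfsg.Geo.specialLinear (Fin n) F, g⁻¹ * x * g ∈ Cfsg.Geo.quadSimilarityGroup ⇑Q := by
  classical
  set A : Module.End F (Fin n → F) := Matrix.toLin' (x : Matrix (Fin n) (Fin n) F) with hAdef
  have hA : A ^ 2 = z • (1 : Module.End F (Fin n → F)) := by
    rw [hAdef, ← Matrix.toLin'_pow, ← Units.val_pow_eq_pow_val, hz, map_smul, Matrix.toLin'_one]; rfl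
  obtain ⟨d, hd, hiso⟩ := exists_iso_diag h2 hQ
  by_cases hsplit : ∃ l : F, l ^ 2 = z
  · obtain ⟨l, rfl⟩ := hsplit
    have hl : l ≠ 0 := fun e => hz0 (by rw [e, zero_pow two_ne_zero])
    obtain ⟨b, e, hbe⟩ := exists_eigenbasis (r := 2) (l⁻¹ • A)
      (by rw [smul_pow, hA, smul_smul, inv_pow, inv_mul_cancel₀ hz0, one_smul])
      (IsPrimitiveRoot.neg_one (ringChar F) (Spinor.ringChar_ne_two h2)) (by exact_mod_cast h2)
    have hev : ∀ i, (x : Matrix (Fin n) (Fin n) F) *ᵥ b i = (l * (-1) ^ e i) • b i := fun i => by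
      rw [← Matrix.toLin'_apply, ← hAdef, ← smul_smul, ← hbe i, LinearMap.smul_apply, smul_smul, mul_inv_cancel₀ hl,
        one_smul]
    let w : Fin n → F := fun i => if i = ⟨0, hn⟩ then d else 1
    obtain ⟨φ, hφ⟩ := hiso w (fun i => by simp only [w]; split_ifs <;> [exact hd; exact one_ne_zero])
      (by simp [w])
    refine mem_sim_of_conj (adj_of_eigen hn b _ hev) (b.equivFun.trans φ) hz0 fun v => ?_
    simp only [LinearEquiv.trans_apply, hφ, equivFun_eigen b _ hev, Finset.mul_sum]
    refine Finset.sum_congr rfl fun i _ => ?_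
    have h1 : ((-1 : F) ^ e i) * (-1) ^ e i = 1 := by rw [← pow_add, ← two_mul, pow_mul]; simp
    linear_combination (w i * (l * l) * (b.equivFun v i * b.equivFun v i)) * h1
  · push Not at hsplit
    obtain ⟨h, c, hc, hh⟩ := Elusive.exists_root_basis hsplit A fun v => by
      rw [← Module.End.mul_apply, ← pow_two, hA]; rfl
    have hh0 : 0 < h := by omega
    have hcr : ∀ l, A (c (Sum.inr l)) = z • c (Sum.inl l) := fun l => by
      rw [← hc, ← Module.End.mul_apply, ← pow_two, hA]; rfl
    set l₀ : Fin h := ⟨0, hh0⟩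
    have hzns : ¬ IsSquare z := fun ⟨s, hs⟩ => hsplit s (by rw [pow_two, hs])
    -- the weights
    obtain ⟨β, γ, hβγ, hγ0, hcls⟩ : ∃ β γ : F, γ = z - β * β ∧ γ ≠ 0 ∧ IsSquare (γ * z ^ (h - 1) * d) := by
      by_cases hs : IsSquare (z * z ^ (h - 1) * d)
      · exact ⟨0, z, by ring, hz0, hs⟩
      · obtain ⟨a, b, hab⟩ := exists_norm_value h2 (show (-1 : F) ≠ 0 by simp) z
        have hb : b ≠ 0 := fun e => hzns ⟨a, by rw [← hab, e]; ring⟩
        refine ⟨a, b * b, by linear_combination hab, mul_ne_zero hb hb, ?_⟩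
        have hne : z ^ (h - 1) * d ≠ 0 := mul_ne_zero (pow_ne_zero _ hz0) hd
        rw [mul_assoc, Spinor.isSquare_mul_iff' hz0 hne] at hs
        rw [mul_assoc, Spinor.isSquare_mul_iff' (mul_ne_zero hb hb) hne]
        exact iff_of_true ⟨b, rfl⟩ (by by_contra hno; exact hs (iff_of_false hzns hno))
    let bb : Fin h → F := fun l => if l = l₀ then β else 0
    let gg : Fin h → F := fun l => z - bb l * bb l
    have hgg : ∀ l, gg l ≠ 0 := fun l => by
      by_cases hl : l = l₀
      · simp [gg, bb, hl, ← hβγ, hγ0]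
      · simp [gg, bb, hl, hz0]
    let S : (Fin h ⊕ Fin h → F) ≃ₗ[F] (Fin h ⊕ Fin h → F) :=
      { toFun := fun u => Sum.elim (fun l => u (.inl l) + bb l * u (.inr l)) fun l => u (.inr l)
        map_add' := fun u v => by
          funext k; rcases k with l | l <;> simp <;> ring
        map_smul' := fun a u => by
          funext k; rcases k with l | l <;> simp <;> ring
        invFun := fun u => Sum.elim (fun l => u (.inl l) - bb l * u (.inr l)) fun l => u (.inr l)
        left_inv := fun u => by funext k; rcases k with l | l <;> simp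
        right_inv := fun u => by funext k; rcases k with l | l <;> simp }
    have hSl : ∀ u l, S u (.inl l) = u (.inl l) + bb l * u (.inr l) := fun u l => rfl
    have hSr : ∀ u l, S u (.inr l) = u (.inr l) := fun u l => rfl
    let E : Fin h ⊕ Fin h ≃ Fin n := finSumFinEquiv.trans (finCongr (by omega))
    let w : Fin n → F := fun k => Sum.elim (fun _ => 1) gg (E.symm k)
    obtain ⟨φ, hφ⟩ := hiso w (fun k => by
      simp only [w]; rcases E.symm k with l | l
      · exact one_ne_zero
      · exact hgg l) (by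
      rw [← Equiv.prod_comp E, Fintype.prod_sum_type]
      simp only [w, Equiv.symm_apply_apply, Sum.elim_inl, Sum.elim_inr, Finset.prod_const_one, one_mul]
      rw [← Finset.mul_prod_erase _ _ (Finset.mem_univ l₀), Finset.prod_eq_pow_card (b := z) (fun l hl => by
        simp [gg, bb, (Finset.mem_erase.1 hl).1]), Finset.card_erase_of_mem (Finset.mem_univ _), Finset.card_univ,
        Fintype.card_fin, show gg l₀ = γ by simp [gg, bb, hβγ]]
      exact hcls)
    -- coordinates of the image
    have hcoord : ∀ v, (∀ l, c.equivFun (A v) (.inl l) = z * c.equivFun v (.inr l)) ∧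
        ∀ l, c.equivFun (A v) (.inr l) = c.equivFun v (.inl l) := by
      intro v
      have h1 : ∀ l, (c.coord (.inl l)).comp A = z • c.coord (.inr l) := fun l => c.ext fun k => by
        rcases k with m | m <;> simp [hc, hcr, Finsupp.single_apply]
      have h2 : ∀ l, (c.coord (.inr l)).comp A = c.coord (.inl l) := fun l => c.ext fun k => by
        rcases k with m | m <;> simp [hc, hcr, Finsupp.single_apply]
      exact ⟨fun l => LinearMap.congr_fun (h1 l) v, fun l => LinearMap.congr_fun (h2 l) v⟩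
    let φ' := ((c.equivFun.trans S).trans (LinearEquiv.funCongrLeft F F E.symm)).trans φ
    have hval : ∀ v, Q (φ' v) = ∑ l, ((c.equivFun v (.inl l) + bb l * c.equivFun v (.inr l)) *
        (c.equivFun v (.inl l) + bb l * c.equivFun v (.inr l)) + gg l * (c.equivFun v (.inr l) * c.equivFun v (.inr l))) :=
      fun v => by
      simp only [φ', LinearEquiv.trans_apply, hφ]
      rw [← Equiv.sum_comp E, Fintype.sum_sum_type, ← Finset.sum_add_distrib]
      refine Finset.sum_congr rfl fun l _ => ?_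
      simp only [w, LinearEquiv.funCongrLeft_apply, LinearMap.funLeft_apply, Equiv.symm_apply_apply, Sum.elim_inl,
        Sum.elim_inr, hSl, hSr, one_mul]
    refine mem_sim_of_conj ?_ φ' hz0 fun v => ?_
    · -- matrices commuting with `x`
      intro t _
      obtain ⟨a, b, hab⟩ := exists_norm_value h2 hz0 t
      let c' : Basis (Fin 2 × Fin h) F (Fin n → F) := c.reindex
        ((Equiv.boolProdEquivSum (Fin h)).symm.trans (Equiv.prodCongr finTwoEquiv.symm (Equiv.refl _)))
      have hc0 : ∀ l, c' (0, l) = c (.inl l) := fun l => by simp [c', Equiv.boolProdEquivSum, finTwoEquiv]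
      have hc1 : ∀ l, c' (1, l) = c (.inr l) := fun l => by simp [c', Equiv.boolProdEquivSum, finTwoEquiv]
      let X₀ : Fin h → Matrix (Fin 2) (Fin 2) F := fun _ => !![0, z; 1, 0]
      let M₀ : Fin h → Matrix (Fin 2) (Fin 2) F := fun l => if l = l₀ then !![a, z * b; b, a] else 1
      have hAX : A = Matrix.toLin c' c' (Matrix.blockDiagonal X₀) := c'.ext fun k => by
        obtain ⟨i, l⟩ := k
        rw [Matrix.toLin_self, Fintype.sum_prod_type]
        simp only [Matrix.blockDiagonal_apply, ite_smul, zero_smul, Finset.sum_ite_eq', Finset.mem_univ, if_true,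
          Fin.sum_univ_two, hc0, hc1]
        fin_cases i <;> simp [X₀, hc0, hc1, hc, hcr]
      refine ⟨LinearMap.toMatrix' (Matrix.toLin c' c' (Matrix.blockDiagonal M₀)), ?_, ?_⟩
      · refine Matrix.toLin'.injective ?_
        rw [Matrix.toLin'_mul, Matrix.toLin'_mul, Matrix.toLin'_toMatrix', ← hAdef, hAX, ← Matrix.toLin_mul,
          ← Matrix.toLin_mul, ← Matrix.blockDiagonal_mul, ← Matrix.blockDiagonal_mul]
        congr 2
        funext l
        simp only [M₀, X₀]
        split_ifs
        · ext i j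
          fin_cases i <;> fin_cases j <;> simp [Matrix.mul_apply, Fin.sum_univ_two] <;> ring
        · simp
      · rw [LinearMap.det_toMatrix', LinearMap.det_toLin, Matrix.det_blockDiagonal]
        rw [Finset.prod_eq_single l₀ (fun l _ hl => by simp [M₀, hl]) (by simp)]
        simp only [M₀, if_true, Matrix.det_fin_two_of]
        linear_combination hab
    · rw [hval, hval, Finset.mul_sum]
      refine Finset.sum_congr rfl fun l _ => ?_
      rw [← Matrix.toLin'_apply, ← hAdef, (hcoord v).1, (hcoord v).2]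
      simp only [gg]
      ring

/-- In the exceptional case all elements of order `r` are conjugate into the similitude group. -/
theorem exists_conj_exception (h2 : (2 : F) ≠ 0) (hQ : (polarBilin Q).Nondegenerate) {r : ℕ} [Fact r.Prime]
    (hr : r = 3 ∨ r = 5) {p : ℕ} [Fact p.Prime] [CharP F p] (hn : n = r)
    (hv : padicValNat r (Fintype.card F - 1) = 1) {x : GL (Fin n) F}
    (hx : x ∈ Cfsg.Geo.specialLinear (Fin n) F)
    (hz : ∃ z : F, ((x ^ r : GL (Fin n) F) : Matrix (Fin n) (Fin n) F) = z • 1) :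
    ∃ g ∈ Cfsg.Geo.specialLinear (Fin n) F, g⁻¹ * x * g ∈ Cfsg.Geo.quadSimilarityGroup ⇑Q := by
  classical
  obtain ⟨b, w, π, c, hπ, hc, -, hb, hwc⟩ := exists_paired_eigen (p := p) hr hn hv hx hz
  let P : QuadraticForm F (Fin n → F) := ∑ i, linMulLin (b.coord i) (b.coord (π i))
  have hPv : ∀ v, P v = ∑ i, b.equivFun v i * b.equivFun v (π i) := fun v => by
    simp [P, QuadraticMap.sum_apply]
  have hP : (polarBilin P).Nondegenerate := OrthOrder.nondegenerate_iff.2 fun u hu => b.ext_elem fun j => by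
    have h' := hu (b (π j))
    simp only [polar, hPv, map_add, Pi.add_apply, ← Finset.sum_sub_distrib] at h'
    simp only [Basis.equivFun_apply] at h'
    rw [map_zero, Finsupp.zero_apply]
    have h'' : ∑ i, (b.repr u i * b.repr (b (π j)) (π i) + b.repr (b (π j)) i * b.repr u (π i)) = 0 := by
      rw [← h']
      exact Finset.sum_congr rfl fun i _ => by ring
    rw [Finset.sum_add_distrib, Finset.sum_eq_single j (fun i _ hi => by
        simp [hπ.injective.ne hi.symm]) (by simp),
      Finset.sum_eq_single (π j) (fun i _ hi => by simp [hi.symm]) (by simp)] at h''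
    simp [hπ j] at h''
    exact (mul_eq_zero.1 (show (2 : F) * b.repr u j = 0 by linear_combination h'')).resolve_left h2
  obtain ⟨φ, s, -, hφ⟩ := exists_similar h2 (by subst hn; rcases hr with rfl | rfl <;> decide) hQ hP
  refine mem_sim_of_conj (adj_of_eigen (by subst hn; rcases hr with rfl | rfl <;> norm_num) b w hb) φ hc fun v => ?_
  rw [hφ, hφ, hPv, hPv, mul_left_comm]
  simp only [equivFun_eigen b w hb, Finset.mul_sum]
  refine Finset.sum_congr rfl fun i _ => ?_
  rw [← hwc i]
  ring

/-- The invariant form carried back by a conjugation. -/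
theorem exists_inv_form (hQ : (polarBilin Q).Nondegenerate) {x g : GL (Fin n) F}
    (h : g⁻¹ * x * g ∈ Cfsg.Geo.quadSimilarityGroup ⇑Q) :
    ∃ (Q' : QuadraticForm F (Fin n → F)) (c : F), c ≠ 0 ∧ (polarBilin Q').Nondegenerate ∧
      (∀ v, Q' ((x : Matrix (Fin n) (Fin n) F) *ᵥ v) = c * Q' v) ∧
      ∃ φ : (Fin n → F) ≃ₗ[F] (Fin n → F), ∀ v, Q (φ v) = Q' v := by
  obtain ⟨c, hc⟩ := h
  refine ⟨Q.comp (TransvMax.linOf g⁻¹).toLinearMap, c, c.ne_zero,
    OrthOrder.nondegenerate_congr (TransvMax.linOf g⁻¹) (fun v => rfl) hQ, fun v => ?_,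
    TransvMax.linOf g⁻¹, fun v => rfl⟩
  simp only [QuadraticMap.comp_apply, LinearEquiv.coe_coe, TransvMax.linOf_apply]
  rw [← hc, Matrix.mulVec_mulVec, Matrix.mulVec_mulVec, ← Units.val_mul, ← Units.val_mul, mul_inv_cancel_right]

/-- The multiplier of an element of order `r`. -/
theorem mult_pow {Q' : QuadraticForm F (Fin n → F)} (h2 : (2 : F) ≠ 0) (hQ' : (polarBilin Q').Nondegenerate)
    (hn : 0 < n) {x : GL (Fin n) F} {c : F} (hc : ∀ v, Q' ((x : Matrix (Fin n) (Fin n) F) *ᵥ v) = c * Q' v)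
    {r : ℕ} (hxr : ((x : Matrix (Fin n) (Fin n) F)) ^ r = 1) : c ^ r = 1 := by
  have hk : ∀ (k : ℕ) v, Q' (((x : Matrix (Fin n) (Fin n) F) ^ k) *ᵥ v) = c ^ k * Q' v := by
    intro k
    induction k with
    | zero => simp
    | succ k ih => intro v; rw [pow_succ', ← Matrix.mulVec_mulVec, hc, ih, pow_succ', mul_assoc]
  obtain ⟨v, hv⟩ : ∃ v, Q' v ≠ 0 := by
    by_contra hall
    push Not at hall
    have h1 := (OrthOrder.nondegenerate_iff.1 hQ') (Pi.single ⟨0, hn⟩ 1) fun w => by
      simp [polar, hall]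
    simpa using congrFun h1 ⟨0, hn⟩
  have := hk r v
  rw [hxr, Matrix.one_mulVec] at this
  exact (mul_eq_right₀ hv).1 this.symm

/-- The moved space of an isometry of odd order has even dimension. -/
theorem even_moved {V : Type*} [AddCommGroup V] [Module F V] [FiniteDimensional F V] {Q' : QuadraticForm F V}
    (hQ' : (polarBilin Q').Nondegenerate) {T : Module.End F V} (hT : ∀ v, Q' (T v) = Q' v) {r : ℕ} (hr : Odd r)
    (hTr : T ^ r = 1) : Even (finrank F V - finrank F (Elusive.fixedSpace T)) := by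
  have hp : ∀ (k : ℕ) u v, polar Q' ((T ^ k) u) ((T ^ k) v) = polar Q' u v := by
    intro k
    induction k with
    | zero => intro u v; rfl
    | succ k ih =>
      intro u v
      rw [pow_succ', Module.End.mul_apply, Module.End.mul_apply]
      refine Eq.trans ?_ (ih u v)
      simp only [polar, ← map_add, hT]
  have hS : ∀ v, (T ^ (r - 1)) (T v) = v ∧ T ((T ^ (r - 1)) v) = v := fun v => by
    rw [← Module.End.mul_apply, ← Module.End.mul_apply, ← pow_succ, ← pow_succ', Nat.sub_add_cancel hr.pos, hTr]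
    exact ⟨rfl, rfl⟩
  let A : LinearMap.BilinForm F V := (polarBilin Q').comp (T - T ^ (r - 1))
  have hA : ∀ u v, A u v = polar Q' (T u - (T ^ (r - 1)) u) v := fun u v => rfl
  have halt : LinearMap.IsAlt A := fun u => by
    rw [hA, polar_sub_left, sub_eq_zero]
    have h := hp 1 u ((T ^ (r - 1)) u)
    rw [pow_one, (hS u).2] at h
    rw [h, polar_comm]
  have hfix : ∀ w, w ∈ Elusive.fixedSpace T → ∀ u, A u w = 0 := fun w hw u => by
    have hk : ∀ k : ℕ, (T ^ k) w = w := by
      intro k
      induction k with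
      | zero => rfl
      | succ k ih => rw [pow_succ', Module.End.mul_apply, ih, Elusive.mem_fixedSpace.1 hw]
    have h1 := hp 1 u w
    have h2 := hp (r - 1) u w
    rw [pow_one, Elusive.mem_fixedSpace.1 hw] at h1
    rw [hk] at h2
    rw [hA, polar_sub_left, h1, h2, sub_self]
  obtain ⟨X, hX⟩ := Submodule.exists_isCompl (Elusive.fixedSpace T)
  have hXnd : Elusive.FormIso.NdOn A X := fun u hu hall => by
    have h0 : T u - (T ^ (r - 1)) u = 0 := hQ'.1 _ fun v => by
      obtain ⟨a, ha, b, hb, rfl⟩ := Submodule.mem_sup.1 (hX.sup_eq_top.symm ▸ Submodule.mem_top :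
        v ∈ Elusive.fixedSpace T ⊔ X)
      show A u (a + b) = 0
      rw [map_add, hfix a ha, hall b hb, add_zero]
    have hTT : T (T u) = u := by rw [sub_eq_zero.1 h0, (hS u).2]
    have hTu : T u = u := by
      obtain ⟨m, rfl⟩ := hr
      have h' : ∀ j : ℕ, (T ^ (2 * j + 1)) u = T u := by
        intro j
        induction j with
        | zero => rw [mul_zero, zero_add, pow_one]
        | succ j ih =>
          rw [show 2 * (j + 1) + 1 = (2 * j + 1) + 1 + 1 by ring, pow_succ', pow_succ', Module.End.mul_apply,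
            Module.End.mul_apply, ih, hTT]
      rw [← h' m, hTr]; rfl
    exact Submodule.disjoint_def.1 hX.disjoint u (Elusive.mem_fixedSpace.2 hTu) hu
  have he := Elusive.FormIso.even_finrank halt hXnd
  have hd := Submodule.finrank_add_eq_of_isCompl hX
  rwa [show finrank F V - finrank F (Elusive.fixedSpace T) = finrank F X by omega]

/-- A free action of order `r` on the singular vectors. -/
theorem dvd_singular {V : Type*} [AddCommGroup V] [Module F V] [Finite V] {Q' : QuadraticForm F V}
    {T : Module.End F V} (hT : ∀ v, Q' (T v) = Q' v) {r : ℕ} [Fact r.Prime] (hTr : T ^ r = 1)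
    (hfree : ∀ v, T v = v → v = 0) : r ∣ Nat.card {v // Q' v = 0} - 1 := by
  classical
  haveI := Fintype.ofFinite {v // Q' v = 0}
  let f : Function.End {v // Q' v = 0} := fun v => ⟨T v.1, (hT v.1).trans v.2⟩
  have hk : ∀ (k : ℕ) v, ((f ^ k) v).1 = (T ^ k) v.1 := by
    intro k
    induction k with
    | zero => intro v; rfl
    | succ k ih =>
      intro v
      rw [pow_succ', pow_succ', Module.End.mul_apply, ← ih v]
      rfl
  have hfr : f ^ r ^ 1 = 1 := funext fun v => Subtype.ext (by rw [hk, pow_one, hTr]; rfl)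
  have h := Equiv.Perm.card_fixedPoints_modEq hfr
  have hfp : Fintype.card (Function.fixedPoints f) = 1 := by
    rw [Fintype.card_eq_one_iff]
    exact ⟨⟨⟨0, map_zero Q'⟩, Subtype.ext (map_zero T)⟩, fun v => Subtype.ext (Subtype.ext
      (hfree _ (congrArg Subtype.val v.2)))⟩
  rw [hfp, ← Nat.card_eq_fintype_card] at h
  haveI : Nonempty {v // Q' v = 0} := ⟨⟨0, map_zero Q'⟩⟩
  exact (Nat.modEq_iff_dvd' Nat.card_pos).1 h.symm

/-- The index times the order of the orthogonal group. -/
theorem dvd_of_index (h2 : (2 : F) ≠ 0) (hQ : (polarBilin Q).Nondegenerate) (hn : 0 < n) {r : ℕ}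
    (hΩ : r ∣ (Cfsg.Geo.quadSimilarityGroup ⇑Q).relIndex (Cfsg.Geo.specialLinear (Fin n) F)) :
    r * (Fintype.card F - 1) * Nat.card (oGroup Q) ∣
      2 * ∏ i : Fin n, (Fintype.card F ^ n - Fintype.card F ^ (i : ℕ)) := by
  classical
  haveI : Finite ((Fin n → F) ≃ₗ[F] (Fin n → F)) := Finite.of_injective _ DFunLike.coe_injective
  set H := Cfsg.Geo.quadSimilarityGroup ⇑Q
  set S := Cfsg.Geo.specialLinear (Fin n) F
  let ψ : oGroup Q →* GL (Fin n) F := TransvMax.glOf.comp (oGroup Q).subtype
  have hψi : Function.Injective ψ := fun a b h => Subtype.ext (LinearEquiv.ext fun v => by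
    rw [← TransvMax.glOf_mulVec a.1 v, ← TransvMax.glOf_mulVec b.1 v]
    exact congrArg (fun M : GL (Fin n) F => (M : Matrix (Fin n) (Fin n) F) *ᵥ v) h)
  let d : oGroup Q →* Fˣ := LinearEquiv.det.comp (oGroup Q).subtype
  have hrange : d.range ≤ (powMonoidHom 2 : Fˣ →* Fˣ).ker := by
    rintro _ ⟨g, rfl⟩
    refine Units.ext ?_
    show ((LinearEquiv.det g.1 : Fˣ) : F) ^ 2 = 1
    rw [Spinor.det_coe_dick hQ (Spinor.reflGroup_eq_top_of_odd hQ h2) g]
    rcases Int.units_eq_one_or (Spinor.dick g) with h | h <;> rw [h] <;> simp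
  have hd2 : Nat.card d.range ∣ 2 := (Subgroup.card_dvd_of_le hrange).trans
    (by rw [IsCyclic.card_powMonoidHom_ker]; exact Nat.gcd_dvd_right _ _)
  have hsub : d.ker.map ψ ≤ H ⊓ S := by
    rintro _ ⟨g, hg, rfl⟩
    refine ⟨⟨1, fun v => ?_⟩, Units.ext ?_⟩
    · rw [Units.val_one, one_mul]
      show Q ((TransvMax.glOf g.1 : Matrix (Fin n) (Fin n) F) *ᵥ v) = Q v
      rw [TransvMax.glOf_mulVec]; exact g.2 v
    · show Matrix.det (LinearMap.toMatrix' g.1.toLinearMap) = 1
      rw [LinearMap.det_toMatrix', ← LinearEquiv.coe_det, show LinearEquiv.det g.1 = 1 from hg, Units.val_one]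
  have h1 : r * Nat.card d.ker ∣ Nat.card S := by
    refine (Nat.mul_dvd_mul hΩ (Nat.card_congr (d.ker.equivMapOfInjective ψ hψi).toEquiv ▸
      Subgroup.card_dvd_of_le hsub)).trans ?_
    rw [mul_comm, ← Subgroup.inf_relIndex_right, ← Subgroup.relIndex_bot_left,
      Subgroup.relIndex_mul_relIndex _ _ _ bot_le inf_le_right, Subgroup.relIndex_bot_left]
  have h2' : Nat.card (oGroup Q) = Nat.card d.ker * Nat.card d.range := by
    rw [← Subgroup.index_ker, Subgroup.card_mul_index]
  have hS : Nat.card S = Nat.card (Matrix.SpecialLinearGroup (Fin n) F) :=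
    (Nat.card_congr (LinGrp.slEquivKerDet (n := Fin n) (F := F)).toEquiv).symm
  rw [h2', ← LinGrp.natCard_SL_mul n hn, ← hS, show r * (Fintype.card F - 1) * (Nat.card d.ker * Nat.card d.range) =
    Nat.card d.range * ((Fintype.card F - 1) * (r * Nat.card d.ker)) by ring]
  exact Nat.mul_dvd_mul hd2 (Nat.mul_dvd_mul_left _ h1)

end Cfsg.Agent.SimEl
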