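import Cfsg.Agent.Lib.TransvMax.Basic

/-!
Elementary facts about a non-degenerate unitary form given as a function: prescribed values,
isotropic vectors, unitary transvections.
-/

set_option autoImplicit false

namespace Cfsg.Agent.TransvMax

open scoped Matrix MatrixGroups
open Cfsg.Agent

variable {ι : Type} [Fintype ι] [DecidableEq ι] {F : Type*} [Field F]
  {σ : F ≃+* F} {f : (ι → F) → (ι → F) → F}

theorem exists_trace_zero (hσ : σ ≠ RingEquiv.refl F) (h2 : ∀ a, σ (σ a) = a) :
    ∃ e : F, e ≠ 0 ∧ e + σ e = 0 := by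
  obtain ⟨x, hx⟩ : ∃ x, σ x ≠ x := by
    by_contra hc
    push Not at hc
    exact hσ (RingEquiv.ext hc)
  exact ⟨x - σ x, sub_ne_zero.mpr (Ne.symm hx), by rw [map_sub, h2]; ring⟩

theorem exists_trace_eq (hσ : σ ≠ RingEquiv.refl F) (h2 : ∀ a, σ (σ a) = a) {a : F}
    (ha : σ a = a) : ∃ τ : F, τ + σ τ = a := by
  obtain ⟨ω, hω⟩ : ∃ ω, ω + σ ω ≠ 0 := by
    by_contra hc
    push Not at hc
    refine hσ (RingEquiv.ext fun x => ?_)
    have h1 := hc 1
    rw [map_one] at h1
    have hx := hc x
    show σ x = x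
    linear_combination hx - x * h1
  refine ⟨a * ω * (ω + σ ω)⁻¹, ?_⟩
  rw [map_mul, map_mul, map_inv₀, ha, map_add, h2, add_comm (σ ω) ω]
  field_simp

theorem exists_norm_eq [Finite F] (hσ : σ ≠ RingEquiv.refl F) (h2 : ∀ a, σ (σ a) = a) {a : F}
    (ha : σ a = a) : ∃ x : F, x * σ x = a := by
  rcases eq_or_ne a 0 with rfl | ha0
  · exact ⟨0, by simp⟩
  let s : Fˣ →* Fˣ := Units.map (σ : F →* F)
  have hs : ∀ x : Fˣ, (s x : F) = σ x := fun x => rfl
  let N : Fˣ →* Fˣ := MonoidHom.id Fˣ * s
  let D : Fˣ →* Fˣ := MonoidHom.id Fˣ / s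
  have hND : N.ker = D.range := by
    refine le_antisymm (fun x hx => ?_) ?_
    · have hx1 : (x : F) * σ x = 1 := by
        have := congrArg Units.val (MonoidHom.mem_ker.1 hx)
        simpa [N, hs] using this
      obtain ⟨z, hz⟩ : ∃ z : F, z + (x : F) * σ z ≠ 0 := by
        by_contra hc
        push Not at hc
        have h1 := hc 1
        rw [map_one] at h1
        refine hσ (RingEquiv.ext fun w => ?_)
        have hw := hc w
        show σ w = w
        have hx' : (x : F) = -1 := by linear_combination h1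
        rw [hx'] at hw
        linear_combination -hw
      refine ⟨Units.mk0 _ hz, Units.ext ?_⟩
      have hσy : (x : F) * σ (z + (x : F) * σ z) = z + (x : F) * σ z := by
        rw [map_add, map_mul, h2]
        linear_combination z * hx1
      have hy0 : σ (z + (x : F) * σ z) ≠ 0 := by
        rw [ne_eq, EmbeddingLike.map_eq_zero_iff]
        exact hz
      show ((Units.mk0 _ hz / s (Units.mk0 _ hz) : Fˣ) : F) = x
      rw [Units.val_div_eq_div_val, hs, Units.val_mk0, div_eq_iff hy0, hσy]
    · rintro _ ⟨y, rfl⟩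
      refine MonoidHom.mem_ker.2 (Units.ext ?_)
      show ((y / s y * s (y / s y) : Fˣ) : F) = 1
      simp only [Units.val_mul, Units.val_div_eq_div_val, hs, map_div₀, h2]
      rw [div_mul_div_comm, mul_comm, div_self]
      exact mul_ne_zero (by simp) (by simp)
  have hDker : ∀ x : Fˣ, x ∈ D.ker ↔ σ (x : F) = x := fun x => by
    rw [MonoidHom.mem_ker]
    constructor
    · intro h
      have h1 : ((x / s x : Fˣ) : F) = 1 := congrArg Units.val h
      rw [Units.val_div_eq_div_val, hs, div_eq_one_iff_eq (by simp)] at h1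
      exact h1.symm
    · intro h
      show x / s x = 1
      rw [div_eq_one]
      exact Units.ext (by rw [hs, h])
  have hle : N.range ≤ D.ker := by
    rintro _ ⟨y, rfl⟩
    rw [hDker]
    show σ ((y * s y : Fˣ) : F) = ((y * s y : Fˣ) : F)
    simp only [Units.val_mul, hs, map_mul, h2, mul_comm]
  have hcard : Nat.card N.range = Nat.card D.ker := by
    have h1 := N.ker.card_mul_index
    have h2' := D.ker.card_mul_index
    rw [Subgroup.index_ker] at h1 h2'
    rw [hND] at h1
    have hpos : 0 < Nat.card D.range := Nat.card_pos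
    refine Nat.eq_of_mul_eq_mul_left hpos (h1.trans ?_)
    rw [mul_comm, h2']
  have heq : N.range = D.ker :=
    Subgroup.eq_of_le_of_card_ge hle (le_of_eq hcard.symm)
  obtain ⟨y, hy⟩ : Units.mk0 a ha0 ∈ N.range := by
    rw [heq, hDker]
    exact ha
  exact ⟨y, by simpa [N, hs] using congrArg Units.val hy⟩

variable (hf : Cfsg.Geo.IsUnitaryForm σ f)

include hf

theorem herm_add_right (x v w : ι → F) : f x (v + w) = f x v + f x w := by
  rw [hf.herm x, hf.add_left, map_add, ← hf.herm, ← hf.herm]

theorem herm_smul_right (c : F) (x v : ι → F) : f x (c • v) = σ c * f x v := by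
  rw [hf.herm x, hf.smul_left, map_mul, ← hf.herm]

/-- The linear functional `x ↦ f x v`. -/
noncomputable def hermFun (v : ι → F) : (ι → F) →ₗ[F] F where
  toFun x := f x v
  map_add' x y := hf.add_left x y v
  map_smul' c x := hf.smul_left c x v

theorem hermFun_apply (v x : ι → F) : hermFun hf v x = f x v := rfl

theorem herm_zero_left (v : ι → F) : f 0 v = 0 := (hermFun hf v).map_zero

theorem herm_zero_right (v : ι → F) : f v 0 = 0 := by
  rw [hf.herm, herm_zero_left hf, map_zero]

theorem herm_sub_left (x y v : ι → F) : f (x - y) v = f x v - f y v := (hermFun hf v).map_sub x y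

theorem herm_sub_right (x v w : ι → F) : f x (v - w) = f x v - f x w := by
  rw [hf.herm, herm_sub_left hf, map_sub, ← hf.herm, ← hf.herm]

theorem herm_eq_zero_comm {x v : ι → F} (h : f x v = 0) : f v x = 0 := by
  rw [hf.herm, h, map_zero]

theorem herm_eq_of_forall {v w : ι → F} (h : ∀ x, f x v = f x w) : v = w := by
  by_contra hne
  obtain ⟨x, hx⟩ := (hf.nondegenerate (v - w) (sub_ne_zero.mpr hne)).1
  exact hx (by rw [herm_sub_right hf, h x, sub_self])

/-- The row vector representing `x ↦ f x v`. -/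
noncomputable def hermRow (v : ι → F) : ι → F := fun j => hermFun hf v (Pi.single j 1)

theorem hermRow_dot (v x : ι → F) : hermRow hf v ⬝ᵥ x = f x v := by
  conv_rhs => rw [← hermFun_apply hf, pi_eq_sum_univ' x]
  simp [dotProduct, hermRow, hermFun_apply, mul_comm]

theorem hermRow_injective : Function.Injective (hermRow hf) := fun v w h =>
  herm_eq_of_forall hf fun x => by rw [← hermRow_dot hf, ← hermRow_dot hf, h]

theorem exists_hermRow [Finite F] (φ : ι → F) : ∃ b, φ = hermRow hf b := by
  obtain ⟨b, hb⟩ := Finite.injective_iff_surjective.1 (hermRow_injective hf) φ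
  exact ⟨b, hb.symm⟩

theorem exists_hermFun [Finite F] (ψ : (ι → F) →ₗ[F] F) : ∃ b, ∀ x, ψ x = f x b := by
  obtain ⟨b, hb⟩ := exists_hermRow hf fun j => ψ (Pi.single j 1)
  refine ⟨b, fun x => ?_⟩
  rw [← hermRow_dot hf, ← hb]
  conv_lhs => rw [pi_eq_sum_univ' x]
  simp [dotProduct, mul_comm]

theorem exists_herm_values {k : ℕ} {v : Fin k → ι → F} (hv : LinearIndependent F v) (α : Fin k → F) :
    ∃ x, ∀ i, f x (v i) = α i := by
  let L : (ι → F) →ₗ[F] (Fin k → F) := LinearMap.pi fun i => hermFun hf (v i)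
  have hL : LinearMap.range L = ⊤ := by
    by_contra hne
    obtain ⟨ψ, hψ0, hψ⟩ := Submodule.exists_le_ker_of_lt_top _ (lt_top_iff_ne_top.2 hne)
    have hsum : ∑ i, σ (ψ (Pi.single i 1)) • v i = 0 := by
      refine herm_eq_of_forall hf fun x => ?_
      have h1 : ψ (L x) = 0 := hψ ⟨x, rfl⟩
      rw [pi_eq_sum_univ' (L x), map_sum] at h1
      rw [herm_zero_right hf, ← h1]
      have h3 : f x (∑ i, σ (ψ (Pi.single i 1)) • v i) = ∑ i, f x (σ (ψ (Pi.single i 1)) • v i) :=
        map_sum (AddMonoidHom.mk' (f x) (herm_add_right hf x)) _ _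
      rw [h3]
      refine Finset.sum_congr rfl fun i _ => ?_
      rw [herm_smul_right hf, hf.involutive, map_smul, smul_eq_mul, mul_comm]
      rfl
    refine hψ0 (LinearMap.ext fun y => ?_)
    rw [pi_eq_sum_univ' y, map_sum, LinearMap.zero_apply]
    refine Finset.sum_eq_zero fun i _ => ?_
    have h2 := Fintype.linearIndependent_iff.1 hv _ hsum i
    rw [EmbeddingLike.map_eq_zero_iff] at h2
    rw [map_smul, h2, smul_zero]
  obtain ⟨x, hx⟩ := LinearMap.range_eq_top.1 hL α
  exact ⟨x, fun i => congrFun hx i⟩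

theorem finrank_ker_ge {k : ℕ} (v : Fin k → ι → F) :
    Fintype.card ι ≤ Module.finrank F (LinearMap.ker (LinearMap.pi fun i => hermFun hf (v i))) + k := by
  set L : (ι → F) →ₗ[F] (Fin k → F) := LinearMap.pi fun i => hermFun hf (v i)
  have h3 := LinearMap.finrank_range_add_finrank_ker L
  have h4 := Submodule.finrank_le (LinearMap.range L)
  rw [Module.finrank_fintype_fun_eq_card, Fintype.card_fin] at h4
  rw [Module.finrank_fintype_fun_eq_card] at h3
  omega

theorem finrank_isotropic [Finite F] (W : Submodule F (ι → F))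
    (hW : ∀ x ∈ W, ∀ y ∈ W, f x y = 0) : 2 * Module.finrank F W ≤ Fintype.card ι := by
  let φ : W → W.dualAnnihilator := fun w =>
    ⟨hermFun hf (w : ι → F), (Submodule.mem_dualAnnihilator _).2 fun x hx => hW x hx _ w.2⟩
  have hφ : Function.Injective φ := fun w w' h =>
    Subtype.ext (herm_eq_of_forall hf fun x => LinearMap.congr_fun (congrArg Subtype.val h) x)
  have := Module.finite_of_finite F (M := Module.Dual F (ι → F))
  have h1 := Nat.card_le_card_of_injective φ hφ
  rw [Module.natCard_eq_pow_finrank (K := F) (V := W),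
    Module.natCard_eq_pow_finrank (K := F) (V := W.dualAnnihilator)] at h1
  have h2 := (Nat.pow_le_pow_iff_right (Finite.one_lt_card)).1 h1
  have h3 := Subspace.finrank_add_finrank_dualAnnihilator_eq W
  rw [Module.finrank_fintype_fun_eq_card] at h3
  omega

theorem exists_aniso_perp [Finite F] {k : ℕ} (v : Fin k → ι → F) (hk : 2 * k < Fintype.card ι) :
    ∃ p, (∀ i, f p (v i) = 0) ∧ f p p ≠ 0 := by
  by_contra hc
  push Not at hc
  set L : (ι → F) →ₗ[F] (Fin k → F) := LinearMap.pi fun i => hermFun hf (v i) with hL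
  have hQ : ∀ p ∈ LinearMap.ker L, f p p = 0 := fun p hp => hc p fun i => congrFun hp i
  have hiso : ∀ x ∈ LinearMap.ker L, ∀ y ∈ LinearMap.ker L, f x y = 0 := by
    intro x hx y hy
    have key : ∀ c : F, c * f x y + σ (c * f x y) = 0 := fun c => by
      have h1 := hQ _ (Submodule.add_mem _ (Submodule.smul_mem _ c hx) hy)
      rw [hf.add_left, herm_add_right hf, herm_add_right hf, hf.smul_left, herm_smul_right hf,
        hQ x hx, hQ y hy, hf.smul_left, herm_smul_right hf, hf.herm y x] at h1
      rw [map_mul]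
      linear_combination h1
    by_contra hxy
    refine hf.ne_refl (RingEquiv.ext fun w => ?_)
    have h1 := key (f x y)⁻¹
    rw [inv_mul_cancel₀ hxy, map_one] at h1
    have h2 := key (w * (f x y)⁻¹)
    rw [mul_assoc, inv_mul_cancel₀ hxy, mul_one] at h2
    show σ w = w
    linear_combination h2 - w * h1
  have h1 : Fintype.card ι ≤ Module.finrank F (LinearMap.ker L) + k := finrank_ker_ge hf v
  have h2 := finrank_isotropic hf _ hiso
  omega

theorem exists_iso_values [Finite F] {k : ℕ} {v : Fin k → ι → F} (hv : LinearIndependent F v)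
    (hk : 2 * (k + 1) < Fintype.card ι) (α : Fin k → F) :
    ∃ x, f x x = 0 ∧ ∀ i, f x (v i) = α i := by
  obtain ⟨x₀, hx₀⟩ := exists_herm_values hf hv α
  obtain ⟨p, hp, hpp⟩ := exists_aniso_perp hf (Fin.cons x₀ v) hk
  obtain ⟨s, hs⟩ := exists_norm_eq hf.ne_refl hf.involutive (a := -f x₀ x₀ / f p p) (by
    rw [map_div₀, map_neg, ← hf.herm, ← hf.herm])
  refine ⟨x₀ + s • p, ?_, fun i => ?_⟩
  · have h1 : f p x₀ = 0 := by simpa using hp 0
    rw [hf.add_left, herm_add_right hf, herm_add_right hf, herm_smul_right hf, hf.smul_left,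
      herm_smul_right hf, hf.smul_left, h1, herm_eq_zero_comm hf h1, mul_zero, mul_zero, ← mul_assoc,
      mul_comm (σ s) s, hs]
    field_simp
    ring
  · have h1 : f p (v i) = 0 := by simpa using hp i.succ
    rw [hf.add_left, hf.smul_left, h1, hx₀, mul_zero, add_zero]

/-- An isotropic vector with prescribed values, up to half the dimension. -/
theorem exists_iso_values_half [Finite F] {k : ℕ} {v : Fin k → ι → F} (hv : LinearIndependent F v)
    (hk : 2 * k ≤ Fintype.card ι) {α : Fin k → F} (hα : ∃ i, α i ≠ 0) :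
    ∃ x, f x x = 0 ∧ ∀ i, f x (v i) = α i := by
  obtain ⟨x₀, hx₀⟩ := exists_herm_values hf hv α
  by_cases hc : ∃ p, (∀ i, f p (v i) = 0) ∧ f p p ≠ 0
  · obtain ⟨p, hp, hpp⟩ := hc
    obtain ⟨x₁, hx₁⟩ : ∃ x₁, x₁ = x₀ - (f x₀ p / f p p) • p := ⟨_, rfl⟩
    have h1 : f x₁ p = 0 := by
      rw [hx₁, herm_sub_left hf, hf.smul_left, div_mul_cancel₀ _ hpp, sub_self]
    obtain ⟨s, hs⟩ := exists_norm_eq hf.ne_refl hf.involutive (a := -f x₁ x₁ / f p p) (by
      rw [map_div₀, map_neg, ← hf.herm, ← hf.herm])
    refine ⟨x₁ + s • p, ?_, fun i => ?_⟩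
    · rw [hf.add_left, herm_add_right hf, herm_add_right hf, herm_smul_right hf, hf.smul_left,
        herm_smul_right hf, hf.smul_left, h1, herm_eq_zero_comm hf h1, mul_zero, mul_zero, ← mul_assoc,
        mul_comm (σ s) s, hs]
      field_simp
      ring
    · rw [hf.add_left, hf.smul_left, hx₁, herm_sub_left hf, hf.smul_left, hp i, hx₀]
      ring
  push Not at hc
  set L : (ι → F) →ₗ[F] (Fin k → F) := LinearMap.pi fun i => hermFun hf (v i) with hL
  have hQ : ∀ p ∈ LinearMap.ker L, f p p = 0 := fun p hp => hc p fun i => congrFun hp i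
  have hiso : ∀ x ∈ LinearMap.ker L, ∀ y ∈ LinearMap.ker L, f x y = 0 := by
    intro x hx y hy
    have key : ∀ c : F, c * f x y + σ (c * f x y) = 0 := fun c => by
      have h1 := hQ _ (Submodule.add_mem _ (Submodule.smul_mem _ c hx) hy)
      rw [hf.add_left, herm_add_right hf, herm_add_right hf, hf.smul_left, herm_smul_right hf,
        hQ x hx, hQ y hy, hf.smul_left, herm_smul_right hf, hf.herm y x] at h1
      rw [map_mul]
      linear_combination h1
    by_contra hxy
    refine hf.ne_refl (RingEquiv.ext fun w => ?_)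
    have h1 := key (f x y)⁻¹
    rw [inv_mul_cancel₀ hxy, map_one] at h1
    have h2 := key (w * (f x y)⁻¹)
    rw [mul_assoc, inv_mul_cancel₀ hxy, mul_one] at h2
    show σ w = w
    linear_combination h2 - w * h1
  obtain ⟨p, hp, hpx⟩ : ∃ p ∈ LinearMap.ker L, f x₀ p ≠ 0 := by
    by_contra hcon
    push Not at hcon
    have h1 : Fintype.card ι ≤ Module.finrank F (LinearMap.ker L) + k := finrank_ker_ge hf v
    by_cases hmem : x₀ ∈ LinearMap.ker L
    · obtain ⟨i, hi⟩ := hα
      exact hi ((hx₀ i).symm.trans (congrFun hmem i))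
    -- the span of the kernel and a representative is isotropic up to the last diagonal value
    let φ : ↥(LinearMap.ker L) × F → Module.Dual F (ι → F) := fun w => hermFun hf ((w.1 : ι → F) + w.2 • x₀)
    have hφ : Function.Injective φ := fun w w' h => by
      have h' := herm_eq_of_forall hf (fun x => LinearMap.congr_fun h x)
      have h2 : (w.2 - w'.2) • x₀ ∈ LinearMap.ker L := by
        rw [sub_smul, show w.2 • x₀ - w'.2 • x₀ = (w'.1 : ι → F) - w.1 by linear_combination (norm := module) h']
        exact Submodule.sub_mem _ w'.1.2 w.1.2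
      have h3 : w.2 = w'.2 := by
        by_contra hne
        exact hmem (by simpa [smul_smul, sub_ne_zero.2 hne] using Submodule.smul_mem _ (w.2 - w'.2)⁻¹ h2)
      refine Prod.ext (Subtype.ext ?_) h3
      rw [h3] at h'
      exact add_right_cancel h'
    have hran : ∀ w, φ w ∈ (LinearMap.ker L).dualAnnihilator := fun w =>
      (Submodule.mem_dualAnnihilator _).2 fun x hx => by
        show f x ((w.1 : ι → F) + w.2 • x₀) = 0
        rw [herm_add_right hf, herm_smul_right hf, hiso x hx _ w.1.2, herm_eq_zero_comm hf (hcon x hx),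
          mul_zero, add_zero]
    have := Module.finite_of_finite F (M := Module.Dual F (ι → F))
    have h4 := Nat.card_le_card_of_injective (fun w => (⟨φ w, hran w⟩ : (LinearMap.ker L).dualAnnihilator))
      fun w w' h => hφ (congrArg Subtype.val h)
    rw [Module.natCard_eq_pow_finrank (K := F) (V := ↥(LinearMap.ker L) × F),
      Module.natCard_eq_pow_finrank (K := F) (V := (LinearMap.ker L).dualAnnihilator),
      Module.finrank_prod, Module.finrank_self] at h4
    have h5 := (Nat.pow_le_pow_iff_right (Finite.one_lt_card)).1 h4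
    have h6 := Subspace.finrank_add_finrank_dualAnnihilator_eq (LinearMap.ker L)
    rw [Module.finrank_fintype_fun_eq_card] at h6
    omega
  obtain ⟨τ, hτ⟩ := exists_trace_eq hf.ne_refl hf.involutive (a := -f x₀ x₀) (by rw [map_neg, ← hf.herm])
  refine ⟨x₀ + σ (τ / f x₀ p) • p, ?_, fun i => ?_⟩
  · rw [hf.add_left, herm_add_right hf, herm_add_right hf, herm_smul_right hf, hf.smul_left,
      herm_smul_right hf, hf.smul_left, hQ p hp, hf.involutive, div_mul_cancel₀ _ hpx, hf.herm p x₀,
      ← map_mul, div_mul_cancel₀ _ hpx, mul_zero, mul_zero, add_zero]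
    linear_combination hτ
  · rw [hf.add_left, hf.smul_left, show f p (v i) = 0 from congrFun hp i, mul_zero, add_zero, hx₀]

/-- Vectors outside a small span, orthogonal to two given vectors. -/
theorem exists_perp_not_mem (a b : ι → F) (W : Submodule F (ι → F))
    (hW : Module.finrank F W + 2 < Fintype.card ι) : ∃ c, f c a = 0 ∧ f c b = 0 ∧ c ∉ W := by
  by_contra hc
  push Not at hc
  have hle : LinearMap.ker (LinearMap.pi fun i => hermFun hf (![a, b] i)) ≤ W := fun c hcc =>
    hc c (congrFun hcc 0) (congrFun hcc 1)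
  have h1 := Submodule.finrank_mono hle
  have h2 := finrank_ker_ge hf ![a, b]
  omega

theorem utrv_dot {u : ι → F} (hu : f u u = 0) (e : F) : (e • hermRow hf u) ⬝ᵥ u = 0 := by
  rw [smul_dotProduct, hermRow_dot, hu, smul_zero]

/-- The unitary transvection `x ↦ x + e f(x, u) u`. -/
noncomputable def utrv {u : ι → F} (hu : f u u = 0) (e : F) : GL ι F :=
  trv u (e • hermRow hf u) (utrv_dot hf hu e)

theorem utrv_mulVec {u : ι → F} (hu : f u u = 0) (e : F) (x : ι → F) :
    (utrv hf hu e : Matrix ι ι F) *ᵥ x = x + (e * f x u) • u := by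
  rw [utrv, trv_mulVec, smul_dotProduct, hermRow_dot, smul_eq_mul]

theorem utrv_isometry {u : ι → F} (hu : f u u = 0) {e : F} (he : e + σ e = 0) (x y : ι → F) :
    f ((utrv hf hu e : Matrix ι ι F) *ᵥ x) ((utrv hf hu e : Matrix ι ι F) *ᵥ y) = f x y := by
  rw [utrv_mulVec, utrv_mulVec, hf.add_left, herm_add_right hf, herm_add_right hf,
    herm_smul_right hf, herm_smul_right hf, hf.smul_left, hf.smul_left, hu, map_mul, ← hf.herm]
  linear_combination (f x u * f u y) * he

theorem utrv_mem_sim {u : ι → F} (hu : f u u = 0) {e : F} (he : e + σ e = 0) :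
    utrv hf hu e ∈ Cfsg.Geo.similarityGroup f ⊓ Cfsg.Geo.specialLinear ι F :=
  ⟨⟨1, fun x y => by rw [utrv_isometry hf hu he, Units.val_one, one_mul]⟩,
    trv_mem_specialLinear _ _ _⟩

end Cfsg.Agent.TransvMax
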