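import Cfsg.Agent.Lib.TransvMax.Basic

/-!
The subfield subgroup as the stabiliser of the rational points of a structure over a subfield.
-/

set_option autoImplicit false

namespace Cfsg.Agent.TransvMax

open scoped Matrix MatrixGroups
open Cfsg.Agent

variable {ι : Type} [Fintype ι] [DecidableEq ι] {F : Type*} [Field F] (F₀ : Subfield F) (P : GL ι F)

/-- The rational vector with coordinates `y` in the structure given by `P`. -/
def ratEmb (y : ι → F₀) : ι → F := (P : Matrix ι ι F) *ᵥ fun i => (y i : F)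

theorem ratEmb_add (y z : ι → F₀) : ratEmb F₀ P (y + z) = ratEmb F₀ P y + ratEmb F₀ P z := by
  rw [ratEmb, ratEmb, ratEmb, ← Matrix.mulVec_add]
  rfl

theorem ratEmb_smul (c : F₀) (y : ι → F₀) : ratEmb F₀ P (c • y) = (c : F) • ratEmb F₀ P y := by
  rw [ratEmb, ratEmb, ← Matrix.mulVec_smul]
  rfl

theorem ratEmb_zero : ratEmb F₀ P 0 = 0 := by
  have h := ratEmb_smul F₀ P 0 0
  simpa using h

theorem ratEmb_injective : Function.Injective (ratEmb F₀ P) := by
  intro y z h
  have h1 := congrArg (((P⁻¹ : GL ι F) : Matrix ι ι F) *ᵥ ·) h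
  simp only [ratEmb, inv_mulVec_mulVec] at h1
  exact funext fun i => Subtype.ext (congrFun h1 i)

theorem ratEmb_single (j : ι) :
    ratEmb F₀ P (Pi.single j 1) = (P : Matrix ι ι F) *ᵥ Pi.single j 1 := by
  rw [ratEmb]
  congr 1
  funext i
  by_cases h : i = j
  · subst h; simp
  · simp [Pi.single_eq_of_ne h]

theorem map_mulVec_coe (M : Matrix ι ι F₀) (y : ι → F₀) :
    M.map (Subtype.val : F₀ → F) *ᵥ (fun i => (y i : F)) = fun i => (((M *ᵥ y) i : F₀) : F) := by
  funext i
  simp [Matrix.mulVec, dotProduct]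

theorem mem_subfieldSubgroup_iff (g : GL ι F) :
    g ∈ Cfsg.Geo.subfieldSubgroup F₀ P ↔
      ∃ c : F, c ≠ 0 ∧ ∀ y : ι → F₀, ∃ y', c • ((g : Matrix ι ι F) *ᵥ ratEmb F₀ P y) =
        ratEmb F₀ P y' := by
  constructor
  · rintro ⟨k, hk, rfl⟩
    haveI := Cfsg.Geo.scalars_normal (ι := ι) (F := F)
    obtain ⟨_, ⟨M, rfl⟩, s, hs, rfl⟩ := Subgroup.mem_sup_of_normal_right.1 hk
    obtain ⟨d, hd⟩ := (Cfsg.Geo.mem_scalars_iff s).1 hs
    refine ⟨(d : F)⁻¹, inv_ne_zero d.ne_zero, fun y => ⟨(M : Matrix ι ι F₀) *ᵥ y, ?_⟩⟩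
    show (d : F)⁻¹ • (((P * _ * P⁻¹ : GL ι F) : Matrix ι ι F) *ᵥ ratEmb F₀ P y) = _
    rw [Units.val_mul, Units.val_mul, Units.val_mul, hd, ← Matrix.mulVec_mulVec,
      ← Matrix.mulVec_mulVec, ratEmb, inv_mulVec_mulVec, ← Matrix.mulVec_mulVec,
      Matrix.smul_mulVec, Matrix.one_mulVec, Matrix.mulVec_smul, Matrix.mulVec_smul, smul_smul,
      inv_mul_cancel₀ d.ne_zero, one_smul, ratEmb]
    congr 1
    exact map_mulVec_coe F₀ (M : Matrix ι ι F₀) y
  · rintro ⟨c, hc, h⟩
    choose m hm using fun j => h (Pi.single j 1)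
    let A : Matrix ι ι F₀ := fun i j => m j i
    have hA : A.map (Subtype.val : F₀ → F) =
        c • (((P⁻¹ : GL ι F) : Matrix ι ι F) * (g : Matrix ι ι F) * (P : Matrix ι ι F)) := by
      refine Matrix.ext fun i j => ?_
      have h1 := congrArg (((P⁻¹ : GL ι F) : Matrix ι ι F) *ᵥ ·) (hm j)
      simp only [ratEmb_single, Matrix.mulVec_smul, Matrix.mulVec_mulVec] at h1
      rw [show ((P⁻¹ : GL ι F) : Matrix ι ι F) *ᵥ ratEmb F₀ P (m j) = fun i => (m j i : F) from
        inv_mulVec_mulVec P _, Matrix.mulVec_single_one, ← mul_assoc] at h1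
      have h2 := congrFun h1 i
      simp only [Pi.smul_apply, Matrix.col_apply] at h2
      exact h2.symm
    have hdetP : (((P⁻¹ : GL ι F) : Matrix ι ι F) * (g : Matrix ι ι F) * (P : Matrix ι ι F)).det
        ≠ 0 := by
      rw [← Units.val_mul, ← Units.val_mul]
      exact (Matrix.isUnit_iff_isUnit_det _).1 ⟨_, rfl⟩ |>.ne_zero
    have hdet : A.det ≠ 0 := by
      intro e
      have h1 : (A.map (Subtype.val : F₀ → F)).det = 0 := by
        show (A.map ⇑(F₀.subtype)).det = 0
        rw [← RingHom.mapMatrix_apply, ← RingHom.map_det, e, map_zero]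
      rw [hA, Matrix.det_smul] at h1
      exact mul_ne_zero (pow_ne_zero _ hc) hdetP h1
    obtain ⟨s, hs, hsv⟩ : ∃ s ∈ Cfsg.Geo.scalars ι F, (s : Matrix ι ι F) = c⁻¹ • 1 := by
      refine ⟨Units.map (Matrix.scalar ι : F →+* Matrix ι ι F).toMonoidHom (Units.mk0 _ (inv_ne_zero hc)),
        ⟨_, rfl⟩, ?_⟩
      simp [Matrix.smul_one_eq_diagonal]
    refine ⟨Matrix.GeneralLinearGroup.map (F₀.subtype : F₀ →+* F)
      (Matrix.GeneralLinearGroup.mkOfDetNeZero A hdet) * s,
      Subgroup.mul_mem_sup ⟨_, rfl⟩ hs, ?_⟩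
    refine Units.ext ?_
    show ((P * _ * P⁻¹ : GL ι F) : Matrix ι ι F) = _
    rw [Units.val_mul, Units.val_mul, Units.val_mul, hsv]
    show (P : Matrix ι ι F) * (A.map (Subtype.val : F₀ → F) * (c⁻¹ • 1)) * _ = _
    rw [hA, mul_smul_comm, mul_one, smul_smul, inv_mul_cancel₀ hc, one_smul, ← mul_assoc, ← mul_assoc,
      ← Units.val_mul, mul_inv_cancel, Units.val_one, one_mul, mul_assoc, ← Units.val_mul,
      mul_inv_cancel, Units.val_one, mul_one]

/-- A map sending rational points to rational points lies in the subfield subgroup. -/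
theorem mem_subfieldSubgroup_of_points (g : GL ι F)
    (h : ∀ y : ι → F₀, y ≠ 0 → ∃ c : F, c ≠ 0 ∧ ∃ y', c • ((g : Matrix ι ι F) *ᵥ ratEmb F₀ P y) =
      ratEmb F₀ P y') : g ∈ Cfsg.Geo.subfieldSubgroup F₀ P := by
  have hne : ∀ j : ι, (Pi.single j 1 : ι → F₀) ≠ 0 := fun j e => by
    simpa using congrFun e j
  choose d hd a ha using fun j => h _ (hne j)
  rcases isEmpty_or_nonempty ι with hι | hι
  · exact (mem_subfieldSubgroup_iff F₀ P g).2 ⟨1, one_ne_zero, fun y => ⟨0, funext fun i => hι.elim i⟩⟩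
  obtain ⟨j₀⟩ := hι
  let A : Matrix ι ι F₀ := fun i j => a j i
  have hA : A.map (Subtype.val : F₀ → F) =
      (((P⁻¹ : GL ι F) : Matrix ι ι F) * (g : Matrix ι ι F) * (P : Matrix ι ι F)) *
        Matrix.diagonal d := by
    refine Matrix.ext fun i j => ?_
    have h1 := congrArg (((P⁻¹ : GL ι F) : Matrix ι ι F) *ᵥ ·) (ha j)
    simp only [ratEmb_single, Matrix.mulVec_smul, Matrix.mulVec_mulVec] at h1
    rw [show ((P⁻¹ : GL ι F) : Matrix ι ι F) *ᵥ ratEmb F₀ P (a j) = fun i => (a j i : F) from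
      inv_mulVec_mulVec P _, Matrix.mulVec_single_one, ← mul_assoc] at h1
    have h2 := congrFun h1 i
    simp only [Pi.smul_apply, Matrix.col_apply, smul_eq_mul] at h2
    rw [Matrix.mul_diagonal, mul_comm]
    exact h2.symm
  have hdet : A.det ≠ 0 := by
    intro e
    have h1 : (A.map (Subtype.val : F₀ → F)).det = 0 := by
      show (A.map ⇑(F₀.subtype)).det = 0
      rw [← RingHom.mapMatrix_apply, ← RingHom.map_det, e, map_zero]
    rw [hA, Matrix.det_mul, Matrix.det_diagonal] at h1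
    refine mul_ne_zero ?_ (Finset.prod_ne_zero_iff.2 fun j _ => hd j) h1
    rw [← Units.val_mul, ← Units.val_mul]
    exact (Matrix.isUnit_iff_isUnit_det _).1 ⟨_, rfl⟩ |>.ne_zero
  -- the scalars agree up to elements of the subfield
  have hratio : ∀ j, ∃ t : F₀, d j₀ = (t : F) * d j := by
    intro j
    rcases eq_or_ne j j₀ with rfl | hj
    · exact ⟨1, by simp⟩
    have hy : (Pi.single j₀ 1 + Pi.single j 1 : ι → F₀) ≠ 0 := fun e => by
      simpa [Pi.single_eq_of_ne hj] using congrFun e j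
    obtain ⟨e, he, b, hb⟩ := h _ hy
    let w : ι → F := Pi.single j₀ (e / d j₀) + Pi.single j (e / d j)
    have hw : A.map (Subtype.val : F₀ → F) *ᵥ w = fun i => (b i : F) := by
      have h1 := congrArg (((P⁻¹ : GL ι F) : Matrix ι ι F) *ᵥ ·) hb
      simp only [ratEmb_add, ratEmb_single, Matrix.mulVec_add, Matrix.mulVec_smul,
        Matrix.mulVec_mulVec] at h1
      rw [show ((P⁻¹ : GL ι F) : Matrix ι ι F) *ᵥ ratEmb F₀ P b = fun i => (b i : F) from
        inv_mulVec_mulVec P _, Matrix.mulVec_single_one, Matrix.mulVec_single_one] at h1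
      rw [← h1, hA, ← Matrix.mulVec_mulVec]
      have h2 : Matrix.diagonal d *ᵥ w = e • (Pi.single j₀ 1 + Pi.single j 1) := by
        funext i
        rw [Matrix.mulVec_diagonal]
        by_cases hi : i = j₀
        · subst hi
          simp [w, Pi.single_eq_of_ne hj.symm, mul_div_cancel₀ _ (hd _)]
        · by_cases hi' : i = j
          · subst hi'
            simp [w, Pi.single_eq_of_ne hi, mul_div_cancel₀ _ (hd _)]
          · simp [w, Pi.single_eq_of_ne hi, Pi.single_eq_of_ne hi']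
      rw [h2, Matrix.mulVec_smul, Matrix.mulVec_add, Matrix.mulVec_single_one,
        Matrix.mulVec_single_one, mul_assoc]
    have hw' : w = fun i => ((A⁻¹ *ᵥ b) i : F) := by
      have hinj : Function.Injective ((A.map (Subtype.val : F₀ → F)).mulVec) := by
        rw [Matrix.mulVec_injective_iff_isUnit, Matrix.isUnit_iff_isUnit_det, isUnit_iff_ne_zero]
        intro e'
        apply hdet
        have h3 : F₀.subtype A.det = 0 := by rw [RingHom.map_det, RingHom.mapMatrix_apply]; exact e'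
        exact Subtype.ext h3
      refine hinj ?_
      show A.map _ *ᵥ w = A.map _ *ᵥ _
      rw [hw, map_mulVec_coe, Matrix.mulVec_mulVec,
        Matrix.mul_nonsing_inv _ (isUnit_iff_ne_zero.2 hdet), Matrix.one_mulVec]
    have h4 : e / d j₀ = ((A⁻¹ *ᵥ b) j₀ : F) := by
      rw [← congrFun hw' j₀]
      simp [w, Pi.single_eq_of_ne hj.symm]
    have h5 : e / d j = ((A⁻¹ *ᵥ b) j : F) := by
      rw [← congrFun hw' j]
      simp [w, Pi.single_eq_of_ne hj]
    refine ⟨(A⁻¹ *ᵥ b) j / (A⁻¹ *ᵥ b) j₀, ?_⟩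
    push_cast
    rw [← h4, ← h5]
    field_simp [he, hd j, hd j₀]
  choose t ht using hratio
  refine (mem_subfieldSubgroup_iff F₀ P g).2 ⟨d j₀, hd j₀, fun y => ⟨A *ᵥ (fun j => t j * y j), ?_⟩⟩
  rw [ratEmb, ratEmb, ← map_mulVec_coe, hA, ← Matrix.mulVec_mulVec, ← Matrix.mulVec_smul,
    ← Matrix.mulVec_smul]
  conv_rhs => rw [← Matrix.mulVec_mulVec, ← Matrix.mulVec_mulVec, mulVec_inv_mulVec]
  congr 2
  funext i
  rw [Matrix.mulVec_diagonal, Pi.smul_apply, smul_eq_mul, ht i]
  push_cast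
  ring

/-- A ring strictly above a subfield of prime index is everything. -/
theorem eq_univ_of_prime_degree [Fintype F] {r : ℕ} (hr : r.Prime)
    (hcard : Fintype.card F = Nat.card F₀ ^ r) {S : Set F} (hF₀ : ∀ x ∈ F₀, x ∈ S)
    (hadd : ∀ x ∈ S, ∀ y ∈ S, x + y ∈ S) (hmul : ∀ x ∈ S, ∀ y ∈ S, x * y ∈ S)
    {x : F} (hx : x ∈ S) (hx0 : x ∉ F₀) : ∀ z, z ∈ S := by
  classical
  have hpow : ∀ y ∈ S, ∀ k : ℕ, y ^ k ∈ S := by
    intro y hy k
    induction k with
    | zero => rw [pow_zero]; exact hF₀ 1 F₀.one_mem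
    | succ k ih => rw [pow_succ]; exact hmul _ ih _ hy
  let L : Subfield F :=
    { carrier := S
      mul_mem' := fun {a b} ha hb => hmul a ha b hb
      one_mem' := hF₀ 1 F₀.one_mem
      add_mem' := fun {a b} ha hb => hadd a ha b hb
      zero_mem' := hF₀ 0 F₀.zero_mem
      neg_mem' := fun {a} ha => by
        rw [← neg_one_mul]
        exact hmul _ (hF₀ _ (F₀.neg_mem F₀.one_mem)) _ ha
      inv_mem' := fun a ha => by
        show a⁻¹ ∈ S
        rcases eq_or_ne a 0 with rfl | ha0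
        · rw [inv_zero]; exact hF₀ 0 F₀.zero_mem
        · have h := FiniteField.pow_card_sub_one_eq_one a ha0
          have h2 := Fintype.one_lt_card (α := F)
          rw [show Fintype.card F - 1 = Fintype.card F - 2 + 1 by omega, pow_succ] at h
          rw [← eq_inv_of_mul_eq_one_left h]
          exact hpow a ha _ }
  have hle : F₀ ≤ L := hF₀
  letI : Algebra F₀ L := (Subfield.inclusion hle).toAlgebra
  have h1 := Module.natCard_eq_pow_finrank (K := F₀) (V := L)
  have h2 := Module.natCard_eq_pow_finrank (K := L) (V := F)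
  rw [Nat.card_eq_fintype_card, hcard, h1, ← pow_mul] at h2
  have hq : 2 ≤ Nat.card F₀ := Finite.one_lt_card
  have hab := Nat.pow_right_injective hq h2
  intro z
  rcases hr.eq_one_or_self_of_dvd (Module.finrank L F) (Dvd.intro_left _ hab.symm) with h | h
  · rw [h, mul_one] at hab
    have hLF : Nat.card L = Nat.card F := by
      rw [h1, Nat.card_eq_fintype_card (α := F), hcard, hab]
    have hinj : Function.Injective (Subtype.val : L → F) := Subtype.val_injective
    obtain ⟨⟨w, hw⟩, rfl⟩ := ((Nat.bijective_iff_injective_and_card _).2 ⟨hinj, hLF⟩).2 z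
    exact hw
  · exfalso
    have hfr : Module.finrank F₀ L = 1 := by
      have hr0 : 0 < r := hr.pos
      rw [h] at hab
      exact Nat.eq_of_mul_eq_mul_right hr0 (by rw [one_mul]; exact hab.symm)
    rw [hfr, pow_one] at h1
    have hinj : Function.Injective (Subfield.inclusion hle) := RingHom.injective _
    obtain ⟨⟨w, hw⟩, hwx⟩ := ((Nat.bijective_iff_injective_and_card _).2 ⟨hinj, h1.symm⟩).2 ⟨x, hx⟩
    have h3 : (w : F) = x := congrArg Subtype.val hwx
    exact hx0 (h3 ▸ hw)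

end Cfsg.Agent.TransvMax
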