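import Cfsg.Agent.Lib.TransvMax.UnitaryGen

/-!
Unitary Siegel maps, pairs of pseudo-reflections, non-degenerate subspaces.
-/

set_option autoImplicit false

namespace Cfsg.Agent.TransvMax

open scoped Matrix MatrixGroups
open Cfsg.Agent

variable {ι : Type} [Fintype ι] [DecidableEq ι] {F : Type*} [Field F]
  {σ : F ≃+* F} {f : (ι → F) → (ι → F) → F} (hf : Cfsg.Geo.IsUnitaryForm σ f)

include hf

theorem herm_smul_smul (c d : F) (x y : ι → F) : f (c • x) (d • y) = c * (σ d * f x y) := by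
  rw [hf.smul_left, herm_smul_right hf]

/-- A vector of prescribed norm with prescribed values. -/
theorem exists_norm_values [Finite F] {k : ℕ} {v : Fin k → ι → F} (hv : LinearIndependent F v)
    (hk : 2 * (k + 1) < Fintype.card ι) (α : Fin k → F) {γ : F} (hγ : σ γ = γ) :
    ∃ x, f x x = γ ∧ ∀ i, f x (v i) = α i := by
  obtain ⟨x₀, hx₀⟩ := exists_herm_values hf hv α
  obtain ⟨p, hp, hpp⟩ := exists_aniso_perp hf (Fin.cons x₀ v) hk
  have h1 : f p x₀ = 0 := by simpa using hp 0
  obtain ⟨s, hs⟩ := exists_norm_eq hf.ne_refl hf.involutive (a := (γ - f x₀ x₀) / f p p) (by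
    rw [map_div₀, map_sub, hγ, ← hf.herm, ← hf.herm])
  refine ⟨x₀ + s • p, ?_, fun i => ?_⟩
  · rw [hf.add_left, herm_add_right hf, herm_add_right hf, herm_smul_smul hf, herm_smul_right hf,
      hf.smul_left, h1, herm_eq_zero_comm hf h1, mul_zero, mul_zero, ← mul_assoc, hs]
    field_simp
    ring
  · have h1 : f p (v i) = 0 := by simpa using hp i.succ
    rw [hf.add_left, hf.smul_left, h1, hx₀, mul_zero, add_zero]

theorem exists_norm_ne_one [Finite F] : ∃ l : F, l * σ l = 1 ∧ l ≠ 1 := by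
  by_cases h2 : (-1 : F) = 1
  · obtain ⟨x, hx⟩ : ∃ x, σ x ≠ x := by
      by_contra hc
      push Not at hc
      exact hf.ne_refl (RingEquiv.ext hc)
    have hx0 : x ≠ 0 := fun e => hx (by rw [e, map_zero])
    refine ⟨σ x / x, ?_, fun e => hx ((div_eq_one_iff_eq hx0).1 e)⟩
    rw [map_div₀, hf.involutive]
    field_simp
    rw [div_self]
    exact (map_ne_zero σ).2 hx0
  · exact ⟨-1, by simp, h2⟩

/-- The orthogonal of a subspace. -/
noncomputable def hPerp (W : Submodule F (ι → F)) : Submodule F (ι → F) where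
  carrier := {y | ∀ w ∈ W, f y w = 0}
  add_mem' {a b} ha hb w hw := by rw [hf.add_left, ha w hw, hb w hw, add_zero]
  zero_mem' w _ := herm_zero_left hf w
  smul_mem' c a ha w hw := by rw [hf.smul_left, ha w hw, mul_zero]

theorem mem_hPerp {W : Submodule F (ι → F)} {y : ι → F} : y ∈ hPerp hf W ↔ ∀ w ∈ W, f y w = 0 :=
  Iff.rfl

theorem finrank_hPerp_ge (W : Submodule F (ι → F)) :
    Fintype.card ι ≤ Module.finrank F (hPerp hf W) + Module.finrank F W := by
  set b := Module.finBasis F W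
  have hle : LinearMap.ker (LinearMap.pi fun i => hermFun hf ((b i : W) : ι → F)) ≤ hPerp hf W := by
    intro y hy w hw
    have h0 : ∀ i, f y (b i : ι → F) = 0 := fun i => congrFun hy i
    rw [show w = ((⟨w, hw⟩ : W) : ι → F) from rfl, ← b.sum_repr ⟨w, hw⟩, Submodule.coe_sum]
    rw [show f y (∑ i, ((b.repr ⟨w, hw⟩ i • b i : W) : ι → F)) =
      ∑ i, f y ((b.repr ⟨w, hw⟩ i • b i : W) : ι → F) from
        map_sum (AddMonoidHom.mk' (f y) (herm_add_right hf y)) _ _]
    exact Finset.sum_eq_zero fun i _ => by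
      rw [Submodule.coe_smul, herm_smul_right hf, h0 i, mul_zero]
  have h1 := Submodule.finrank_mono hle
  have h2 := finrank_ker_ge hf fun i => ((b i : W) : ι → F)
  omega

theorem hPerp_nondeg {W : Submodule F (ι → F)} (hW : Cfsg.Geo.IsNondegenerateOn f W) :
    IsCompl W (hPerp hf W) := by
  have hdisj : Disjoint W (hPerp hf W) := by
    rw [Submodule.disjoint_def]
    intro w hw hwp
    by_contra h0
    obtain ⟨x, hx, hx'⟩ := (hW w hw h0).2
    exact hx' (hwp x hx)
  refine ⟨hdisj, codisjoint_iff.2 (Submodule.eq_top_of_finrank_eq ?_)⟩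
  have h1 := Submodule.finrank_sup_add_finrank_inf_eq W (hPerp hf W)
  rw [disjoint_iff.1 hdisj, finrank_bot] at h1
  have h2 := finrank_hPerp_ge hf W
  have h3 := Submodule.finrank_le (W ⊔ hPerp hf W)
  rw [Module.finrank_fintype_fun_eq_card] at h3 ⊢
  omega

theorem hPerp_isNondeg {W : Submodule F (ι → F)} (hW : Cfsg.Geo.IsNondegenerateOn f W) :
    Cfsg.Geo.IsNondegenerateOn f (hPerp hf W) := by
  intro y hy hy0
  obtain ⟨x, hx⟩ := (hf.nondegenerate y hy0).1
  obtain ⟨a, ha, b, hb, rfl⟩ :=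
    Submodule.mem_sup.1 ((hPerp_nondeg hf hW).sup_eq_top.ge (Submodule.mem_top (x := x)))
  rw [hf.add_left, herm_eq_zero_comm hf (hy a ha), zero_add] at hx
  exact ⟨⟨b, hb, hx⟩, ⟨b, hb, fun h => hx (herm_eq_zero_comm hf h)⟩⟩

/-- Prescribed values and norm inside a non-degenerate subspace. -/
theorem exists_values_in [Finite F] {W : Submodule F (ι → F)}
    (hW : Cfsg.Geo.IsNondegenerateOn f W) {k : ℕ} {v : Fin k → ι → F} (hvW : ∀ i, v i ∈ W)
    (hv : LinearIndependent F v) (hk : 2 * (k + 1) < Module.finrank F W) (α : Fin k → F) {γ : F}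
    (hγ : σ γ = γ) : ∃ x ∈ W, f x x = γ ∧ ∀ i, f x (v i) = α i := by
  set b := Module.finBasis F W
  let J : (Fin (Module.finrank F W) → F) →ₗ[F] (ι → F) :=
    W.subtype.comp b.equivFun.symm.toLinearMap
  have hJinj : Function.Injective J := W.injective_subtype.comp b.equivFun.symm.injective
  have hJW : ∀ p, J p ∈ W := fun p => (b.equivFun.symm p).2
  have hJsurj : ∀ w ∈ W, ∃ p, J p = w := fun w hw => ⟨b.equivFun ⟨w, hw⟩, by simp [J]⟩
  have hf' : Cfsg.Geo.IsUnitaryForm σ (fun p r => f (J p) (J r)) := by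
    refine ⟨hf.ne_refl, hf.involutive, fun x y v => ?_, fun c x v => ?_, fun v w => hf.herm _ _,
      fun p hp => ?_⟩
    · rw [map_add, hf.add_left]
    · rw [map_smul, hf.smul_left]
    · have hp' : J p ≠ 0 := fun e => hp (hJinj (by rw [e, map_zero]))
      obtain ⟨⟨x, hx, hx'⟩, ⟨y, hy, hy'⟩⟩ := hW _ (hJW p) hp'
      obtain ⟨x', rfl⟩ := hJsurj x hx
      obtain ⟨y', rfl⟩ := hJsurj y hy
      exact ⟨⟨x', hx'⟩, ⟨y', hy'⟩⟩
  choose v' hv' using fun i => hJsurj _ (hvW i)
  have hli : LinearIndependent F v' :=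
    LinearIndependent.of_comp J (by rwa [show J ∘ v' = v from funext hv'])
  obtain ⟨x, hx, hxv⟩ := exists_norm_values hf' hli (by rwa [Fintype.card_fin]) α hγ
  exact ⟨J x, hJW x, hx, fun i => by rw [← hv' i]; exact hxv i⟩

theorem hSiegel_dot {u z : ι → F} (hu : f u u = 0) (hz : f z u = 0) (c : F) :
    ((c + f z z) • hermRow hf u - hermRow hf z) ⬝ᵥ u = 0 := by
  rw [sub_dotProduct, smul_dotProduct, hermRow_dot, hermRow_dot, hu, herm_eq_zero_comm hf hz,
    smul_zero, sub_zero]

/-- The unitary Siegel map `x ↦ x + f(x,u) z + (c f(x,u) - f(x,z)) u`. -/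
noncomputable def hSiegel {u z : ι → F} (hu : f u u = 0) (hz : f z u = 0) (c : F) : GL ι F :=
  trv u ((c + f z z) • hermRow hf u - hermRow hf z) (hSiegel_dot hf hu hz c) *
    trv z (hermRow hf u) (by rw [hermRow_dot, hz])

theorem hSiegel_mulVec {u z : ι → F} (hu : f u u = 0) (hz : f z u = 0) (c : F) (x : ι → F) :
    (hSiegel hf hu hz c : Matrix ι ι F) *ᵥ x = x + f x u • z + (c * f x u - f x z) • u := by
  rw [hSiegel, Units.val_mul, ← Matrix.mulVec_mulVec, trv_mulVec, trv_mulVec, hermRow_dot,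
    sub_dotProduct, smul_dotProduct, hermRow_dot, hermRow_dot, hf.add_left, hf.add_left,
    hf.smul_left, hf.smul_left, hz, smul_eq_mul]
  congr 2
  ring

theorem hSiegel_isometry {u z : ι → F} (hu : f u u = 0) (hz : f z u = 0) {c : F}
    (hc : c + σ c = -f z z) (x y : ι → F) :
    f ((hSiegel hf hu hz c : Matrix ι ι F) *ᵥ x) ((hSiegel hf hu hz c : Matrix ι ι F) *ᵥ y) =
      f x y := by
  simp only [hSiegel_mulVec, hf.add_left, herm_add_right hf, hf.smul_left, herm_smul_right hf,
    map_sub, map_mul, ← hf.herm, hu, hz, herm_eq_zero_comm hf hz]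
  linear_combination (f x u * f u y) * hc

theorem hSiegel_mem_SL {u z : ι → F} (hu : f u u = 0) (hz : f z u = 0) (c : F) :
    hSiegel hf hu hz c ∈ Cfsg.Geo.specialLinear ι F :=
  Subgroup.mul_mem _ (trv_mem_specialLinear _ _ _) (trv_mem_specialLinear _ _ _)

/-- A Siegel map takes `b` to any vector of the same norm with the same value against `u`. -/
theorem exists_hSiegel_map {u b b' : ι → F} (hu : f u u = 0) (hb : f b u = 1) (hb' : f b' u = 1)
    (hN : f b' b' = f b b) :
    ∃ (hz : f (b' - b) u = 0) (c : F), c + σ c = -f (b' - b) (b' - b) ∧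
      (hSiegel hf hu hz c : Matrix ι ι F) *ᵥ b = b' := by
  refine ⟨by rw [herm_sub_left hf, hb, hb', sub_self], f b (b' - b), ?_, ?_⟩
  · simp only [herm_sub_left hf, herm_sub_right hf, map_sub, ← hf.herm]
    linear_combination hN
  · rw [hSiegel_mulVec, hb, one_smul, mul_one, sub_self, zero_smul, add_zero, add_sub_cancel]

/-- Two pseudo-reflections at orthogonal vectors with inverse multipliers. -/
theorem exists_refl_pair [Finite F] {p p' : ι → F} (hp : f p p ≠ 0) (hp' : f p' p' ≠ 0)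
    (hpp' : f p p' = 0) :
    ∃ g : GL ι F, g ∈ Cfsg.Geo.specialLinear ι F ∧
      (∀ x y, f ((g : Matrix ι ι F) *ᵥ x) ((g : Matrix ι ι F) *ᵥ y) = f x y) ∧
      ∃ μ μ' : F, μ ≠ 0 ∧ ∀ x, (g : Matrix ι ι F) *ᵥ x = x + (μ * f x p) • p + (μ' * f x p') • p' := by
  obtain ⟨l, hl, hl1⟩ := exists_norm_ne_one hf
  have hl0 : l ≠ 0 := fun e => by simp [e] at hl
  have hp'p : f p' p = 0 := herm_eq_zero_comm hf hpp'
  set μ := (l - 1) / f p p
  set μ' := (l⁻¹ - 1) / f p' p'
  let R : (ι → F) →ₗ[F] (ι → F) :=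
    LinearMap.id + (μ • hermFun hf p).smulRight p + (μ' • hermFun hf p').smulRight p'
  have hR : ∀ x, R x = x + (μ * f x p) • p + (μ' * f x p') • p' := fun x => by
    simp [R, hermFun_apply]
  have hiso : ∀ x y, f (R x) (R y) = f x y := by
    intro x y
    have e1 : μ + σ μ + μ * σ μ * f p p = 0 := by
      simp only [μ, map_div₀, map_sub, map_one, ← hf.herm]
      field_simp
      linear_combination hl
    have e2 : μ' + σ μ' + μ' * σ μ' * f p' p' = 0 := by
      simp only [μ', map_div₀, map_sub, map_one, map_inv₀, ← hf.herm]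
      have hl' : σ l ≠ 0 := (map_ne_zero σ).2 hl0
      field_simp
      linear_combination -hl
    simp only [hR, hf.add_left, herm_add_right hf, hf.smul_left, herm_smul_right hf, map_mul,
      ← hf.herm, hpp', hp'p]
    linear_combination (f x p * f p y) * e1 + (f x p' * f p' y) * e2
  have hinj : Function.Injective R := by
    rw [injective_iff_map_eq_zero]
    intro x hx
    by_contra h0
    obtain ⟨y, hy⟩ := (hf.nondegenerate x h0).2
    exact hy (by rw [← hiso, hx, herm_zero_left hf])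
  let Re := LinearEquiv.ofInjectiveEndo R hinj
  refine ⟨glOf Re, ?_, fun x y => by simp only [glOf_mulVec]; exact hiso x y, μ, μ',
    div_ne_zero (sub_ne_zero.2 hl1) hp, fun x => by rw [glOf_mulVec]; exact hR x⟩
  -- the determinant
  rw [Cfsg.Geo.specialLinear, MonoidHom.mem_ker]
  refine Units.ext ?_
  show (LinearMap.toMatrix' R).det = 1
  have hmat : LinearMap.toMatrix' R = (1 + Matrix.vecMulVec p (μ • hermRow hf p)) *
      (1 + Matrix.vecMulVec p' (μ' • hermRow hf p')) := by
    refine Matrix.ext_iff_mulVec.2 fun x => ?_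
    rw [LinearMap.toMatrix'_mulVec, hR, ← Matrix.mulVec_mulVec, Matrix.add_mulVec,
      Matrix.one_mulVec, Matrix.vecMulVec_mulVec, op_smul_eq_smul, Matrix.add_mulVec,
      Matrix.one_mulVec, Matrix.vecMulVec_mulVec, op_smul_eq_smul, smul_dotProduct, smul_dotProduct,
      hermRow_dot, hermRow_dot, hf.add_left, hf.smul_left, hp'p, mul_zero, add_zero, smul_eq_mul,
      smul_eq_mul]
    abel
  rw [hmat, Matrix.det_mul, Matrix.vecMulVec_eq Unit, Matrix.vecMulVec_eq Unit,
    Matrix.det_one_add_replicateCol_mul_replicateRow, Matrix.det_one_add_replicateCol_mul_replicateRow,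
    smul_dotProduct, smul_dotProduct, hermRow_dot, hermRow_dot, smul_eq_mul, smul_eq_mul,
    div_mul_cancel₀ _ hp, div_mul_cancel₀ _ hp', add_sub_cancel, add_sub_cancel, mul_inv_cancel₀ hl0]

end Cfsg.Agent.TransvMax
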