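import Cfsg.Agent.Lib.TransvMax.UnitaryBasic
import Cfsg.Agent.Lib.Forms.UnitaryFin

/-!
Isotropic centres and a maximality criterion inside the special unitary group.
-/

set_option autoImplicit false

namespace Cfsg.Agent.TransvMax

open scoped Matrix MatrixGroups
open Cfsg.Agent

section Centre

variable {ι : Type} [Fintype ι] [DecidableEq ι] {F : Type*} [Field F]
  {σ : F ≃+* F} {f : (ι → F) → (ι → F) → F} (hf : Cfsg.Geo.IsUnitaryForm σ f)

/-- All unitary transvections with centre `u` lie in `K`. -/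
def IsoCentre (K : Subgroup (GL ι F)) (u : ι → F) : Prop :=
  ∃ hu : f u u = 0, ∀ e : F, e + σ e = 0 → utrv hf hu e ∈ K

variable {hf}

theorem IsoCentre.iso {K : Subgroup (GL ι F)} {u : ι → F} (h : IsoCentre hf K u) : f u u = 0 :=
  h.1

theorem IsoCentre.mem {K : Subgroup (GL ι F)} {u : ι → F} (h : IsoCentre hf K u) (hu : f u u = 0)
    {e : F} (he : e + σ e = 0) : utrv hf hu e ∈ K :=
  h.2 e he

theorem IsoCentre.mono {K K' : Subgroup (GL ι F)} (hle : K ≤ K') {u : ι → F}
    (h : IsoCentre hf K u) : IsoCentre hf K' u :=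
  ⟨h.1, fun e he => hle (h.2 e he)⟩

theorem IsoCentre.smul {K : Subgroup (GL ι F)} {u : ι → F} (h : IsoCentre hf K u) (c : F) :
    IsoCentre hf K (c • u) := by
  refine ⟨by rw [hf.smul_left, herm_smul_right hf, h.1, mul_zero, mul_zero], fun e he => ?_⟩
  have he' : e * σ c * c + σ (e * σ c * c) = 0 := by
    rw [map_mul, map_mul, hf.involutive]
    linear_combination (σ c * c) * he
  convert h.2 _ he' using 1
  refine gl_ext fun x => ?_
  rw [utrv_mulVec, utrv_mulVec, herm_smul_right hf, smul_smul]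
  congr 2
  ring

theorem IsoCentre.map {K : Subgroup (GL ι F)} {u : ι → F} (h : IsoCentre hf K u) {g : GL ι F}
    (hg : g ∈ K) (hiso : ∀ x y, f ((g : Matrix ι ι F) *ᵥ x) ((g : Matrix ι ι F) *ᵥ y) = f x y) :
    IsoCentre hf K ((g : Matrix ι ι F) *ᵥ u) := by
  refine ⟨by rw [hiso, h.1], fun e he => ?_⟩
  convert K.mul_mem (K.mul_mem hg (h.2 e he)) (K.inv_mem hg) using 1
  refine gl_ext fun x => ?_
  rw [Units.val_mul, Units.val_mul, ← Matrix.mulVec_mulVec, ← Matrix.mulVec_mulVec, utrv_mulVec,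
    utrv_mulVec, Matrix.mulVec_add, Matrix.mulVec_smul, mulVec_inv_mulVec]
  congr 3
  conv_lhs => rw [← mulVec_inv_mulVec g x, hiso]

theorem IsoCentre.line {K : Subgroup (GL ι F)} {u v : ι → F} (hu : IsoCentre hf K u)
    (hv : IsoCentre hf K v) {e : F} (he : e + σ e = 0) :
    IsoCentre hf K (u + (e * f u v) • v) := by
  have h := hu.map (hv.mem hv.1 he) (utrv_isometry hf hv.1 he)
  rwa [utrv_mulVec] at h

end Centre

section Standard

variable {F : Type*} [Field F] [Fintype F] {n q : ℕ}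

theorem exists_herm_setting (hF : Fintype.card F = q ^ 2) (n : ℕ) :
    ∃ σ : F ≃+* F, (∀ x, σ x = x ^ q) ∧ Cfsg.Geo.IsUnitaryForm σ (Cfsg.hermForm n F q) := by
  obtain ⟨s, hs, hinv, hq⟩ := FormsLib.exists_qhom hF
  obtain ⟨⟨-, hne, -⟩, -⟩ := FormsLib.hermB_isUnitary hF n hs hinv hq
  refine ⟨RingEquiv.ofRingHom s s (RingHom.ext hinv) (RingHom.ext hinv), hs, ⟨fun e => hne ?_, hinv,
    fun x y v => ?_, fun c x v => ?_, fun v w => ?_, fun v hv => ?_⟩⟩
  · exact RingHom.ext fun x => RingEquiv.congr_fun e x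
  · simp [Cfsg.hermForm, add_mul, Finset.sum_add_distrib]
  · simp [Cfsg.hermForm, Finset.mul_sum, mul_assoc]
  · show Cfsg.hermForm n F q v w = s (Cfsg.hermForm n F q w v)
    rw [Cfsg.hermForm, Cfsg.hermForm, map_sum]
    refine Finset.sum_congr rfl fun i _ => ?_
    rw [map_mul, ← hs (v i), hinv, ← hs (w i)]
    exact mul_comm _ _
  · obtain ⟨i, hi⟩ : ∃ i, v i ≠ 0 := by
      by_contra hc
      push Not at hc
      exact hv (funext hc)
    refine ⟨⟨Pi.single i 1, ?_⟩, ⟨Pi.single i 1, ?_⟩⟩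
    · rw [Cfsg.hermForm, Finset.sum_eq_single i (fun j _ hj => by simp [Pi.single_eq_of_ne hj])
        (by simp), Pi.single_eq_same, one_mul]
      exact pow_ne_zero _ hi
    · rw [Cfsg.hermForm, Finset.sum_eq_single i
        (fun j _ hj => by rw [Pi.single_eq_of_ne hj, zero_pow (by omega), mul_zero])
        (by simp), Pi.single_eq_same, one_pow, mul_one]
      exact hi

omit [Fintype F] in
theorem mem_GU_iff {g : GL (Fin n) F} :
    g ∈ Cfsg.GU n F q ↔ ∀ u v, Cfsg.hermForm n F q ((g : Matrix (Fin n) (Fin n) F) *ᵥ u)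
      ((g : Matrix (Fin n) (Fin n) F) *ᵥ v) = Cfsg.hermForm n F q u v :=
  Iff.rfl

variable {σ : F ≃+* F} (hf : Cfsg.Geo.IsUnitaryForm σ (Cfsg.hermForm n F q))

omit [Fintype F] in
theorem utrv_mem_guSL {u : Fin n → F} (hu : Cfsg.hermForm n F q u u = 0) {e : F} (he : e + σ e = 0) :
    utrv hf hu e ∈ Cfsg.GU n F q ⊓ Cfsg.Geo.specialLinear (Fin n) F :=
  ⟨utrv_isometry hf hu he, trv_mem_specialLinear _ _ _⟩

/-- `SU` lies in every subgroup containing all unitary transvections. -/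
theorem guSL_le_of_isoCentre (hF : Fintype.card F = q ^ 2) (hn : 4 ≤ n)
    {K : Subgroup (GL (Fin n) F)}
    (hK : ∀ u, Cfsg.hermForm n F q u u = 0 → IsoCentre hf K u) :
    Cfsg.GU n F q ⊓ Cfsg.Geo.specialLinear (Fin n) F ≤ K := by
  rintro g ⟨hgU, hgS⟩
  have hr : g ∈ (Matrix.SpecialLinearGroup.toGL :
      Matrix.SpecialLinearGroup (Fin n) F →* GL (Fin n) F).range := by
    rw [LinGrp.range_toGL_eq_ker_det]
    exact hgS
  obtain ⟨s, rfl⟩ := hr
  let A : ↥(Cfsg.SU n F q) := ⟨s, hgU⟩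
  have hA : A ∈ Subgroup.closure {A : ↥(Cfsg.SU n F q) | ∃ (v : Fin n → F) (c : F),
      Cfsg.hermForm n F q v v = 0 ∧ ((A : Matrix.SpecialLinearGroup (Fin n) F) :
        Matrix (Fin n) (Fin n) F) = Cfsg.unitaryTransvection n q v c} := by
    rw [FormsLib.closure_unitaryTransvection hF n (by omega)]
    trivial
  have key : (Matrix.SpecialLinearGroup.toGL.comp (Cfsg.SU n F q).subtype) A ∈ K := by
    refine (Subgroup.closure_le (K := K.comap _)).2 ?_ hA
    rintro B ⟨v, c, hv, hB⟩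
    show (Matrix.SpecialLinearGroup.toGL.comp (Cfsg.SU n F q).subtype) B ∈ K
    set M := (Matrix.SpecialLinearGroup.toGL.comp (Cfsg.SU n F q).subtype) B with hM
    have hMv : (M : Matrix (Fin n) (Fin n) F) = Cfsg.unitaryTransvection n q v c := hB
    have hMx : ∀ x, (M : Matrix (Fin n) (Fin n) F) *ᵥ x =
        x + (c * Cfsg.hermForm n F q x v) • v := by
      intro x
      rw [hMv, Cfsg.unitaryTransvection, Matrix.add_mulVec, Matrix.one_mulVec, Matrix.smul_mulVec,
        Matrix.vecMulVec_mulVec, Cfsg.hermForm]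
      ext i
      simp only [Pi.add_apply, Pi.smul_apply, op_smul_eq_mul, smul_eq_mul, dotProduct,
        mul_comm (x _)]
      ring
    rcases eq_or_ne v 0 with rfl | hv0
    · convert K.one_mem
      exact gl_ext fun x => by rw [hMx, smul_zero, add_zero, Units.val_one, Matrix.one_mulVec]
    have he : c + σ c = 0 := by
      obtain ⟨x, hx⟩ := (hf.nondegenerate v hv0).1
      have hiso : Cfsg.hermForm n F q ((M : Matrix (Fin n) (Fin n) F) *ᵥ x)
          ((M : Matrix (Fin n) (Fin n) F) *ᵥ x) = Cfsg.hermForm n F q x x := B.2 x x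
      rw [hMx, hf.add_left, herm_add_right hf, herm_add_right hf, herm_smul_right hf,
        herm_smul_right hf, hf.smul_left, hf.smul_left, hv, map_mul, ← hf.herm v x, hf.herm v x]
        at hiso
      have h2 : (c + σ c) * (Cfsg.hermForm n F q x v * σ (Cfsg.hermForm n F q x v)) = 0 := by
        linear_combination hiso
      exact (mul_eq_zero.1 h2).resolve_right (mul_ne_zero hx (by simpa using hx))
    convert (hK v hv).mem hv he using 1
    exact gl_ext fun x => by rw [hMx, utrv_mulVec]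
  exact key

/-- A maximality criterion inside the special unitary group. -/
theorem maximal_in_guSL (hF : Fintype.card F = q ^ 2) (hn : 4 ≤ n) (H : Subgroup (GL (Fin n) F))
    (hH : H ≤ Cfsg.GU n F q ⊓ Cfsg.Geo.specialLinear (Fin n) F)
    (hne : ∃ g ∈ Cfsg.GU n F q ⊓ Cfsg.Geo.specialLinear (Fin n) F, g ∉ H)
    (hover : ∀ K : Subgroup (GL (Fin n) F), H ≤ K →
      K ≤ Cfsg.GU n F q ⊓ Cfsg.Geo.specialLinear (Fin n) F → (∃ g ∈ K, g ∉ H) →
      ∀ u, Cfsg.hermForm n F q u u = 0 → IsoCentre hf K u) :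
    Cfsg.Geo.IsMaximalIn (Cfsg.GU n F q ⊓ Cfsg.Geo.specialLinear (Fin n) F) H := by
  obtain ⟨g₀, hg₀, hg₀H⟩ := hne
  refine ⟨lt_of_le_of_ne hH fun e => hg₀H (e ▸ hg₀), fun K hHK hK => ?_⟩
  rcases hHK.eq_or_lt with e | hlt
  · exact Or.inl e.symm
  exact Or.inr (le_antisymm hK
    (guSL_le_of_isoCentre hf hF hn (hover K hHK hK (SetLike.exists_of_lt hlt))))

end Standard

end Cfsg.Agent.TransvMax
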