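import Cfsg.Agent.Lib.Forms.Alt

/-!
Overgroups of the stabiliser of a pair of complementary Lagrangian subspaces in odd characteristic.
-/

set_option autoImplicit false

namespace Cfsg.Agent.TransvMax

open Cfsg.Agent

variable {F V : Type*} [Field F] [AddCommGroup V] [Module F V] [FiniteDimensional F V]
  {B : LinearMap.BilinForm F V}

/-- Two complementary totally isotropic subspaces of dimension at least five, odd characteristic. -/
structure LagrSetting (B : LinearMap.BilinForm F V) (U W : Submodule F V) : Prop where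
  alt : LinearMap.IsAlt B
  nondeg : LinearMap.Nondegenerate B
  compl : IsCompl U W
  isoU : ∀ x ∈ U, ∀ y ∈ U, B x y = 0
  isoW : ∀ x ∈ W, ∀ y ∈ W, B x y = 0
  dimU : Module.finrank F U = Module.finrank F W
  five : 5 ≤ Module.finrank F U
  odd : ringChar F ≠ 2

/-- The map `x ↦ x + f(x,u) y + f(x,y) u`. -/
def pairHom (B : LinearMap.BilinForm F V) (u y : V) : V →ₗ[F] V :=
  LinearMap.id + (B.flip u).smulRight y + (B.flip y).smulRight u

omit [FiniteDimensional F V] in
theorem pairHom_apply (u y x : V) : pairHom B u y x = x + B x u • y + B x y • u := by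
  simp [pairHom]

omit [FiniteDimensional F V] in
theorem pairHom_comp_neg (hA : LinearMap.IsAlt B) {u y : V} (h : B u y = 0) (x : V) :
    pairHom B u y (pairHom B u (-y) x) = x := by
  have h' : B y u = 0 := by rw [FormsLib.alt_swap hA u y, h, neg_zero]
  simp only [pairHom_apply, map_add, map_neg, map_smul, LinearMap.add_apply, LinearMap.neg_apply,
    LinearMap.smul_apply, hA u, hA y, h, h', smul_eq_mul, mul_zero, neg_zero, add_zero]
  module

/-- The rank two unipotent element attached to an orthogonal pair. -/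
def pairTau (hA : LinearMap.IsAlt B) (u y : V) (h : B u y = 0) : V ≃ₗ[F] V :=
  LinearEquiv.ofLinearMap (pairHom B u y) (pairHom B u (-y))
    (LinearMap.ext fun x => pairHom_comp_neg hA h x)
    (LinearMap.ext fun x => by
      have h1 := pairHom_comp_neg hA (u := u) (y := -y) (by simp [h]) x
      rw [neg_neg] at h1
      exact h1)

omit [FiniteDimensional F V] in
theorem pairTau_apply (hA : LinearMap.IsAlt B) (u y : V) (h : B u y = 0) (x : V) :
    pairTau hA u y h x = x + B x u • y + B x y • u := pairHom_apply u y x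

omit [FiniteDimensional F V] in
theorem pairTau_mem (hA : LinearMap.IsAlt B) (u y : V) (h : B u y = 0) :
    pairTau hA u y h ∈ FormsLib.isoGroup B := fun x z => by
  have h' : B y u = 0 := by rw [FormsLib.alt_swap hA u y, h, neg_zero]
  simp only [pairTau_apply, map_add, map_smul, LinearMap.add_apply, LinearMap.smul_apply, hA u, hA y,
    h, h', smul_eq_mul]
  rw [FormsLib.alt_swap hA z u, FormsLib.alt_swap hA z y]
  ring

omit [FiniteDimensional F V] in
theorem pairTau_conj (hA : LinearMap.IsAlt B) {g : V ≃ₗ[F] V} (hg : g ∈ FormsLib.isoGroup B) (u y : V)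
    (h : B u y = 0) :
    g * pairTau hA u y h * g⁻¹ = pairTau hA (g u) (g y) (by rw [hg, h]) := by
  ext x
  simp only [LinearEquiv.mul_apply, pairTau_apply, map_add, map_smul]
  rw [show (g⁻¹ : V ≃ₗ[F] V) x = g.symm x from rfl, LinearEquiv.apply_symm_apply, ← hg (g.symm x) u,
    ← hg (g.symm x) y, LinearEquiv.apply_symm_apply]

namespace LagrSetting

variable {U W : Submodule F V} (S : LagrSetting B U W)
include S

omit [FiniteDimensional F V] in
theorem swap : LagrSetting B W U where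
  alt := S.alt
  nondeg := S.nondeg
  compl := S.compl.symm
  isoU := S.isoW
  isoW := S.isoU
  dimU := S.dimU.symm
  five := S.dimU ▸ S.five
  odd := S.odd

omit [FiniteDimensional F V] in
theorem exists_decomp (v : V) : ∃ a ∈ U, ∃ b ∈ W, a + b = v := by
  have : v ∈ U ⊔ W := by rw [S.compl.sup_eq_top]; trivial
  exact Submodule.mem_sup.1 this

omit [FiniteDimensional F V] in
/-- A vector is in `U` iff it is orthogonal to `U`. -/
theorem mem_of_perp {v : V} (h : ∀ p ∈ U, B p v = 0) : v ∈ U := by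
  obtain ⟨a, ha, b, hb, rfl⟩ := S.exists_decomp v
  have hb0 : b = 0 := by
    refine S.nondeg.2 b fun x => ?_
    obtain ⟨p, hp, r, hr, rfl⟩ := S.exists_decomp x
    have h1 := h p hp
    rw [map_add, S.isoU p hp a ha, zero_add] at h1
    rw [map_add, LinearMap.add_apply, h1, S.isoW r hr b hb, add_zero]
  rw [hb0, add_zero]
  exact ha

omit [FiniteDimensional F V] in
theorem exists_pairing_ne {v : V} (h : v ∉ U) : ∃ p ∈ U, B p v ≠ 0 := by
  by_contra hc
  push Not at hc
  exact h (S.mem_of_perp hc)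

/-- Few conditions leave room in `U`. -/
theorem exists_perp_mem {k : ℕ} (v : Fin k → V) (hk : k < Module.finrank F U) :
    ∃ u ∈ U, u ≠ 0 ∧ ∀ i, B u (v i) = 0 := by
  let L : U →ₗ[F] (Fin k → F) := LinearMap.pi fun i => (B.flip (v i)).comp U.subtype
  have h3 := LinearMap.finrank_range_add_finrank_ker L
  have h4 := Submodule.finrank_le (LinearMap.range L)
  rw [Module.finrank_fintype_fun_eq_card, Fintype.card_fin] at h4
  have hne : LinearMap.ker L ≠ ⊥ := fun e => by rw [e, finrank_bot] at h3; omega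
  obtain ⟨⟨u, hu⟩, huk, hu0⟩ := Submodule.exists_mem_ne_zero_of_ne_bot hne
  exact ⟨u, hu, fun e => hu0 (Subtype.ext e), fun i => congrFun huk i⟩

omit [FiniteDimensional F V] in
theorem pairTau_map {u w : V} (hu : u ∈ U) (hw : w ∈ W) (h : B u w = 0) :
    U.map (pairTau S.alt u w h : V →ₗ[F] V) = U ∧ W.map (pairTau S.alt u w h : V →ₗ[F] V) = W := by
  have key : ∀ w ∈ W, ∀ (h : B u w = 0), (∀ x ∈ U, pairTau S.alt u w h x ∈ U) ∧
      (∀ x ∈ W, pairTau S.alt u w h x ∈ W) := fun w hw h => by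
    refine ⟨fun x hx => ?_, fun x hx => ?_⟩
    · rw [pairTau_apply, S.isoU x hx u hu, zero_smul, add_zero]
      exact U.add_mem hx (U.smul_mem _ hu)
    · rw [pairTau_apply, S.isoW x hx w hw, zero_smul, add_zero]
      exact W.add_mem hx (W.smul_mem _ hw)
  have hinv : ∀ x, pairTau S.alt u w h (pairTau S.alt u (-w) (by simp [h]) x) = x := fun x =>
    pairHom_comp_neg S.alt h x
  have hneg := key (-w) (W.neg_mem hw) (by simp [h])
  constructor
  · exact le_antisymm (Submodule.map_le_iff_le_comap.2 fun x hx => (key w hw h).1 x hx)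
      fun x hx => ⟨_, hneg.1 x hx, hinv x⟩
  · exact le_antisymm (Submodule.map_le_iff_le_comap.2 fun x hx => (key w hw h).2 x hx)
      fun x hx => ⟨_, hneg.2 x hx, hinv x⟩

/-- The duality `W → (Fin m → F)` against a basis of `U` is bijective. -/
theorem exists_swap : ∃ J ∈ FormsLib.isoGroup B, U.map (J : V →ₗ[F] V) = W ∧ W.map (J : V →ₗ[F] V) = U := by
  classical
  let bU := Module.finBasis F U
  let L : W →ₗ[F] (Fin (Module.finrank F U) → F) :=
    LinearMap.pi fun i => (B (bU i : V)).comp W.subtype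
  have hL : Function.Injective L := by
    rw [← LinearMap.ker_eq_bot, LinearMap.ker_eq_bot']
    intro b hb
    have h1 : ∀ p ∈ U, B p (b : V) = 0 := by
      intro p hp
      rw [show p = ((⟨p, hp⟩ : U) : V) from rfl, ← bU.sum_repr ⟨p, hp⟩, Submodule.coe_sum, map_sum,
        LinearMap.sum_apply]
      refine Finset.sum_eq_zero fun i _ => ?_
      rw [Submodule.coe_smul, map_smul, LinearMap.smul_apply,
        show B (bU i : V) (b : V) = 0 from congrFun hb i, smul_zero]
    exact Subtype.ext (Submodule.disjoint_def.1 S.compl.disjoint _ (S.mem_of_perp h1) b.2)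
  have hdim : Module.finrank F W = Module.finrank F (Fin (Module.finrank F U) → F) := by
    rw [Module.finrank_fintype_fun_eq_card, Fintype.card_fin, S.dimU]
  let Le := LinearMap.linearEquivOfInjective L hL hdim
  have hLe : ∀ b i, Le b i = B (bU i : V) (b : V) := fun b i => rfl
  let P : U ≃ₗ[F] W := bU.equivFun.trans Le.symm
  have hP : ∀ (a : U) (b : W), B (a : V) (b : V) = ∑ i, bU.equivFun a i * Le b i := fun a b => by
    conv_lhs => rw [← bU.sum_equivFun a, Submodule.coe_sum, map_sum, LinearMap.sum_apply]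
    exact Finset.sum_congr rfl fun i _ => by
      rw [Submodule.coe_smul, map_smul, LinearMap.smul_apply, smul_eq_mul, hLe]
  let Φ := Submodule.prodEquivOfIsCompl U W S.compl
  let J : V ≃ₗ[F] V := Φ.symm.trans (((LinearEquiv.prodComm F U W).trans
    ((P.symm.trans (LinearEquiv.neg F)).prodCongr P)).trans Φ)
  have hJ : ∀ (a : U) (b : W), J ((a : V) + b) = -(P.symm b : V) + (P a : V) := by
    intro a b
    have : Φ.symm ((a : V) + b) = (a, b) := by
      rw [LinearEquiv.symm_apply_eq]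
      exact (Submodule.coe_prodEquivOfIsCompl' U W S.compl (a, b)).symm
    simp only [J, LinearEquiv.trans_apply, this, LinearEquiv.prodComm_apply, Prod.swap_prod_mk,
      LinearEquiv.prodCongr_apply, LinearEquiv.neg_apply, Φ, Submodule.coe_prodEquivOfIsCompl',
      Submodule.coe_neg]
  refine ⟨J, fun x z => ?_, ?_, ?_⟩
  · obtain ⟨a, ha, b, hb, rfl⟩ := S.exists_decomp x
    obtain ⟨a', ha', b', hb', rfl⟩ := S.exists_decomp z
    rw [hJ ⟨a, ha⟩ ⟨b, hb⟩, hJ ⟨a', ha'⟩ ⟨b', hb'⟩]
    simp only [map_add, map_neg, LinearMap.add_apply, LinearMap.neg_apply, S.isoU a ha a' ha',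
      S.isoW b hb b' hb', S.isoU _ (P.symm ⟨b, hb⟩).2 _ (P.symm ⟨b', hb'⟩).2,
      S.isoW _ (P ⟨a, ha⟩).2 _ (P ⟨a', ha'⟩).2]
    rw [FormsLib.alt_swap S.alt (P.symm ⟨b', hb'⟩ : V), FormsLib.alt_swap S.alt a' b,
      show B a b' = _ from hP ⟨a, ha⟩ ⟨b', hb'⟩, show B a' b = _ from hP ⟨a', ha'⟩ ⟨b, hb⟩, hP, hP]
    simp only [P, LinearEquiv.trans_apply, LinearEquiv.apply_symm_apply, LinearEquiv.symm_trans_apply,
      LinearEquiv.symm_symm, neg_zero, zero_add, add_zero, neg_neg]
    simp only [mul_comm]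
    ring
  · refine le_antisymm (Submodule.map_le_iff_le_comap.2 fun a ha => ?_) fun b hb => ?_
    · show J a ∈ W
      have := hJ ⟨a, ha⟩ 0
      simp only [Submodule.coe_zero, add_zero, map_zero, neg_zero, zero_add] at this
      rw [this]
      exact (P _).2
    · refine ⟨_, (P.symm ⟨b, hb⟩).2, ?_⟩
      have := hJ (P.symm ⟨b, hb⟩) 0
      simpa using this
  · refine le_antisymm (Submodule.map_le_iff_le_comap.2 fun b hb => ?_) fun a ha => ?_
    · show J b ∈ U
      have := hJ 0 ⟨b, hb⟩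
      simp only [Submodule.coe_zero, add_zero, map_zero, zero_add] at this
      rw [this]
      exact U.neg_mem (P.symm _).2
    · refine ⟨_, (-(P ⟨a, ha⟩)).2, ?_⟩
      have := hJ 0 (-(P ⟨a, ha⟩))
      simpa using this

/-- An element outside the stabiliser moves some vector of `U ∪ W` out of the union. -/
theorem exists_moved {g : V ≃ₗ[F] V}
    (hg : ¬ ((U.map (g : V →ₗ[F] V) = U ∧ W.map (g : V →ₗ[F] V) = W) ∨
      (U.map (g : V →ₗ[F] V) = W ∧ W.map (g : V →ₗ[F] V) = U))) :
    ∃ x, (x ∈ U ∨ x ∈ W) ∧ g x ∉ U ∧ g x ∉ W := by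
  by_contra hc
  push Not at hc
  have key : ∀ X : Submodule F V, (∀ x ∈ X, g x ∈ U ∨ g x ∈ W) → Module.finrank F X = Module.finrank F U →
      X.map (g : V →ₗ[F] V) = U ∨ X.map (g : V →ₗ[F] V) = W := by
    intro X hX hdim
    by_cases h1 : ∀ x ∈ X, g x ∈ U
    · exact Or.inl (Submodule.eq_of_le_of_finrank_eq (Submodule.map_le_iff_le_comap.2 h1)
        (by rw [LinearEquiv.finrank_map_eq, hdim]))
    · push Not at h1
      obtain ⟨x₀, hx₀, hx₀U⟩ := h1
      refine Or.inr (Submodule.eq_of_le_of_finrank_eq (Submodule.map_le_iff_le_comap.2 fun x hx => ?_)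
        (by rw [LinearEquiv.finrank_map_eq, hdim, S.dimU]))
      show g x ∈ W
      have hx₀W := (hX x₀ hx₀).resolve_left hx₀U
      rcases hX x hx with h | h
      · rcases hX (x₀ + x) (X.add_mem hx₀ hx) with h' | h'
        · exact absurd (by simpa using U.sub_mem h' h) hx₀U
        · simpa using W.sub_mem h' hx₀W
      · exact h
  have hU := key U (fun x hx => by
    by_contra h; push Not at h; exact h.2 (hc x (Or.inl hx) h.1)) rfl
  have hW := key W (fun x hx => by
    by_contra h; push Not at h; exact h.2 (hc x (Or.inr hx) h.1)) S.dimU.symm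
  have hne : U ≠ W := fun e => by
    have := S.compl.inf_eq_bot
    rw [← e, inf_idem] at this
    have := S.five
    rw [‹U = ⊥›, finrank_bot] at this
    omega
  have hinj : U.map (g : V →ₗ[F] V) ≠ W.map (g : V →ₗ[F] V) := fun e =>
    hne (Submodule.map_injective_of_injective g.injective e)
  rcases hU with hU | hU <;> rcases hW with hW | hW
  · exact hinj (hU.trans hW.symm)
  · exact hg (Or.inl ⟨hU, hW⟩)
  · exact hg (Or.inr ⟨hU, hW⟩)
  · exact hinj (hU.trans hW.symm)

/-- A mixed pair element yields a transvection with centre in `U`. -/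
theorem exists_tau_of_pair {K : Subgroup (V ≃ₗ[F] V)} (hK : K ≤ FormsLib.isoGroup B)
    (hpair : ∀ u ∈ U, ∀ w ∈ W, ∀ h : B u w = 0, pairTau S.alt u w h ∈ K) {u' w' : V}
    (h' : B u' w' = 0) (hm : pairTau S.alt u' w' h' ∈ K) (hu' : u' ∉ W) {w : V} (hw : w ∈ W)
    (hwu : B w u' = 0) (hww : B w w' ≠ 0) :
    ∃ u c, u ∈ U ∧ u ≠ 0 ∧ c ≠ (0 : F) ∧ FormsLib.tau S.alt u c ∈ K := by
  obtain ⟨r, hr, hru⟩ := S.swap.exists_pairing_ne hu'
  obtain ⟨u, hu, hu0, hperp⟩ := S.exists_perp_mem ![u', w', w, r] (lt_of_lt_of_le (by norm_num) S.five)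
  have huu : B u u' = 0 := hperp 0
  have huw' : B u w' = 0 := hperp 1
  have huw : B u w = 0 := hperp 2
  have hur : B u r = 0 := hperp 3
  set a := B w w' with ha
  set w₁ := (-a⁻¹) • w with hw₁
  have huw₁ : B u w₁ = 0 := by simp [hw₁, huw]
  have hsw : ∀ x y : V, B x y = 0 → B y x = 0 := fun x y h => by
    rw [FormsLib.alt_swap S.alt x y, h, neg_zero]
  set E := pairTau S.alt u w₁ huw₁ with hE
  set E' := pairTau S.alt u' w' h' with hE'
  have hEK : E ∈ K := hpair u hu w₁ (W.smul_mem _ hw) huw₁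
  have hZ : pairTau S.alt u u' huu = E * E' * (E' * E)⁻¹ := by
    rw [eq_mul_inv_iff_mul_eq]
    ext x
    simp only [LinearEquiv.mul_apply, hE, hE', pairTau_apply, map_add, map_smul, LinearMap.add_apply,
      LinearMap.smul_apply, huu, huw', huw₁, hsw u u' huu, hsw u w' huw', hsw u w₁ huw₁, hw₁, hwu,
      hsw w u' hwu, huw, hsw u w huw, S.alt u, S.alt u', h', hsw u' w' h', smul_eq_mul, ← ha,
      FormsLib.alt_swap S.alt w w']
    match_scalars <;> field_simp <;> ring
  have hZK : pairTau S.alt u u' huu ∈ K := by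
    rw [hZ]; exact K.mul_mem (K.mul_mem hEK hm) (K.inv_mem (K.mul_mem hm hEK))
  have hru' : B u' r ≠ 0 := by rw [FormsLib.alt_swap S.alt r u']; exact neg_ne_zero.mpr hru
  set h₁ := pairTau S.alt u r hur with hh₁
  have hh₁K : h₁ ∈ K := hpair u hu r hr hur
  have h1 := K.mul_mem (K.mul_mem hh₁K hZK) (K.inv_mem hh₁K)
  rw [pairTau_conj S.alt (pairTau_mem _ _ _ _)] at h1
  refine ⟨u, 2 * B u' r, hu, hu0, mul_ne_zero (Ring.two_ne_zero S.odd) hru', ?_⟩
  have h2 := K.mul_mem (K.inv_mem hZK) h1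
  convert h2 using 1
  rw [eq_inv_mul_iff_mul_eq]
  ext x
  simp only [LinearEquiv.mul_apply, hh₁, pairTau_apply, FormsLib.tau_apply, map_add, map_smul,
    LinearMap.add_apply, LinearMap.smul_apply, S.alt u, huu, hsw u u' huu, hur, smul_eq_mul]
  module

/-- A proper overgroup of the stabiliser of the pair contains all transvections. -/
theorem tauGroup_le_of_over [Finite F] {K : Subgroup (V ≃ₗ[F] V)} (hK : K ≤ FormsLib.isoGroup B)
    (hstab : ∀ h ∈ FormsLib.isoGroup B,
      ((U.map (h : V →ₗ[F] V) = U ∧ W.map (h : V →ₗ[F] V) = W) ∨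
        (U.map (h : V →ₗ[F] V) = W ∧ W.map (h : V →ₗ[F] V) = U)) → h ∈ K)
    {g : V ≃ₗ[F] V} (hgK : g ∈ K)
    (hg : ¬ ((U.map (g : V →ₗ[F] V) = U ∧ W.map (g : V →ₗ[F] V) = W) ∨
      (U.map (g : V →ₗ[F] V) = W ∧ W.map (g : V →ₗ[F] V) = U))) :
    FormsLib.tauGroup S.alt ≤ K := by
  have := Fintype.ofFinite F
  have hpair : ∀ u ∈ U, ∀ w ∈ W, ∀ h : B u w = 0, pairTau S.alt u w h ∈ K := fun u hu w hw h =>
    hstab _ (pairTau_mem _ _ _ _) (Or.inl (S.pairTau_map hu hw h))
  have hpair' : ∀ u ∈ W, ∀ w ∈ U, ∀ h : B u w = 0, pairTau S.alt u w h ∈ K := fun u hu w hw h =>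
    hstab _ (pairTau_mem _ _ _ _) (Or.inl (S.swap.pairTau_map hu hw h).symm)
  obtain ⟨J, hJ, hJU, hJW⟩ := S.exists_swap
  have hJK : J ∈ K := hstab J hJ (Or.inr ⟨hJU, hJW⟩)
  have hconj : ∀ h ∈ K, ∀ w c, FormsLib.tau S.alt w c ∈ K → FormsLib.tau S.alt (h w) c ∈ K :=
    fun h hh w c hw => by
      rw [← FormsLib.tau_conj S.alt (hK hh) w c]
      exact K.mul_mem (K.mul_mem hh hw) (K.inv_mem hh)
  -- one transvection with centre in `U`
  obtain ⟨u, c, hu, hu0, hc, huc⟩ : ∃ u c, u ∈ U ∧ u ≠ 0 ∧ c ≠ (0 : F) ∧ FormsLib.tau S.alt u c ∈ K := by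
    obtain ⟨x, hx, hxU, hxW⟩ := S.exists_moved hg
    obtain ⟨p, hp, hpx⟩ := S.exists_pairing_ne hxU
    obtain ⟨r, hr, hrx⟩ := S.swap.exists_pairing_ne hxW
    obtain ⟨X', hX', hXX'⟩ : ∃ X' : Submodule F V, Module.finrank F X' = Module.finrank F U ∧
        ∀ w₀ ∈ X', ∀ h : B x w₀ = 0, pairTau S.alt x w₀ h ∈ K := by
      rcases hx with hx | hx
      · exact ⟨W, S.dimU.symm, fun w₀ hw₀ h => hpair x hx w₀ hw₀ h⟩
      · exact ⟨U, rfl, fun w₀ hw₀ h => hpair' x hx w₀ hw₀ h⟩
    by_contra hnone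
    push Not at hnone
    -- every admissible partner is orthogonal to the two hyperplanes
    have hperp : ∀ w₀ ∈ X', B x w₀ = 0 →
        (∀ w ∈ W, B w (g x) = 0 → B w (g w₀) = 0) ∧ (∀ w ∈ U, B w (g x) = 0 → B w (g w₀) = 0) := by
      intro w₀ hw₀ h
      have hm : pairTau S.alt (g x) (g w₀) (by rw [hK hgK, h]) ∈ K := by
        rw [← pairTau_conj S.alt (hK hgK) x w₀ h]
        exact K.mul_mem (K.mul_mem hgK (hXX' w₀ hw₀ h)) (K.inv_mem hgK)
      refine ⟨fun w hw hwx => ?_, fun w hw hwx => ?_⟩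
      · by_contra hne
        obtain ⟨u, c, h1, h2, h3, h4⟩ := S.exists_tau_of_pair hK hpair _ hm hxW hw hwx hne
        exact hnone u c h1 h2 h3 h4
      · by_contra hne
        obtain ⟨u, c, h1, h2, h3, h4⟩ := S.swap.exists_tau_of_pair hK hpair' _ hm hxU hw hwx hne
        have h5 := hconj J hJK u c h4
        exact hnone (J u) c (hJW ▸ ⟨u, h1, rfl⟩) ((LinearEquiv.map_ne_zero_iff _).2 h2) h3 h5
    let L : X' →ₗ[F] (Fin 3 → F) := LinearMap.pi
      ![(B x).comp X'.subtype, ((B p).comp (g : V →ₗ[F] V)).comp X'.subtype,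
        ((B r).comp (g : V →ₗ[F] V)).comp X'.subtype]
    have h3 := LinearMap.finrank_range_add_finrank_ker L
    have h4 := Submodule.finrank_le (LinearMap.range L)
    rw [Module.finrank_fintype_fun_eq_card, Fintype.card_fin] at h4
    have hne : LinearMap.ker L ≠ ⊥ := fun e => by
      rw [e, finrank_bot] at h3; have := S.five; omega
    obtain ⟨⟨w₀, hw₀⟩, hk, hw₀0⟩ := Submodule.exists_mem_ne_zero_of_ne_bot hne
    have e0 : B x w₀ = 0 := congrFun hk 0
    have e1 : B p (g w₀) = 0 := congrFun hk 1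
    have e2 : B r (g w₀) = 0 := congrFun hk 2
    obtain ⟨hW', hU'⟩ := hperp w₀ hw₀ e0
    refine hw₀0 (Subtype.ext ((LinearEquiv.map_eq_zero_iff g).1 (S.nondeg.2 _ fun y => ?_)))
    obtain ⟨a, ha, b, hb, rfl⟩ := S.exists_decomp y
    have ea := hU' (a - (B a (g x) / B p (g x)) • p) (U.sub_mem ha (U.smul_mem _ hp))
      (by rw [map_sub, map_smul, LinearMap.sub_apply, LinearMap.smul_apply, smul_eq_mul,
        div_mul_cancel₀ _ hpx, sub_self])
    rw [map_sub, map_smul, LinearMap.sub_apply, LinearMap.smul_apply, e1, smul_zero, sub_zero] at ea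
    have eb := hW' (b - (B b (g x) / B r (g x)) • r) (W.sub_mem hb (W.smul_mem _ hr))
      (by rw [map_sub, map_smul, LinearMap.sub_apply, LinearMap.smul_apply, smul_eq_mul,
        div_mul_cancel₀ _ hrx, sub_self])
    rw [map_sub, map_smul, LinearMap.sub_apply, LinearMap.smul_apply, e2, smul_zero, sub_zero] at eb
    rw [map_add, LinearMap.add_apply, ea, eb, add_zero]
  -- transitivity on `U`
  have hmove : ∀ a ∈ U, ∀ b ∈ U, b ∉ Submodule.span F {a} → a ≠ 0 →
      FormsLib.tau S.alt a c ∈ K → FormsLib.tau S.alt b c ∈ K := by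
    intro a ha b hb hab ha0 hac
    obtain ⟨f, hfa, hfb⟩ : ∃ w ∈ W, B a w = 1 ∧ B b w = 1 := by
      let L : W →ₗ[F] (Fin 2 → F) := LinearMap.pi fun i => (B (![a, b] i)).comp W.subtype
      have hL : LinearMap.range L = ⊤ := by
        by_contra hne
        obtain ⟨ψ, hψ0, hψ⟩ := Submodule.exists_le_ker_of_lt_top _ (lt_top_iff_ne_top.2 hne)
        have hz : ψ (Pi.single 0 1) • a + ψ (Pi.single 1 1) • b = 0 := by
          refine Submodule.disjoint_def.1 S.compl.disjoint _ (U.add_mem (U.smul_mem _ ha) (U.smul_mem _ hb))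
            (S.swap.mem_of_perp fun w hw => ?_)
          have h1 : ψ (L ⟨w, hw⟩) = 0 := hψ ⟨_, rfl⟩
          rw [pi_eq_sum_univ' (L ⟨w, hw⟩), Fin.sum_univ_two, map_add, map_smul, map_smul,
            show L ⟨w, hw⟩ 0 = B a w from rfl, show L ⟨w, hw⟩ 1 = B b w from rfl] at h1
          rw [FormsLib.alt_swap S.alt _ w, map_add, LinearMap.add_apply, map_smul, map_smul,
            LinearMap.smul_apply, LinearMap.smul_apply, neg_eq_zero, smul_eq_mul, smul_eq_mul]
          rw [smul_eq_mul, smul_eq_mul] at h1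
          linear_combination h1
        have hzero : ψ (Pi.single 1 1) = 0 := by
          by_contra h1
          refine hab (Submodule.mem_span_singleton.2 ⟨-(ψ (Pi.single 0 1) / ψ (Pi.single 1 1)), ?_⟩)
          rw [← smul_right_injective V h1 |>.eq_iff, smul_smul, mul_neg, mul_div_cancel₀ _ h1,
            neg_smul, eq_neg_of_add_eq_zero_right hz]
        rw [hzero, zero_smul, add_zero, smul_eq_zero] at hz
        refine hψ0 (LinearMap.ext fun y => ?_)
        rw [pi_eq_sum_univ' y, Fin.sum_univ_two, map_add, map_smul, map_smul, hz.resolve_right ha0,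
          hzero, smul_zero, smul_zero, add_zero, LinearMap.zero_apply]
      obtain ⟨⟨w, hw⟩, hLw⟩ := LinearMap.range_eq_top.1 hL ![1, 1]
      exact ⟨w, hw, congrFun hLw 0, congrFun hLw 1⟩
    have hperp0 : B (b - a) f = 0 := by rw [map_sub, LinearMap.sub_apply, hfb.1, hfb.2, sub_self]
    have h1 := hconj _ (hpair _ (U.sub_mem hb ha) f hfa hperp0) a c hac
    rwa [pairTau_apply, S.isoU a ha _ (U.sub_mem hb ha), zero_smul, add_zero, hfb.1, one_smul,
      add_sub_cancel] at h1
  have hUc : ∀ b ∈ U, b ≠ 0 → FormsLib.tau S.alt b c ∈ K := by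
    intro b hb hb0
    by_cases hbu : b ∈ Submodule.span F {u}
    · obtain ⟨z, hzU, hzu⟩ : ∃ z ∈ U, z ∉ Submodule.span F {u} := by
        by_contra hc'
        push Not at hc'
        have := Submodule.finrank_mono (show U ≤ Submodule.span F {u} from hc')
        rw [finrank_span_singleton hu0] at this
        have := S.five
        omega
      have hz0 : z ≠ 0 := fun e => hzu (e ▸ Submodule.zero_mem _)
      refine hmove z hzU b hb (fun hbz => ?_) hz0 (hmove u hu z hzU hzu hu0 huc)
      obtain ⟨s, rfl⟩ := Submodule.mem_span_singleton.1 hbu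
      obtain ⟨t, ht⟩ := Submodule.mem_span_singleton.1 hbz
      have ht0 : t ≠ 0 := fun e => hb0 (by rw [← ht, e, zero_smul])
      refine hzu (Submodule.mem_span_singleton.2 ⟨s / t, ?_⟩)
      rw [div_eq_inv_mul, mul_smul, ← ht, smul_smul, inv_mul_cancel₀ ht0, one_smul]
    · exact hmove u hu b hb hbu hu0 huc
  let C : Set V := {v | ∀ e, FormsLib.tau S.alt v e ∈ K}
  have hUC : ∀ b ∈ U, b ∈ C := by
    intro b hb e
    rcases eq_or_ne b 0 with rfl | hb0
    · have : FormsLib.tau S.alt (0 : V) e = 1 := by ext v; simp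
      rw [this]; exact K.one_mem
    have hsq : ∀ s : F, FormsLib.tau S.alt b (s * s * c) ∈ K := by
      intro s
      rcases eq_or_ne s 0 with rfl | hs
      · simp [FormsLib.tau_zero]
      · rw [← FormsLib.tau_smul]
        exact hUc _ (U.smul_mem _ hb) (smul_ne_zero hs hb0)
    obtain ⟨s, t, hst⟩ := FiniteField.exists_root_sum_quadratic
      (f := (Polynomial.X : Polynomial F) ^ 2) (g := Polynomial.X ^ 2 + Polynomial.C (-(e / c)))
      (Polynomial.degree_X_pow 2) (Polynomial.degree_X_pow_add_C (by norm_num) _)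
      (Nat.odd_iff.1 (Nat.odd_iff.mpr (FiniteField.odd_card_of_char_ne_two S.odd)))
    simp only [Polynomial.eval_add, Polynomial.eval_C, Polynomial.eval_pow, Polynomial.eval_X] at hst
    have he : e = s * s * c + t * t * c := by
      rw [← sub_eq_zero]
      have h1 : e / c * c = e := div_mul_cancel₀ e hc
      linear_combination (-c) * hst - h1
    rw [he, ← FormsLib.tau_mul]
    exact K.mul_mem (hsq s) (hsq t)
  have hWC : ∀ b ∈ W, b ∈ C := by
    intro b hb e
    rw [← hJU] at hb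
    obtain ⟨a, ha, rfl⟩ := hb
    exact hconj J hJK a e (hUC a ha e)
  have hline : ∀ v ∈ C, ∀ v' ∈ C, B v v' ≠ 0 → ∀ s : F, v + s • v' ∈ C := by
    intro v hv v' hv' hne s e
    have := hconj _ (hv' (s / B v v')) v e (hv e)
    rwa [FormsLib.tau_apply, div_mul_cancel₀ _ hne] at this
  refine (Subgroup.closure_le _).2 ?_
  rintro _ ⟨v, e, rfl⟩
  obtain ⟨a, ha, b, hb, rfl⟩ := S.exists_decomp v
  suffices a + b ∈ C from this e
  rcases eq_or_ne a 0 with rfl | ha0
  · rw [zero_add]; exact hWC b hb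
  by_cases hab : B a b = 0
  · obtain ⟨r, hr, hra⟩ := S.swap.exists_pairing_ne (v := a) fun h =>
      ha0 (Submodule.disjoint_def.1 S.compl.disjoint a ha h)
    have har : B a r ≠ 0 := by rw [FormsLib.alt_swap S.alt r a]; exact neg_ne_zero.mpr hra
    have h1 := hline a (hUC a ha) r (hWC r hr) har 1
    rw [one_smul] at h1
    have h2 := hline _ h1 _ (hWC (b - r) (W.sub_mem hb hr)) (by
      rw [map_add, LinearMap.add_apply, S.isoW r hr _ (W.sub_mem hb hr), map_sub, hab, add_zero,
        zero_sub]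
      exact neg_ne_zero.mpr har) 1
    rwa [one_smul, add_assoc, add_sub_cancel] at h2
  · have h1 := hline a (hUC a ha) b (hWC b hb) hab 1
    rwa [one_smul] at h1

/-- The stabiliser of the pair is proper. -/
theorem exists_not_stab : ∃ g ∈ FormsLib.isoGroup B,
    ¬ ((U.map (g : V →ₗ[F] V) = U ∧ W.map (g : V →ₗ[F] V) = W) ∨
      (U.map (g : V →ₗ[F] V) = W ∧ W.map (g : V →ₗ[F] V) = U)) := by
  obtain ⟨a, ha, ha0, -⟩ := S.exists_perp_mem (![] : Fin 0 → V) (lt_of_lt_of_le (by norm_num) S.five)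
  obtain ⟨r, hr, hra⟩ := S.swap.exists_pairing_ne (v := a) fun h =>
    ha0 (Submodule.disjoint_def.1 S.compl.disjoint a ha h)
  refine ⟨_, FormsLib.tau_mem S.alt a 1, fun h => ?_⟩
  have hr' : FormsLib.tau S.alt a 1 r = r + B r a • a := by rw [FormsLib.tau_apply, one_mul]
  have hne : B r a • a ≠ 0 := smul_ne_zero hra ha0
  rcases h with ⟨-, hW⟩ | ⟨-, hW⟩
  · have h1 : r + B r a • a ∈ W := by
      rw [← hr']
      exact hW.le ⟨r, hr, rfl⟩
    exact hne (Submodule.disjoint_def.1 S.compl.disjoint _ (U.smul_mem _ ha)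
      (by simpa using W.sub_mem h1 hr))
  · have h1 : r + B r a • a ∈ U := by
      rw [← hr']
      exact hW.le ⟨r, hr, rfl⟩
    have hr0 : r = 0 := Submodule.disjoint_def.1 S.compl.disjoint r
      (by simpa using U.sub_mem h1 (U.smul_mem (B r a) ha)) hr
    exact hra (by simp [hr0])

end LagrSetting

end Cfsg.Agent.TransvMax
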