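import Cfsg.Agent.Lib.TransvMax.TensorSmall

/-!
Forms on pure tensors, and the frames preserved by the similitudes of small orthogonal and unitary
forms over the fields with three and four elements.
-/

set_option autoImplicit false

namespace Cfsg.Agent.TensorSmall

open scoped Matrix MatrixGroups Kronecker
open Cfsg.Agent

variable {ι : Type} [Fintype ι] [DecidableEq ι] {F : Type*} [Field F] {n₁ n₂ : ℕ}

/-- Linear on the left and semilinear on the right. -/
structure Sesq {κ : Type} (σ : F → F) (f : (κ → F) → (κ → F) → F) : Prop where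
  add_left : ∀ x y v, f (x + y) v = f x v + f y v
  smul_left : ∀ (c : F) x v, f (c • x) v = c * f x v
  add_right : ∀ x y v, f x (y + v) = f x y + f x v
  smul_right : ∀ (c : F) x v, f x (c • v) = σ c * f x v

theorem sesq_of_bilinear {κ : Type} {f : (κ → F) → (κ → F) → F}
    (h : Cfsg.Geo.IsBilinearForm f) : Sesq id f :=
  ⟨h.add_left, h.smul_left, h.add_right, h.smul_right⟩

namespace Sesq

variable {κ : Type} {σ : F → F} {f : (κ → F) → (κ → F) → F}

/-- `x ↦ f x v`. -/
def leftL (h : Sesq σ f) (v : κ → F) : (κ → F) →ₗ[F] F where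
  toFun x := f x v
  map_add' x y := h.add_left x y v
  map_smul' c x := h.smul_left c x v

theorem zero_left (h : Sesq σ f) (v : κ → F) : f 0 v = 0 := (h.leftL v).map_zero

theorem zero_right (h : Sesq σ f) (v : κ → F) : f v 0 = 0 := by
  have := h.add_right v 0 0
  rw [add_zero] at this
  linear_combination -this

theorem sum_left (h : Sesq σ f) {α : Type*} (s : Finset α) (g : α → κ → F) (v : κ → F) :
    f (∑ i ∈ s, g i) v = ∑ i ∈ s, f (g i) v := map_sum (h.leftL v) g s

theorem sum_right (h : Sesq σ f) {α : Type*} (s : Finset α) (g : α → κ → F) (v : κ → F) :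
    f v (∑ i ∈ s, g i) = ∑ i ∈ s, f v (g i) := by
  classical
  induction s using Finset.induction with
  | empty => simp [h.zero_right]
  | insert a s has ih => rw [Finset.sum_insert has, Finset.sum_insert has, h.add_right, ih]

theorem formOfGram_gram [Fintype κ] [DecidableEq κ] (h : Sesq σ f) (x y : κ → F) :
    Cfsg.Geo.formOfGram σ (Cfsg.Geo.gramMatrix f) x y = f x y := by
  conv_rhs => rw [pi_eq_sum_univ' x, h.sum_left]
  refine Finset.sum_congr rfl fun a _ => ?_
  rw [h.smul_left]
  conv_rhs => rw [pi_eq_sum_univ' y, h.sum_right, Finset.mul_sum]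
  refine Finset.sum_congr rfl fun b _ => ?_
  rw [h.smul_right, Cfsg.Geo.gramMatrix]
  ring

end Sesq

variable {σ : F → F} {f : (ι → F) → (ι → F) → F} {f₁ : (Fin n₁ → F) → (Fin n₁ → F) → F}
  {f₂ : (Fin n₂ → F) → (Fin n₂ → F) → F} (e : ι ≃ Fin n₁ × Fin n₂) (P : GL ι F)

theorem form_tp (hσ : ∀ a b, σ (a * b) = σ a * σ b) (h₁ : Sesq σ f₁) (h₂ : Sesq σ f₂)
    (hT : Cfsg.Geo.IsTensorFormStructure σ f f₁ f₂ e P) :
    ∃ c : F, c ≠ 0 ∧ ∀ x y x' y', f (tp e P x y) (tp e P x' y') = c * (f₁ x x' * f₂ y y') := by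
  obtain ⟨c, hc, h⟩ := hT
  refine ⟨c, hc, fun x y x' y' => ?_⟩
  rw [tp, tp, h, ← h₁.formOfGram_gram, ← h₂.formOfGram_gram]
  congr 1
  simp only [Cfsg.Geo.formOfGram, Fintype.sum_prod_type, Matrix.kroneckerMap_apply, hσ,
    Finset.sum_mul_sum]
  refine Finset.sum_congr rfl fun a _ => ?_
  refine Finset.sum_congr rfl fun b _ => ?_
  refine Finset.sum_congr rfl fun a' _ => Finset.sum_congr rfl fun b' _ => ?_
  ring

/-- The first factor of an isometric pure-tensor map is a similitude. -/
theorem factor_similitude {c : F} (hc : c ≠ 0)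
    (hf : ∀ x y x' y', f (tp e P x y) (tp e P x' y') = c * (f₁ x x' * f₂ y y'))
    {g : GL ι F} (hg : ∀ u v, f ((g : Matrix ι ι F) *ᵥ u) ((g : Matrix ι ι F) *ᵥ v) = f u v)
    {a : Matrix (Fin n₁) (Fin n₁) F} {b : Matrix (Fin n₂) (Fin n₂) F}
    (hab : ∀ x y, (g : Matrix ι ι F) *ᵥ tp e P x y = tp e P (a *ᵥ x) (b *ᵥ y))
    (h₁ : ∃ x x', f₁ x x' ≠ 0) (h₂ : ∃ y y', f₂ y y' ≠ 0) :
    ∃ ε : F, ε ≠ 0 ∧ ∀ x x', f₁ (a *ᵥ x) (a *ᵥ x') = ε * f₁ x x' := by
  obtain ⟨y, y', hy⟩ := h₂
  have key : ∀ x x', f₁ (a *ᵥ x) (a *ᵥ x') * f₂ (b *ᵥ y) (b *ᵥ y') = f₁ x x' * f₂ y y' := by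
    intro x x'
    have h := hg (tp e P x y) (tp e P x' y')
    rw [hab, hab, hf, hf] at h
    exact mul_left_cancel₀ hc h
  obtain ⟨x, x', hx⟩ := h₁
  have hb : f₂ (b *ᵥ y) (b *ᵥ y') ≠ 0 := fun h0 => by
    have := key x x'
    rw [h0, mul_zero] at this
    exact mul_ne_zero hx hy this.symm
  refine ⟨f₂ y y' / f₂ (b *ᵥ y) (b *ᵥ y'), div_ne_zero hy hb, fun z z' => ?_⟩
  rw [div_mul_eq_mul_div, eq_div_iff hb, key z z', mul_comm]

/-- Three-element fields. -/
theorem eq_one_or_neg_one [Fintype F] (hq : Fintype.card F = 3) (x : F) :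
    x = 0 ∨ x = 1 ∨ x = -1 := by
  have h := FiniteField.pow_card x
  rw [hq] at h
  have : x * ((x - 1) * (x + 1)) = 0 := by linear_combination h
  rcases mul_eq_zero.1 this with h0 | h0
  · exact Or.inl h0
  rcases mul_eq_zero.1 h0 with h1 | h1
  · exact Or.inr (Or.inl (sub_eq_zero.1 h1))
  · exact Or.inr (Or.inr (eq_neg_of_add_eq_zero_left h1))

theorem three_eq_zero [Fintype F] (hq : Fintype.card F = 3) : (3 : F) = 0 := by
  have := Nat.cast_card_eq_zero F
  rwa [hq] at this

theorem two_ne_zero_of [Fintype F] (hq : Fintype.card F = 3) : (2 : F) ≠ 0 := fun h =>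
  one_ne_zero (α := F) (by linear_combination (three_eq_zero hq) - h)

/-- An orthogonal basis of anisotropic vectors. -/
theorem exists_ortho {n : ℕ} (h2 : (2 : F) ≠ 0) {f : (Fin n → F) → (Fin n → F) → F}
    (hf : Cfsg.Geo.IsSymmetricForm f) :
    ∃ v : Fin n → Fin n → F, LinearIndependent F v ∧ (∀ i j, i ≠ j → f (v i) (v j) = 0) ∧
      ∀ i, f (v i) (v i) ≠ 0 := by
  haveI : Invertible (2 : F) := invertibleOfNonzero h2
  let B : LinearMap.BilinForm F (Fin n → F) := LinearMap.mk₂ F f hf.bilinear.add_left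
    hf.bilinear.smul_left hf.bilinear.add_right hf.bilinear.smul_right
  have hB : ∀ x y, B x y = f x y := fun _ _ => rfl
  have hsymm : LinearMap.IsSymm B := ⟨fun x y => by simpa [hB] using hf.symm x y⟩
  obtain ⟨v, hv⟩ := LinearMap.BilinForm.exists_orthogonal_basis hsymm
  have hn : Module.finrank F (Fin n → F) = n := by simp
  let w := v.reindex (finCongr hn)
  have ho : ∀ i j, i ≠ j → f (w i) (w j) = 0 := fun i j hij => by
    rw [Module.Basis.reindex_apply, Module.Basis.reindex_apply]
    exact hv (fun h => hij ((finCongr hn).symm.injective h))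
  refine ⟨w, w.linearIndependent, ho, fun i h0 => ?_⟩
  obtain ⟨-, x, hx⟩ := hf.nondegenerate (w i) (w.ne_zero i)
  refine hx ?_
  have : (B (w i) : (Fin n → F) →ₗ[F] F) = 0 := w.ext fun j => by
    rcases eq_or_ne i j with rfl | hij
    · simpa [hB] using h0
    · simpa [hB] using ho i j hij
  simpa [hB] using LinearMap.congr_fun this x

/-- Two orthogonal vectors of the same norm and a third one orthogonal to both. -/
theorem exists_equal_pair [Fintype F] (hq : Fintype.card F = 3) {n : ℕ} (hn : 3 ≤ n)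
    {f : (Fin n → F) → (Fin n → F) → F} (hf : Cfsg.Geo.IsSymmetricForm f) :
    ∃ u u' z, f u u ≠ 0 ∧ f u' u' = f u u ∧ f u u' = 0 ∧ z ≠ 0 ∧ f z u = 0 ∧ f z u' = 0 := by
  obtain ⟨v, hv, ho, hn0⟩ := exists_ortho (two_ne_zero_of hq) hf
  obtain ⟨i, j, k, hij, hik, hjk⟩ : ∃ i j k : Fin n, i ≠ j ∧ i ≠ k ∧ j ≠ k :=
    ⟨⟨0, by omega⟩, ⟨1, by omega⟩, ⟨2, by omega⟩, by simp, by simp, by simp⟩
  have mk : ∀ a b c : Fin n, a ≠ b → c ≠ a → c ≠ b → f (v a) (v a) = f (v b) (v b) →
      ∃ u u' z, f u u ≠ 0 ∧ f u' u' = f u u ∧ f u u' = 0 ∧ z ≠ 0 ∧ f z u = 0 ∧ f z u' = 0 :=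
    fun a b c hab hca hcb h => ⟨v a, v b, v c, hn0 a, h.symm, ho a b hab, hv.ne_zero c,
      ho c a hca, ho c b hcb⟩
  have hv' : ∀ a, f (v a) (v a) = 1 ∨ f (v a) (v a) = -1 := fun a =>
    (eq_one_or_neg_one hq _).resolve_left (hn0 a)
  rcases hv' i with a | a <;> rcases hv' j with b | b <;> rcases hv' k with c | c
  all_goals first
    | exact mk i j k hij hik.symm hjk.symm (a.trans b.symm)
    | exact mk i k j hik hij.symm hjk (a.trans c.symm)
    | exact mk j k i hjk hij hik (b.trans c.symm)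

/-- An orthogonal frame of equal norms in dimension three, and the similitudes preserve it. -/
theorem exists_o3_frame [Fintype F] (hq : Fintype.card F = 3)
    {f : (Fin 3 → F) → (Fin 3 → F) → F} (hf : Cfsg.Geo.IsSymmetricForm f) :
    ∃ (d : Fin 3 → Fin 3 → F) (ν : F), ν ≠ 0 ∧ LinearIndependent F d ∧
      (∀ i j, f (d i) (d j) = if i = j then ν else 0) ∧
      ∀ (a : Matrix (Fin 3) (Fin 3) F) (ε : F), ε ≠ 0 →
        (∀ x x', f (a *ᵥ x) (a *ᵥ x') = ε * f x x') →
        ∀ i, ∃ (j : Fin 3) (c : F), a *ᵥ d i = c • d j := by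
  have h3 := three_eq_zero hq
  have h2 := two_ne_zero_of hq
  have hb := hf.bilinear
  have hs := sesq_of_bilinear hb
  obtain ⟨v, hv, ho, hn0⟩ := exists_ortho h2 hf
  -- frames with equal norms
  obtain ⟨d, ν, hν, hd⟩ : ∃ (d : Fin 3 → Fin 3 → F) (ν : F), ν ≠ 0 ∧
      ∀ i j, f (d i) (d j) = if i = j then ν else 0 := by
    have mk : ∀ (x y z : Fin 3 → F) (μ : F), μ ≠ 0 → f x x = μ → f y y = μ → f z z = μ →
        f x y = 0 → f x z = 0 → f y z = 0 → ∃ (d : Fin 3 → Fin 3 → F) (ν : F), ν ≠ 0 ∧
          ∀ i j, f (d i) (d j) = if i = j then ν else 0 := by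
      intro x y z μ hμ hx hy hz hxy hxz hyz
      refine ⟨![x, y, z], μ, hμ, fun i j => ?_⟩
      fin_cases i <;> fin_cases j <;>
        simp [hx, hy, hz, hxy, hxz, hyz, hf.symm y x, hf.symm z x, hf.symm z y]
    have mk' : ∀ (i j k : Fin 3), i ≠ j → i ≠ k → j ≠ k → f (v i) (v i) = f (v j) (v j) →
        f (v k) (v k) = -f (v i) (v i) → ∃ (d : Fin 3 → Fin 3 → F) (ν : F), ν ≠ 0 ∧
          ∀ i j, f (d i) (d j) = if i = j then ν else 0 := by
      intro i j k hij hik hjk h1 h4
      refine mk (v i + v j) (v i + (-1 : F) • v j) (v k) (-f (v i) (v i)) (neg_ne_zero.2 (hn0 i))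
        ?_ ?_ h4 ?_ ?_ ?_ <;>
        simp only [hb.add_left, hb.add_right, hb.smul_left, hb.smul_right, ho i j hij,
          ho j i hij.symm, ho i k hik, ho j k hjk, ← h1]
      · linear_combination (f (v i) (v i)) * h3
      · linear_combination (f (v i) (v i)) * h3
      all_goals ring
    have hv' : ∀ a, f (v a) (v a) = 1 ∨ f (v a) (v a) = -1 := fun a =>
      (eq_one_or_neg_one hq _).resolve_left (hn0 a)
    rcases hv' 0 with a | a <;> rcases hv' 1 with b | b <;> rcases hv' 2 with c | c
    all_goals first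
      | exact mk (v 0) (v 1) (v 2) _ (hn0 0) rfl (b.trans a.symm) (c.trans a.symm)
          (ho 0 1 (by decide)) (ho 0 2 (by decide)) (ho 1 2 (by decide))
      | exact mk' 0 1 2 (by decide) (by decide) (by decide) (a.trans b.symm) (by rw [a, c]; try simp)
      | exact mk' 0 2 1 (by decide) (by decide) (by decide) (a.trans c.symm) (by rw [a, b]; try simp)
      | exact mk' 1 2 0 (by decide) (by decide) (by decide) (b.trans c.symm) (by rw [b, a]; try simp)
  have hli : LinearIndependent F d := by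
    rw [Fintype.linearIndependent_iff]
    intro g hg i
    have h := congrArg (hs.leftL (d i)) hg
    rw [map_sum, map_zero] at h
    simp only [map_smul, smul_eq_mul] at h
    rw [Finset.sum_eq_single i] at h
    · exact (mul_eq_zero.1 h).resolve_right (by
        show f (d i) (d i) ≠ 0
        rw [hd, if_pos rfl]; exact hν)
    · intro j _ hj
      show g j * f (d j) (d i) = 0
      rw [hd, if_neg hj, mul_zero]
    · simp
  refine ⟨d, ν, hν, hli, hd, fun a ε hε ha i => ?_⟩
  let B : Module.Basis (Fin 3) F (Fin 3 → F) :=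
    basisOfLinearIndependentOfCardEqFinrank hli (by simp)
  have hB : ∀ j, B j = d j := fun j => by simp [B]
  let M : Matrix (Fin 3) (Fin 3) F := fun s t => B.repr (a *ᵥ d s) t
  have hM : ∀ s, a *ᵥ d s = ∑ t, M s t • d t := fun s => by
    conv_lhs => rw [← B.sum_repr (a *ᵥ d s)]
    simp only [hB, M]
  have hMM : M * M.transpose = ε • (1 : Matrix (Fin 3) (Fin 3) F) := by
    ext s t
    have h := ha (d s) (d t)
    rw [hM, hM, hs.sum_left, hd] at h
    simp only [hb.smul_left, hs.sum_right, hb.smul_right, hd, mul_ite, mul_zero,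
      Finset.sum_ite_eq, Finset.mem_univ, if_true] at h
    rw [Matrix.mul_apply, Matrix.smul_apply, Matrix.one_apply, smul_eq_mul]
    refine mul_right_cancel₀ hν ?_
    simp only [Matrix.transpose_apply, Finset.sum_mul]
    rw [show (∑ x, M s x * M t x * ν) = ∑ x, M s x * (M t x * ν) from
      Finset.sum_congr rfl fun x _ => mul_assoc _ _ _, h]
    split <;> ring
  have hε1 : ε = 1 := by
    have h := congrArg Matrix.det hMM
    rw [Matrix.det_mul, Matrix.det_transpose, Matrix.det_smul, Matrix.det_one,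
      Fintype.card_fin, mul_one] at h
    rcases eq_one_or_neg_one hq M.det with e0 | e0 | e0 <;> rw [e0] at h <;>
      rcases eq_one_or_neg_one hq ε with e1 | e1 | e1 <;> rw [e1] at h
    all_goals first
      | exact e1
      | exact absurd e1 hε
      | (exfalso; exact h2 (by linear_combination h))
      | (exfalso; exact one_ne_zero (α := F) (by linear_combination h))
      | (exfalso; exact one_ne_zero (α := F) (by linear_combination -h))
  have hrow : M i 0 * M i 0 + M i 1 * M i 1 + M i 2 * M i 2 = 1 := by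
    have := congrFun (congrFun hMM i) i
    simpa [Matrix.mul_apply, Fin.sum_univ_three, hε1] using this
  have hsq : ∀ x : F, x = 0 ∨ x * x = 1 := fun x => by
    rcases eq_one_or_neg_one hq x with h | h | h <;> simp [h]
  have hcol : ∃ j, ∀ t, t ≠ j → M i t = 0 := by
    rcases hsq (M i 0) with a | a <;> rcases hsq (M i 1) with b | b <;>
      rcases hsq (M i 2) with c | c
    all_goals first
      | (refine ⟨0, fun t ht => ?_⟩; fin_cases t <;> first | exact absurd rfl ht | exact b | exact c)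
      | (refine ⟨1, fun t ht => ?_⟩; fin_cases t <;> first | exact absurd rfl ht | exact a | exact c)
      | (refine ⟨2, fun t ht => ?_⟩; fin_cases t <;> first | exact absurd rfl ht | exact a | exact b)
      | (exfalso; refine one_ne_zero (α := F) ?_;
         simp only [a, b, c, mul_zero, zero_mul, add_zero, zero_add] at hrow
         first
           | linear_combination hrow
           | linear_combination -hrow
           | linear_combination -hrow + h3
           | linear_combination hrow - h3)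
  obtain ⟨j, hj⟩ := hcol
  refine ⟨j, M i j, ?_⟩
  rw [hM, Finset.sum_eq_single j (fun t _ ht => by rw [hj t ht, zero_smul]) (by simp)]

/-- The two anisotropic points of a unitary line over the field with four elements. -/
theorem exists_u2_frame [Fintype F] (hq : Fintype.card F = 4)
    {f : (Fin 2 → F) → (Fin 2 → F) → F} (hf : Cfsg.Geo.IsUnitaryFormPow 2 f)
    (hs : Sesq (fun x : F => x ^ 2) f) :
    ∃ d : Fin 2 → Fin 2 → F, LinearIndependent F d ∧
      (∀ i j, f (d i) (d j) = if i = j then 1 else 0) ∧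
      ∀ (a : Matrix (Fin 2) (Fin 2) F) (ε : F), ε ≠ 0 →
        (∀ x x', f (a *ᵥ x) (a *ᵥ x') = ε * f x x') →
        ∀ i, ∃ (j : Fin 2) (c : F), a *ᵥ d i = c • d j := by
  have hp : ∀ x : F, x ^ 4 = x := fun x => hq ▸ FiniteField.pow_card x
  have h20 : (2 : F) = 0 := by
    have := Nat.cast_card_eq_zero F
    rw [hq] at this
    exact mul_self_eq_zero.1 (by linear_combination this)
  have hcube : ∀ x : F, x ≠ 0 → x * x ^ 2 = 1 := fun x hx =>
    mul_right_cancel₀ hx (by rw [one_mul]; linear_combination hp x)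
  have hnorm : ∀ x, f x x ≠ 0 → f x x = 1 := fun x hx =>
    mul_right_cancel₀ hx (by rw [one_mul]; linear_combination -(hf.herm x x))
  obtain ⟨x, hx⟩ : ∃ x, f x x ≠ 0 := by
    by_contra hc
    push Not at hc
    obtain ⟨ω, hω0, hω1⟩ : ∃ ω : F, ω ≠ 0 ∧ ω ≠ 1 := by
      by_contra h
      push Not at h
      have hle : Fintype.card F ≤ 2 := by
        classical
        calc Fintype.card F = (Finset.univ : Finset F).card := rfl
          _ ≤ ({0, 1} : Finset F).card := Finset.card_le_card fun z _ => by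
            rcases eq_or_ne z 0 with rfl | hz
            · simp
            · simp [h z hz]
          _ ≤ 2 := Finset.card_le_two
      omega
    obtain ⟨-, y, hy⟩ := hf.nondegenerate ![1, 0] (fun e => one_ne_zero (α := F) (congrFun e 0))
    set x : Fin 2 → F := ![1, 0]
    have key : ∀ c : F, c * f x y + c ^ 2 * f y x = 0 := fun c => by
      have := hc (c • x + y)
      rw [hs.add_left, hs.add_right, hs.add_right, hs.smul_left, hs.smul_left, hs.smul_right,
        hs.smul_right, hc x, hc y] at this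
      linear_combination this
    refine hy ((mul_eq_zero.1 (show (ω * (ω - 1)) * f x y = 0 from ?_)).resolve_left
      (mul_ne_zero hω0 (sub_ne_zero.2 hω1)))
    linear_combination (-1 : F) * key ω + ω ^ 2 * key 1
  obtain ⟨w, hw0, hwx⟩ : ∃ w, w ≠ 0 ∧ f w x = 0 := by
    by_contra hc
    push Not at hc
    have hinj : Function.Injective (hs.leftL x) := by
      rw [← LinearMap.ker_eq_bot, LinearMap.ker_eq_bot']
      exact fun w hw => by_contra fun h0 => hc w h0 hw
    have := LinearMap.finrank_le_finrank_of_injective hinj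
    simp at this
  have hli : LinearIndependent F ![x, w] := by
    refine LinearIndependent.pair_iff.2 fun s t h => ?_
    have h1 := congrArg (hs.leftL x) h
    simp only [map_add, map_smul, smul_eq_mul, map_zero] at h1
    change s * f x x + t * f w x = 0 at h1
    rw [hwx, mul_zero, add_zero] at h1
    have hs0 := (mul_eq_zero.1 h1).resolve_right hx
    rw [hs0, zero_smul, zero_add] at h
    exact ⟨hs0, (smul_eq_zero.1 h).resolve_right hw0⟩
  let B : Module.Basis (Fin 2) F (Fin 2 → F) :=
    basisOfLinearIndependentOfCardEqFinrank hli (by simp)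
  have hxw : f x w = 0 := by rw [hf.herm, hwx, zero_pow two_ne_zero]
  have hww : f w w ≠ 0 := by
    intro h0
    obtain ⟨⟨z, hz⟩, -⟩ := hf.nondegenerate w hw0
    refine hz ?_
    rw [← B.sum_repr z, hs.sum_left]
    refine Finset.sum_eq_zero fun i _ => ?_
    rw [hs.smul_left]
    fin_cases i <;> simp [B, hxw, h0]
  have hd : ∀ i j, f (![x, w] i) (![x, w] j) = if i = j then (1 : F) else 0 := by
    intro i j
    fin_cases i <;> fin_cases j <;> simp [hnorm x hx, hnorm w hww, hxw, hwx]
  refine ⟨![x, w], hli, hd, fun a ε hε ha i => ?_⟩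
  have h1 : f (a *ᵥ ![x, w] i) (a *ᵥ ![x, w] i) ≠ 0 := by
    rw [ha, hd, if_pos rfl, mul_one]; exact hε
  set z := a *ᵥ ![x, w] i
  have hz : z = B.repr z 0 • x + B.repr z 1 • w := by
    conv_lhs => rw [← B.sum_repr z]
    simp [Fin.sum_univ_two, B]
  set p := B.repr z 0
  set r := B.repr z 1
  have hval := hnorm z h1
  rw [hz, hs.add_left, hs.add_right, hs.add_right, hs.smul_left, hs.smul_left, hs.smul_left,
    hs.smul_left, hs.smul_right, hs.smul_right, hs.smul_right, hs.smul_right, hnorm x hx,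
    hnorm w hww, hxw, hwx] at hval
  rcases eq_or_ne p 0 with hp0 | hp0
  · exact ⟨1, r, by rw [hz, hp0, zero_smul, zero_add]; simp⟩
  · rcases eq_or_ne r 0 with hr0 | hr0
    · exact ⟨0, p, by rw [hz, hr0, zero_smul, add_zero]; simp⟩
    · exfalso
      exact one_ne_zero (α := F)
        (by linear_combination hval - hcube p hp0 - hcube r hr0)

end Cfsg.Agent.TensorSmall
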