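import Cfsg.Agent.Lib.TransvMax.MonomialQuot

/-! A proper overgroup of the block monomial group of determinant one contains the transvections
between blocks. -/

set_option autoImplicit false
set_option linter.unusedSectionVars false
set_option linter.style.haveILetI false

namespace Cfsg.Agent.MonomialMax

variable {F : Type*} [Field F] {ι : Type*} [Fintype ι] [DecidableEq ι]
  {W : Type*} [AddCommGroup W] [Module F W] [FiniteDimensional F W]

/-- Each block goes into a block. -/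
def BMono (g : (ι → W) ≃ₗ[F] (ι → W)) : Prop :=
  ∀ i, ∃ j, ∀ (w : W) (k : ι), k ≠ j → g (Pi.single i w) k = 0

theorem BMono.mul {g h : (ι → W) ≃ₗ[F] (ι → W)} (hg : BMono g) (hh : BMono h) : BMono (g * h) := by
  intro i
  obtain ⟨j, hj⟩ := hh i
  obtain ⟨l, hl⟩ := hg j
  refine ⟨l, fun w k hk => ?_⟩
  show g (h (Pi.single i w)) k = 0
  rw [show h (Pi.single i w) = Pi.single j (h (Pi.single i w) j) from funext fun a => by
    by_cases ha : a = j
    · subst ha; simp
    · rw [hj w a ha, Pi.single_eq_of_ne ha]]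
  exact hl _ k hk

/-- The block monomial map. -/
def bmon (σ : Equiv.Perm ι) (g : ι → (W ≃ₗ[F] W)) : (ι → W) ≃ₗ[F] (ι → W) where
  toFun v i := g (σ.symm i) (v (σ.symm i))
  invFun v i := (g i).symm (v (σ i))
  map_add' v w := by funext i; simp
  map_smul' a v := by funext i; simp
  left_inv v := by funext i; simp
  right_inv v := by funext i; simp

theorem bmon_apply (σ : Equiv.Perm ι) (g : ι → (W ≃ₗ[F] W)) (v : ι → W) (i : ι) :
    bmon σ g v i = g (σ.symm i) (v (σ.symm i)) := rfl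

theorem bmon_single (σ : Equiv.Perm ι) (g : ι → (W ≃ₗ[F] W)) (i : ι) (w : W) :
    bmon σ g (Pi.single i w) = Pi.single (σ i) (g i w) := by
  funext k
  rw [bmon_apply]
  by_cases h : σ.symm k = i
  · subst h; simp
  · rw [Pi.single_eq_of_ne h, map_zero,
      Pi.single_eq_of_ne (fun e => h (by rw [e, Equiv.symm_apply_apply]))]

theorem bmon_mono (σ : Equiv.Perm ι) (g : ι → (W ≃ₗ[F] W)) : BMono (bmon σ g) := fun i =>
  ⟨σ i, fun w k hk => by rw [bmon_single, Pi.single_eq_of_ne hk]⟩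

/-- The functional acting on one block. -/
def bfun (i : ι) (φ : W →ₗ[F] F) : (ι → W) →ₗ[F] F := φ.comp (LinearMap.proj i)

theorem rk1_bmono (i : ι) (a : W) (φ : W →ₗ[F] F) (h : 1 + bfun i φ (Pi.single i a) ≠ 0) :
    BMono (rk1 (Pi.single i a) (bfun i φ) h) := fun l =>
  ⟨l, fun w k hk => by
    rw [rk1_apply, Pi.add_apply, Pi.single_eq_of_ne hk, zero_add, Pi.smul_apply]
    by_cases hl : l = i
    · subst hl; rw [Pi.single_eq_of_ne hk, smul_zero]
    · simp [bfun, Pi.single_eq_of_ne (Ne.symm hl)]⟩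

theorem exists_dual {v : W} (hv : v ≠ 0) : ∃ φ : W →ₗ[F] F, φ v = 1 := by
  obtain ⟨φ, hφ⟩ := Module.Projective.exists_dual_ne_zero F hv
  exact ⟨(φ v)⁻¹ • φ, inv_mul_cancel₀ hφ⟩

theorem exists_outside (h2 : 2 ≤ Module.finrank F W) (v : W) : ∃ a, a ∉ Submodule.span F {v} := by
  by_contra h
  push Not at h
  have h1 : Module.finrank F (Submodule.span F {v}) ≤ 1 :=
    (finrank_span_le_card ({v} : Set W)).trans (by simp)
  have htop : Submodule.span F ({v} : Set W) = ⊤ := eq_top_iff.mpr fun a _ => h a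
  rw [htop, finrank_top] at h1
  omega

theorem exists_sep {a w : W} (h : w ∉ Submodule.span F {a}) :
    ∃ φ : W →ₗ[F] F, φ a = 0 ∧ φ w = 1 := by
  obtain ⟨φ, hφw, hφ⟩ := Submodule.exists_le_ker_of_notMem h
  exact ⟨(φ w)⁻¹ • φ, by simp [LinearMap.mem_ker.mp (hφ (Submodule.mem_span_singleton_self a))],
    inv_mul_cancel₀ hφw⟩

theorem exists_move {a e : W} (ha : a ≠ 0) (he : e ≠ 0) : ∃ g : W ≃ₗ[F] W, g a = e := by
  obtain ⟨g, hg⟩ := Submodule.exists_linearEquiv_restrict_eq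
    ((LinearEquiv.toSpanNonzeroSingleton F W a ha).symm.trans (LinearEquiv.toSpanNonzeroSingleton F W e he))
  refine ⟨g, ?_⟩
  have h1 := hg (LinearEquiv.toSpanNonzeroSingleton F W a ha 1)
  simp only [LinearEquiv.trans_apply, LinearEquiv.symm_apply_apply] at h1
  simpa using h1.symm

theorem exists_move_dual {φ ψ : W →ₗ[F] F} (hφ : φ ≠ 0) (hψ : ψ ≠ 0) :
    ∃ g : W ≃ₗ[F] W, φ.comp (g : W →ₗ[F] W) = ψ := by
  obtain ⟨D, hD⟩ := exists_move (F := F) (W := Module.Dual F W) hφ hψ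
  refine ⟨(Module.evalEquiv F W).trans (D.dualMap.trans (Module.evalEquiv F W).symm), ?_⟩
  refine LinearMap.ext fun x => ?_
  rw [← hD]
  show φ ((Module.evalEquiv F W).symm (D.dualMap (Module.evalEquiv F W x))) = _
  rw [Module.apply_evalEquiv_symm_apply]
  rfl

variable {K : Subgroup ((ι → W) ≃ₗ[F] (ι → W))}

theorem tv_block (hH : ∀ g, BMono g → LinearEquiv.det g = 1 → g ∈ K) (i : ι) {a : W}
    {φ : W →ₗ[F] F} (h : φ a = 0) : Tv K (Pi.single i a) (bfun i φ) := by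
  have h' : bfun i φ (Pi.single i a) = 0 := by simp [bfun, h]
  have hne : 1 + bfun i φ (Pi.single i a) ≠ 0 := by rw [h', add_zero]; exact one_ne_zero
  exact ⟨h', rk1 (Pi.single i a) (bfun i φ) hne, hH _ (rk1_bmono i a φ hne)
    (Units.ext (by rw [LinearEquiv.coe_det, rk1_det, h', add_zero, Units.val_one])), fun x => rfl⟩

/-- A transvection whose centre and functional live in two different blocks. -/
def Pure (K : Subgroup ((ι → W) ≃ₗ[F] (ι → W))) : Prop :=
  ∃ i j : ι, i ≠ j ∧ ∃ (a : W) (φ : W →ₗ[F] F), a ≠ 0 ∧ φ ≠ 0 ∧ Tv K (Pi.single i a) (bfun j φ)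

variable (h2 : 2 ≤ Module.finrank F W) (hH : ∀ g, BMono g → LinearEquiv.det g = 1 → g ∈ K)

include hH in
/-- Lowering to a centre in one block. -/
theorem centre_step {w : ι → W} {ψ : (ι → W) →ₗ[F] F} (h : Tv K w ψ) {i : ι} {a : W}
    (hψa : ψ (Pi.single i a) = 0) (hwi : w i ∉ Submodule.span F {a}) :
    ∃ s : F, s ≠ 0 ∧ Tv K (Pi.single i a) (s • ψ) := by
  obtain ⟨φ, hφa, hφw⟩ := exists_sep hwi
  obtain ⟨h1, T, hT, hTx⟩ := tv_block hH i hφa
  have h2 := h.conj hT
  have hax : ψ.comp (T.symm : (ι → W) →ₗ[F] (ι → W)) = ψ := LinearMap.ext fun x => by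
    obtain ⟨z, rfl⟩ := T.surjective x
    simp only [LinearMap.comp_apply, LinearEquiv.coe_coe, LinearEquiv.symm_apply_apply]
    rw [hTx, map_add, map_smul, hψa, smul_zero, add_zero]
  rw [hax] at h2
  have h3 := h.sub_centre h2
  rw [hTx, add_sub_cancel_left, show bfun i φ w = 1 from hφw, one_smul] at h3
  exact ⟨1, one_ne_zero, by rwa [one_smul]⟩

include h2 hH in
theorem axis_step {w : ι → W} {ψ : (ι → W) →ₗ[F] F} (h : Tv K w ψ) {i : ι} (hwi : w i = 0)
    {b : W} (hψb : ψ (Pi.single i b) ≠ 0) :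
    ∃ φ : W →ₗ[F] F, φ ≠ 0 ∧ Tv K w (bfun i φ) := by
  have hb : b ≠ 0 := fun e => hψb (by rw [e, Pi.single_zero, map_zero])
  obtain ⟨c, hc⟩ := exists_outside (F := F) h2 b
  obtain ⟨φ, hφb, hφc⟩ := exists_sep hc
  obtain ⟨h1, T, hT, hTx⟩ := tv_block hH i hφb
  have h2 := h.conj hT
  rw [show T w = w by rw [hTx, show bfun i φ w = 0 by simp [bfun, hwi], zero_smul, add_zero]] at h2
  refine ⟨(-(ψ (Pi.single i b))) • φ, fun e => ?_, ?_⟩
  · have := LinearMap.congr_fun e c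
    simp [hφc, hψb] at this
  · convert h.sub h2 using 1
    refine LinearMap.ext fun x => ?_
    obtain ⟨z, rfl⟩ := T.surjective x
    have hz : φ (T z i) = φ (z i) := by
      rw [hTx, Pi.add_apply, map_add, Pi.smul_apply, map_smul, Pi.single_eq_same, hφb, smul_zero, add_zero]
    simp only [LinearMap.sub_apply, LinearMap.comp_apply, LinearEquiv.coe_coe,
      LinearEquiv.symm_apply_apply, bfun, LinearMap.smul_apply, LinearMap.proj_apply, smul_eq_mul, hz]
    rw [hTx, map_add, map_smul, smul_eq_mul, show bfun i φ z = φ (z i) from rfl]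
    ring

theorem exists_block_ne_zero {ψ : (ι → W) →ₗ[F] F} (h : ψ ≠ 0) :
    ∃ i b, ψ (Pi.single i b) ≠ 0 := by
  by_contra hcon
  push Not at hcon
  exact h (LinearMap.pi_ext fun i b => by rw [hcon, LinearMap.zero_apply])

include h2 hH in
theorem pure_of_centre {w : ι → W} {ψ : (ι → W) →ₗ[F] F} (h : Tv K w ψ) (hψ : ψ ≠ 0) {i : ι}
    (hwi : w i ≠ 0) (hψi : ∀ b, ψ (Pi.single i b) = 0) : Pure K := by
  obtain ⟨a, ha⟩ := exists_outside (F := F) h2 (w i)
  have ha0 : a ≠ 0 := fun e => ha (e ▸ Submodule.zero_mem _)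
  have hwa : w i ∉ Submodule.span F {a} := fun hm => by
    obtain ⟨s, hs⟩ := Submodule.mem_span_singleton.mp hm
    have hs0 : s ≠ 0 := fun e => hwi (by rw [← hs, e, zero_smul])
    exact ha (Submodule.mem_span_singleton.mpr ⟨s⁻¹, by rw [← hs, smul_smul, inv_mul_cancel₀ hs0, one_smul]⟩)
  obtain ⟨s, hs, h3⟩ := centre_step hH h (hψi a) hwa
  obtain ⟨j, b, hb⟩ := exists_block_ne_zero hψ
  have hij : i ≠ j := fun e => hb (e ▸ hψi b)
  obtain ⟨φ, hφ, h4⟩ := axis_step h2 hH h3 (i := j) (by simp [hij.symm]) (b := b)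
    (mul_ne_zero hs hb)
  exact ⟨i, j, hij, a, φ, ha0, hφ, h4⟩

include h2 hH in
theorem pure_of_axis {w : ι → W} {ψ : (ι → W) →ₗ[F] F} (h : Tv K w ψ) (hw : w ≠ 0) {i : ι}
    (hwi : w i = 0) {b : W} (hψb : ψ (Pi.single i b) ≠ 0) : Pure K := by
  obtain ⟨φ, hφ, h3⟩ := axis_step h2 hH h hwi hψb
  obtain ⟨j, hj⟩ : ∃ j, w j ≠ 0 := by
    by_contra hcon
    push Not at hcon
    exact hw (funext hcon)
  have hji : j ≠ i := fun e => hj (e ▸ hwi)
  obtain ⟨a, ha⟩ := exists_outside (F := F) h2 (w j)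
  have hne : bfun i φ ≠ 0 := fun e => hφ (LinearMap.ext fun x => by
    have := LinearMap.congr_fun e (Pi.single i x)
    simpa [bfun] using this)
  exact pure_of_centre h2 hH h3 hne hj fun c => by simp [bfun, hji.symm]

variable [Fintype F]

include h2 hH in
theorem pure_of_spread (h3 : 3 ≤ Fintype.card F ∨ 3 ≤ Module.finrank F W) {w : ι → W}
    {ψ : (ι → W) →ₗ[F] F} (h : Tv K w ψ) (hψ : ψ ≠ 0) {i j : ι} (hij : i ≠ j) (hwi : w i ≠ 0)
    (hwj : w j ≠ 0) (hblocks : 3 ≤ Fintype.card ι ∨ 3 ≤ Module.finrank F W) : Pure K := by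
  classical
  by_cases hA : ∃ l, w l ≠ 0 ∧ ∀ b, ψ (Pi.single l b) = 0
  · obtain ⟨l, hl, hl'⟩ := hA
    exact pure_of_centre h2 hH h hψ hl hl'
  by_cases hB : ∃ l b, w l = 0 ∧ ψ (Pi.single l b) ≠ 0
  · obtain ⟨l, b, hl, hb⟩ := hB
    exact pure_of_axis h2 hH h (fun e => hwi (congrFun e i)) hl hb
  push Not at hA hB
  -- a vector of the kernel in a block which is off the line of the centre
  by_cases hgood : ∃ l a, w l ≠ 0 ∧ ψ (Pi.single l a) = 0 ∧ a ∉ Submodule.span F {w l}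
  · obtain ⟨l, a, hl, hψa, ha⟩ := hgood
    have ha0 : a ≠ 0 := fun e => ha (e ▸ Submodule.zero_mem _)
    have hwa : w l ∉ Submodule.span F {a} := fun hm => by
      obtain ⟨s, hs⟩ := Submodule.mem_span_singleton.mp hm
      have hs0 : s ≠ 0 := fun e => hl (by rw [← hs, e, zero_smul])
      exact ha (Submodule.mem_span_singleton.mpr ⟨s⁻¹, by rw [← hs, smul_smul, inv_mul_cancel₀ hs0, one_smul]⟩)
    obtain ⟨s, hs, h4⟩ := centre_step hH h hψa hwa
    obtain ⟨k, hk, hkl⟩ : ∃ k, w k ≠ 0 ∧ k ≠ l := by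
      by_cases e : i = l
      · exact ⟨j, hwj, fun e' => hij (e.trans e'.symm)⟩
      · exact ⟨i, hwi, e⟩
    obtain ⟨b, hb⟩ := hA k hk
    exact pure_of_axis h2 hH h4 (fun e => ha0 (by simpa using congrFun e l)) (i := k) (by simp [hkl])
      (b := b) (mul_ne_zero hs hb)
  push Not at hgood
  -- the degenerate case: two-dimensional blocks, each pairing zero
  have hdeg : ∀ l, w l ≠ 0 → Module.finrank F W = 2 ∧ ψ (Pi.single l (w l)) = 0 := by
    intro l hl
    obtain ⟨f, hf⟩ : ∃ f : W →ₗ[F] F, f = ψ.comp (LinearMap.single F (fun _ => W) l) := ⟨_, rfl⟩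
    have hle : LinearMap.ker f ≤ Submodule.span F {w l} := fun a ha =>
      hgood l a hl (by rw [LinearMap.mem_ker, hf] at ha; exact ha)
    have h1 := Submodule.finrank_mono hle
    rw [finrank_span_singleton hl] at h1
    have h4 := f.finrank_range_add_finrank_ker
    have h5 : Module.finrank F (LinearMap.range f) ≤ 1 :=
      (Submodule.finrank_le _).trans (Module.finrank_self F).le
    refine ⟨by omega, ?_⟩
    have heq : LinearMap.ker f = Submodule.span F {w l} :=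
      Submodule.eq_of_le_of_finrank_le hle (by rw [finrank_span_singleton hl]; omega)
    have := heq.symm ▸ Submodule.mem_span_singleton_self (w l)
    rw [LinearMap.mem_ker, hf] at this
    exact this
  have hm2 : Module.finrank F W = 2 := (hdeg i hwi).1
  have hq : 3 ≤ Fintype.card F := h3.resolve_right (by omega)
  have ht : 3 ≤ Fintype.card ι := hblocks.resolve_right (by omega)
  -- three blocks: a torus on two of them
  have key : ∀ {w : ι → W} {ψ : (ι → W) →ₗ[F] F}, Tv K w ψ → ψ ≠ 0 → ∀ {i j k : ι}, i ≠ j → i ≠ k → j ≠ k →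
      w i ≠ 0 → w j ≠ 0 → w k ≠ 0 → (∀ l, w l ≠ 0 → ψ (Pi.single l (w l)) = 0) →
      (∀ b, ψ (Pi.single k b) = 0) ∨ Pure K := by
    intro w ψ h hψ i j k hij hik hjk hi hj hk hz
    rw [or_iff_not_imp_left]
    intro hkψ
    push Not at hkψ
    obtain ⟨b, hb⟩ := hkψ
    obtain ⟨c, hc0, hc1⟩ : ∃ c : F, c ≠ 0 ∧ c ≠ 1 := by
      obtain ⟨c, -, hc⟩ := Finset.exists_mem_notMem_of_card_lt_card (s := ({0, 1} : Finset F))
        (t := Finset.univ) (by rw [Finset.card_univ]; have := Finset.card_le_two (a := (0 : F)) (b := 1); omega)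
      simp only [Finset.mem_insert, Finset.mem_singleton, not_or] at hc
      exact ⟨c, hc⟩
    obtain ⟨κi, hκi⟩ := exists_dual (F := F) hi
    obtain ⟨κj, hκj⟩ := exists_dual (F := F) hj
    have e1 : bfun i ((c - 1) • κi) (Pi.single i (w i)) = c - 1 := by simp [bfun, hκi]
    have e2 : bfun j ((c⁻¹ - 1) • κj) (Pi.single j (w j)) = c⁻¹ - 1 := by simp [bfun, hκj]
    have n1 : 1 + bfun i ((c - 1) • κi) (Pi.single i (w i)) ≠ 0 := by rw [e1, add_sub_cancel]; exact hc0
    have n2 : 1 + bfun j ((c⁻¹ - 1) • κj) (Pi.single j (w j)) ≠ 0 := by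
      rw [e2, add_sub_cancel]; exact inv_ne_zero hc0
    obtain ⟨g, hg⟩ : ∃ g, g = rk1 _ _ n1 * rk1 _ _ n2 := ⟨_, rfl⟩
    have hgK : g ∈ K := hg ▸ hH _ ((rk1_bmono i _ _ n1).mul (rk1_bmono j _ _ n2)) (by
      rw [map_mul]
      refine Units.ext ?_
      rw [Units.val_mul, LinearEquiv.coe_det, LinearEquiv.coe_det, rk1_det, rk1_det, e1, e2,
        add_sub_cancel, add_sub_cancel, mul_inv_cancel₀ hc0, Units.val_one])
    have hgx : ∀ x : ι → W, g x = x + ((c⁻¹ - 1) * κj (x j)) • (Pi.single j (w j) : ι → W) +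
        ((c - 1) * κi (x i)) • (Pi.single i (w i) : ι → W) := fun x => by
      rw [hg, LinearEquiv.mul_apply, rk1_apply, rk1_apply]
      simp [bfun, hij]
    have h4 := h.conj hgK
    have hax : ψ.comp (g.symm : (ι → W) →ₗ[F] (ι → W)) = ψ := LinearMap.ext fun x => by
      obtain ⟨z, rfl⟩ := g.surjective x
      simp only [LinearMap.comp_apply, LinearEquiv.coe_coe, LinearEquiv.symm_apply_apply]
      rw [hgx, map_add, map_add, map_smul, map_smul, hz j hj, hz i hi, smul_zero, smul_zero, add_zero, add_zero]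
    rw [hax] at h4
    refine pure_of_axis h2 hH (h.sub_centre h4) (fun e => ?_) (i := k) ?_ hb
    · have := congrFun e i
      simp [hgx, hκi, hij, hij.symm, sub_eq_zero, hc1, hi] at this
    · simp [hgx, hik.symm, hjk.symm]
  by_cases hthree : ∃ k, k ≠ i ∧ k ≠ j ∧ w k ≠ 0
  · obtain ⟨k, hki, hkj, hk⟩ := hthree
    obtain ⟨b, hb⟩ := hA k hk
    exact (key h hψ hij hki.symm hkj.symm hwi hwj hk fun l hl => (hdeg l hl).2).resolve_left
      fun h0 => hb (h0 b)
  push Not at hthree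
  obtain ⟨k, hki, hkj⟩ : ∃ k, k ≠ i ∧ k ≠ j := by
    obtain ⟨k, -, hk⟩ := Finset.exists_mem_notMem_of_card_lt_card (s := ({i, j} : Finset ι))
      (t := Finset.univ) (by rw [Finset.card_univ]; have := Finset.card_le_two (a := i) (b := j); omega)
    simp only [Finset.mem_insert, Finset.mem_singleton, not_or] at hk
    exact ⟨k, hk⟩
  have hk0 := hthree k hki hkj
  -- move the centre off itself in one block
  obtain ⟨f, hfψ⟩ : ∃ f, ψ (Pi.single i f) = 1 := by
    obtain ⟨b, hb⟩ := hA i hwi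
    exact ⟨(ψ (Pi.single i b))⁻¹ • b, by
      rw [show (Pi.single i ((ψ (Pi.single i b))⁻¹ • b) : ι → W) = (ψ (Pi.single i b))⁻¹ • Pi.single i b from
        (LinearMap.single F (fun _ : ι => W) i).map_smul _ _, map_smul, smul_eq_mul, inv_mul_cancel₀ hb]⟩
  have hzi : ψ (Pi.single i (w i)) = 0 := (hdeg i hwi).2
  have hind : w i ∉ Submodule.span F {f} := fun hm => by
    obtain ⟨s, hs⟩ := Submodule.mem_span_singleton.mp hm
    have : s = 0 := by
      have e := hzi
      rw [← hs, show (Pi.single i (s • f) : ι → W) = s • Pi.single i f from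
        (LinearMap.single F (fun _ : ι => W) i).map_smul _ _,
        map_smul, hfψ, smul_eq_mul, mul_one] at e
      exact e
    exact hwi (by rw [← hs, this, zero_smul])
  obtain ⟨κ, hκf, hκw⟩ := exists_sep hind
  obtain ⟨ξ, hξ⟩ : ∃ ξ : W →ₗ[F] F, ξ = ψ.comp (LinearMap.single F (fun _ => W) i) := ⟨_, rfl⟩
  have hξa : ∀ x, ξ x = ψ (Pi.single i x) := fun x => by rw [hξ]; rfl
  have hne : 1 + (ξ - κ) (w i - f) ≠ 0 := by
    simp [map_sub, hκw, hκf, hξa, hzi, hfψ]
  -- the reflection exchanging `w i` and `f`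
  obtain ⟨s₀, hs₀⟩ : ∃ s₀, s₀ = rk1 (w i - f) (ξ - κ) hne := ⟨_, rfl⟩
  have hsw : s₀ (w i) = f := by rw [hs₀]; simp [hκw, hξa, hzi]
  have hsf : s₀ f = w i := by rw [hs₀]; simp [hκf, hξa, hfψ]
  obtain ⟨G, hG⟩ : ∃ G : ι → (W ≃ₗ[F] W), G = Function.update (fun _ => 1) i s₀ := ⟨_, rfl⟩
  obtain ⟨M₀, hM₀⟩ : ∃ M₀, M₀ = bmon (Equiv.swap j k) G := ⟨_, rfl⟩
  -- restore the determinant on the new empty block
  obtain ⟨δ, hδ⟩ : ∃ δ : Fˣ, δ = (LinearEquiv.det M₀)⁻¹ := ⟨_, rfl⟩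
  obtain ⟨e, he⟩ : ∃ e : W, e ≠ 0 := ⟨w i, hwi⟩
  obtain ⟨κe, hκe⟩ := exists_dual (F := F) he
  have e3 : bfun k (((δ : F) - 1) • κe) (Pi.single k e) = (δ : F) - 1 := by simp [bfun, hκe]
  have n3 : 1 + bfun k (((δ : F) - 1) • κe) (Pi.single k e) ≠ 0 := by
    rw [e3, add_sub_cancel]; exact δ.ne_zero
  obtain ⟨M, hM⟩ : ∃ M, M = M₀ * rk1 _ _ n3 := ⟨_, rfl⟩
  have hMK : M ∈ K := hM ▸ hH _ (BMono.mul (hM₀ ▸ bmon_mono _ _) (rk1_bmono k _ _ n3)) (by
    rw [map_mul, show LinearEquiv.det (rk1 _ _ n3) = δ from Units.ext (by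
      rw [LinearEquiv.coe_det, rk1_det, e3, add_sub_cancel]), hδ, mul_inv_cancel])
  have hMx : ∀ x : ι → W, x k = 0 → M x = M₀ x := fun x hx => by
    rw [hM, LinearEquiv.mul_apply, rk1_apply]
    simp [bfun, hx]
  have h4 := h.conj hMK
  obtain ⟨w', hw'⟩ : ∃ w', w' = M w := ⟨_, rfl⟩
  obtain ⟨ψ', hψ'⟩ : ∃ ψ', ψ' = ψ.comp (M.symm : (ι → W) →ₗ[F] (ι → W)) := ⟨_, rfl⟩
  rw [← hw', ← hψ'] at h4
  have hval : ∀ l, w' l = G ((Equiv.swap j k) l) (w ((Equiv.swap j k) l)) := fun l => by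
    rw [hw', hMx w hk0, hM₀, bmon_apply, Equiv.symm_swap]
  have hswi : Equiv.swap j k i = i := Equiv.swap_apply_of_ne_of_ne hij hki.symm
  have hvi : w' i = f := by rw [hval, hswi, hG, Function.update_self, hsw]
  have hvk : w' k ≠ 0 := by
    rw [hval, Equiv.swap_apply_right, hG, Function.update_of_ne hij.symm]; exact hwj
  have hvj : w' j = 0 := by rw [hval, Equiv.swap_apply_left, hk0, map_zero]
  have hwsupp : ∀ l, l ≠ i → l ≠ j → w l = 0 := hthree
  have hsum : ∀ v : ι → W, (∀ l, l ≠ i → l ≠ j → l ≠ k → v l = 0) →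
      v = Pi.single i (v i) + Pi.single j (v j) + Pi.single k (v k) := fun v hv => funext fun l => by
    by_cases a1 : l = i
    · subst a1; simp [hij, hki.symm]
    by_cases a2 : l = j
    · subst a2; simp [a1, hkj.symm]
    by_cases a3 : l = k
    · subst a3; simp [a1, a2]
    simp [a1, a2, a3, hv l a1 a2 a3]
  have hψk : ∀ b, ψ (Pi.single k b) = 0 := fun b => hB k b hk0
  -- the pairings of the two transvections
  have hα : ψ w' = 1 := by
    have hw'supp : ∀ l, l ≠ i → l ≠ j → l ≠ k → w' l = 0 := fun l a1 a2 a3 => by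
      rw [hval, Equiv.swap_apply_of_ne_of_ne a2 a3, hwsupp l a1 a2, map_zero]
    rw [hsum w' hw'supp, map_add, map_add, hvi, hvj, hψk, hfψ, Pi.single_zero, map_zero, add_zero, add_zero]
  have hpre : M (Pi.single i f) = Pi.single i (w i) := by
    rw [hMx _ (Pi.single_eq_of_ne hki _), hM₀, bmon_single, hswi, hG, Function.update_self, hsf]
  have hpre' : ∀ b, M (Pi.single j b) = Pi.single k b := fun b => by
    rw [hMx _ (Pi.single_eq_of_ne hkj _), hM₀, bmon_single, Equiv.swap_apply_left, hG,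
      Function.update_of_ne hij.symm]
    rfl
  have hψ'M : ∀ x, ψ' (M x) = ψ x := fun x => by simp [hψ']
  have hψ'j : ψ' (Pi.single j (w j)) = 0 := by
    obtain ⟨b, hb⟩ : ∃ b, M (Pi.single k b) = Pi.single j (w j) := by
      refine ⟨(M.symm (Pi.single j (w j))) k, ?_⟩
      conv_rhs => rw [← M.apply_symm_apply (Pi.single j (w j))]
      congr 1
      funext l
      by_cases a3 : l = k
      · subst a3; simp
      · rw [Pi.single_eq_of_ne a3]
        have hv : M (Pi.single l (M.symm (Pi.single j (w j)) l)) (Equiv.swap j k l) =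
            M (M.symm (Pi.single j (w j))) (Equiv.swap j k l) := by
          rw [hM, LinearEquiv.mul_apply, LinearEquiv.mul_apply, hM₀, bmon_apply, bmon_apply,
            Equiv.symm_swap, Equiv.swap_apply_self, rk1_apply, rk1_apply]
          simp [a3]
        rw [LinearEquiv.apply_symm_apply, Pi.single_eq_of_ne (fun e => a3 (by
          rw [← Equiv.swap_apply_self j k l, e, Equiv.swap_apply_left])),
          hMx _ (Pi.single_eq_of_ne (Ne.symm a3) _), hM₀, bmon_apply, Equiv.symm_swap, Equiv.swap_apply_self,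
          Pi.single_eq_same, LinearEquiv.map_eq_zero_iff] at hv
        exact hv.symm
    rw [← hb, hψ'M, hψk]
  have hβ : ψ' w = 1 := by
    rw [hsum w (fun l a1 a2 _ => hwsupp l a1 a2), hk0, Pi.single_zero, add_zero, map_add, hψ'j, ← hpre,
      hψ'M, hfψ, add_zero]
  obtain ⟨h1, y, hy, hyx⟩ := h
  have h5 := h4.conj hy
  have hc : y w' = w' + w := by rw [hyx, hα, one_smul]
  rw [hc] at h5
  have hax : ∀ x, ψ'.comp (y.symm : (ι → W) →ₗ[F] (ι → W)) x = ψ' x - ψ x := fun x => by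
    obtain ⟨z, rfl⟩ := y.surjective x
    simp only [LinearMap.comp_apply, LinearEquiv.coe_coe, LinearEquiv.symm_apply_apply]
    rw [hyx, map_add, map_add, map_smul, map_smul, h1, hβ, smul_zero, add_zero, smul_eq_mul, mul_one]
    ring
  have h6ne : ψ'.comp (y.symm : (ι → W) →ₗ[F] (ι → W)) ≠ 0 := fun e => by
    have := hax (Pi.single i f)
    rw [e, LinearMap.zero_apply, hfψ] at this
    have h7 : ψ' (Pi.single i f) = 0 := by
      rw [← hsw, show (Pi.single i (s₀ (w i)) : ι → W) = M (Pi.single i (w i)) by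
        rw [hMx _ (Pi.single_eq_of_ne hki _), hM₀, bmon_single, hswi, hG, Function.update_self],
        hψ'M, hzi]
    rw [h7, zero_sub, eq_comm, neg_eq_zero] at this
    exact one_ne_zero this
  have hni : (w' + w) i ≠ 0 := by
    rw [Pi.add_apply, hvi]
    intro e0
    exact hind (Submodule.mem_span_singleton.mpr ⟨-1, by rw [neg_smul, one_smul]; exact neg_eq_of_add_eq_zero_right e0⟩)
  have hnj : (w' + w) j ≠ 0 := by rw [Pi.add_apply, hvj, zero_add]; exact hwj
  have hnk : (w' + w) k ≠ 0 := by rw [Pi.add_apply, hk0, add_zero]; exact hvk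
  by_cases hA' : ∃ l, (w' + w) l ≠ 0 ∧ ∀ b, ψ'.comp (y.symm : (ι → W) →ₗ[F] (ι → W)) (Pi.single l b) = 0
  · obtain ⟨l, hl, hl'⟩ := hA'
    exact pure_of_centre h2 hH h5 h6ne hl hl'
  by_cases hgood' : ∃ l a, (w' + w) l ≠ 0 ∧ ψ'.comp (y.symm : (ι → W) →ₗ[F] (ι → W)) (Pi.single l a) = 0 ∧
      a ∉ Submodule.span F {(w' + w) l}
  · obtain ⟨l, a, hl, hψa, ha⟩ := hgood'
    push Not at hA'
    have ha0 : a ≠ 0 := fun e => ha (e ▸ Submodule.zero_mem _)
    have hwa : (w' + w) l ∉ Submodule.span F {a} := fun hm => by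
      obtain ⟨s, hs⟩ := Submodule.mem_span_singleton.mp hm
      have hs0 : s ≠ 0 := fun e => hl (by rw [← hs, e, zero_smul])
      exact ha (Submodule.mem_span_singleton.mpr ⟨s⁻¹, by rw [← hs, smul_smul, inv_mul_cancel₀ hs0, one_smul]⟩)
    obtain ⟨s, hs, h7⟩ := centre_step hH h5 hψa hwa
    obtain ⟨r, hr, hrl⟩ : ∃ r, (w' + w) r ≠ 0 ∧ r ≠ l := by
      by_cases e : i = l
      · exact ⟨j, hnj, fun e' => hij (e.trans e'.symm)⟩
      · exact ⟨i, hni, e⟩
    obtain ⟨b, hb⟩ := hA' r hr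
    exact pure_of_axis h2 hH h7 (fun e => ha0 (by simpa using congrFun e l)) (i := r) (by simp [hrl])
      (b := b) (mul_ne_zero hs hb)
  push Not at hgood'
  have hz' : ∀ l, (w' + w) l ≠ 0 → ψ'.comp (y.symm : (ι → W) →ₗ[F] (ι → W)) (Pi.single l ((w' + w) l)) = 0 := by
    intro l hl
    obtain ⟨f', hf'⟩ : ∃ f' : W →ₗ[F] F,
        f' = (ψ'.comp (y.symm : (ι → W) →ₗ[F] (ι → W))).comp (LinearMap.single F (fun _ => W) l) := ⟨_, rfl⟩
    have hle : LinearMap.ker f' ≤ Submodule.span F {(w' + w) l} := fun a ha =>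
      hgood' l a hl (by rw [LinearMap.mem_ker, hf'] at ha; exact ha)
    have h9 := f'.finrank_range_add_finrank_ker
    have h10 : Module.finrank F (LinearMap.range f') ≤ 1 :=
      (Submodule.finrank_le _).trans (Module.finrank_self F).le
    have heq : LinearMap.ker f' = Submodule.span F {(w' + w) l} :=
      Submodule.eq_of_le_of_finrank_le hle (by rw [finrank_span_singleton hl]; omega)
    have := heq.symm ▸ Submodule.mem_span_singleton_self ((w' + w) l)
    rw [LinearMap.mem_ker, hf'] at this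
    exact this
  rcases key h5 h6ne hij hki.symm hkj.symm hni hnj hnk hz' with h0 | h0
  · exact absurd ⟨k, hnk, h0⟩ hA'
  · exact h0

include h2 hH in
/-- A proper overgroup contains the transvections between blocks. -/
theorem contains_cross (h3 : 3 ≤ Fintype.card F ∨ 3 ≤ Module.finrank F W)
    (hblocks : 3 ≤ Fintype.card ι ∨ 3 ≤ Module.finrank F W) {g : (ι → W) ≃ₗ[F] (ι → W)}
    (hg : g ∈ K) (hgn : ¬ BMono g) {i j : ι} (hij : i ≠ j) (e : W) (θ : W →ₗ[F] F) :
    Tv K (Pi.single i e) (bfun j θ) := by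
  classical
  have hz : bfun j θ (Pi.single i e) = 0 := by simp [bfun, hij.symm]
  by_cases he : e = 0
  · exact ⟨hz, 1, K.one_mem, fun x => by simp [he]⟩
  by_cases hθ : θ = 0
  · exact ⟨hz, 1, K.one_mem, fun x => by simp [hθ, bfun]⟩
  -- a transvection with spread centre
  obtain ⟨i₀, u, k₁, k₂, hk, h1, h2'⟩ : ∃ i₀ u k₁ k₂, k₁ ≠ k₂ ∧ g (Pi.single i₀ u) k₁ ≠ 0 ∧
      g (Pi.single i₀ u) k₂ ≠ 0 := by
    by_contra hcon
    push Not at hcon
    refine hgn fun l => ?_
    obtain ⟨u, hu⟩ : ∃ u : W, u ≠ 0 := ⟨e, he⟩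
    obtain ⟨k₀, hk₀⟩ : ∃ k₀, g (Pi.single l u) k₀ ≠ 0 := by
      by_contra h
      push Not at h
      have : g (Pi.single l u) = 0 := funext h
      rw [map_eq_zero_iff g g.injective, Pi.single_eq_zero_iff] at this
      exact hu this
    refine ⟨k₀, fun v k hk => ?_⟩
    by_contra hne
    have h0 : g (Pi.single l v) k₀ = 0 := hcon l v k k₀ hk hne
    have hu0 : g (Pi.single l u) k = 0 := hcon l u k₀ k (Ne.symm hk) hk₀
    refine hk₀ ?_
    have := hcon l (u + v) k k₀ hk (by rw [Pi.single_add, map_add, Pi.add_apply, hu0, zero_add]; exact hne)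
    rwa [Pi.single_add, map_add, Pi.add_apply, h0, add_zero] at this
  have hu : u ≠ 0 := fun e0 => h1 (by rw [e0, Pi.single_zero, map_zero]; rfl)
  obtain ⟨a, ha⟩ := exists_outside (F := F) h2 u
  obtain ⟨φ, hφu, hφa⟩ := exists_sep ha
  have hT := (tv_block hH i₀ hφu).conj hg
  obtain ⟨i₁, j₁, hij₁, a₁, φ₁, ha₁, hφ₁, hP⟩ := pure_of_spread h2 hH h3 hT (fun e0 => by
    have := LinearMap.congr_fun e0 (g (Pi.single i₀ a))
    simp [bfun, hφa] at this) hk h1 h2' hblocks
  obtain ⟨σ, hσi, hσj⟩ : ∃ σ : Equiv.Perm ι, σ i₁ = i ∧ σ j₁ = j := by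
    refine ⟨Equiv.swap (Equiv.swap i₁ i j₁) j * Equiv.swap i₁ i, ?_, ?_⟩
    · show Equiv.swap _ j (Equiv.swap i₁ i i₁) = i
      rw [Equiv.swap_apply_left, Equiv.swap_apply_of_ne_of_ne ?_ hij]
      intro e0
      exact hij₁ ((Equiv.swap i₁ i).injective (by rw [Equiv.swap_apply_left]; exact e0))
    · show Equiv.swap _ j (Equiv.swap i₁ i j₁) = j
      rw [Equiv.swap_apply_left]
  obtain ⟨gi, hgi⟩ := exists_move (F := F) ha₁ he
  obtain ⟨gj, hgj⟩ := exists_move_dual hφ₁ hθ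
  obtain ⟨G, hG⟩ : ∃ G : ι → (W ≃ₗ[F] W), G = Function.update (Function.update (fun _ => 1) i₁ gi) j₁ gj.symm :=
    ⟨_, rfl⟩
  -- restore the determinant off the centre
  obtain ⟨f, hf⟩ := exists_outside (F := F) h2 e
  obtain ⟨κ, hκe, hκf⟩ := exists_sep hf
  obtain ⟨δ, hδ⟩ : ∃ δ : Fˣ, δ = (LinearEquiv.det (bmon σ G))⁻¹ := ⟨_, rfl⟩
  have e3 : bfun i (((δ : F) - 1) • κ) (Pi.single i f) = (δ : F) - 1 := by simp [bfun, hκf]
  have n3 : 1 + bfun i (((δ : F) - 1) • κ) (Pi.single i f) ≠ 0 := by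
    rw [e3, add_sub_cancel]; exact δ.ne_zero
  obtain ⟨M, hM⟩ : ∃ M, M = rk1 _ _ n3 * bmon σ G := ⟨_, rfl⟩
  have hMK : M ∈ K := hM ▸ hH _ ((rk1_bmono i _ _ n3).mul (bmon_mono _ _)) (by
    rw [map_mul, show LinearEquiv.det (rk1 _ _ n3) = δ from Units.ext (by
      rw [LinearEquiv.coe_det, rk1_det, e3, add_sub_cancel]), hδ, inv_mul_cancel])
  obtain ⟨-, y, hy, hyx⟩ := hP.conj hMK
  refine ⟨hz, y, hy, fun x => ?_⟩
  rw [hyx]
  obtain ⟨z, rfl⟩ := M.surjective x
  have hc : M (Pi.single i₁ a₁) = Pi.single i e := by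
    rw [hM, LinearEquiv.mul_apply, bmon_single, hσi, hG, Function.update_of_ne hij₁,
      Function.update_self, hgi, rk1_apply]
    simp [bfun, hκe]
  have hax : bfun j θ (M z) = bfun j₁ φ₁ z := by
    rw [hM, LinearEquiv.mul_apply, rk1_apply]
    simp only [bfun, LinearMap.comp_apply, LinearMap.proj_apply, Pi.add_apply, Pi.smul_apply,
      Pi.single_eq_of_ne hij.symm, smul_zero, add_zero, bmon_apply]
    rw [show σ.symm j = j₁ by rw [Equiv.symm_apply_eq, hσj], hG, Function.update_self, ← hgj]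
    simp
  rw [hc, hax]
  simp

end Cfsg.Agent.MonomialMax
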