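import Cfsg.Agent.Lib.TransvMax.LagrPair
import Cfsg.Agent.Lib.TransvMax.OrthBasic

/-!
Overgroups of the normaliser of a quadratic extension field structure in a symplectic group.
-/

set_option autoImplicit false

namespace Cfsg.Agent.TransvMax

open scoped Matrix MatrixGroups
open Cfsg.Agent

namespace OSetting

variable {ι : Type} [Fintype ι] [DecidableEq ι] {F : Type*} [Field F] [Finite F]
  {Q : QuadraticForm F (ι → F)}

omit [Finite F] in
/-- An anisotropic vector orthogonal to at most half the dimension many vectors, one anisotropic. -/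
theorem exists_aniso_perp_half (S : OSetting Q) {k : ℕ} (v : Fin k → ι → F)
    (hk : 2 * k ≤ Fintype.card ι) {j : Fin k} (hj : Q (v j) ≠ 0) :
    ∃ p, (∀ i, pB Q p (v i) = 0) ∧ Q p ≠ 0 := by
  by_contra hc
  push Not at hc
  set L : (ι → F) →ₗ[F] (Fin k → F) := LinearMap.pi fun i => (pB Q).flip (v i)
  have hQ : ∀ p ∈ LinearMap.ker L, Q p = 0 := fun p hp => hc p fun i => congrFun hp i
  have h1 : LinearMap.ker L ≤ LinearMap.BilinForm.orthogonal (pB Q) (LinearMap.ker L) := by
    intro x hx y hy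
    show pB Q y x = 0
    have h := S.quad_add y x
    rw [hQ _ (Submodule.add_mem _ hy hx), hQ _ hy, hQ _ hx] at h
    linear_combination -h
  have h3 : Fintype.card ι ≤ Module.finrank F (LinearMap.ker L) + k := S.finrank_ker_ge v
  have h4 : LinearMap.BilinForm.orthogonal (pB Q) (LinearMap.ker L) ≤ LinearMap.ker L := by
    refine (Submodule.eq_of_le_of_finrank_le h1 ?_).ge
    rw [LinearMap.BilinForm.finrank_orthogonal S.nondeg, Module.finrank_fintype_fun_eq_card]
    omega
  refine hj (hQ _ (h4 fun y hy => ?_))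
  show pB Q y (v j) = 0
  exact congrFun hy j

/-- A singular vector orthogonal to six vectors, outside a small subspace. -/
theorem exists_sing_perp6 (S : OSetting Q) (h14 : 14 ≤ Fintype.card ι) (v : Fin 6 → ι → F)
    (W : Submodule F (ι → F)) (hW : Module.finrank F W ≤ 5) :
    ∃ u, (∀ i, pB Q u (v i) = 0) ∧ Q u = 0 ∧ u ∉ W := by
  obtain ⟨p, hp, hQp⟩ := S.exists_aniso_perp v le_rfl
  obtain ⟨r, hr, hQr⟩ := S.exists_aniso_perp_half (Fin.cons p v) (by omega) (j := 0) (by simpa using hQp)
  obtain ⟨z, hz, hzW⟩ : ∃ z, (∀ i, pB Q z ((Fin.cons r (Fin.cons p v) : Fin 8 → ι → F) i) = 0) ∧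
      z ∉ W := by
    by_contra hc
    push Not at hc
    have hle : LinearMap.ker (LinearMap.pi fun i =>
        (pB Q).flip ((Fin.cons r (Fin.cons p v) : Fin 8 → ι → F) i)) ≤ W :=
      fun z hz => hc z fun i => congrFun hz i
    have h1 := Submodule.finrank_mono hle
    have h2 := S.finrank_ker_ge (Fin.cons r (Fin.cons p v) : Fin 8 → ι → F)
    omega
  have hzp : pB Q z p = 0 := by simpa using hz (Fin.succ 0)
  have hzr : pB Q z r = 0 := by simpa using hz 0
  have hrp : pB Q r p = 0 := by simpa using hr 0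
  obtain ⟨s, t, hst⟩ := S.exists_binary hQp hQr (-Q z)
  have hgood : ∀ ε : F, ε * ε = 1 → (∀ i, pB Q (z + ε • (s • p + t • r)) (v i) = 0) ∧
      Q (z + ε • (s • p + t • r)) = 0 := by
    intro ε hε
    constructor
    · intro i
      have h1 : pB Q p (v i) = 0 := hp i
      have h2 : pB Q r (v i) = 0 := by simpa using hr i.succ
      have h3 : pB Q z (v i) = 0 := by simpa using hz i.succ.succ
      simp only [map_add, map_smul, LinearMap.add_apply, LinearMap.smul_apply, h1, h2, h3, smul_zero,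
        add_zero]
    · simp only [S.quad_add, S.quad_smul, map_add, map_smul, LinearMap.add_apply, LinearMap.smul_apply,
        smul_eq_mul, S.pB_comm p r, hzp, hzr, hrp, mul_zero, add_zero, hε]
      linear_combination hst
  by_contra hc
  push Not at hc
  have h1 := hc _ (hgood 1 (one_mul 1)).1 (hgood 1 (one_mul 1)).2
  have h2 := hc _ (hgood (-1) (by ring)).1 (hgood (-1) (by ring)).2
  refine hzW ?_
  have h3 := W.smul_mem (2 : F)⁻¹ (W.add_mem h1 h2)
  convert h3 using 1
  match_scalars <;> field_simp [S.two_ne] <;> ring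

end OSetting

/-- An anti-self-adjoint map whose square is a non-square scalar, odd characteristic. -/
structure CplxSetting {ι : Type} [Fintype ι] [DecidableEq ι] {F : Type*} [Field F]
    (B : LinearMap.BilinForm F (ι → F)) (J : (ι → F) →ₗ[F] (ι → F)) (d : F) : Prop where
  alt : LinearMap.IsAlt B
  nondeg : LinearMap.Nondegenerate B
  skew : ∀ x y, B (J x) y = -B x (J y)
  sq : ∀ x, J (J x) = d • x
  nonsq : ∀ e : F, e * e ≠ d
  odd : ringChar F ≠ 2
  dim : 14 ≤ Fintype.card ι

namespace CplxSetting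

variable {ι : Type} [Fintype ι] [DecidableEq ι] {F : Type*} [Field F]
  {B : LinearMap.BilinForm F (ι → F)} {J : (ι → F) →ₗ[F] (ι → F)} {d : F} (S : CplxSetting B J d)

include S

theorem d_ne : d ≠ 0 := fun e => S.nonsq 0 (by rw [mul_zero, e])

theorem swap_val (x y : ι → F) : B y x = -B x y := FormsLib.alt_swap S.alt x y

theorem symmJ (x y : ι → F) : B x (J y) = B y (J x) := by
  rw [S.swap_val (J y) x, S.skew, neg_neg]

theorem J_val (x y : ι → F) : B (J x) (J y) = -(d * B x y) := by
  rw [S.skew, S.sq, map_smul, smul_eq_mul]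

/-- Independence over the field spanned by `J`. -/
theorem coeff_zero {x : ι → F} (hx : x ≠ 0) {a b : F} (h : a • x + b • J x = 0) : a = 0 ∧ b = 0 := by
  have h1 := congrArg J h
  rw [map_add, map_smul, map_smul, S.sq, map_zero] at h1
  have h2 : (a * a - b * b * d) • x = 0 := by
    have h3 : a • (a • x + b • J x) - b • (a • J x + b • d • x) = 0 := by
      rw [h, h1, smul_zero, smul_zero, sub_zero]
    rw [← h3]
    module
  have h4 := (smul_eq_zero.1 h2).resolve_right hx
  by_cases hb : b = 0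
  · subst hb
    exact ⟨by simpa using h4, rfl⟩
  · exact absurd (show (a / b) * (a / b) = d by field_simp; linear_combination h4) (S.nonsq _)

theorem li_pair {x : ι → F} (hx : x ≠ 0) : LinearIndependent F ![x, J x] :=
  LinearIndependent.pair_iff.2 fun _ _ h => S.coeff_zero hx h

/-- The span of a vector over the field. -/
def line (_S : CplxSetting B J d) (x : ι → F) : Submodule F (ι → F) :=
  Submodule.span F (Set.range ![x, J x])

theorem mem_line {x y : ι → F} : y ∈ S.line x ↔ ∃ a b : F, a • x + b • J x = y := by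
  rw [line, Submodule.mem_span_range_iff_exists_fun]
  constructor
  · rintro ⟨c, rfl⟩
    exact ⟨c 0, c 1, by rw [Fin.sum_univ_two]; rfl⟩
  · rintro ⟨a, b, rfl⟩
    exact ⟨![a, b], by rw [Fin.sum_univ_two]; rfl⟩

theorem finrank_line (x : ι → F) : Module.finrank F (S.line x) ≤ 2 := by
  have h := finrank_range_le_card (R := F) ![x, J x]
  rwa [Set.finrank, Fintype.card_fin] at h

theorem J_mem_line {x y : ι → F} (h : y ∈ S.line x) : J y ∈ S.line x := by
  obtain ⟨a, b, rfl⟩ := S.mem_line.1 h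
  refine S.mem_line.2 ⟨b * d, a, ?_⟩
  rw [map_add, map_smul, map_smul, S.sq]
  module

theorem li_four {x y : ι → F} (hx : x ≠ 0) (hy : y ∉ S.line x) :
    LinearIndependent F ![y, J y, x, J x] := by
  rw [Fintype.linearIndependent_iff]
  intro c hc
  simp only [Fin.sum_univ_four] at hc
  change c 0 • y + c 1 • J y + c 2 • x + c 3 • J x = 0 at hc
  have h01 : c 0 = 0 ∧ c 1 = 0 := by
    by_contra hne
    refine hy ?_
    have hm : c 0 • y + c 1 • J y ∈ S.line x :=
      S.mem_line.2 ⟨-c 2, -c 3, by linear_combination (norm := module) -hc⟩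
    -- multiply by the conjugate
    have hn : c 0 * c 0 - c 1 * c 1 * d ≠ 0 := by
      intro e
      by_cases h1 : c 1 = 0
      · exact hne ⟨by simpa [h1] using e, h1⟩
      · exact S.nonsq (c 0 / c 1) (by field_simp; linear_combination e)
    have h2 := (S.line x).smul_mem (c 0 * c 0 - c 1 * c 1 * d)⁻¹
      ((S.line x).sub_mem ((S.line x).smul_mem (c 0) hm) ((S.line x).smul_mem (c 1) (S.J_mem_line hm)))
    convert h2 using 1
    rw [map_add, map_smul, map_smul, S.sq]
    match_scalars <;> first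
      | ring1
      | linear_combination -(inv_mul_cancel₀ hn)
      | linear_combination inv_mul_cancel₀ hn
  rw [h01.1, h01.2, zero_smul, zero_smul, zero_add, zero_add] at hc
  obtain ⟨h2, h3⟩ := S.coeff_zero hx hc
  intro i
  fin_cases i
  exacts [h01.1, h01.2, h2, h3]

/-- The quadratic form `x ↦ f(x, J x) / 2`. -/
noncomputable def qJ (_S : CplxSetting B J d) : QuadraticForm F (ι → F) :=
  LinearMap.BilinMap.toQuadraticMap ((2 : F)⁻¹ • B.compl₂ J)

theorem two_ne : (2 : F) ≠ 0 := Ring.two_ne_zero S.odd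

theorem pB_qJ (x y : ι → F) : pB S.qJ x y = B x (J y) := by
  simp only [pB, qJ, LinearMap.BilinMap.polarBilin_toQuadraticMap, LinearMap.add_apply,
    LinearMap.flip_apply, LinearMap.smul_apply, LinearMap.compl₂_apply, smul_eq_mul, S.symmJ y x]
  field_simp [S.two_ne]
  ring

theorem qJ_eq_zero {x : ι → F} : S.qJ x = 0 ↔ B x (J x) = 0 := by
  simp [qJ, S.two_ne]

theorem oSetting : OSetting S.qJ := by
  refine ⟨S.odd, ⟨fun v hv => ?_, fun v hv => ?_⟩, by have := S.dim; omega⟩
  · refine S.nondeg.1 v fun y => ?_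
    have h := hv (d⁻¹ • J y)
    rwa [S.pB_qJ, map_smul J, S.sq, smul_smul, inv_mul_cancel₀ S.d_ne, one_smul] at h
  · refine S.nondeg.1 v fun y => ?_
    have h := hv (d⁻¹ • J y)
    rwa [S.pB_qJ, S.symmJ, map_smul J, S.sq, smul_smul, inv_mul_cancel₀ S.d_ne, one_smul] at h

/-- Values of `f` translate into values of the polar form. -/
theorem val_eq (x y : ι → F) : B x y = pB S.qJ x (J y) / d := by
  rw [S.pB_qJ, S.sq, map_smul, smul_eq_mul, mul_div_cancel_left₀ _ S.d_ne]

/-- A singular vector with prescribed values on a line over the field and another one. -/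
theorem exists_four [Finite F] {x y : ι → F} (hx : x ≠ 0) (hy : y ∉ S.line x) (a b a' b' : F) :
    ∃ z, B z (J z) = 0 ∧ B z y = a ∧ B z (J y) = b ∧ B z x = a' ∧ B z (J x) = b' := by
  obtain ⟨z, hz, hzv⟩ := S.oSetting.exists_sing_values (S.li_four hx hy) le_rfl
    ![b, d * a, b', d * a']
  refine ⟨z, S.qJ_eq_zero.1 hz, ?_, ?_, ?_, ?_⟩
  · rw [S.val_eq, show pB S.qJ z (J y) = d * a from hzv 1, mul_div_cancel_left₀ _ S.d_ne]
  · rw [← S.pB_qJ]; exact hzv 0
  · rw [S.val_eq, show pB S.qJ z (J x) = d * a' from hzv 3, mul_div_cancel_left₀ _ S.d_ne]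
  · rw [← S.pB_qJ]; exact hzv 2

/-- Orthogonality in both forms for a pair. -/
theorem perp_sym {x y : ι → F} (h : B x y = 0) (h' : B x (J y) = 0) :
    B y x = 0 ∧ B y (J x) = 0 ∧ B (J x) y = 0 ∧ B (J y) x = 0 ∧ B (J x) (J y) = 0 ∧
      B (J y) (J x) = 0 := by
  have h1 : B y x = 0 := by rw [S.swap_val x y, h, neg_zero]
  have h2 : B y (J x) = 0 := by rw [← S.symmJ, h']
  refine ⟨h1, h2, ?_, ?_, ?_, ?_⟩
  · rw [S.skew, h', neg_zero]
  · rw [S.skew, h2, neg_zero]
  · rw [S.J_val, h, mul_zero, neg_zero]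
  · rw [S.J_val, h1, mul_zero, neg_zero]

/-- The root element attached to two singular vectors orthogonal over the field. -/
noncomputable def kTau {u w : ι → F} (h : B u w = 0) (h' : B u (J w) = 0) :
    (ι → F) ≃ₗ[F] (ι → F) :=
  pairTau S.alt (-d • u) w (by rw [map_smul, LinearMap.smul_apply, h, smul_zero]) *
    pairTau S.alt (J u) (J w) (S.perp_sym h h').2.2.2.2.1

theorem kTau_apply {u w : ι → F} (hu : B u (J u) = 0) (hw : B w (J w) = 0) (h : B u w = 0) (h' : B u (J w) = 0)
    (x : ι → F) :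
    S.kTau h h' x = x - d • (B x u • w + B x w • u) + B x (J u) • J w + B x (J w) • J u := by
  obtain ⟨h1, h2, h3, h4, h5, h6⟩ := S.perp_sym h h'
  have hw' : B (J w) w = 0 := by rw [S.skew, hw, neg_zero]
  have hu' : B (J u) u = 0 := by rw [S.skew, hu, neg_zero]
  simp only [kTau, LinearEquiv.mul_apply, pairTau_apply, map_add, map_smul, LinearMap.add_apply,
    LinearMap.smul_apply, h, h', h1, h2, h3, h4, h5, h6, hw, hw', hu', smul_eq_mul, mul_zero, add_zero]
  module

theorem kTau_mem_iso {u w : ι → F} (h : B u w = 0) (h' : B u (J w) = 0) :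
    S.kTau h h' ∈ FormsLib.isoGroup B :=
  Subgroup.mul_mem _ (pairTau_mem _ _ _ _) (pairTau_mem _ _ _ _)

theorem kTau_comm {u w : ι → F} (hu : B u (J u) = 0) (hw : B w (J w) = 0) (h : B u w = 0) (h' : B u (J w) = 0)
    (x : ι → F) : J (S.kTau h h' x) = S.kTau h h' (J x) := by
  simp only [S.kTau_apply hu hw h h', map_add, map_sub, map_smul, S.sq, S.skew x, map_neg,
    LinearMap.neg_apply, map_smul, smul_eq_mul]
  module

/-- The root element of a singular point. -/
noncomputable def kTrv (u : ι → F) : (ι → F) ≃ₗ[F] (ι → F) :=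
  FormsLib.tau S.alt (J u) 1 * FormsLib.tau S.alt u (-d)

theorem kTrv_comm {u : ι → F} (hu : B u (J u) = 0) (x : ι → F) :
    J (S.kTrv u x) = S.kTrv u (J x) := by
  have hu' : B (J u) u = 0 := by rw [S.skew, hu, neg_zero]
  simp only [kTrv, LinearEquiv.mul_apply, FormsLib.tau_apply, map_add, map_smul, LinearMap.add_apply,
    LinearMap.smul_apply, hu, hu', S.sq, S.skew x, map_neg, LinearMap.neg_apply, smul_eq_mul]
  module

/-- A proper overgroup of the normaliser contains all transvections. -/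
theorem tauGroup_le_of_over [Finite F] {K : Subgroup ((ι → F) ≃ₗ[F] (ι → F))}
    (hK : K ≤ FormsLib.isoGroup B)
    (hstab : ∀ h ∈ FormsLib.isoGroup B, (∀ x, J (h x) = h (J x)) → h ∈ K)
    {g : (ι → F) ≃ₗ[F] (ι → F)} (hgK : g ∈ K)
    (hg : ¬ ∃ a b : F, ∀ x, g (J x) = a • g x + b • J (g x)) :
    FormsLib.tauGroup S.alt ≤ K := by
  classical
  have O := S.oSetting
  have hiso : ∀ x y, B (g x) (g y) = B x y := hK hgK
  let C : Set (ι → F) := {v | ∀ e, FormsLib.tau S.alt v e ∈ K}
  have hconj : ∀ h ∈ K, ∀ v ∈ C, h v ∈ C := fun h hh v hv e => by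
    rw [← FormsLib.tau_conj S.alt (hK hh) v e]
    exact K.mul_mem (K.mul_mem hh (hv e)) (K.inv_mem hh)
  -- a singular point whose image is not a line over the field
  obtain ⟨p, hp, hp0, hpimg⟩ : ∃ p, B p (J p) = 0 ∧ p ≠ 0 ∧ g (J p) ∉ S.line (g p) := by
    by_contra hcon
    push Not at hcon
    set J' : (ι → F) →ₗ[F] (ι → F) := (g : _ →ₗ[F] _) ∘ₗ J ∘ₗ (g.symm : _ →ₗ[F] _) with hJ'
    have himg : ∀ p, B p (J p) = 0 → B (g p) (J (g p)) = 0 := by
      intro p hp
      rcases eq_or_ne p 0 with rfl | hp0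
      · simp
      obtain ⟨a, b, hab⟩ := S.mem_line.1 (hcon p hp hp0)
      have h1 : B (g p) (g (J p)) = 0 := by rw [hiso, hp]
      rw [← hab, map_add, map_smul, map_smul, S.alt (g p), smul_zero, zero_add, smul_eq_mul,
        mul_eq_zero] at h1
      refine h1.resolve_left fun hb => ?_
      rw [hb, zero_smul, add_zero, ← map_smul] at hab
      have h2 := g.injective hab
      exact one_ne_zero (S.coeff_zero hp0 (a := -a) (b := 1) (by rw [← h2]; module)).2
    have hsing : ∀ y, B y (J y) = 0 → ∃ p, B p (J p) = 0 ∧ g p = y := by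
      intro y hy
      have hinj : Function.Injective (fun p : {p : ι → F // B p (J p) = 0} =>
          (⟨g p, himg p p.2⟩ : {p : ι → F // B p (J p) = 0})) := fun a b h =>
        Subtype.ext (g.injective (congrArg Subtype.val h))
      obtain ⟨⟨p, hp⟩, hpe⟩ := Finite.injective_iff_surjective.1 hinj ⟨y, hy⟩
      exact ⟨p, hp, congrArg Subtype.val hpe⟩
    have hline : ∀ y, B y (J y) = 0 → ∃ a b : F, J' y = a • y + b • J y := by
      intro y hy
      obtain ⟨p, hp, rfl⟩ := hsing y hy
      rcases eq_or_ne p 0 with rfl | hp0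
      · exact ⟨0, 0, by simp⟩
      obtain ⟨a, b, hab⟩ := S.mem_line.1 (hcon p hp hp0)
      exact ⟨a, b, by simp [hJ', hab]⟩
    have hagree : ∀ y z, B y (J y) = 0 → B z (J z) = 0 → y ≠ 0 → z ∉ S.line y → B y z = 0 →
        B y (J z) = 0 → ∀ a b : F, J' y = a • y + b • J y → J' z = a • z + b • J z := by
      intro y z hy hz hy0 hzy hyz hyz' a b hab
      obtain ⟨a', b', hz'⟩ := hline z hz
      obtain ⟨a'', b'', hs⟩ := hline (y + z) (by
        simp only [map_add, LinearMap.add_apply, hy, hz, hyz', (S.perp_sym hyz hyz').2.1, add_zero])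
      rw [map_add, hab, hz', map_add] at hs
      have h4 := Fintype.linearIndependent_iff.1 (S.li_four hy0 hzy)
        ![a' - a'', b' - b'', a - a'', b - b''] (by
          simp only [Fin.sum_univ_four]
          show (a' - a'') • z + (b' - b'') • J z + (a - a'') • y + (b - b'') • J y = 0
          linear_combination (norm := module) hs)
      have e0 : a' - a'' = 0 := h4 0
      have e1 : b' - b'' = 0 := h4 1
      have e2 : a - a'' = 0 := h4 2
      have e3 : b - b'' = 0 := h4 3
      rw [hz', show a' = a by linear_combination e0 - e2, show b' = b by linear_combination e1 - e3]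
    obtain ⟨y₀, -, hy₀, hy₀0⟩ := O.exists_sing_perp6 S.dim (fun _ => 0) ⊥ (by rw [finrank_bot]; omega)
    have hy₀0' : y₀ ≠ 0 := fun e => hy₀0 (by rw [e]; exact Submodule.zero_mem _)
    rw [S.qJ_eq_zero] at hy₀
    obtain ⟨a, b, hab⟩ := hline y₀ hy₀
    have hall : ∀ z, B z (J z) = 0 → J' z = a • z + b • J z := by
      intro z hz
      rcases eq_or_ne z 0 with rfl | hz0
      · simp
      -- a common neighbour outside both lines
      obtain ⟨w, hw, hwQ, hwW⟩ := O.exists_sing_perp6 S.dim ![y₀, J y₀, z, J z, 0, 0]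
        (S.line y₀ ⊔ S.line z) (by
          have h1 := Submodule.finrank_add_le_finrank_add_finrank (S.line y₀) (S.line z)
          have h2 := S.finrank_line y₀
          have h3 := S.finrank_line z
          omega)
      rw [S.qJ_eq_zero] at hwQ
      have hwy : w ∉ S.line y₀ := fun h => hwW (Submodule.mem_sup_left h)
      have hwz : w ∉ S.line z := fun h => hwW (Submodule.mem_sup_right h)
      have hw0 : w ≠ 0 := fun e => hwW (by rw [e]; exact Submodule.zero_mem _)
      have e1 : B w y₀ = 0 := by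
        rw [S.val_eq, show pB S.qJ w (J y₀) = 0 from hw 1, zero_div]
      have e2 : B w (J y₀) = 0 := by rw [← S.pB_qJ]; exact hw 0
      have e3 : B w z = 0 := by rw [S.val_eq, show pB S.qJ w (J z) = 0 from hw 3, zero_div]
      have e4 : B w (J z) = 0 := by rw [← S.pB_qJ]; exact hw 2
      have hw' := hagree y₀ w hy₀ hwQ hy₀0' hwy (S.perp_sym e1 e2).1 (S.perp_sym e1 e2).2.1 a b hab
      refine hagree w z hwQ hz hw0 (fun h => hwz ?_) e3 e4 a b hw'
      obtain ⟨r, s, hrs⟩ := S.mem_line.1 h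
      by_contra hne
      have h4 := Fintype.linearIndependent_iff.1 (S.li_four hz0 hne) ![r, s, -1, 0] (by
        simp only [Fin.sum_univ_four]
        show r • w + s • J w + (-1 : F) • z + (0 : F) • J z = 0
        rw [← hrs]; module) 2
      exact one_ne_zero (neg_eq_zero.1 (show (-1 : F) = 0 from h4))
    refine hg ⟨a, b, fun x => ?_⟩
    have hev : ∀ y, J' y = a • y + b • J y := by
      intro y
      rcases eq_or_ne y 0 with rfl | hy0
      · simp
      obtain ⟨z, hz, hzv⟩ := O.exists_sing_values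
        (show LinearIndependent F ![y] by simp [linearIndependent_unique_iff, hy0]) (by omega) ![1]
      have h1 : B (y - S.qJ y • z) (J (y - S.qJ y • z)) = 0 := by
        rw [← S.qJ_eq_zero, sub_eq_add_neg, ← neg_smul, O.quad_add, O.quad_smul, hz, map_smul,
          O.pB_comm y z, show pB S.qJ z y = 1 from hzv 0, smul_eq_mul]
        ring
      have h2 := hall _ h1
      have h3 := hall z (S.qJ_eq_zero.1 hz)
      rw [map_sub, map_smul, h3, map_sub, map_smul] at h2
      linear_combination (norm := module) h2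
    have := hev (g x)
    simpa [hJ'] using this
  set P := g p with hP
  set P' := g (J p) with hP'
  have hPP' : B P P' = 0 := by rw [hP, hP', hiso, hp]
  have hP'P : B P' P = 0 := by rw [S.swap_val P P', hPP', neg_zero]
  set T₂ := FormsLib.tau S.alt P' 1 * FormsLib.tau S.alt P (-d) with hT₂
  have hT₂K : T₂ ∈ K := by
    have h1 := hstab (S.kTrv p) (Subgroup.mul_mem _ (FormsLib.tau_mem _ _ _) (FormsLib.tau_mem _ _ _))
      (S.kTrv_comm hp)
    have h2 := K.mul_mem (K.mul_mem hgK h1) (K.inv_mem hgK)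
    rw [show g * S.kTrv p * g⁻¹ = (g * FormsLib.tau S.alt (J p) 1 * g⁻¹) *
      (g * FormsLib.tau S.alt p (-d) * g⁻¹) by rw [kTrv]; group,
      FormsLib.tau_conj S.alt (hK hgK), FormsLib.tau_conj S.alt (hK hgK)] at h2
    exact h2
  -- the probe
  have hP0 : P ≠ 0 := (LinearEquiv.map_ne_zero_iff g).2 hp0
  have hP'l : P' ∉ S.line P := hpimg
  have hliP := S.li_four hP0 hP'l
  obtain ⟨w, hw, hwP', hwJP', hwP, -⟩ := S.exists_four hP0 hP'l 0 1 0 0
  have hJwP' : B (J w) P' = -1 := by rw [S.skew, hwJP']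
  set r := (B (J w) P') • P' - (d * B (J w) P) • P with hr
  obtain ⟨u, huv, huQ, hur⟩ := O.exists_sing_perp6 S.dim ![P, P', J P, J P', w, J w] (S.line r)
    (by have := S.finrank_line r; omega)
  have hu : B u (J u) = 0 := S.qJ_eq_zero.1 huQ
  have hval : ∀ y, pB S.qJ u (J y) = 0 → B u y = 0 := fun y h => by rw [S.val_eq, h, zero_div]
  have huP : B u P = 0 := hval P (huv 2)
  have huP' : B u P' = 0 := hval P' (huv 3)
  have huJP : B u (J P) = 0 := by rw [← S.pB_qJ]; exact huv 0
  have huJP' : B u (J P') = 0 := by rw [← S.pB_qJ]; exact huv 1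
  have huw : B u w = 0 := hval w (huv 5)
  have huJw : B u (J w) = 0 := by rw [← S.pB_qJ]; exact huv 4
  obtain ⟨hPu, hPJu, hJuP, hJPu, -, -⟩ := S.perp_sym huP huJP
  obtain ⟨hP'u, hP'Ju, hJuP', hJP'u, -, -⟩ := S.perp_sym huP' huJP'
  obtain ⟨hwu, hwJu, hJuw, hJwu, hJuJw, hJwJu⟩ := S.perp_sym huw huJw
  have hru : B r u = 0 := by simp [hr, hP'u, hPu]
  have hrJu : B r (J u) = 0 := by simp [hr, hP'Ju, hPJu]
  have hJur : B (J u) r = 0 := by rw [S.swap_val r (J u), hrJu, neg_zero]
  have hPw : B P w = 0 := by rw [S.swap_val w P, hwP, neg_zero]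
  have hP'w : B P' w = 0 := by rw [S.swap_val w P', hwP', neg_zero]
  set T₁ := S.kTau huw huJw
  have hT₁K : T₁ ∈ K := hstab _ (S.kTau_mem_iso _ _) (S.kTau_comm hu hw huw huJw)
  set c := -B (J w) r with hc
  set Z := pairTau S.alt (J u) r hJur * FormsLib.tau S.alt (J u) c with hZ
  have hZK : Z ∈ K := by
    have e : Z * (T₁ * T₂) = T₂ * T₁ := by
      refine LinearEquiv.ext fun x => ?_
      have hwJw : B (J w) w = 0 := by rw [S.skew, hw, neg_zero]
      simp only [hZ, hT₂, T₁, LinearEquiv.mul_apply, FormsLib.tau_apply, pairTau_apply,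
        S.kTau_apply hu hw huw huJw, hc, hr, map_add, map_sub, map_smul, LinearMap.add_apply,
        LinearMap.sub_apply, LinearMap.smul_apply, S.alt (J u), S.alt (J w), S.alt P, S.alt P', hPP',
        hP'P, hPu, hP'u, hPJu, hP'Ju, hJuP, hJuP', hPw, hP'w, hwP, hwP', hwJu, hJuw, hJwJu, hJuJw,
        huw, hwu, huJw, hJwu, huP, huP', S.swap_val (J w) P, S.swap_val (J w) P', hwJw, hw, hu,
        S.skew u u, smul_eq_mul]
      module
    rw [eq_mul_inv_of_mul_eq e]
    exact K.mul_mem (K.mul_mem hT₂K hT₁K) (K.inv_mem (K.mul_mem hT₁K hT₂K))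
  have hu0 : u ≠ 0 := fun e => hur (by rw [e]; exact Submodule.zero_mem _)
  have hr0 : r ≠ 0 := fun e => by
    have h := Fintype.linearIndependent_iff.1 hliP
      ![B (J w) P', 0, -(d * B (J w) P), 0] (by
        simp only [Fin.sum_univ_four]
        show (B (J w) P') • P' + (0 : F) • J P' + (-(d * B (J w) P)) • P + (0 : F) • J P = 0
        linear_combination (norm := module) e) 0
    rw [show B (J w) P' = 0 from h] at hJwP'
    exact neg_ne_zero.2 one_ne_zero hJwP'.symm
  have hu₁ : J u ∈ C := by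
    intro e
    obtain ⟨y, hy, hyu, hyJu, hyr, hyJr⟩ := S.exists_four hr0 hur 0 0 0 (e / 2)
    obtain ⟨huy, huJy, -, -, -, hJuJy⟩ := S.perp_sym hyu hyJu
    have hry : B r y = 0 := by rw [S.swap_val y r, hyr, neg_zero]
    have hrJy : B r (J y) = e / 2 := by rw [S.symmJ, hyJr]
    have hJuy : B (J u) y = 0 := by rw [S.skew, huJy, neg_zero]
    set h₁ := S.kTau huy huJy
    have hh₁ : h₁ ∈ K := hstab _ (S.kTau_mem_iso _ _) (S.kTau_comm hu hy huy huJy)
    have hfin := K.mul_mem (K.inv_mem hZK) (K.mul_mem (K.mul_mem hh₁ hZK) (K.inv_mem hh₁))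
    convert hfin using 1
    rw [eq_inv_mul_iff_mul_eq]
    have h5 : h₁ (J u) = J u := by
      simp [h₁, S.kTau_apply hu hy huy huJy, S.skew u u, S.alt (J u), hu, hJuy, hJuJy]
    have h6 : h₁ r = r + (e / 2) • J u := by
      simp [h₁, S.kTau_apply hu hy huy huJy, hru, hrJu, hry, hrJy]
    have h7 : h₁ * Z * h₁⁻¹ = (h₁ * pairTau S.alt (J u) r hJur * h₁⁻¹) *
        (h₁ * FormsLib.tau S.alt (J u) c * h₁⁻¹) := by rw [hZ]; group
    rw [h7, pairTau_conj S.alt (hK hh₁), FormsLib.tau_conj S.alt (hK hh₁), hZ]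
    refine LinearEquiv.ext fun x => ?_
    simp only [LinearEquiv.mul_apply, FormsLib.tau_apply, pairTau_apply, h5, h6, map_add, map_smul,
      LinearMap.add_apply, LinearMap.smul_apply, S.alt (J u), hJur, smul_eq_mul]
    match_scalars <;> field_simp [S.two_ne] <;> ring
  -- all singular centres
  have hval' : ∀ z y, pB S.qJ z (J y) = 0 → B z y = 0 := fun z y h => by rw [S.val_eq, h, zero_div]
  have hsingC : ∀ v, B v (J v) = 0 → v ∈ C := by
    have step : ∀ y z, B y (J y) = 0 → B z (J z) = 0 → y ≠ 0 → z ∉ S.line y → B y z = 0 →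
        B y (J z) = 0 → y ∈ C → z ∈ C := by
      intro y z hy hz hy0 hzy hyz hyz' hC
      obtain ⟨hzy1, hzy2, -, -, -, -⟩ := S.perp_sym hyz hyz'
      obtain ⟨v, hv, hvz, hvJz, hvy, hvJy⟩ := S.exists_four hy0 hzy d⁻¹ 0 d⁻¹ 0
      have hvd : B v (z - y) = 0 := by rw [map_sub, hvz, hvy, sub_self]
      have hvd' : B v (J (z - y)) = 0 := by rw [map_sub, map_sub, hvJz, hvJy, sub_self]
      have hd : B (z - y) (J (z - y)) = 0 := by
        simp only [map_sub, LinearMap.sub_apply, hy, hz, hyz', hzy2, sub_zero]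
      have h1 := hconj _ (hstab _ (S.kTau_mem_iso hvd hvd') (S.kTau_comm hv hd hvd hvd')) y hC
      have e1 : B y v = -d⁻¹ := by rw [S.swap_val v y, hvy]
      have e2 : B y (J v) = 0 := by rw [S.symmJ, hvJy]
      rw [S.kTau_apply hv hd hvd hvd', e1, e2] at h1
      convert h1 using 1
      simp only [map_sub, S.alt y, hyz, hy, hyz', sub_zero, zero_smul, add_zero]
      match_scalars <;> field_simp [S.d_ne] <;> ring
    intro v hv
    rcases eq_or_ne v 0 with rfl | hv0
    · intro e
      have : FormsLib.tau S.alt (0 : ι → F) e = 1 := by ext x; simp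
      rw [this]; exact K.one_mem
    have hJu : B (J u) (J (J u)) = 0 := by rw [S.sq, map_smul, S.skew u u, hu, neg_zero, smul_zero]
    have hJu0 : J u ≠ 0 := fun e => hu0 (by
      have := congrArg J e
      rw [S.sq, map_zero, smul_eq_zero] at this
      exact this.resolve_left S.d_ne)
    obtain ⟨z, hz, hzQ, hzW⟩ := O.exists_sing_perp6 S.dim ![J u, J (J u), v, J v, 0, 0]
      (S.line (J u) ⊔ S.line v) (by
        have h1 := Submodule.finrank_add_le_finrank_add_finrank (S.line (J u)) (S.line v)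
        have h2 := S.finrank_line (J u)
        have h3 := S.finrank_line v
        omega)
    rw [S.qJ_eq_zero] at hzQ
    have hz0 : z ≠ 0 := fun e => hzW (by rw [e]; exact Submodule.zero_mem _)
    have e1 : B z (J u) = 0 := hval' z (J u) (hz 1)
    have e2 : B z (J (J u)) = 0 := by rw [← S.pB_qJ]; exact hz 0
    have e3 : B z v = 0 := hval' z v (hz 3)
    have e4 : B z (J v) = 0 := by rw [← S.pB_qJ]; exact hz 2
    refine step z v hzQ hv hz0 (fun h => hzW (Submodule.mem_sup_right ?_)) e3 e4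
      (step (J u) z hJu hzQ hJu0 (fun h => hzW (Submodule.mem_sup_left h))
        (S.perp_sym e1 e2).1 (S.perp_sym e1 e2).2.1 hu₁)
    obtain ⟨a, b, hab⟩ := S.mem_line.1 h
    by_contra hne
    have h4 := Fintype.linearIndependent_iff.1 (S.li_four hv0 hne) ![a, b, -1, 0] (by
      simp only [Fin.sum_univ_four]
      show a • z + b • J z + (-1 : F) • v + (0 : F) • J v = 0
      rw [← hab]; module) 2
    exact one_ne_zero (neg_eq_zero.1 (show (-1 : F) = 0 from h4))
  refine (Subgroup.closure_le _).2 ?_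
  rintro _ ⟨v, e, rfl⟩
  suffices v ∈ C from this e
  by_cases hv : B v (J v) = 0
  · exact hsingC v hv
  have hv0 : v ≠ 0 := fun h => hv (by simp [h])
  obtain ⟨z, hz, hzv⟩ := O.exists_sing_values (S.li_pair hv0) (by omega) ![B v (J v) / 2, d]
  have e1 : B z (J v) = B v (J v) / 2 := by rw [← S.pB_qJ]; exact hzv 0
  have e2 : B z v = 1 := by
    rw [S.val_eq, show pB S.qJ z (J v) = d from hzv 1, div_self S.d_ne]
  have hzC := hsingC z (S.qJ_eq_zero.1 hz)
  have hdC : v - z ∈ C := hsingC _ (by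
    simp only [map_sub, LinearMap.sub_apply, S.qJ_eq_zero.1 hz, S.symmJ v z, e1]
    field_simp [S.two_ne]
    ring)
  have hne : B z (v - z) = 1 := by rw [map_sub, e2, S.alt z, sub_zero]
  have h1 := hconj _ (hdC (B z (v - z))⁻¹) z hzC
  rwa [FormsLib.tau_apply, hne, inv_one, one_mul, one_smul, add_sub_cancel] at h1

/-- The normaliser is proper. -/
theorem exists_not_normal [Finite F] : ∃ g ∈ FormsLib.isoGroup B,
    ¬ ∃ a b : F, ∀ x, g (J x) = a • g x + b • J (g x) := by
  obtain ⟨v, -, hv⟩ := S.oSetting.exists_aniso_perp (![] : Fin 0 → ι → F) (by omega)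
  refine ⟨_, FormsLib.tau_mem S.alt v 1, fun ⟨a, b, hab⟩ => ?_⟩
  have hv' : B v (J v) ≠ 0 := fun h => hv (S.qJ_eq_zero.2 h)
  have hv0 : v ≠ 0 := fun e => hv' (by simp [e])
  have h1 := hab v
  simp only [FormsLib.tau_apply, one_mul, S.alt v, zero_smul, add_zero] at h1
  have h2 := Fintype.linearIndependent_iff.1 (S.li_pair hv0) ![a - B (J v) v, b - 1] (by
    rw [Fin.sum_univ_two]
    show (a - B (J v) v) • v + (b - 1) • J v = 0
    linear_combination (norm := module) -h1)
  have ha : a = B (J v) v := sub_eq_zero.1 (h2 0)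
  have hb : b = 1 := sub_eq_zero.1 (h2 1)
  obtain ⟨x, hx, -, hx0⟩ := S.oSetting.exists_sing_perp6 S.dim ![v, J v, 0, 0, 0, 0] ⊥
    (by rw [finrank_bot]; omega)
  have hxv : B x v = 0 := by rw [S.val_eq, show pB S.qJ x (J v) = 0 from hx 1, zero_div]
  have hxJv : B x (J v) = 0 := by rw [← S.pB_qJ]; exact hx 0
  have hJxv : B (J x) v = 0 := by rw [S.skew, hxJv, neg_zero]
  have h3 := hab x
  simp only [FormsLib.tau_apply, one_mul, hxv, hJxv, zero_smul, add_zero] at h3
  rw [hb, one_smul, right_eq_add, smul_eq_zero, ha, S.skew, neg_eq_zero] at h3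
  rcases h3 with h3 | h3
  · exact hv' h3
  · exact hx0 (by rw [h3]; exact Submodule.zero_mem _)

end CplxSetting

end Cfsg.Agent.TransvMax
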