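import Cfsg.Agent.Lib.Forms.Alt

/-!
Overgroups of the stabiliser of a non-degenerate orthogonal decomposition in a symplectic group.
-/

set_option autoImplicit false

namespace Cfsg.Agent.TransvMax

open Cfsg.Agent

variable {F V : Type*} [Field F] [AddCommGroup V] [Module F V] [FiniteDimensional F V]
  {B : LinearMap.BilinForm F V} {t : ℕ} {D : Fin t → Submodule F V} {k : ℕ}

/-- An orthogonal decomposition into non-degenerate subspaces of dimension `k`. -/
structure DecSetting (B : LinearMap.BilinForm F V) (k : ℕ) (D : Fin t → Submodule F V) : Prop where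
  alt : LinearMap.IsAlt B
  nondeg : LinearMap.Nondegenerate B
  orth : ∀ i j, i ≠ j → ∀ u ∈ D i, ∀ v ∈ D j, B u v = 0
  nd : ∀ i, ∀ w ∈ D i, w ≠ 0 → ∃ x ∈ D i, B x w ≠ 0
  indep : iSupIndep D
  sup : iSup D = ⊤
  finrank : ∀ i, Module.finrank F (D i) = k
  pos : 0 < k
  two_le : 2 ≤ t

namespace DecSetting

variable (S : DecSetting B k D)

include S

theorem exists_comp (v : V) : ∃ c : Fin t → V, (∀ i, c i ∈ D i) ∧ v = ∑ i, c i := by
  have hv : v ∈ ⨆ i ∈ (Finset.univ : Finset (Fin t)), D i := by simp [S.sup]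
  rw [Submodule.mem_iSup_finset_iff_exists_sum] at hv
  obtain ⟨μ, hμ⟩ := hv
  exact ⟨fun i => μ i, fun i => (μ i).2, hμ.symm⟩

theorem pair_comp {c : Fin t → V} (hc : ∀ i, c i ∈ D i) {i : Fin t} {x : V} (hx : x ∈ D i) :
    B x (∑ j, c j) = B x (c i) := by
  rw [map_sum]
  exact Finset.sum_eq_single i (fun j _ hj => S.orth i j (Ne.symm hj) x hx _ (hc j))
    (fun h => absurd (Finset.mem_univ i) h)

theorem comp_eq_zero {c : Fin t → V} (hc : ∀ i, c i ∈ D i) {a i : Fin t}
    (hv : ∑ j, c j ∈ D a) (hi : i ≠ a) : c i = 0 := by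
  by_contra h
  obtain ⟨x, hx, hxc⟩ := S.nd i _ (hc i) h
  exact hxc (by rw [← S.pair_comp hc hx]; exact S.orth i a hi x hx _ hv)

theorem exists_ne_zero (i : Fin t) : ∃ a ∈ D i, a ≠ 0 := by
  apply Submodule.exists_mem_ne_zero_of_ne_bot
  intro h
  have := S.finrank i
  rw [h, finrank_bot] at this
  have := S.pos
  omega

theorem two_le_dim : 2 ≤ k := by
  have i : Fin t := ⟨0, by have := S.two_le; omega⟩
  obtain ⟨a, ha, ha0⟩ := S.exists_ne_zero i
  obtain ⟨x, hx, hxa⟩ := S.nd i a ha ha0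
  by_contra h
  have hk : k = 1 := by have := S.pos; omega
  have hle : Submodule.span F {a} ≤ D i := by simpa using ha
  have he := Submodule.eq_of_le_of_finrank_eq hle (by rw [finrank_span_singleton ha0, S.finrank, hk])
  rw [← he, Submodule.mem_span_singleton] at hx
  obtain ⟨s, rfl⟩ := hx
  simp [S.alt a] at hxa

/-- A sum of two members from different subspaces lies in no member. -/
theorem add_not_mem {i j : Fin t} (hij : i ≠ j) {a b : V} (ha : a ∈ D i) (hb : b ∈ D j) (ha0 : a ≠ 0)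
    (hb0 : b ≠ 0) (l : Fin t) : a + b ∉ D l := by
  intro h
  have hd : ∀ {p q : Fin t}, p ≠ q → ∀ {x : V}, x ∈ D p → x ∈ D q → x = 0 := fun {p q} hpq {x} hp hq =>
    Submodule.disjoint_def.1 (S.indep.pairwiseDisjoint hpq) x hp hq
  by_cases hl : l = i
  · subst hl
    exact hb0 (hd (Ne.symm hij) hb (by simpa using (D l).sub_mem h ha))
  · obtain ⟨x, hx, hxa⟩ := S.nd i a ha ha0
    refine hxa ?_
    have h1 := S.orth i l (Ne.symm hl) x hx _ h
    rwa [map_add, S.orth i j hij x hx b hb, add_zero] at h1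

theorem tau_map {i : Fin t} {x : V} (hx : x ∈ D i) (c : F) (a : Fin t) :
    (D a).map (FormsLib.tau S.alt x c : V →ₗ[F] V) = D a := by
  have key : ∀ (c : F), ∀ v ∈ D a, FormsLib.tau S.alt x c v ∈ D a := by
    intro c v hv
    rw [FormsLib.tau_apply]
    by_cases h : a = i
    · subst h
      exact (D a).add_mem hv ((D a).smul_mem _ hx)
    · rw [S.orth a i h v hv x hx, mul_zero, zero_smul, add_zero]
      exact hv
  refine le_antisymm (Submodule.map_le_iff_le_comap.2 fun v hv => key c v hv) fun v hv => ?_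
  refine ⟨(FormsLib.tau S.alt x c)⁻¹ v, ?_, LinearEquiv.apply_symm_apply _ v⟩
  rw [FormsLib.tau_inv]
  exact key _ v hv

/-- Every permutation of the subspaces is induced by an isometry. -/
theorem exists_perm_isometry (σ : Equiv.Perm (Fin t)) :
    ∃ h ∈ FormsLib.isoGroup B, ∀ a, (D a).map (h : V →ₗ[F] V) = D (σ a) := by
  classical
  have hb : ∀ a, ∃ b : Module.Basis (Fin (k / 2) ⊕ Fin (k / 2)) F (D a),
      (∀ i j, B (b (.inl i) : V) (b (.inr j)) = if i = j then 1 else 0) ∧
      (∀ i j, B (b (.inl i) : V) (b (.inl j)) = 0) ∧ (∀ i j, B (b (.inr i) : V) (b (.inr j)) = 0) := by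
    intro a
    have hA : LinearMap.IsAlt (B.restrict (D a)) := fun x => S.alt (x : V)
    have hN : LinearMap.Nondegenerate (B.restrict (D a)) := by
      constructor
      · intro x hx
        by_contra h
        obtain ⟨y, hy, hyx⟩ := S.nd a x x.2 (fun e => h (Subtype.ext e))
        exact hyx (by rw [FormsLib.alt_swap S.alt (x : V) y]; simpa using hx ⟨y, hy⟩)
      · intro x hx
        by_contra h
        obtain ⟨y, hy, hyx⟩ := S.nd a x x.2 (fun e => h (Subtype.ext e))
        exact hyx (by simpa using hx ⟨y, hy⟩)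
    obtain ⟨m, b, h1, h2, h3⟩ := FormsLib.exists_symplectic_basis_nondeg hA hN
    have hm : m = k / 2 := by
      have := Module.finrank_eq_card_basis b
      rw [S.finrank, Fintype.card_sum, Fintype.card_fin] at this
      omega
    subst hm
    exact ⟨b, h1, h2, h3⟩
  choose b h1 h2 h3 using hb
  have hint : DirectSum.IsInternal D :=
    DirectSum.isInternal_submodule_of_iSupIndep_of_iSup_eq_top S.indep S.sup
  let bb := hint.collectedBasis b
  have hbb : ∀ p, bb p = (b p.1 p.2 : V) := fun p => by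
    rw [DirectSum.IsInternal.collectedBasis_coe]
  let e : (Σ _ : Fin t, Fin (k / 2) ⊕ Fin (k / 2)) ≃ (Σ _ : Fin t, Fin (k / 2) ⊕ Fin (k / 2)) :=
    Equiv.sigmaCongrLeft (β := fun _ : Fin t => Fin (k / 2) ⊕ Fin (k / 2)) σ
  have he : ∀ a x, e ⟨a, x⟩ = ⟨σ a, x⟩ := fun a x => rfl
  let h := bb.equiv bb e
  have hh : ∀ p, h (bb p) = bb (e p) := fun p => by simp [h]
  refine ⟨h, ?_, fun a => ?_⟩
  · have key : LinearMap.BilinForm.comp B (h : V →ₗ[F] V) (h : V →ₗ[F] V) = B := by
      refine LinearMap.BilinForm.ext_basis bb fun p p' => ?_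
      obtain ⟨a, x⟩ := p
      obtain ⟨a', x'⟩ := p'
      rw [LinearMap.BilinForm.comp_apply, LinearEquiv.coe_coe, hh, hh, he, he]
      simp only [hbb]
      by_cases hab : a = a'
      · subst hab
        rcases x with x | x <;> rcases x' with x' | x'
        · rw [h2, h2]
        · rw [h1, h1]
        · rw [FormsLib.alt_swap S.alt, h1, FormsLib.alt_swap S.alt (b a (.inl x') : V), h1]
        · rw [h3, h3]
      · rw [S.orth a a' hab _ (b a x).2 _ (b a' x').2,
          S.orth (σ a) (σ a') (fun e => hab (σ.injective e)) _ (b _ x).2 _ (b _ x').2]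
    intro u v
    exact LinearMap.congr_fun₂ key u v
  · have hspan : ∀ a, D a = Submodule.span F (Set.range fun x => (b a x : V)) := fun a => by
      have := congrArg (Submodule.map (D a).subtype) (b a).span_eq
      rw [Submodule.map_top, Submodule.range_subtype, Submodule.map_span, ← Set.range_comp] at this
      exact this.symm
    rw [hspan a, Submodule.map_span, ← Set.range_comp, hspan (σ a)]
    congr 1
    refine congrArg Set.range (funext fun x => ?_)
    have := hh ⟨a, x⟩
    rwa [he, hbb, hbb] at this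

/-- A proper overgroup of the decomposition stabiliser contains all transvections. -/
theorem tauGroup_le_of_over {K : Subgroup (V ≃ₗ[F] V)} (hK : K ≤ FormsLib.isoGroup B)
    (hstab : ∀ h ∈ FormsLib.isoGroup B,
      (∃ σ : Equiv.Perm (Fin t), ∀ a, (D a).map (h : V →ₗ[F] V) = D (σ a)) → h ∈ K)
    (hkq : k = 2 → ∃ μ : F, μ ≠ 0 ∧ μ ≠ 1)
    {g : V ≃ₗ[F] V} (hgK : g ∈ K)
    (hg : ¬ ∃ σ : Equiv.Perm (Fin t), ∀ a, (D a).map (g : V →ₗ[F] V) = D (σ a)) :
    FormsLib.tauGroup S.alt ≤ K := by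
  classical
  let C : Set V := {v | ∀ e, FormsLib.tau S.alt v e ∈ K}
  have hconj : ∀ h ∈ K, ∀ v ∈ C, h v ∈ C := fun h hh v hv e => by
    rw [← FormsLib.tau_conj S.alt (hK hh) v e]
    exact K.mul_mem (K.mul_mem hh (hv e)) (K.inv_mem hh)
  have hsingle : ∀ i, ∀ x ∈ D i, x ∈ C := fun i x hx e =>
    hstab _ (FormsLib.tau_mem S.alt x e) ⟨1, fun a => S.tau_map hx e a⟩
  have hline : ∀ w ∈ C, ∀ w' ∈ C, B w w' ≠ 0 → ∀ s : F, w + s • w' ∈ C := by
    intro w hw w' hw' hne s
    have := hconj _ (hw' (s / B w w')) w hw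
    rwa [FormsLib.tau_apply, div_mul_cancel₀ _ hne] at this
  have hmove : ∀ i, ∀ a ∈ D i, ∀ a' ∈ D i, a ≠ 0 → a' ≠ 0 → ∀ r, (∀ x ∈ D i, B r x = 0) →
      a + r ∈ C → a' + r ∈ C := by
    intro i a ha a' ha' ha0 ha'0 r hr hC
    have step : ∀ x ∈ D i, ∀ y ∈ D i, B x y ≠ 0 → x + r ∈ C → y + r ∈ C := by
      intro x hx y hy hxy hxr
      have h1 := hline _ hxr _ (hsingle i _ ((D i).sub_mem hy hx)) (by
        rw [map_add, LinearMap.add_apply, hr _ ((D i).sub_mem hy hx), map_sub, S.alt x, sub_zero,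
          add_zero]
        exact hxy) 1
      rw [one_smul] at h1
      convert h1 using 1
      abel
    obtain ⟨x, hx, hxa⟩ := S.nd i a ha ha0
    obtain ⟨y, hy, hya⟩ := S.nd i a' ha' ha'0
    obtain ⟨⟨z, hz⟩, hz1, hz2⟩ := FormsLib.exists_ne_zero_pair (W := D i)
      (f := (B.flip a).comp (D i).subtype) (g := (B.flip a').comp (D i).subtype)
      (u := ⟨x, hx⟩) hxa (v := ⟨y, hy⟩) hya
    refine step z hz a' ha' hz2 (step a ha z hz ?_ hC)
    rw [FormsLib.alt_swap S.alt z a]
    exact neg_ne_zero.mpr hz1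
  -- reduce to two components
  have hreduce : ∀ c : Fin t → V, (∀ i, c i ∈ D i) → ∀ i j, i ≠ j → c i ≠ 0 → c j ≠ 0 →
      ∑ l, c l ∈ C → ∃ a ∈ D i, ∃ b ∈ D j, a ≠ 0 ∧ b ≠ 0 ∧ a + b ∈ C := by
    intro c hc i j hij hi hj hC
    set r := ∑ l ∈ (Finset.univ.erase i).erase j, c l with hr
    have hsum : ∑ l, c l = c i + (c j + r) := by
      rw [hr, Finset.add_sum_erase (Finset.univ.erase i) c
        (Finset.mem_erase.2 ⟨hij.symm, Finset.mem_univ _⟩), Finset.add_sum_erase _ c (Finset.mem_univ i)]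
    have hri : ∀ l ∈ ({i, j} : Finset (Fin t)), ∀ x ∈ D l, B r x = 0 := by
      intro l hl x hx
      rw [hr, map_sum, LinearMap.sum_apply]
      refine Finset.sum_eq_zero fun l' hl' => S.orth l' l ?_ _ (hc l') x hx
      simp only [Finset.mem_erase, Finset.mem_univ, and_true] at hl'
      simp only [Finset.mem_insert, Finset.mem_singleton] at hl
      rcases hl with rfl | rfl
      · exact hl'.2
      · exact hl'.1
    obtain ⟨x₀, hx₀, hx₀c⟩ := S.nd i (c i) (hc i) hi
    obtain ⟨y, hy, hy0, hyne, hyc⟩ : ∃ y ∈ D j, y ≠ 0 ∧ y ≠ c j ∧ B (c j) y = 0 := by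
      by_cases hk : k = 2
      · obtain ⟨μ, hμ0, hμ1⟩ := hkq hk
        refine ⟨μ • c j, (D j).smul_mem _ (hc j), smul_ne_zero hμ0 hj, fun e => hμ1 ?_,
          by simp [S.alt (c j)]⟩
        exact smul_left_injective F hj (by simpa using e)
      · let φ : D j →ₗ[F] F := (B (c j)).comp (D j).subtype
        have h1 := LinearMap.finrank_range_add_finrank_ker φ
        have h2 := Submodule.finrank_le (LinearMap.range φ)
        rw [Module.finrank_self] at h2
        rw [S.finrank] at h1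
        have h3 : ¬ LinearMap.ker φ ≤ Submodule.span F {⟨c j, hc j⟩} := fun hle => by
          have h4 := Submodule.finrank_mono hle
          rw [finrank_span_singleton (fun e => hj (congrArg Subtype.val e))] at h4
          have := S.two_le_dim
          omega
        obtain ⟨⟨y, hy⟩, hyk, hys⟩ := SetLike.not_le_iff_exists.1 h3
        refine ⟨y, hy, fun e => hys ?_, fun e => hys ?_, hyk⟩
        · subst e
          exact Submodule.zero_mem _
        · subst e
          exact Submodule.mem_span_singleton_self _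
    have hne : B (c i) x₀ ≠ 0 := by
      rw [FormsLib.alt_swap S.alt x₀ (c i)]
      exact neg_ne_zero.mpr hx₀c
    have hx00 : x₀ ≠ 0 := fun e => hx₀c (by simp [e])
    rw [hsum] at hC
    have h1 : x₀ + (c j + r) ∈ C := hmove i _ (hc i) _ hx₀ hi hx00 _ (fun x hx => by
      rw [map_add, LinearMap.add_apply, S.orth j i hij.symm _ (hc j) x hx, hri i (by simp) x hx,
        add_zero]) hC
    rw [add_left_comm] at h1
    have h2 : y + (x₀ + r) ∈ C := hmove j _ (hc j) _ hy hj hy0 _ (fun x hx => by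
      rw [map_add, LinearMap.add_apply, S.orth i j hij _ hx₀ x hx, hri j (by simp) x hx, add_zero]) h1
    have h3 := hline _ hC _ h2 (by
      have hrr : B r r = 0 := S.alt r
      have e1 : B r x₀ = 0 := hri i (by simp) _ hx₀
      have e2 : B r y = 0 := hri j (by simp) _ hy
      have e3 : B (c i) r = 0 := by rw [FormsLib.alt_swap S.alt r, hri i (by simp) _ (hc i), neg_zero]
      have e4 : B (c j) r = 0 := by rw [FormsLib.alt_swap S.alt r, hri j (by simp) _ (hc j), neg_zero]
      simp only [map_add, LinearMap.add_apply, hrr, e1, e2, e3, e4, hyc,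
        S.orth i j hij _ (hc i) y hy, S.orth j i hij.symm _ (hc j) x₀ hx₀, add_zero, zero_add]
      exact hne) (-1)
    refine ⟨c i - x₀, (D i).sub_mem (hc i) hx₀, c j - y, (D j).sub_mem (hc j) hy, ?_,
      sub_ne_zero.mpr hyne.symm, ?_⟩
    · intro e
      rw [sub_eq_zero] at e
      rw [← e] at hne
      exact hne (S.alt (c i))
    · convert h3 using 1
      module
  -- one linked pair
  obtain ⟨i, x, hx, hgx⟩ : ∃ i, ∃ x ∈ D i, ∀ l, g x ∉ D l := by
    by_contra hcon
    push Not at hcon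
    have hmap : ∀ i, ∃ j, (D i).map (g : V →ₗ[F] V) = D j := by
      intro i
      obtain ⟨x₀, hx₀, hx₀0⟩ := S.exists_ne_zero i
      obtain ⟨j, hj⟩ := hcon i x₀ hx₀
      refine ⟨j, Submodule.eq_of_le_of_finrank_eq ?_ ?_⟩
      · rintro _ ⟨x, hx, rfl⟩
        obtain ⟨l, hl⟩ := hcon i x hx
        obtain ⟨r, hr⟩ := hcon i (x₀ + x) ((D i).add_mem hx₀ hx)
        show g x ∈ D j
        by_cases hlj : l = j
        · exact hlj ▸ hl
        by_cases hx0 : g x = 0
        · rw [hx0]; exact Submodule.zero_mem _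
        exact absurd (by rwa [map_add] at hr)
          (S.add_not_mem (Ne.symm hlj) hj hl ((LinearEquiv.map_ne_zero_iff _).2 hx₀0) hx0 r)
      · rw [LinearEquiv.finrank_map_eq, S.finrank, S.finrank]
    choose τ hτ using hmap
    have hinj : Function.Injective τ := by
      intro a b hab
      by_contra hne
      obtain ⟨x₀, hx₀, hx₀0⟩ := S.exists_ne_zero a
      have hm : g x₀ ∈ (D b).map (g : V →ₗ[F] V) := by
        rw [hτ b, ← hab, ← hτ a]
        exact ⟨x₀, hx₀, rfl⟩
      obtain ⟨y, hy, hyx⟩ := hm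
      rw [g.injective hyx] at hy
      exact hx₀0 (Submodule.disjoint_def.1 (S.indep.pairwiseDisjoint hne) x₀ hx₀ hy)
    exact hg ⟨Equiv.ofBijective τ (Finite.injective_iff_bijective.1 hinj), hτ⟩
  obtain ⟨c, hc, hcg⟩ := S.exists_comp (g x)
  obtain ⟨i₁, j₁, hij, hi₁, hj₁⟩ : ∃ i₁ j₁, i₁ ≠ j₁ ∧ c i₁ ≠ 0 ∧ c j₁ ≠ 0 := by
    by_contra hcon
    push Not at hcon
    by_cases hall : ∀ a, c a = 0
    · exact hgx i (by rw [hcg]; simp [hall])
    push Not at hall
    obtain ⟨a, ha⟩ := hall
    refine hgx a ?_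
    rw [hcg, Finset.sum_eq_single a (fun b _ hb => hcon a b (Ne.symm hb) ha) (by simp)]
    exact hc a
  obtain ⟨a₀, ha₀, b₀, hb₀, ha₀0, hb₀0, hab₀⟩ := hreduce c hc i₁ j₁ hij hi₁ hj₁
    (hcg ▸ hconj g hgK x (hsingle i x hx))
  have hpair₁ : ∀ a ∈ D i₁, ∀ b ∈ D j₁, a + b ∈ C := by
    intro a ha b hb
    by_cases ha0 : a = 0
    · rw [ha0, zero_add]; exact hsingle _ b hb
    by_cases hb0 : b = 0
    · rw [hb0, add_zero]; exact hsingle _ a ha
    have h1 := hmove i₁ _ ha₀ _ ha ha₀0 ha0 b₀ (fun y hy => S.orth j₁ i₁ hij.symm _ hb₀ y hy) hab₀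
    rw [add_comm] at h1
    have h2 := hmove j₁ _ hb₀ _ hb hb₀0 hb0 a (fun y hy => S.orth i₁ j₁ hij _ ha y hy) h1
    rwa [add_comm]
  -- all pairs
  have hpair : ∀ i j, i ≠ j → ∀ a ∈ D i, ∀ b ∈ D j, a + b ∈ C := by
    intro i j hij' a ha b hb
    let σ₁ := Equiv.swap i₁ i
    let σ : Equiv.Perm (Fin t) := σ₁.trans (Equiv.swap (σ₁ j₁) j)
    have hσi : σ i₁ = i := by
      simp only [σ, Equiv.trans_apply, σ₁, Equiv.swap_apply_left]
      refine Equiv.swap_apply_of_ne_of_ne ?_ hij'
      intro e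
      apply hij
      apply (Equiv.swap i₁ i).injective
      rw [Equiv.swap_apply_left]
      exact e
    have hσj : σ j₁ = j := by simp [σ]
    obtain ⟨h, hh, hhmap⟩ := S.exists_perm_isometry σ
    have hhK := hstab h hh ⟨σ, hhmap⟩
    rw [← hσi, ← hhmap] at ha
    rw [← hσj, ← hhmap] at hb
    obtain ⟨a', ha', rfl⟩ := ha
    obtain ⟨b', hb', rfl⟩ := hb
    have := hconj h hhK _ (hpair₁ a' ha' b' hb')
    rwa [map_add] at this
  have hall : ∀ (n : ℕ) (c : Fin t → V), (∀ i, c i ∈ D i) →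
      (Finset.univ.filter fun i => c i ≠ 0).card = n → ∑ l, c l ∈ C := by
    intro n
    induction n using Nat.strong_induction_on with
    | _ n ih =>
    intro c hc hn
    by_cases h2 : ∃ i j, i ≠ j ∧ c i ≠ 0 ∧ c j ≠ 0
    · obtain ⟨i, j, hij', hi, hj⟩ := h2
      obtain ⟨y, hy, hyc⟩ := S.nd j _ (hc j) hj
      let c' := Function.update (Function.update c i 0) j (c j - y)
      have hc' : ∀ l, c' l ∈ D l := fun l => by
        rcases eq_or_ne l j with rfl | hlj
        · simp only [c', Function.update_self]; exact (D l).sub_mem (hc l) hy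
        · rcases eq_or_ne l i with rfl | hli
          · simp [c', hlj]
          · simp [c', hlj, hli, hc l]
      have hci : c' i = 0 := by simp [c', hij']
      have hlt : (Finset.univ.filter fun l => c' l ≠ 0).card < n := by
        rw [← hn]
        refine Finset.card_lt_card (Finset.ssubset_iff_of_subset ?_ |>.2 ⟨i, by simp [hi], by simp [hci]⟩)
        intro l hl
        simp only [Finset.mem_filter, Finset.mem_univ, true_and] at hl ⊢
        rcases eq_or_ne l j with rfl | hlj
        · exact hj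
        rcases eq_or_ne l i with rfl | hli
        · exact hi
        simpa [c', hlj, hli] using hl
      have hw := ih _ hlt c' hc' rfl
      have hw' := hpair i j hij' _ (hc i) y hy
      have hB : B (∑ l, c' l) (c i + y) ≠ 0 := by
        rw [FormsLib.alt_swap S.alt (c i + y), map_add, LinearMap.add_apply, S.pair_comp hc' (hc i),
          S.pair_comp hc' hy, hci, map_zero, zero_add]
        simpa [c', S.alt y] using hyc
      have h := hline _ hw _ hw' hB 1
      convert h using 1
      have hdiff : ∑ l, (c l - c' l) = c i + y := by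
        rw [Fintype.sum_eq_add i j hij']
        · simp [c', hij']
        · rintro l ⟨hli, hlj⟩
          simp [c', hli, hlj]
      rw [Finset.sum_sub_distrib] at hdiff
      rw [one_smul, ← hdiff, add_sub_cancel]
    · push Not at h2
      by_cases hz : ∀ a, c a = 0
      · simp only [hz, Finset.sum_const_zero]
        exact hsingle i₁ 0 (Submodule.zero_mem _)
      push Not at hz
      obtain ⟨a, ha⟩ := hz
      rw [Finset.sum_eq_single a (fun b _ hb => h2 a b (Ne.symm hb) ha) (by simp)]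
      exact hsingle a _ (hc a)
  refine (Subgroup.closure_le _).2 ?_
  rintro _ ⟨v, e, rfl⟩
  obtain ⟨c, hc, rfl⟩ := S.exists_comp v
  exact hall _ c hc rfl e

/-- The stabiliser of the decomposition is a proper subgroup of the isometry group. -/
theorem exists_not_stab :
    ∃ g ∈ FormsLib.isoGroup B,
      ¬ ∃ σ : Equiv.Perm (Fin t), ∀ a, (D a).map (g : V →ₗ[F] V) = D (σ a) := by
  have h0 : 0 < t := by have := S.two_le; omega
  have h1 : 1 < t := by have := S.two_le; omega
  let i : Fin t := ⟨0, h0⟩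
  let j : Fin t := ⟨1, h1⟩
  have hij : i ≠ j := by simp [i, j]
  obtain ⟨a, ha, ha0⟩ := S.exists_ne_zero i
  obtain ⟨b, hb, hb0⟩ := S.exists_ne_zero j
  obtain ⟨x, hx, hxa⟩ := S.nd i a ha ha0
  refine ⟨_, FormsLib.tau_mem S.alt (a + b) 1, fun ⟨σ, hσ⟩ => ?_⟩
  have hm : FormsLib.tau S.alt (a + b) 1 x ∈ D (σ i) := hσ i ▸ ⟨x, hx, rfl⟩
  rw [FormsLib.tau_apply, map_add, S.orth i j hij x hx b hb, add_zero, one_mul, smul_add, ← add_assoc]
    at hm
  refine S.add_not_mem hij ((D i).add_mem hx ((D i).smul_mem _ ha)) ((D j).smul_mem _ hb) ?_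
    (smul_ne_zero hxa hb0) _ hm
  intro e
  have h2 := congrArg (fun v => B v a) e
  simp [S.alt a, hxa] at h2

end DecSetting

end Cfsg.Agent.TransvMax
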