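import Cfsg.Agent.Lib.TransvMax.SpBridge
import Cfsg.Agent.Lib.TransvMax.DecompOver

/-!
Matrix form of the decomposition setting inside `spGL`.
-/

set_option autoImplicit false

namespace Cfsg.Agent.TransvMax

open scoped Matrix MatrixGroups
open Cfsg.Agent

variable {F : Type*} [Field F] {m t k : ℕ} {D : Fin t → Submodule F (Fin m ⊕ Fin m → F)}

theorem decSetting_of_nondeg
    (hD : Cfsg.Geo.IsNondegenerateMDecomposition (Cfsg.sympForm m F) k D) :
    DecSetting (FormsLib.spB m F) k D where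
  alt := FormsLib.spB_alt
  nondeg := FormsLib.spB_nondeg
  orth i j hij u hu v hv := by rw [← sympForm_eq_spB]; exact hD.orthogonal i j hij u hu v hv
  nd i w hw hw0 := by
    obtain ⟨x, hx, h⟩ := (hD.nondegenerate i w hw hw0).1
    exact ⟨x, hx, by rwa [← sympForm_eq_spB]⟩
  indep := hD.decomp.indep
  sup := hD.decomp.iSup_eq_top
  finrank := hD.decomp.finrank_eq
  pos := hD.decomp.pos
  two_le := hD.decomp.two_le

theorem glOf_mem_decStab {g : (Fin m ⊕ Fin m → F) ≃ₗ[F] (Fin m ⊕ Fin m → F)} :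
    glOf g ∈ Cfsg.Geo.decompositionStabilizer D ↔
      ∃ σ : Equiv.Perm (Fin t), ∀ a, (D a).map (g : _ →ₗ[F] _) = D (σ a) := by
  have h : Matrix.toLin' ((glOf g : GL (Fin m ⊕ Fin m) F) :
      Matrix (Fin m ⊕ Fin m) (Fin m ⊕ Fin m) F) =
      (g : (Fin m ⊕ Fin m → F) →ₗ[F] (Fin m ⊕ Fin m → F)) := LinearMap.ext fun x => by
    rw [Matrix.toLin'_apply]
    exact glOf_mulVec g x
  show (∃ σ : Equiv.Perm (Fin t), ∀ i, (D i).map (Matrix.toLin'
    ((glOf g : GL (Fin m ⊕ Fin m) F) : Matrix _ _ F)) = D (σ i)) ↔ _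
  rw [h]

end Cfsg.Agent.TransvMax
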