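import Cfsg.Agent.Lib.TransvMax.Basic

/-!
The normaliser of an extraspecial group of order 27 and exponent three in dimension three, and the
elements of prime order conjugate into it.
-/

set_option autoImplicit false

namespace Cfsg.Agent.Heis3

open Cfsg.Agent
open scoped Matrix MatrixGroups

variable {F : Type*} [Field F]

theorem entry_eq {g g' : GL (Fin 3) F} (h : g = g') (i j : Fin 3) :
    (g : Matrix (Fin 3) (Fin 3) F) i j = (g' : Matrix (Fin 3) (Fin 3) F) i j := by rw [h]

/-- Diagonal invertible matrices. -/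
def dg : (Fin 3 → Fˣ) →* GL (Fin 3) F :=
  MonoidHom.mk'
    (fun d =>
      { val := Matrix.diagonal fun i => (d i : F)
        inv := Matrix.diagonal fun i => ((d i)⁻¹ : Fˣ)
        val_inv := by rw [Matrix.diagonal_mul_diagonal]; simp
        inv_val := by rw [Matrix.diagonal_mul_diagonal]; simp })
    (fun d d' => Units.ext (by simp [Matrix.diagonal_mul_diagonal]))

@[simp]
theorem dg_val (d : Fin 3 → Fˣ) :
    ((dg d : GL (Fin 3) F) : Matrix (Fin 3) (Fin 3) F) = Matrix.diagonal fun i => (d i : F) := rfl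

theorem dg_inj : Function.Injective (dg (F := F)) := fun d d' h => funext fun i => Units.ext (by
  have := entry_eq h i i
  simpa using this)

/-- The cyclic shift. -/
def sh : GL (Fin 3) F :=
  ⟨!![0, 0, 1; 1, 0, 0; 0, 1, 0], !![0, 1, 0; 0, 0, 1; 1, 0, 0],
    by ext i j; fin_cases i <;> fin_cases j <;> simp [Matrix.mul_apply, Fin.sum_univ_three],
    by ext i j; fin_cases i <;> fin_cases j <;> simp [Matrix.mul_apply, Fin.sum_univ_three]⟩

/-- The negated transposition. -/
def tau : GL (Fin 3) F :=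
  ⟨!![-1, 0, 0; 0, 0, -1; 0, -1, 0], !![-1, 0, 0; 0, 0, -1; 0, -1, 0],
    by ext i j; fin_cases i <;> fin_cases j <;> simp [Matrix.mul_apply, Fin.sum_univ_three],
    by ext i j; fin_cases i <;> fin_cases j <;> simp [Matrix.mul_apply, Fin.sum_univ_three]⟩

theorem sh_dg (d : Fin 3 → Fˣ) : sh * dg d = dg (fun i => d (i - 1)) * sh := by
  refine Units.ext ?_
  ext i j
  fin_cases i <;> fin_cases j <;>
    simp [sh, Matrix.mul_apply, Matrix.diagonal, Fin.sum_univ_three,
      show (0 : Fin 3) - 1 = 2 from rfl, show (2 : Fin 3) - 1 = 1 from rfl]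

theorem tau_dg (d : Fin 3 → Fˣ) : tau * dg d = dg ![d 0, d 2, d 1] * tau := by
  refine Units.ext ?_
  ext i j
  fin_cases i <;> fin_cases j <;>
    simp [tau, Matrix.mul_apply, Matrix.diagonal, Fin.sum_univ_three]

theorem sh_cube : (sh : GL (Fin 3) F) * sh * sh = 1 := by
  refine Units.ext ?_
  ext i j
  fin_cases i <;> fin_cases j <;> simp [sh, Matrix.mul_apply, Fin.sum_univ_three]

theorem tau_sh : (tau : GL (Fin 3) F) * sh = sh * sh * tau := by
  refine Units.ext ?_
  ext i j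
  fin_cases i <;> fin_cases j <;> simp [sh, tau, Matrix.mul_apply, Fin.sum_univ_three]

theorem tau_tau : (tau : GL (Fin 3) F) * tau = 1 := by
  refine Units.ext ?_
  ext i j
  fin_cases i <;> fin_cases j <;> simp [tau, Matrix.mul_apply, Fin.sum_univ_three]

theorem det_dg (d : Fin 3 → Fˣ) :
    ((dg d : GL (Fin 3) F) : Matrix (Fin 3) (Fin 3) F).det = (d 0 : F) * d 1 * d 2 := by
  rw [dg_val, Matrix.det_diagonal, Fin.prod_univ_three]

theorem det_tau : ((tau : GL (Fin 3) F) : Matrix (Fin 3) (Fin 3) F).det = 1 := by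
  simp [tau, Matrix.det_fin_three]

theorem det_sh : ((sh : GL (Fin 3) F) : Matrix (Fin 3) (Fin 3) F).det = 1 := by
  simp [sh, Matrix.det_fin_three]

/-- A matrix commuting with a diagonal one with distinct entries and with the shift is scalar. -/
theorem scalar_of_comm {d : Fin 3 → Fˣ} (hd : Function.Injective d) {y : GL (Fin 3) F}
    (h1 : y * dg d = dg d * y) :
    (∃ c : Fin 3 → Fˣ, y = dg c) ∧ (y * sh = sh * y → ∃ c : F, (y : Matrix (Fin 3) (Fin 3) F) = c • 1) := by
  have hoff : ∀ i j, i ≠ j → (y : Matrix (Fin 3) (Fin 3) F) i j = 0 := by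
    intro i j hij
    have := entry_eq h1 i j
    simp [Matrix.mul_apply, Matrix.diagonal] at this
    by_contra h0
    exact hij (hd (Units.ext (mul_right_cancel₀ h0 (by linear_combination -this))))
  have hdiag : ∀ i, (y : Matrix (Fin 3) (Fin 3) F) i i ≠ 0 := by
    intro i h0
    have hdet := ((Matrix.isUnit_iff_isUnit_det _).1 y.isUnit).ne_zero
    exact hdet (Matrix.det_eq_zero_of_row_eq_zero i fun j => by
      rcases eq_or_ne i j with rfl | hij
      · exact h0
      · exact hoff i j hij)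
  refine ⟨⟨fun i => Units.mk0 _ (hdiag i), Units.ext ?_⟩, fun h2 => ⟨(y : Matrix (Fin 3) (Fin 3) F) 0 0, ?_⟩⟩
  · ext i j
    rcases eq_or_ne i j with rfl | hij
    · simp
    · simp [hoff i j hij, Matrix.diagonal_apply_ne _ hij]
  · have e1 := entry_eq h2 1 0
    have e2 := entry_eq h2 2 1
    simp [sh, Matrix.mul_apply, Fin.sum_univ_three] at e1 e2
    ext i j
    rcases eq_or_ne i j with rfl | hij
    · fin_cases i
      · simp
      · simpa using e1
      · simp [e2, e1]
    · simp [hoff i j hij, hij]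

variable (ρ : Fˣ)

/-- A geometric progression of cube roots of unity. -/
def gp (k m : ℕ) : Fin 3 → Fˣ := fun i => ρ ^ (k + m * (i : ℕ))

variable {ρ}

theorem pow_mod_three (hρ : ρ ^ 3 = 1) (k : ℕ) : ρ ^ k = ρ ^ (k % 3) := by
  conv_lhs => rw [← Nat.mod_add_div k 3, pow_add, pow_mul, hρ, one_pow, mul_one]

theorem rho_eq (hρ : ρ ^ 3 = 1) (h1 : ρ ≠ 1) {a b : ℕ} (h : ρ ^ a = ρ ^ b) : a % 3 = b % 3 := by
  have : orderOf ρ = 3 := orderOf_eq_prime hρ h1
  have h' := (pow_eq_pow_iff_modEq).1 h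
  rwa [this] at h'

/-- The standard group of order 27. -/
def stdElt (ρ : Fˣ) (p : Fin 3 × Fin 3 × Fin 3) : GL (Fin 3) F :=
  dg (gp ρ p.1 p.2.1) * sh ^ (p.2.2 : ℕ)

theorem stdElt_inj (hρ : ρ ^ 3 = 1) (h1 : ρ ≠ 1) : Function.Injective (stdElt ρ) := by
  rintro ⟨k, m, j⟩ ⟨k', m', j'⟩ h
  have hj : j = j' := by
    by_contra hne
    have := entry_eq h j 0
    fin_cases j <;> fin_cases j' <;>
      simp [stdElt, sh, pow_two, Matrix.mul_apply, Fin.sum_univ_three] at hne this
  subst hj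
  have hd := dg_inj (mul_right_cancel h)
  have e0 := rho_eq hρ h1 (congrFun hd 0)
  have e1 := rho_eq hρ h1 (congrFun hd 1)
  simp at e0 e1
  have := k.isLt
  have := k'.isLt
  have := m.isLt
  have := m'.isLt
  refine Prod.ext (Fin.ext ?_) (Prod.ext (Fin.ext ?_) rfl) <;> simp only <;> omega

/-- Elements of a group of order 27 containing the standard generators. -/
theorem std_surj (hρ : ρ ^ 3 = 1) (h1 : ρ ≠ 1) {R0 : Subgroup (GL (Fin 3) F)} [Finite R0]
    (hU : dg (gp ρ 0 1) ∈ R0) (hV : sh ∈ R0) (hc : Nat.card R0 = 27) :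
    (∀ k m : ℕ, dg (gp ρ k m) ∈ R0) ∧ ∀ g ∈ R0, ∃ k m j : ℕ, g = dg (gp ρ k m) * sh ^ j := by
  have hZ : dg (gp ρ 1 0) ∈ R0 := by
    have e : dg (gp ρ 1 0) = dg (gp ρ 0 1) * (sh * dg (gp ρ 0 1)⁻¹ * sh⁻¹) := by
      rw [sh_dg, mul_inv_cancel_right, ← map_mul]
      congr 1
      funext i
      simp only [Pi.mul_apply, Pi.inv_apply, gp]
      rw [eq_mul_inv_iff_mul_eq, ← pow_add]
      fin_cases i
      · show ρ ^ (1 + 0 + (0 + 1 * 2)) = ρ ^ 0
        rw [pow_mod_three hρ]
      · rfl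
      · rfl
    rw [e]
    exact R0.mul_mem hU (R0.mul_mem (R0.mul_mem hV (by rw [map_inv]; exact R0.inv_mem hU)) (R0.inv_mem hV))
  have hgp : ∀ k m : ℕ, dg (gp ρ k m) ∈ R0 := fun k m => by
    have e : gp ρ k m = gp ρ 1 0 ^ k * gp ρ 0 1 ^ m := funext fun i => by
      simp only [Pi.mul_apply, Pi.pow_apply, gp]
      rw [← pow_mul, ← pow_mul, ← pow_add]
      ring_nf
    rw [e, map_mul, map_pow, map_pow]
    exact R0.mul_mem (R0.pow_mem hZ _) (R0.pow_mem hU _)
  refine ⟨hgp, fun g hg => ?_⟩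
  let f : Fin 3 × Fin 3 × Fin 3 → R0 := fun p =>
    ⟨stdElt ρ p, R0.mul_mem (hgp _ _) (R0.pow_mem hV _)⟩
  haveI := Fintype.ofFinite R0
  have hf : Function.Bijective f := (Fintype.bijective_iff_injective_and_card f).2
    ⟨fun p p' h => stdElt_inj hρ h1 (congrArg Subtype.val h), by
      rw [← Nat.card_eq_fintype_card (α := R0), hc]; rfl⟩
  obtain ⟨⟨k, m, j⟩, hp⟩ := hf.2 ⟨g, hg⟩
  exact ⟨k, m, j, (congrArg Subtype.val hp).symm⟩

theorem gp_injective (hρ : ρ ^ 3 = 1) (h1 : ρ ≠ 1) : Function.Injective (gp ρ 0 1) := by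
  intro i j h
  have := rho_eq hρ h1 h
  have := i.isLt
  have := j.isLt
  exact Fin.ext (by simp at this ⊢; omega)

/-- A matrix with an independent family of eigenvectors. -/
theorem exists_eigen_family {X : Matrix (Fin 3) (Fin 3) F} {κ : Type*} (c : κ → F)
    (h : ∀ v : Fin 3 → F, v ∈ Submodule.span F {w | ∃ k, X *ᵥ w = c k • w}) :
    ∃ (b : Fin 3 → Fin 3 → F) (f : Fin 3 → κ), LinearIndependent F b ∧
      ∀ i, X *ᵥ b i = c (f i) • b i := by
  obtain ⟨s, hs, hspan, hli⟩ := exists_linearIndependent F {w | ∃ k, X *ᵥ w = c k • w}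
  haveI : Finite s := hli.finite
  haveI := Fintype.ofFinite s
  have htop : Submodule.span F (Set.range ((↑) : s → Fin 3 → F)) = ⊤ := by
    rw [Subtype.range_coe, hspan, eq_top_iff]
    exact fun v _ => h v
  have hcard : Fintype.card s = 3 := by
    have := finrank_span_eq_card hli
    rw [htop, finrank_top, Module.finrank_fintype_fun_eq_card, Fintype.card_fin] at this
    exact this.symm
  let e : Fin 3 ≃ s := (finCongr hcard.symm).trans (Fintype.equivFin s).symm
  have hk : ∀ i : Fin 3, ∃ k, X *ᵥ (e i : Fin 3 → F) = c k • (e i : Fin 3 → F) := fun i => hs (e i).2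
  choose f hf using hk
  exact ⟨fun i => (e i : Fin 3 → F), f, hli.comp e e.injective, hf⟩

/-- The determinant from a family of eigenvectors. -/
theorem det_eigen {X : Matrix (Fin 3) (Fin 3) F} {b : Fin 3 → Fin 3 → F} {c : Fin 3 → F}
    (hb : LinearIndependent F b) (h : ∀ i, X *ᵥ b i = c i • b i) : X.det = c 0 * c 1 * c 2 := by
  let B : Module.Basis (Fin 3) F (Fin 3 → F) := basisOfLinearIndependentOfCardEqFinrank hb (by simp)
  have hM : LinearMap.toMatrix B B (Matrix.toLin' X) = Matrix.diagonal c := by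
    ext i j
    rw [LinearMap.toMatrix_apply, Matrix.toLin'_apply, coe_basisOfLinearIndependentOfCardEqFinrank, h,
      map_smul, ← coe_basisOfLinearIndependentOfCardEqFinrank hb (by simp : Fintype.card (Fin 3) = _)]
    rw [Module.Basis.repr_self]
    by_cases hij : i = j
    · subst hij; simp
    · simp [Matrix.diagonal_apply_ne _ hij, Finsupp.single_apply, Ne.symm hij]
  rw [← LinearMap.det_toLin' X, ← LinearMap.det_toMatrix B, hM, Matrix.det_diagonal, Fin.prod_univ_three]

/-- A frame for a non-commuting pair in a group of order 27 and exponent three. -/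
theorem exists_frame {R : Subgroup (GL (Fin 3) F)} (hR : Nat.card R = 27) (hRe : Monoid.exponent R = 3)
    (hρ' : ∃ ρ : Fˣ, ρ ^ 3 = 1 ∧ ρ ≠ 1) (h3 : (3 : F) ≠ 0)
    {u v : GL (Fin 3) F} (hu : u ∈ R) (hv : v ∈ R) (huv : v * u ≠ u * v) :
    ∃ (P : GL (Fin 3) F) (ρ : Fˣ), ρ ^ 3 = 1 ∧ ρ ≠ 1 ∧ u = P * dg (gp ρ 0 1) * P⁻¹ ∧
      v = P * sh * P⁻¹ := by
  obtain ⟨ρ, hρ, hρ1⟩ := hρ'
  haveI : Finite R := Nat.finite_of_card_ne_zero (by omega)
  have hcube : ∀ w ∈ R, w ^ 3 = 1 := fun w hw => by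
    have := Monoid.pow_exponent_eq_one (⟨w, hw⟩ : R)
    rw [hRe] at this
    exact congrArg Subtype.val this
  -- the commutator is central
  haveI : Fact (Nat.Prime 3) := ⟨Nat.prime_three⟩
  have hpR : IsPGroup 3 R := IsPGroup.of_card (n := 3) (by rw [hR]; norm_num)
  set z := v * u * v⁻¹ * u⁻¹ with hz
  have hzR : z ∈ R := R.mul_mem (R.mul_mem (R.mul_mem hv hu) (R.inv_mem hv)) (R.inv_mem hu)
  have hzc : ∀ w ∈ R, z * w = w * z := by
    haveI : Nontrivial R := Finite.one_lt_card_iff_nontrivial.1 (by omega)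
    have hC := hpR.center_nontrivial
    have hq : ∀ a b : R ⧸ Subgroup.center R, a * b = b * a := by
      have h1 := Subgroup.card_eq_card_quotient_mul_card_subgroup (Subgroup.center R)
      obtain ⟨k, hk⟩ := (hpR.to_quotient (Subgroup.center R)).exists_card_eq
      obtain ⟨l, hl⟩ := (hpR.to_subgroup (Subgroup.center R)).exists_card_eq
      have hl1 : l ≠ 0 := fun e => by
        rw [e, pow_zero] at hl
        have := Finite.one_lt_card_iff_nontrivial.2 hC
        omega
      rw [hR, hk, hl, ← pow_add, show (27 : ℕ) = 3 ^ 3 by norm_num] at h1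
      have := Nat.pow_right_injective (le_refl 2 |>.trans (by norm_num)) h1
      rcases (show k = 0 ∨ k = 1 ∨ k = 2 by omega) with rfl | rfl | rfl
      · haveI := (Nat.card_eq_one_iff_unique.1 (by simpa using hk)).1
        exact fun a b => Subsingleton.elim _ _
      · haveI := isCyclic_of_prime_card (p := 3) (by simpa using hk)
        exact fun a b => (IsCyclic.isMulCommutative (α := R ⧸ Subgroup.center R)).is_comm.comm a b
      · exact fun a b => (IsPGroup.isMulCommutative_of_card_eq_prime_sq (p := 3) hk).is_comm.comm a b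
    have hzm : (⟨z, hzR⟩ : R) ∈ Subgroup.center R := by
      rw [← QuotientGroup.eq_one_iff]
      have e : (⟨z, hzR⟩ : R) = ⟨v, hv⟩ * ⟨u, hu⟩ * ⟨v, hv⟩⁻¹ * ⟨u, hu⟩⁻¹ := rfl
      rw [e, QuotientGroup.mk_mul, QuotientGroup.mk_mul, QuotientGroup.mk_mul, hq (_ : R ⧸ _) (QuotientGroup.mk ⟨u, hu⟩),
        QuotientGroup.mk_inv, QuotientGroup.mk_inv, mul_inv_cancel_right, mul_inv_cancel]
    intro w hw
    exact congrArg Subtype.val (Subgroup.mem_center_iff.1 hzm ⟨w, hw⟩).symm
  have hvu : v * u = z * u * v := by rw [hz]; group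
  have hρs : (1 : F) + ρ + (ρ : F) ^ 2 = 0 := by
    have h0 : ((ρ : F) - 1) * (1 + ρ + (ρ : F) ^ 2) = 0 := by
      have : (ρ : F) ^ 3 = 1 := by rw [← Units.val_pow_eq_pow_val, hρ, Units.val_one]
      linear_combination this
    exact (mul_eq_zero.1 h0).resolve_left (sub_ne_zero.2 fun e => hρ1 (Units.ext e))
  -- eigenvectors of an element of order three
  have eig : ∀ w : GL (Fin 3) F, w ^ 3 = 1 → ∀ x : Fin 3 → F, x ≠ 0 →
      ∃ (k : ℕ) (x' : Fin 3 → F), x' ≠ 0 ∧ (w : Matrix (Fin 3) (Fin 3) F) *ᵥ x' = (ρ : F) ^ k • x' ∧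
        x' ∈ Submodule.span F ({x, (w : Matrix (Fin 3) (Fin 3) F) *ᵥ x,
          (w : Matrix (Fin 3) (Fin 3) F) *ᵥ ((w : Matrix (Fin 3) (Fin 3) F) *ᵥ x)} : Set (Fin 3 → F)) := by
    intro w hw x hx
    set W := (w : Matrix (Fin 3) (Fin 3) F)
    have hW : W *ᵥ (W *ᵥ (W *ᵥ x)) = x := by
      rw [Matrix.mulVec_mulVec, Matrix.mulVec_mulVec, ← Units.val_mul, ← Units.val_mul,
        show w * w * w = w ^ 3 by rw [pow_succ, pow_two], hw, Units.val_one, Matrix.one_mulVec]
    let p : ℕ → (Fin 3 → F) := fun k =>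
      (ρ : F) ^ (2 * k) • x + (ρ : F) ^ k • (W *ᵥ x) + W *ᵥ (W *ᵥ x)
    have hρ3 : (ρ : F) ^ 3 = 1 := by rw [← Units.val_pow_eq_pow_val, hρ, Units.val_one]
    obtain ⟨k, hk⟩ : ∃ k : Fin 3, p k ≠ 0 := by
      by_contra hc
      push Not at hc
      refine hx ?_
      have h := hc 0
      have h' := hc 1
      have h'' := hc 2
      have h3x : (3 : F) • x = 0 := by
        funext i
        have e0 := congrFun h i
        have e1 := congrFun h' i
        have e2 := congrFun h'' i
        simp [p, -Matrix.mulVec_mulVec] at e0 e1 e2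
        simp only [Pi.smul_apply, smul_eq_mul, Pi.zero_apply]
        linear_combination e0 + (ρ : F) * e1 + (ρ : F) ^ 2 * e2 - (W *ᵥ x) i * (1 + ρ ^ 2 + ρ ^ 4) * 0
          - ((W *ᵥ (W *ᵥ x)) i) * hρs - ((W *ᵥ x) i) * hρs - (x i * ((ρ : F) ^ 3 + 2) ) * hρ3
          - (W *ᵥ x) i * (ρ : F) * hρ3
      exact (smul_eq_zero.1 h3x).resolve_left h3
    refine ⟨(k : ℕ), p k, hk, ?_, ?_⟩
    · simp only [p, Matrix.mulVec_add, Matrix.mulVec_smul, hW, smul_add, smul_smul]
      have e : (ρ : F) ^ (k : ℕ) * (ρ : F) ^ (2 * (k : ℕ)) = 1 := by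
        rw [← pow_add, show (k : ℕ) + 2 * k = 3 * k by ring, pow_mul, hρ3, one_pow]
      rw [e, one_smul, show (ρ : F) ^ (k : ℕ) * (ρ : F) ^ (k : ℕ) = (ρ : F) ^ (2 * (k : ℕ)) by
        rw [← pow_add]; ring_nf]
      abel
    · refine Submodule.add_mem _ (Submodule.add_mem _ (Submodule.smul_mem _ _ (Submodule.subset_span ?_))
        (Submodule.smul_mem _ _ (Submodule.subset_span ?_))) (Submodule.subset_span ?_) <;> simp
  -- a non-trivial eigenvalue of the commutator
  obtain ⟨l, e', he', hle, hl⟩ : ∃ (l : ℕ) (e' : Fin 3 → F), e' ≠ 0 ∧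
      (z : Matrix (Fin 3) (Fin 3) F) *ᵥ e' = (ρ : F) ^ l • e' ∧ (ρ : F) ^ l ≠ 1 := by
    by_contra hc
    push Not at hc
    have hz1 : z ≠ 1 := fun e => huv (by rw [hvu, e, one_mul])
    apply hz1
    refine TransvMax.gl_ext fun x => ?_
    rw [Units.val_one, Matrix.one_mulVec]
    by_contra hne
    obtain ⟨l, x', hx', hl, hmem⟩ := eig z (hcube z hzR) _ (sub_ne_zero.2 hne)
    have hl1 := hc l x' hx' hl
    rw [hl1, one_smul] at hl
    have hfix : ∀ y ∈ Submodule.span F ({(z : Matrix (Fin 3) (Fin 3) F) *ᵥ x - x,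
        (z : Matrix (Fin 3) (Fin 3) F) *ᵥ ((z : Matrix (Fin 3) (Fin 3) F) *ᵥ x - x),
        (z : Matrix (Fin 3) (Fin 3) F) *ᵥ ((z : Matrix (Fin 3) (Fin 3) F) *ᵥ
          ((z : Matrix (Fin 3) (Fin 3) F) *ᵥ x - x))} : Set (Fin 3 → F)),
        y + (z : Matrix (Fin 3) (Fin 3) F) *ᵥ y +
          (z : Matrix (Fin 3) (Fin 3) F) *ᵥ ((z : Matrix (Fin 3) (Fin 3) F) *ᵥ y) = 0 := by
      have hW : ∀ x, (z : Matrix (Fin 3) (Fin 3) F) *ᵥ ((z : Matrix (Fin 3) (Fin 3) F) *ᵥ
          ((z : Matrix (Fin 3) (Fin 3) F) *ᵥ x)) = x := fun x => by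
        rw [Matrix.mulVec_mulVec, Matrix.mulVec_mulVec, ← Units.val_mul, ← Units.val_mul,
          show z * z * z = z ^ 3 by rw [pow_succ, pow_two], hcube z hzR, Units.val_one, Matrix.one_mulVec]
      intro y hy
      induction hy using Submodule.span_induction with
      | mem y hy =>
        simp only [Set.mem_insert_iff, Set.mem_singleton_iff] at hy
        rcases hy with rfl | rfl | rfl <;> simp only [Matrix.mulVec_sub, hW] <;> abel
      | zero => simp
      | add a b _ _ ha hb =>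
        simp only [Matrix.mulVec_add]
        rw [show a + b + (_ + _) + (_ + _) = (a + (z : Matrix (Fin 3) (Fin 3) F) *ᵥ a +
          (z : Matrix (Fin 3) (Fin 3) F) *ᵥ ((z : Matrix (Fin 3) (Fin 3) F) *ᵥ a)) +
          (b + (z : Matrix (Fin 3) (Fin 3) F) *ᵥ b +
          (z : Matrix (Fin 3) (Fin 3) F) *ᵥ ((z : Matrix (Fin 3) (Fin 3) F) *ᵥ b)) by abel, ha, hb, add_zero]
      | smul a b _ hb => simp only [Matrix.mulVec_smul, ← smul_add, hb, smul_zero]
    have h := hfix x' hmem
    rw [hl, hl] at h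
    have : (3 : F) • x' = 0 := by
      rw [← h, show (3 : F) = 1 + 1 + 1 by norm_num, add_smul, add_smul, one_smul]
    exact hx' ((smul_eq_zero.1 this).resolve_left h3)
  set Z := (z : Matrix (Fin 3) (Fin 3) F)
  set U := (u : Matrix (Fin 3) (Fin 3) F)
  set V := (v : Matrix (Fin 3) (Fin 3) F)
  set lam := (ρ : F) ^ l with hlam
  obtain ⟨m, e0, he0, hme, hmem⟩ := eig u (hcube u hu) e' he'
  have hZU : ∀ x, Z *ᵥ (U *ᵥ x) = U *ᵥ (Z *ᵥ x) := fun x => by
    rw [Matrix.mulVec_mulVec, Matrix.mulVec_mulVec, ← Units.val_mul, ← Units.val_mul, hzc u hu]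
  have hZV : ∀ x, Z *ᵥ (V *ᵥ x) = V *ᵥ (Z *ᵥ x) := fun x => by
    rw [Matrix.mulVec_mulVec, Matrix.mulVec_mulVec, ← Units.val_mul, ← Units.val_mul, hzc v hv]
  have hUV : ∀ x, V *ᵥ (U *ᵥ x) = Z *ᵥ (U *ᵥ (V *ᵥ x)) := fun x => by
    rw [Matrix.mulVec_mulVec, Matrix.mulVec_mulVec, Matrix.mulVec_mulVec, ← Units.val_mul,
      ← Units.val_mul, ← Units.val_mul, hvu]
  have hZe0 : Z *ᵥ e0 = lam • e0 := by
    refine Submodule.span_induction (p := fun y _ => Z *ᵥ y = lam • y) ?_ ?_ ?_ ?_ hmem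
    · intro y hy
      simp only [Set.mem_insert_iff, Set.mem_singleton_iff] at hy
      rcases hy with rfl | rfl | rfl
      · exact hle
      · rw [hZU, hle, Matrix.mulVec_smul]
      · rw [hZU, hZU, hle, Matrix.mulVec_smul, Matrix.mulVec_smul]
    · simp
    · intro a b _ _ ha hb; rw [Matrix.mulVec_add, ha, hb, smul_add]
    · intro a b _ hb; rw [Matrix.mulVec_smul, hb, smul_comm]
  have hρ3 : (ρ : F) ^ 3 = 1 := by rw [← Units.val_pow_eq_pow_val, hρ, Units.val_one]
  have hlam3 : lam ^ 3 = 1 := by rw [hlam, ← pow_mul, mul_comm, pow_mul, hρ3, one_pow]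
  have hlam0 : lam ≠ 0 := fun e => by simp [e] at hlam3
  have hl2 : l % 3 ≠ 0 := fun e => hl (by
    rw [hlam, ← Nat.mod_add_div l 3, e, zero_add, pow_mul, hρ3, one_pow])
  -- eigenvectors shifted by `v`
  have hstep : ∀ x a, Z *ᵥ x = lam • x → U *ᵥ x = a • x →
      Z *ᵥ (V *ᵥ x) = lam • (V *ᵥ x) ∧ U *ᵥ (V *ᵥ x) = (a * lam⁻¹) • (V *ᵥ x) := by
    intro x a hzx hux
    have h1 : Z *ᵥ (V *ᵥ x) = lam • (V *ᵥ x) := by rw [hZV, hzx, Matrix.mulVec_smul]
    refine ⟨h1, ?_⟩
    have h := hUV x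
    rw [hux, Matrix.mulVec_smul, hZU, h1, Matrix.mulVec_smul] at h
    rw [mul_comm, ← smul_smul, h, smul_smul, inv_mul_cancel₀ hlam0, one_smul]
  have hVne : ∀ x, x ≠ 0 → V *ᵥ x ≠ 0 := fun x hx h => hx (by
    rw [← TransvMax.inv_mulVec_mulVec v x, h, Matrix.mulVec_zero])
  -- start at the eigenvalue one
  obtain ⟨b0, hb0, hUb0, hZb0⟩ : ∃ b0 : Fin 3 → F, b0 ≠ 0 ∧ U *ᵥ b0 = b0 ∧ Z *ᵥ b0 = lam • b0 := by
    obtain ⟨hz1, hu1⟩ := hstep e0 _ hZe0 hme
    obtain ⟨hz2, hu2⟩ := hstep _ _ hz1 hu1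
    have hne1 := hVne _ he0
    have hne2 := hVne _ hne1
    have hm : ∀ j : ℕ, (m + 2 * (j * l)) % 3 = 0 → (ρ : F) ^ m * (lam⁻¹) ^ j = 1 := by
      intro j hj
      have : lam⁻¹ = (ρ : F) ^ (2 * l) := by
        refine inv_eq_of_mul_eq_one_right ?_
        rw [hlam, ← pow_add, show l + 2 * l = 3 * l by ring, pow_mul, hρ3, one_pow]
      rw [this, ← pow_mul, ← pow_add, show m + 2 * l * j = m + 2 * (j * l) by ring,
        ← Nat.mod_add_div (m + 2 * (j * l)) 3, hj, zero_add, pow_mul, hρ3, one_pow]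
    rcases (show (m + 2 * (0 * l)) % 3 = 0 ∨ (m + 2 * (1 * l)) % 3 = 0 ∨ (m + 2 * (2 * l)) % 3 = 0 by
      rcases (show l % 3 = 1 ∨ l % 3 = 2 by omega) with e | e <;>
        rcases (show m % 3 = 0 ∨ m % 3 = 1 ∨ m % 3 = 2 by omega) with e' | e' | e' <;>
          simp only [zero_mul, one_mul] <;> omega) with h | h | h
    · refine ⟨e0, he0, ?_, hZe0⟩
      have := hm 0 h
      rw [pow_zero, mul_one] at this
      rw [hme, this, one_smul]
    · refine ⟨_, hne1, ?_, hz1⟩
      have := hm 1 h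
      rw [pow_one] at this
      rw [hu1, this, one_smul]
    · refine ⟨_, hne2, ?_, hz2⟩
      have := hm 2 h
      rw [pow_two, ← mul_assoc] at this
      rw [hu2, this, one_smul]
  obtain ⟨hz1, hu1⟩ := hstep b0 1 hZb0 (by rw [hUb0, one_smul])
  obtain ⟨-, hu2⟩ := hstep _ _ hz1 hu1
  rw [one_mul] at hu1 hu2
  let σ : Fˣ := Units.mk0 lam⁻¹ (inv_ne_zero hlam0)
  have hσ3 : σ ^ 3 = 1 := Units.ext (by simp [σ, hlam3])
  have hσ1 : σ ≠ 1 := fun e => hl (by
    have : lam⁻¹ = 1 := congrArg Units.val e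
    exact inv_eq_one.1 this)
  set b1 := V *ᵥ b0
  set b2 := V *ᵥ b1
  have hb3 : V *ᵥ b2 = b0 := by
    rw [Matrix.mulVec_mulVec, Matrix.mulVec_mulVec, ← Units.val_mul, ← Units.val_mul,
      show v * v * v = v ^ 3 by rw [pow_succ, pow_two], hcube v hv, Units.val_one, Matrix.one_mulVec]
  have hev : ∀ i : Fin 3, U *ᵥ ![b0, b1, b2] i = ((gp σ 0 1 i : Fˣ) : F) • ![b0, b1, b2] i := by
    intro i
    fin_cases i <;> simp [gp, σ, hUb0, hu1, hu2, pow_two]
  have hli : LinearIndependent F ![b0, b1, b2] := by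
    refine Module.End.eigenvectors_linearIndependent' (Matrix.toLin' U) (fun i => ((gp σ 0 1 i : Fˣ) : F))
      (fun i j h => gp_injective hσ3 hσ1 (Units.ext h)) _ fun i => ⟨?_, ?_⟩
    · rw [Module.End.mem_eigenspace_iff, Matrix.toLin'_apply]
      exact hev i
    · fin_cases i
      · exact hb0
      · exact hVne _ hb0
      · exact hVne _ (hVne _ hb0)
  let B : Matrix (Fin 3) (Fin 3) F := (Matrix.of ![b0, b1, b2])ᵀ
  have hBu : IsUnit B := by
    rw [Matrix.isUnit_transpose, ← Matrix.linearIndependent_rows_iff_isUnit]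
    exact hli
  refine ⟨hBu.unit, σ, hσ3, hσ1, ?_, ?_⟩
  · rw [eq_mul_inv_iff_mul_eq]
    refine Units.ext ?_
    rw [Units.val_mul, Units.val_mul, IsUnit.unit_spec, dg_val]
    ext a i
    have := congrFun (hev i) a
    rw [Matrix.mul_diagonal]
    simp only [Matrix.mul_apply, B, Matrix.transpose_apply, Matrix.of_apply] at this ⊢
    simp only [Matrix.mulVec, dotProduct, Pi.smul_apply, smul_eq_mul] at this
    rw [this, mul_comm]
  · rw [eq_mul_inv_iff_mul_eq]
    refine Units.ext ?_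
    rw [Units.val_mul, Units.val_mul, IsUnit.unit_spec]
    have e : ∀ a i, (V * B) a i = (V *ᵥ ![b0, b1, b2] i) a := fun a i => rfl
    ext a i
    rw [e]
    fin_cases i <;>
      simp [sh, B, Matrix.mul_apply, Fin.sum_univ_three, hb3, b1, b2, -Matrix.mulVec_mulVec]

/-- What is needed from the ambient group. -/
structure Ambient (G : Subgroup (GL (Fin 3) F)) : Prop where
  det : ∀ g ∈ G, (g : Matrix (Fin 3) (Fin 3) F).det = 1
  conj : ∀ x ∈ G, ∀ y ∈ G, ∀ (b b' : Fin 3 → Fin 3 → F) (c : Fin 3 → F),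
    (∀ i, c i ^ 18 = 1) → LinearIndependent F b → LinearIndependent F b' →
    (∀ i, (x : Matrix (Fin 3) (Fin 3) F) *ᵥ b i = c i • b i) →
    (∀ i, (y : Matrix (Fin 3) (Fin 3) F) *ᵥ b' i = c i • b' i) → ∃ g ∈ G, g⁻¹ * x * g = y
  mono : ∀ (P : GL (Fin 3) F) (ρ : Fˣ), ρ ^ 3 = 1 → ρ ≠ 1 → P * dg (gp ρ 0 1) * P⁻¹ ∈ G →
    P * sh * P⁻¹ ∈ G →
    P * tau * P⁻¹ ∈ G ∧ ∀ d : Fin 3 → Fˣ, (∀ i, d i ^ 9 = 1) → d 0 * d 1 * d 2 = 1 → P * dg d * P⁻¹ ∈ G

/-- A primitive ninth root of unity exists. -/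
def Ninth (F : Type*) [Field F] : Prop := ∃ ν : Fˣ, ν ^ 9 = 1 ∧ ν ^ 3 ≠ 1

variable [Finite F] {G R : Subgroup (GL (Fin 3) F)}

theorem pb (P g : GL (Fin 3) F) : P⁻¹ * (P * g * P⁻¹) * P = g := by group

theorem mem_normalizer_of_gens (hρ : ρ ^ 3 = 1) (h1 : ρ ≠ 1) {R0 : Subgroup (GL (Fin 3) F)}
    (hU : dg (gp ρ 0 1) ∈ R0) (hV : sh ∈ R0) (hc : Nat.card R0 = 27) {y : GL (Fin 3) F}
    (hyU : y * dg (gp ρ 0 1) * y⁻¹ ∈ R0) (hyV : y * sh * y⁻¹ ∈ R0) :
    y ∈ Subgroup.normalizer (R0 : Set (GL (Fin 3) F)) := by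
  obtain ⟨hgp, hsurj⟩ := std_surj hρ h1 hU hV hc
  have hyZ : y * dg (gp ρ 1 0) * y⁻¹ = dg (gp ρ 1 0) := by
    rw [mul_inv_eq_iff_eq_mul]
    refine Units.ext ?_
    simp only [Units.val_mul, dg_val, gp, zero_mul, add_zero]
    rw [← Matrix.smul_one_eq_diagonal, Matrix.mul_smul, Matrix.smul_mul, mul_one, one_mul]
  have hle : ∀ g ∈ R0, y * g * y⁻¹ ∈ R0 := by
    intro g hg
    obtain ⟨k, m, j, rfl⟩ := hsurj g hg
    have e : gp ρ k m = gp ρ 1 0 ^ k * gp ρ 0 1 ^ m := funext fun i => by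
      simp only [Pi.mul_apply, Pi.pow_apply, gp]
      rw [← pow_mul, ← pow_mul, ← pow_add]
      ring_nf
    rw [e, map_mul, map_pow, map_pow, ← MulAut.conj_apply, map_mul, map_mul, map_pow, map_pow, map_pow,
      MulAut.conj_apply, MulAut.conj_apply, MulAut.conj_apply, hyZ]
    exact R0.mul_mem (R0.mul_mem (R0.pow_mem (hgp 1 0) _) (R0.pow_mem hyU _)) (R0.pow_mem hyV _)
  rw [Subgroup.mem_normalizer_iff]
  haveI : Finite R0 := Nat.finite_of_card_ne_zero (by omega)
  let θ : R0 → R0 := fun g => ⟨y * g.1 * y⁻¹, hle _ g.2⟩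
  have hθ : Function.Surjective θ := Finite.injective_iff_surjective.1 fun a b h =>
    Subtype.ext (mul_left_cancel (mul_right_cancel (congrArg Subtype.val h)))
  intro g
  refine ⟨hle g, fun hg => ?_⟩
  obtain ⟨a, ha⟩ := hθ ⟨_, hg⟩
  rw [← mul_left_cancel (mul_right_cancel (congrArg Subtype.val ha))]
  exact a.2

theorem normalizer_map {R0 : Subgroup (GL (Fin 3) F)} {P : GL (Fin 3) F}
    (hR0 : ∀ g, g ∈ R0 ↔ P * g * P⁻¹ ∈ R) {y : GL (Fin 3) F}
    (hy : y ∈ Subgroup.normalizer (R0 : Set (GL (Fin 3) F))) :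
    P * y * P⁻¹ ∈ Cfsg.Geo.subgroupNormalizer R := by
  show _ ∈ Subgroup.normalizer (R : Set (GL (Fin 3) F))
  rw [Subgroup.mem_normalizer_iff] at hy ⊢
  intro g
  have h := hy (P⁻¹ * g * P)
  rw [hR0, hR0] at h
  rwa [show P * (P⁻¹ * g * P) * P⁻¹ = g by group,
    show P * (y * (P⁻¹ * g * P) * y⁻¹) * P⁻¹ = P * y * P⁻¹ * g * (P * y * P⁻¹)⁻¹ by group] at h

/-- Every element of order `r ≥ 5` normalising the group is scalar. -/
theorem scalar_of_prime_ge_five (hρ : ρ ^ 3 = 1) (h1 : ρ ≠ 1) {R0 : Subgroup (GL (Fin 3) F)}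
    (hU : dg (gp ρ 0 1) ∈ R0) (hV : sh ∈ R0) (hc : Nat.card R0 = 27) {y : GL (Fin 3) F}
    (hy : y ∈ Subgroup.normalizer (R0 : Set (GL (Fin 3) F))) {r : ℕ} (hr : r.Prime) (h5 : 5 ≤ r)
    (hyr : y ^ r = 1) : ∃ c : F, (y : Matrix (Fin 3) (Fin 3) F) = c • 1 := by
  classical
  haveI : Fact r.Prime := ⟨hr⟩
  haveI : Finite R0 := Nat.finite_of_card_ne_zero (by omega)
  haveI := Fintype.ofFinite R0
  haveI : Fact (Nat.Prime 3) := ⟨Nat.prime_three⟩
  let θ : Equiv.Perm R0 :=
    { toFun := fun g => ⟨y * g.1 * y⁻¹, (Subgroup.mem_normalizer_iff.1 hy _).1 g.2⟩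
      invFun := fun g => ⟨y⁻¹ * g.1 * y, (Subgroup.mem_normalizer_iff.1 hy _).2 (by
        rw [show y * (y⁻¹ * g.1 * y) * y⁻¹ = g.1 by group]; exact g.2)⟩
      left_inv := fun g => Subtype.ext (by group)
      right_inv := fun g => Subtype.ext (by group) }
  have hθk : ∀ (k : ℕ) (g : R0), ((θ ^ k) g : GL (Fin 3) F) = y ^ k * g.1 * (y ^ k)⁻¹ := by
    intro k
    induction k with
    | zero => intro g; simp
    | succ k ih =>
      intro g
      rw [pow_succ', Equiv.Perm.mul_apply]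
      show y * ((θ ^ k) g : GL (Fin 3) F) * y⁻¹ = _
      rw [ih, pow_succ']
      group
  have hθ : θ ^ r ^ 1 = 1 := Equiv.ext fun g => Subtype.ext (by rw [pow_one, hθk, hyr]; simp)
  have hmod := Equiv.Perm.card_compl_support_modEq (p := r) (n := 1) hθ
  let Fx : Subgroup R0 :=
    { carrier := {g | θ g = g}
      one_mem' := Subtype.ext (by simp [θ])
      mul_mem' := fun {a b} (ha : θ a = a) (hb : θ b = b) => by
        show θ (a * b) = a * b
        conv_rhs => rw [← ha, ← hb]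
        exact Subtype.ext (by simp [θ, mul_assoc])
      inv_mem' := fun {a} (ha : θ a = a) => by
        show θ a⁻¹ = a⁻¹
        conv_rhs => rw [← ha]
        exact Subtype.ext (by simp [θ, mul_assoc]) }
  have hFx : Nat.card Fx = (θ.support)ᶜ.card := by
    rw [Nat.card_eq_fintype_card, ← Fintype.card_coe]
    refine Fintype.card_congr (Equiv.subtypeEquivRight fun g => ?_)
    simp [Fx]
  have hpR : IsPGroup 3 R0 := IsPGroup.of_card (n := 3) (by rw [hc]; norm_num)
  obtain ⟨k, hk⟩ := (hpR.to_subgroup Fx).exists_card_eq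
  have hdvd := Subgroup.card_subgroup_dvd_card Fx
  rw [hk, hc, show (27 : ℕ) = 3 ^ 3 by norm_num, Nat.pow_dvd_pow_iff_le_right (by norm_num)] at hdvd
  have hZ : (⟨dg (gp ρ 1 0), (std_surj hρ h1 hU hV hc).1 1 0⟩ : R0) ∈ Fx := by
    refine Subtype.ext ?_
    show y * dg (gp ρ 1 0) * y⁻¹ = dg (gp ρ 1 0)
    rw [mul_inv_eq_iff_eq_mul]
    refine Units.ext ?_
    simp only [Units.val_mul, dg_val, gp, zero_mul, add_zero]
    rw [← Matrix.smul_one_eq_diagonal, Matrix.mul_smul, Matrix.smul_mul, mul_one, one_mul]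
  have hk1 : 1 ≤ k := by
    by_contra h
    rw [show k = 0 by omega, pow_zero] at hk
    have := (Nat.card_eq_one_iff_unique.1 hk).1.elim ⟨_, hZ⟩ 1
    have e : gp ρ 1 0 0 = 1 := by
      have h' : dg (gp ρ 1 0) = 1 := congrArg (fun g : Fx => (g.1 : GL (Fin 3) F)) this
      rw [← map_one dg] at h'
      exact congrFun (dg_inj h') 0
    exact h1 (by simpa [gp] using e)
  rw [← hFx, hk, ← Nat.card_eq_fintype_card, hc] at hmod
  have hk3 : k = 3 := by
    rcases (show k = 1 ∨ k = 2 ∨ k = 3 by omega) with rfl | rfl | rfl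
    · exfalso
      have h24 := (Nat.modEq_iff_dvd' (by norm_num)).1 hmod
      have : r ∣ 24 := by simpa using h24
      have h8 : r ∣ 2 ^ 3 * 3 := by simpa using this
      rcases hr.dvd_mul.1 h8 with h | h
      · have := Nat.le_of_dvd (by norm_num) (hr.dvd_of_dvd_pow h); omega
      · have := Nat.le_of_dvd (by norm_num) h; omega
    · exfalso
      have h18 := (Nat.modEq_iff_dvd' (by norm_num)).1 hmod
      have h8 : r ∣ 2 * 3 ^ 2 := by simpa using h18
      rcases hr.dvd_mul.1 h8 with h | h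
      · have := Nat.le_of_dvd (by norm_num) h; omega
      · have := Nat.le_of_dvd (by norm_num) (hr.dvd_of_dvd_pow h); omega
    · rfl
  subst hk3
  have htop : Fx = ⊤ := Subgroup.eq_top_of_card_eq _ (by rw [hk, hc]; norm_num)
  have hfix : ∀ g ∈ R0, y * g = g * y := fun g hg => by
    have : θ ⟨g, hg⟩ = ⟨g, hg⟩ := (htop ▸ Subgroup.mem_top (⟨g, hg⟩ : R0) : _ ∈ Fx)
    exact mul_inv_eq_iff_eq_mul.1 (congrArg Subtype.val this)
  exact (scalar_of_comm (gp_injective hρ h1) (hfix _ hU)).2 (hfix _ hV)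

theorem gp_pow_nine (hρ : ρ ^ 3 = 1) (k : ℕ) : (ρ ^ k) ^ 9 = 1 := by
  rw [← pow_mul, mul_comm, pow_mul, show ρ ^ 9 = (ρ ^ 3) ^ 3 by rw [← pow_mul], hρ, one_pow, one_pow]

/-- The main criterion. -/
theorem elusive_iff (hG : Ambient G) (hRG : R ≤ G) (hR : Nat.card R = 27)
    (hRe : Monoid.exponent R = 3) (hRna : ¬ IsMulCommutative R)
    (hρ0 : ∃ ρ : Fˣ, ρ ^ 3 = 1 ∧ ρ ≠ 1) (h2 : (2 : F) ≠ 0) (h3 : (3 : F) ≠ 0)
    (r : ℕ) (hr : r.Prime) (hΩ : r ∣ (Cfsg.Geo.subgroupNormalizer R).relIndex G) :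
    (∀ x ∈ G, (∃ z : F, ((x ^ r : GL (Fin 3) F) : Matrix (Fin 3) (Fin 3) F) = z • (1 : Matrix (Fin 3) (Fin 3) F)) →
      (∀ z : F, (x : Matrix (Fin 3) (Fin 3) F) ≠ z • (1 : Matrix (Fin 3) (Fin 3) F)) →
      ∃ g ∈ G, g⁻¹ * x * g ∈ Cfsg.Geo.subgroupNormalizer R) ↔ (r = 2 ∨ (r = 3 ∧ Ninth F)) := by
  classical
  haveI : Fact r.Prime := ⟨hr⟩
  obtain ⟨u, hu, v, hv, huv⟩ : ∃ u ∈ R, ∃ v ∈ R, v * u ≠ u * v := by
    by_contra h
    push Not at h
    exact hRna ⟨⟨fun a b => Subtype.ext (h b.1 b.2 a.1 a.2)⟩⟩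
  obtain ⟨P, ρ, hρ, h1, hUe, hVe⟩ := exists_frame hR hRe hρ0 h3 hu hv huv
  obtain ⟨R0, hR0⟩ : ∃ R0 : Subgroup (GL (Fin 3) F), ∀ g, g ∈ R0 ↔ P * g * P⁻¹ ∈ R :=
    ⟨R.comap (MulAut.conj P).toMonoidHom, fun g => Iff.rfl⟩
  have hU : dg (gp ρ 0 1) ∈ R0 := (hR0 _).2 (hUe ▸ hu)
  have hV : sh ∈ R0 := (hR0 _).2 (hVe ▸ hv)
  have hc : Nat.card R0 = 27 := by
    rw [← hR]
    exact Nat.card_congr
      { toFun := fun g => ⟨P * g.1 * P⁻¹, (hR0 _).1 g.2⟩
        invFun := fun g => ⟨P⁻¹ * g.1 * P, (hR0 _).2 (by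
          rw [show P * (P⁻¹ * g.1 * P) * P⁻¹ = g.1 by group]; exact g.2)⟩
        left_inv := fun g => Subtype.ext (by group)
        right_inv := fun g => Subtype.ext (by group) }
  obtain ⟨hgp, hsurj⟩ := std_surj hρ h1 hU hV hc
  obtain ⟨htauG, hdgG⟩ := hG.mono P ρ hρ h1 (hUe ▸ hRG hu) (hVe ▸ hRG hv)
  -- diagonal elements of the normaliser
  have hdgN : ∀ (ν : Fˣ) (f : Fin 3 → Fin 3),
      P * dg (fun i => ν * ρ ^ (f i : ℕ)) * P⁻¹ ∈ Cfsg.Geo.subgroupNormalizer R := by
    intro ν f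
    refine normalizer_map hR0 (mem_normalizer_of_gens hρ h1 hU hV hc ?_ ?_)
    · rw [← map_mul, ← map_inv, ← map_mul, mul_comm (fun i => ν * ρ ^ (f i : ℕ)), mul_inv_cancel_right]
      exact hU
    · set d : Fin 3 → Fˣ := fun i => ν * ρ ^ (f i : ℕ)
      rw [show dg d * sh * (dg d)⁻¹ = dg d * (sh * dg d⁻¹) by rw [map_inv, mul_assoc], sh_dg, ← mul_assoc,
        ← map_mul]
      refine R0.mul_mem ?_ hV
      have e : (d * fun i => d⁻¹ (i - 1)) =
          gp ρ ((f 0 : ℕ) + 2 * (f 2 : ℕ)) ((f 0 : ℕ) + (f 1 : ℕ) + (f 2 : ℕ)) := by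
        funext i
        simp only [Pi.mul_apply, Pi.inv_apply, d, gp]
        rw [mul_inv_eq_iff_eq_mul, mul_left_comm, ← pow_add]
        congr 1
        rw [pow_mod_three hρ, pow_mod_three hρ (_ + _)]
        congr 1
        fin_cases i <;> simp [show (0 : Fin 3) - 1 = 2 from rfl, show (2 : Fin 3) - 1 = 1 from rfl] <;> omega
      rw [e]
      exact hgp _ _
  have htauN : P * tau * P⁻¹ ∈ Cfsg.Geo.subgroupNormalizer R := by
    refine normalizer_map hR0 (mem_normalizer_of_gens hρ h1 hU hV hc ?_ ?_)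
    · rw [tau_dg, mul_inv_cancel_right]
      have e : (![gp ρ 0 1 0, gp ρ 0 1 2, gp ρ 0 1 1] : Fin 3 → Fˣ) = gp ρ 0 2 := by
        funext i
        fin_cases i
        · rfl
        · rfl
        · show ρ ^ (0 + 1 * 1) = ρ ^ (0 + 2 * 2)
          rw [pow_mod_three hρ (0 + 2 * 2)]
      rw [e]
      exact hgp _ _
    · rw [tau_sh, mul_inv_cancel_right]
      exact R0.mul_mem hV hV
  have hP : Function.Injective fun x : Fin 3 → F => (P : Matrix (Fin 3) (Fin 3) F) *ᵥ x :=
    fun a b h => by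
      simpa [TransvMax.inv_mulVec_mulVec] using
        congrArg (fun x => ((P⁻¹ : GL (Fin 3) F) : Matrix (Fin 3) (Fin 3) F) *ᵥ x) h
  have hconjv : ∀ (g : GL (Fin 3) F) (w : Fin 3 → F) (c : F), (g : Matrix (Fin 3) (Fin 3) F) *ᵥ w = c • w →
      ((P * g * P⁻¹ : GL (Fin 3) F) : Matrix (Fin 3) (Fin 3) F) *ᵥ
        ((P : Matrix (Fin 3) (Fin 3) F) *ᵥ w) = c • ((P : Matrix (Fin 3) (Fin 3) F) *ᵥ w) := by
    intro g w c h
    rw [Units.val_mul, Units.val_mul, ← Matrix.mulVec_mulVec, ← Matrix.mulVec_mulVec,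
      TransvMax.inv_mulVec_mulVec, h, Matrix.mulVec_smul]
  have hsing : LinearIndependent F fun i : Fin 3 => (Pi.single i 1 : Fin 3 → F) := by
    have := (Pi.basisFun F (Fin 3)).linearIndependent
    rwa [show ⇑(Pi.basisFun F (Fin 3)) = fun i => (Pi.single i 1 : Fin 3 → F) from
      funext (Pi.basisFun_apply F _)] at this
  have hPb : LinearIndependent F fun i : Fin 3 => (P : Matrix (Fin 3) (Fin 3) F) *ᵥ Pi.single i 1 := by
    have := hsing.map' (Matrix.toLin' (P : Matrix (Fin 3) (Fin 3) F))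
      (LinearMap.ker_eq_bot.2 (fun a b h => hP (by simpa using h)))
    simpa [Function.comp_def] using this
  constructor
  · intro hall
    by_contra hcon
    push Not at hcon
    by_cases hr3 : r = 3
    · -- no element of three-power order outside
      subst hr3
      have hn9 : ¬ Ninth F := hcon.2 rfl
      haveI : Fact (Nat.Prime 3) := ⟨Nat.prime_three⟩
      set N := Cfsg.Geo.subgroupNormalizer R
      have hRN : R ≤ N := fun g hg => Subgroup.le_normalizer hg
      have hdvd : 3 ^ (3 + 1) ∣ Nat.card G := by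
        rw [← (N.subgroupOf G).index_mul_card, pow_succ']
        refine Nat.mul_dvd_mul hΩ ?_
        have h := Subgroup.card_dvd_of_injective
          (f := Subgroup.inclusion (show R ≤ N ⊓ G from le_inf hRN hRG)) (Subgroup.inclusion_injective _)
        rw [hR] at h
        refine h.trans (dvd_of_eq (Nat.card_congr
          { toFun := fun g => ⟨⟨g.1, g.2.2⟩, g.2.1⟩
            invFun := fun g => ⟨g.1.1, g.2, g.1.2⟩
            left_inv := fun g => rfl
            right_inv := fun g => rfl }))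
      obtain ⟨K, hK, hle⟩ := Sylow.exists_subgroup_card_pow_succ hdvd (H := R.subgroupOf G) (by
        rw [Nat.card_congr (Subgroup.subgroupOfEquivOfLe hRG).toEquiv, hR]; norm_num)
      have hKp : IsPGroup 3 K := IsPGroup.of_card hK
      haveI := hKp.isNilpotent
      have hlt : (R.subgroupOf G).subgroupOf K < ⊤ := by
        refine lt_top_iff_ne_top.2 fun e => ?_
        have h1 := Nat.card_congr (Subgroup.subgroupOfEquivOfLe hle).toEquiv
        rw [e, Subgroup.card_top, hK, Nat.card_congr (Subgroup.subgroupOfEquivOfLe hRG).toEquiv, hR] at h1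
        norm_num at h1
      obtain ⟨⟨⟨y, hyG⟩, hyK⟩, hyn, hyR⟩ :=
        SetLike.exists_of_lt (normalizerCondition_of_isNilpotent _ hlt)
      have hyN : y ∈ N := by
        show y ∈ Subgroup.normalizer (R : Set (GL (Fin 3) F))
        rw [Subgroup.mem_normalizer_iff]
        have hn := Subgroup.mem_normalizer_iff.1 hyn
        intro g
        constructor
        · intro hg
          have := (hn ⟨⟨g, hRG hg⟩, hle hg⟩).1 hg
          exact this
        · intro hg
          have hgG : g ∈ G := by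
            have := G.mul_mem (G.mul_mem (G.inv_mem hyG) (hRG hg)) hyG
            rwa [show y⁻¹ * (y * g * y⁻¹) * y = g by group] at this
          have hgK : (⟨g, hgG⟩ : G) ∈ K := by
            have := K.mul_mem (K.mul_mem (K.inv_mem hyK) (hle (show (⟨y * g * y⁻¹, hRG hg⟩ : G) ∈
              R.subgroupOf G from hg))) hyK
            convert this using 1
            exact Subtype.ext (by simp [mul_assoc])
          exact (hn ⟨⟨g, hgG⟩, hgK⟩).2 hg
      -- a non-central element fixed modulo the centre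
      have hscal : ∀ g ∈ R, g * u = u * g → g * v = v * g →
          ∃ c : F, (g : Matrix (Fin 3) (Fin 3) F) = c • 1 := by
        intro g hg gu gv
        have hconj : ∀ w, g * (P * w * P⁻¹) = P * w * P⁻¹ * g → P⁻¹ * g * P * w = w * (P⁻¹ * g * P) := by
          intro w h
          rw [show P⁻¹ * g * P * w = P⁻¹ * (g * (P * w * P⁻¹)) * P by group, h]; group
        obtain ⟨-, hs⟩ := scalar_of_comm (gp_injective hρ h1) (hconj _ (hUe ▸ gu))
        obtain ⟨c, hc'⟩ := hs (hconj _ (hVe ▸ gv))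
        refine ⟨c, ?_⟩
        rw [show g = P * (P⁻¹ * g * P) * P⁻¹ by group, Units.val_mul, Units.val_mul, hc',
          Matrix.mul_smul, mul_one, Matrix.smul_mul, ← Units.val_mul, mul_inv_cancel, Units.val_one]
      let sc : Subgroup (GL (Fin 3) F) := Subgroup.centralizer Set.univ
      have hsc : ∀ g ∈ R, g ∈ sc → g * u = u * g := fun g _ hgc => (hgc u trivial).symm
      obtain ⟨w, hw, hwsc, hwy⟩ : ∃ w ∈ R, w ∉ sc ∧ y * w * y⁻¹ * w⁻¹ ∈ sc := by
        by_contra hcontra
        push Not at hcontra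
        have hus : u ∉ sc := fun h => huv (h v trivial)
        let a : ℕ → GL (Fin 3) F := fun n => Nat.rec u (fun _ w => y * w * y⁻¹ * w⁻¹) n
        have ha : ∀ n, a n ∈ R ∧ a n ∉ sc := by
          intro n
          induction n with
          | zero => exact ⟨hu, hus⟩
          | succ n ih =>
            exact ⟨R.mul_mem ((Subgroup.mem_normalizer_iff.1 hyN _).1 ih.1) (R.inv_mem ih.1),
              hcontra _ ih.1 ih.2⟩
        obtain ⟨n, hn⟩ := Subgroup.nilpotent_iff_lowerCentralSeries.1 (inferInstance : Group.IsNilpotent K)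
        have hmem : ∀ n, (⟨⟨a n, hRG (ha n).1⟩, hle (ha n).1⟩ : K) ∈ (Subgroup.lowerCentralSeries (⊤ : Subgroup K) n) := by
          intro n
          induction n with
          | zero => simp
          | succ n ih =>
            have h := Subgroup.commutator_mem_commutator ih (Subgroup.mem_top (⟨⟨y, hyG⟩, hyK⟩ : K))
            have h' := Subgroup.inv_mem _ h
            rw [commutatorElement_inv] at h'
            exact h'
        have h0 := hmem n
        rw [hn, Subgroup.mem_bot] at h0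
        refine (ha n).2 ?_
        rw [show a n = 1 from congrArg (fun k : K => (k.1.1 : GL (Fin 3) F)) h0]
        exact sc.one_mem
      obtain ⟨w', hw', hww'⟩ : ∃ w' ∈ R, w' * w ≠ w * w' := by
        by_contra h
        push Not at h
        obtain ⟨c, hc'⟩ := hscal w hw (h u hu).symm (h v hv).symm
        exact hwsc fun g _ => Units.ext (by simp [hc'])
      obtain ⟨Q, σ, hσ, hσ1, hWe, hW'e⟩ := exists_frame hR hRe hρ0 h3 hw hw' hww'
      obtain ⟨S0, hS0⟩ : ∃ S0 : Subgroup (GL (Fin 3) F), ∀ g, g ∈ S0 ↔ Q * g * Q⁻¹ ∈ R :=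
        ⟨R.comap (MulAut.conj Q).toMonoidHom, fun g => Iff.rfl⟩
      have hSc : Nat.card S0 = 27 := by
        rw [← hR]
        exact Nat.card_congr
          { toFun := fun g => ⟨Q * g.1 * Q⁻¹, (hS0 _).1 g.2⟩
            invFun := fun g => ⟨Q⁻¹ * g.1 * Q, (hS0 _).2 (by
              rw [show Q * (Q⁻¹ * g.1 * Q) * Q⁻¹ = g.1 by group]; exact g.2)⟩
            left_inv := fun g => Subtype.ext (by group)
            right_inv := fun g => Subtype.ext (by group) }
      have hSU : dg (gp σ 0 1) ∈ S0 := (hS0 _).2 (hWe ▸ hw)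
      have hSV : sh ∈ S0 := (hS0 _).2 (hW'e ▸ hw')
      obtain ⟨hSgp, hSsurj⟩ := std_surj hσ hσ1 hSU hSV hSc
      have hY : ∀ g ∈ S0, Q⁻¹ * y * Q * g * (Q⁻¹ * y * Q)⁻¹ ∈ S0 := by
        intro g hg
        rw [hS0] at hg ⊢
        rw [show Q * (Q⁻¹ * y * Q * g * (Q⁻¹ * y * Q)⁻¹) * Q⁻¹ = y * (Q * g * Q⁻¹) * y⁻¹ by group]
        exact (Subgroup.mem_normalizer_iff.1 hyN _).1 hg
      -- the conjugate differs by a central cube root
      obtain ⟨a, ha⟩ : ∃ a : ℕ, Q⁻¹ * y * Q * dg (gp σ 0 1) * (Q⁻¹ * y * Q)⁻¹ =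
          dg (gp σ a 0) * dg (gp σ 0 1) := by
        have hmem : Q⁻¹ * y * Q * dg (gp σ 0 1) * (Q⁻¹ * y * Q)⁻¹ * (dg (gp σ 0 1))⁻¹ ∈ S0 :=
          S0.mul_mem (hY _ hSU) (S0.inv_mem hSU)
        obtain ⟨k, m, j, e⟩ := hSsurj _ hmem
        have hcent : ∀ g, g * (dg (gp σ k m) * sh ^ j) = dg (gp σ k m) * sh ^ j * g := by
          intro g
          rw [← e]
          have hz := hwy (Q * g * Q⁻¹) trivial
          rw [hWe] at hz
          calc g * (Q⁻¹ * y * Q * dg (gp σ 0 1) * (Q⁻¹ * y * Q)⁻¹ * (dg (gp σ 0 1))⁻¹)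
              = Q⁻¹ * ((Q * g * Q⁻¹) * (y * (Q * dg (gp σ 0 1) * Q⁻¹) * y⁻¹ *
                  (Q * dg (gp σ 0 1) * Q⁻¹)⁻¹)) * Q := by group
            _ = Q⁻¹ * (y * (Q * dg (gp σ 0 1) * Q⁻¹) * y⁻¹ *
                  (Q * dg (gp σ 0 1) * Q⁻¹)⁻¹ * (Q * g * Q⁻¹)) * Q := by rw [hz]
            _ = _ := by group
        obtain ⟨⟨c, hc'⟩, hs⟩ := scalar_of_comm (gp_injective hσ hσ1) (hcent (dg (gp σ 0 1))).symm
        obtain ⟨c', hc''⟩ := hs (hcent sh).symm
        refine ⟨k, ?_⟩
        rw [← mul_inv_eq_iff_eq_mul, e]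
        refine Units.ext ?_
        have h00 : c' = (σ : F) ^ k := by
          have := congrFun (congrFun hc'' 0) 0
          have hj3 : j % 3 = 0 := by
            by_contra hj3
            have hc3 := hc''
            rw [← Nat.mod_add_div j 3, pow_add, pow_mul, show sh ^ 3 = (1 : GL (Fin 3) F) by
              rw [pow_succ, pow_two]; exact sh_cube, one_pow, mul_one] at hc3
            rcases (show j % 3 = 1 ∨ j % 3 = 2 by omega) with e' | e'
            · have h' := congrFun (congrFun hc3 1) 0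
              rw [e'] at h'
              simp [sh, Matrix.mul_apply, Fin.sum_univ_three] at h'
            · have h' := congrFun (congrFun hc3 2) 0
              rw [e'] at h'
              simp [sh, pow_two, Matrix.mul_apply, Fin.sum_univ_three] at h'
          rw [← Nat.mod_add_div j 3, hj3, zero_add, pow_mul, show sh ^ 3 = (1 : GL (Fin 3) F) by
              rw [pow_succ, pow_two]; exact sh_cube, one_pow, mul_one] at this
          simpa [gp] using this.symm
        rw [hc'', h00]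
        ext i l
        by_cases hil : i = l
        · subst hil; simp [gp]
        · simp [hil, Matrix.diagonal_apply_ne _ hil]
      set Y := sh ^ a * (Q⁻¹ * y * Q) with hYdef
      have hYU : Y * dg (gp σ 0 1) = dg (gp σ 0 1) * Y := by
        have hshift : ∀ a : ℕ, sh ^ a * dg (gp σ 0 1) = dg (gp σ (2 * a) 1) * sh ^ a := by
          intro a
          induction a with
          | zero => simp
          | succ a ih =>
            rw [pow_succ, mul_assoc, sh_dg]
            have : (fun i => gp σ 0 1 (i - 1)) = gp σ 2 0 * gp σ 0 1 := funext fun i => by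
              simp only [Pi.mul_apply, gp]
              rw [← pow_add, pow_mod_three hσ, pow_mod_three hσ (_ + _)]
              fin_cases i <;> rfl
            rw [this, map_mul, ← mul_assoc, ← mul_assoc,
              show sh ^ a * dg (gp σ 2 0) = dg (gp σ 2 0) * sh ^ a from Units.ext (by
                simp [gp, ← Matrix.smul_one_eq_diagonal]),
              mul_assoc (dg (gp σ 2 0)), ih, ← mul_assoc, ← map_mul, mul_assoc]
            congr 2
            funext i
            simp only [Pi.mul_apply, gp]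
            rw [← pow_add]
            ring_nf
        have hY' : Q⁻¹ * y * Q * dg (gp σ 0 1) = dg (gp σ a 0) * dg (gp σ 0 1) * (Q⁻¹ * y * Q) :=
          mul_inv_eq_iff_eq_mul.1 ha
        suffices key : sh ^ a * (dg (gp σ a 0) * dg (gp σ 0 1)) = dg (gp σ 0 1) * sh ^ a by
          rw [hYdef, mul_assoc, hY', ← mul_assoc, key, mul_assoc]
        rw [← mul_assoc,
          show sh ^ a * dg (gp σ a 0) = dg (gp σ a 0) * sh ^ a from Units.ext (by
            simp [gp, ← Matrix.smul_one_eq_diagonal]),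
          mul_assoc, hshift, ← mul_assoc, ← map_mul]
        congr 2
        funext i
        simp only [Pi.mul_apply, gp]
        rw [← pow_add, pow_mod_three hσ, pow_mod_three hσ (0 + 1 * (i : ℕ))]
        congr 1
        omega
      obtain ⟨⟨d, hd⟩, -⟩ := scalar_of_comm (gp_injective hσ hσ1) hYU
      have hdS : dg d * sh * (dg d)⁻¹ ∈ S0 := by
        rw [← hd, hYdef, show sh ^ a * (Q⁻¹ * y * Q) * sh * (sh ^ a * (Q⁻¹ * y * Q))⁻¹ =
          sh ^ a * (Q⁻¹ * y * Q * sh * (Q⁻¹ * y * Q)⁻¹) * (sh ^ a)⁻¹ by group]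
        exact S0.mul_mem (S0.mul_mem (S0.pow_mem hSV _) (hY _ hSV)) (S0.inv_mem (S0.pow_mem hSV _))
      rw [show dg d * sh * (dg d)⁻¹ = dg d * (sh * dg d⁻¹) by rw [map_inv, mul_assoc], sh_dg, ← mul_assoc,
        ← map_mul] at hdS
      have hdS' : dg (d * fun i => d⁻¹ (i - 1)) ∈ S0 := by
        simpa using S0.mul_mem hdS (S0.inv_mem hSV)
      obtain ⟨k, m, j, hkm⟩ := hSsurj _ hdS'
      have hj : sh ^ j = dg ((gp σ k m)⁻¹ * (d * fun i => d⁻¹ (i - 1))) := by
        rw [map_mul, hkm, map_inv, inv_mul_cancel_left]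
      have hjd : (d * fun i => d⁻¹ (i - 1)) = gp σ k m := by
        have h3' : j % 3 = 0 := by
          by_contra hj3
          rw [← Nat.mod_add_div j 3, pow_add, pow_mul, show sh ^ 3 = (1 : GL (Fin 3) F) by
            rw [pow_succ, pow_two]; exact sh_cube, one_pow, mul_one] at hj
          have h' := entry_eq hj 0 0
          rcases (show j % 3 = 1 ∨ j % 3 = 2 by omega) with e | e <;> rw [e] at h' <;>
            simp [sh, pow_two, Matrix.mul_apply, Fin.sum_univ_three, -map_inv, -map_mul] at h'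
        rw [← Nat.mod_add_div j 3, h3', zero_add, pow_mul, show sh ^ 3 = (1 : GL (Fin 3) F) by
            rw [pow_succ, pow_two]; exact sh_cube, one_pow, ← map_one dg] at hj
        exact (inv_mul_eq_one.1 (dg_inj hj).symm).symm
      have e1 : d 1 * (d 0)⁻¹ = σ ^ (k + m) := by simpa [gp] using congrFun hjd 1
      have e2 : d 2 * (d 1)⁻¹ = σ ^ (k + m * 2) := by
        simpa [gp, show (2 : Fin 3) - 1 = 1 from rfl] using congrFun hjd 2
      rw [mul_inv_eq_iff_eq_mul] at e1 e2
      rw [e1] at e2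
      have hdet : d 0 * d 1 * d 2 = 1 := by
        refine Units.ext ?_
        rw [Units.val_mul, Units.val_mul, Units.val_one, ← det_dg, ← hd, hYdef, Units.val_mul,
          Matrix.det_mul, Units.val_pow_eq_pow_val, Matrix.det_pow, det_sh, one_pow, one_mul,
          Units.val_mul, Units.val_mul, Matrix.det_mul, Matrix.det_mul, hG.det y hyG, mul_one,
          ← Matrix.det_mul, ← Units.val_mul, inv_mul_cancel, Units.val_one, Matrix.det_one]
      rw [e2, e1] at hdet
      have hd0 : d 0 ^ 3 * σ ^ m = 1 := by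
        rw [← hdet, show d 0 * (σ ^ (k + m) * d 0) * (σ ^ (k + m * 2) * (σ ^ (k + m) * d 0)) =
          d 0 ^ 3 * σ ^ (3 * k + 4 * m) by
            refine Units.ext ?_
            push_cast
            ring,
          pow_mod_three hσ m, pow_mod_three hσ (3 * k + 4 * m)]
        congr 2
        omega
      have hd9 : d 0 ^ 3 = 1 := by
        by_contra hne
        refine hn9 ⟨d 0, ?_, hne⟩
        have := congrArg (· ^ 3) hd0
        simp only [mul_pow, one_pow, ← pow_mul] at this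
        rwa [mul_comm m 3, pow_mul σ, hσ, one_pow, mul_one] at this
      have hm : σ ^ m = 1 := by rwa [hd9, one_mul] at hd0
      -- hence `y` lies in the group
      have hdm : dg d ∈ S0 := by
        obtain ⟨b, hb⟩ : ∃ b : ℕ, d 0 = σ ^ b := by
          have h3u : ∀ x : F, x ^ 3 = 1 → x = 1 ∨ x = σ ∨ x = (σ : F) ^ 2 := by
            intro x hx
            have hσ3 : (σ : F) ^ 3 = 1 := by rw [← Units.val_pow_eq_pow_val, hσ, Units.val_one]
            have hs : (1 : F) + σ + (σ : F) ^ 2 = 0 := by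
              have h0 : ((σ : F) - 1) * (1 + σ + (σ : F) ^ 2) = 0 := by linear_combination hσ3
              exact (mul_eq_zero.1 h0).resolve_left (sub_ne_zero.2 fun e => hσ1 (Units.ext e))
            have : (x - 1) * ((x - σ) * (x - (σ : F) ^ 2)) = 0 := by
              linear_combination hx - (x * x - x) * hs + (x - 1) * hσ3
            rcases mul_eq_zero.1 this with h | h
            · exact Or.inl (sub_eq_zero.1 h)
            rcases mul_eq_zero.1 h with h | h
            · exact Or.inr (Or.inl (sub_eq_zero.1 h))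
            · exact Or.inr (Or.inr (sub_eq_zero.1 h))
          rcases h3u (d 0) (by rw [← Units.val_pow_eq_pow_val, hd9, Units.val_one]) with e | e | e
          · exact ⟨0, Units.ext (by simp [e])⟩
          · exact ⟨1, Units.ext (by simp [e])⟩
          · exact ⟨2, Units.ext (by simp [e])⟩
        have e : d = gp σ b k := by
          funext i
          fin_cases i
          · simp [gp, hb]
          · show d 1 = σ ^ (b + k * 1)
            rw [e1, pow_add σ k m, hm, mul_one, hb, ← pow_add, add_comm, mul_one]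
          · show d 2 = σ ^ (b + k * 2)
            rw [e2, pow_add σ k m, hm, mul_one, pow_add σ k (m * 2), pow_mul σ m 2, hm, one_pow, mul_one,
              hb, ← pow_add, ← pow_add, show k + (k + b) = b + k * 2 by ring]
        rw [e]
        exact hSgp _ _
      apply hyR
      show y ∈ R
      have hmemS : Q⁻¹ * y * Q ∈ S0 := by
        rw [show Q⁻¹ * y * Q = (sh ^ a)⁻¹ * Y by rw [hYdef]; group, hd]
        exact S0.mul_mem (S0.inv_mem (S0.pow_mem hSV _)) hdm
      rw [hS0] at hmemS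
      rwa [show Q * (Q⁻¹ * y * Q) * Q⁻¹ = y by group] at hmemS
    · -- r at least five
      have hr5 : 5 ≤ r := by
        have := hr.two_le
        rcases Nat.lt_or_ge r 5 with h | h
        · interval_cases r
          · exact absurd rfl hcon.1
          · exact absurd rfl hr3
          · exact absurd hr (by norm_num)
        · exact h
      obtain ⟨⟨x, hx⟩, hxo⟩ := exists_prime_orderOf_dvd_card' (G := G) r
        (hΩ.trans (Subgroup.index_dvd_card _))
      rw [Subgroup.orderOf_mk] at hxo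
      have hxr : x ^ r = 1 := by rw [← hxo]; exact pow_orderOf_eq_one x
      have hxs : ∀ z : F, (x : Matrix (Fin 3) (Fin 3) F) ≠ z • 1 := by
        intro z e
        have hz := hG.det x hx
        rw [e, Matrix.det_smul, Matrix.det_one, Fintype.card_fin, mul_one] at hz
        have hx3 : x ^ 3 = 1 := Units.ext (by
          rw [Units.val_pow_eq_pow_val, e, smul_pow, one_pow, hz, one_smul, Units.val_one])
        have := Nat.le_of_dvd (by norm_num) (hxo ▸ orderOf_dvd_of_pow_eq_one hx3)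
        omega
      obtain ⟨g, -, hg⟩ := hall x hx ⟨1, by rw [hxr, Units.val_one, one_smul]⟩ hxs
      set y := P⁻¹ * (g⁻¹ * x * g) * P with hy
      have hyN : y ∈ Subgroup.normalizer (R0 : Set (GL (Fin 3) F)) := by
        rw [Subgroup.mem_normalizer_iff]
        intro w
        rw [hR0, hR0, show P * (y * w * y⁻¹) * P⁻¹ = g⁻¹ * x * g * (P * w * P⁻¹) * (g⁻¹ * x * g)⁻¹ by
          rw [hy]; group]
        exact Subgroup.mem_normalizer_iff.1 hg _
      have hyr : y ^ r = 1 := by
        rw [hy, show P⁻¹ * (g⁻¹ * x * g) * P = MulAut.conj (g * P)⁻¹ x by simp [mul_assoc], ← map_pow, hxr,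
          map_one]
      obtain ⟨c, hc'⟩ := scalar_of_prime_ge_five hρ h1 hU hV hc hyN hr hr5 hyr
      refine hxs c ?_
      rw [show x = (g * P) * y * (g * P)⁻¹ by rw [hy]; group, Units.val_mul, Units.val_mul, hc',
        Matrix.mul_smul, mul_one, Matrix.smul_mul, ← Units.val_mul, mul_inv_cancel, Units.val_one]
  · intro hcase x hx hz hns
    obtain ⟨z, hz⟩ := hz
    have hdetx := hG.det x hx
    have hdz : z ^ 3 = 1 := by
      have := congrArg Matrix.det hz
      rw [Units.val_pow_eq_pow_val, Matrix.det_pow, hdetx, one_pow, Matrix.det_smul, Matrix.det_one,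
        Fintype.card_fin, mul_one] at this
      exact this.symm
    rw [Units.val_pow_eq_pow_val] at hz
    set X := (x : Matrix (Fin 3) (Fin 3) F)
    rcases hcase with rfl | ⟨rfl, hN⟩
    · -- involutions
      set s := z ^ 2 with hs
      have hs3 : s ^ 3 = 1 := by rw [hs, ← pow_mul, mul_comm, pow_mul, hdz, one_pow]
      have hss : s * s = z := by rw [hs]; linear_combination z * hdz
      have hs0 : s ≠ 0 := fun e => by simp [e] at hs3
      have hXX : ∀ w, X *ᵥ (X *ᵥ w) = z • w := fun w => by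
        rw [Matrix.mulVec_mulVec, ← pow_two, hz, Matrix.smul_mulVec, Matrix.one_mulVec]
      obtain ⟨b, f, hb, hbf⟩ := exists_eigen_family (X := X) (fun e : Bool => if e then s else -s)
        fun w => by
          have e : w = (2 * s)⁻¹ • (s • w + X *ᵥ w) + (2 * s)⁻¹ • (s • w - X *ᵥ w) := by
            rw [← smul_add, show s • w + X *ᵥ w + (s • w - X *ᵥ w) = (2 * s) • w by
              rw [mul_smul, two_smul]; abel, smul_smul, inv_mul_cancel₀ (mul_ne_zero h2 hs0), one_smul]
          rw [e]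
          refine Submodule.add_mem _ (Submodule.smul_mem _ _ (Submodule.subset_span ⟨true, ?_⟩))
            (Submodule.smul_mem _ _ (Submodule.subset_span ⟨false, ?_⟩))
          · simp [Matrix.mulVec_add, Matrix.mulVec_smul, hXX, smul_add, smul_smul, hss, add_comm]
          · simp [Matrix.mulVec_sub, Matrix.mulVec_smul, hXX, smul_sub, smul_smul, hss, neg_smul]
            abel
      have hdet := det_eigen hb hbf
      rw [hdetx] at hdet
      let su : Fˣ := Units.mk0 s hs0
      have hsG : P * dg (fun _ => su) * P⁻¹ ∈ G := hdgG _ (fun i => Units.ext (by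
        simp [su]; linear_combination (s ^ 6 + s ^ 3 + 1) * hs3)) (Units.ext (by
        simp [su]; linear_combination hs3))
      set y := P * dg (fun _ => su) * P⁻¹ * (P * tau * P⁻¹)
      have hyG : y ∈ G := G.mul_mem hsG htauG
      have hyN : y ∈ Cfsg.Geo.subgroupNormalizer R := by
        refine (Cfsg.Geo.subgroupNormalizer R).mul_mem ?_ htauN
        show _ ∈ Subgroup.normalizer (R : Set (GL (Fin 3) F))
        rw [Subgroup.mem_normalizer_iff]
        intro g
        rw [show P * dg (fun _ => su) * P⁻¹ * g * (P * dg (fun _ => su) * P⁻¹)⁻¹ = g by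
          rw [show P * dg (fun _ => su) * P⁻¹ = dg (fun _ => su) from Units.ext (by
            simp [su, ← Matrix.smul_one_eq_diagonal, Matrix.mul_smul, Matrix.smul_mul])]
          exact mul_inv_eq_iff_eq_mul.2 (Units.ext (by
            simp [su, ← Matrix.smul_one_eq_diagonal, Matrix.mul_smul, Matrix.smul_mul]))]
      have hy' : y = P * (dg (fun _ => su) * tau) * P⁻¹ := by simp only [y]; group
      -- eigenvectors of the model
      have hev : ∀ (w : Fin 3 → F) (c : F), (tau : GL (Fin 3) F).val *ᵥ w = c • w →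
          (y : Matrix (Fin 3) (Fin 3) F) *ᵥ ((P : Matrix (Fin 3) (Fin 3) F) *ᵥ w) =
            (s * c) • ((P : Matrix (Fin 3) (Fin 3) F) *ᵥ w) := by
        intro w c hw
        rw [hy']
        refine hconjv _ w _ ?_
        rw [Units.val_mul, ← Matrix.mulVec_mulVec, hw, dg_val, show (fun _ : Fin 3 => (su : F)) = fun _ => s from rfl,
          ← Matrix.smul_one_eq_diagonal, Matrix.smul_mulVec, Matrix.one_mulVec, smul_smul]
      have h0 : (tau : GL (Fin 3) F).val *ᵥ ![1, 0, 0] = (-1 : F) • ![(1 : F), 0, 0] := by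
        funext i; fin_cases i <;> simp [tau, Matrix.mulVec, dotProduct, Fin.sum_univ_three]
      have h1' : (tau : GL (Fin 3) F).val *ᵥ ![0, 1, 1] = (-1 : F) • ![(0 : F), 1, 1] := by
        funext i; fin_cases i <;> simp [tau, Matrix.mulVec, dotProduct, Fin.sum_univ_three]
      have h2' : (tau : GL (Fin 3) F).val *ᵥ ![0, 1, -1] = (1 : F) • ![(0 : F), 1, -1] := by
        funext i; fin_cases i <;> simp [tau, Matrix.mulVec, dotProduct, Fin.sum_univ_three]
      let bm : Fin 3 → Fin 3 → F := fun i =>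
        (P : Matrix (Fin 3) (Fin 3) F) *ᵥ ![![(1 : F), 0, 0], ![0, 1, 1], ![0, 1, -1]] i
      have hbm : LinearIndependent F bm := by
        have hli : LinearIndependent F ![![(1 : F), 0, 0], ![0, 1, 1], ![0, 1, -1]] := by
          rw [Fintype.linearIndependent_iff]
          intro g hg
          have a0 := congrFun hg 0
          have a1 := congrFun hg 1
          have a2 := congrFun hg 2
          simp [Fin.sum_univ_three] at a0 a1 a2
          have hg1 : g 1 = 0 := by
            have : (2 : F) * g 1 = 0 := by linear_combination a1 + a2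
            exact (mul_eq_zero.1 this).resolve_left h2
          intro i
          fin_cases i
          · exact a0
          · exact hg1
          · simpa [hg1] using a1
        have := hli.map' (Matrix.toLin' (P : Matrix (Fin 3) (Fin 3) F))
          (LinearMap.ker_eq_bot.2 (fun a b h => hP (by simpa using h)))
        simpa [Function.comp_def, bm] using this
      have hbmv : ∀ i, (y : Matrix (Fin 3) (Fin 3) F) *ᵥ bm i = ![-s, -s, s] i • bm i := by
        intro i
        fin_cases i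
        · simpa [bm] using hev _ _ h0
        · simpa [bm] using hev _ _ h1'
        · simpa [bm] using hev _ _ h2'
      -- the pattern of the eigenvalues
      obtain ⟨π, hπ⟩ : ∃ π : Equiv.Perm (Fin 3), ∀ i, (if f i then s else -s) = ![-s, -s, s] (π i) := by
        have hall : ¬ (f 0 = f 1 ∧ f 1 = f 2) := by
          rintro ⟨e, e'⟩
          refine hns (if f 0 then s else -s) (Matrix.ext_iff_mulVec.2 fun w => ?_)
          let B := basisOfLinearIndependentOfCardEqFinrank hb (by simp)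
          rw [Matrix.smul_mulVec, Matrix.one_mulVec, ← B.sum_repr w, Matrix.mulVec_sum, Finset.smul_sum]
          refine Finset.sum_congr rfl fun i _ => ?_
          rw [Matrix.mulVec_smul, coe_basisOfLinearIndependentOfCardEqFinrank, hbf, smul_comm]
          fin_cases i <;> simp [e, e']
        have hs3' : s * s * s = 1 := by linear_combination hs3
        have hbad : -s * -s * -s ≠ 1 ∧ s * s * -s ≠ 1 ∧ s * -s * s ≠ 1 ∧ -s * s * s ≠ 1 := by
          refine ⟨?_, ?_, ?_, ?_⟩ <;> intro h <;> exact h2 (by linear_combination -hs3' - h)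
        cases hf0 : f 0 <;> cases hf1 : f 1 <;> cases hf2 : f 2 <;> simp [hf0, hf1, hf2] at hdet hall ⊢
        all_goals first
          | exact absurd hdet.symm hbad.1
          | exact absurd hdet.symm hbad.2.1
          | exact absurd hdet.symm hbad.2.2.1
          | exact absurd hdet.symm hbad.2.2.2
          | (exfalso; exact h2 (by linear_combination -hs3' + hdet))
          | (exfalso; exact h2 (by linear_combination -hs3' - hdet))
          | (refine ⟨1, fun i => ?_⟩
             rcases (show i = 0 ∨ i = 1 ∨ i = 2 by omega) with rfl | rfl | rfl <;>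
               simp [hf0, hf1, hf2] <;> done)
          | (refine ⟨Equiv.swap 0 2, fun i => ?_⟩
             rcases (show i = 0 ∨ i = 1 ∨ i = 2 by omega) with rfl | rfl | rfl <;>
               simp [hf0, hf1, hf2, Equiv.swap_apply_def] <;> done)
          | (refine ⟨Equiv.swap 1 2, fun i => ?_⟩
             rcases (show i = 0 ∨ i = 1 ∨ i = 2 by omega) with rfl | rfl | rfl <;>
               simp [hf0, hf1, hf2, Equiv.swap_apply_def] <;> done)
      obtain ⟨g, hg, hgx⟩ := hG.conj x hx y hyG b (bm ∘ π) (fun i => if f i then s else -s)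
        (fun i => by
          show (if f i then s else -s) ^ 18 = 1
          split <;> linear_combination ((s ^ 3) ^ 5 + (s ^ 3) ^ 4 + (s ^ 3) ^ 3 + (s ^ 3) ^ 2 + s ^ 3 + 1) * hs3) hb
        (hbm.comp _ π.injective) hbf (fun i => by
          show (y : Matrix (Fin 3) (Fin 3) F) *ᵥ bm (π i) = (if f i then s else -s) • bm (π i)
          rw [hbmv, hπ])
      exact ⟨g, hg, hgx ▸ hyN⟩
    · -- order three
      obtain ⟨ν₀, hν₀, hν₀'⟩ := hN
      have hρ3 : (ρ : F) ^ 3 = 1 := by rw [← Units.val_pow_eq_pow_val, hρ, Units.val_one]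
      have hρs : (1 : F) + ρ + (ρ : F) ^ 2 = 0 := by
        have h0 : ((ρ : F) - 1) * (1 + ρ + (ρ : F) ^ 2) = 0 := by linear_combination hρ3
        exact (mul_eq_zero.1 h0).resolve_left (sub_ne_zero.2 fun e => h1 (Units.ext e))
      obtain ⟨ν, hν9, hνz⟩ : ∃ ν : Fˣ, ν ^ 9 = 1 ∧ (ν : F) ^ 3 = z := by
        have h3u : ∀ a b : F, a ^ 3 = 1 → a ≠ 1 → b ^ 3 = 1 → b = 1 ∨ b = a ∨ b = a ^ 2 := by
          intro a b ha ha1 hb
          have hs : (1 : F) + a + a ^ 2 = 0 := by
            have h0 : (a - 1) * (1 + a + a ^ 2) = 0 := by linear_combination ha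
            exact (mul_eq_zero.1 h0).resolve_left (sub_ne_zero.2 ha1)
          have : (b - 1) * ((b - a) * (b - a ^ 2)) = 0 := by
            linear_combination hb - (b * b - b) * hs + (b - 1) * ha
          rcases mul_eq_zero.1 this with h | h
          · exact Or.inl (sub_eq_zero.1 h)
          rcases mul_eq_zero.1 h with h | h
          · exact Or.inr (Or.inl (sub_eq_zero.1 h))
          · exact Or.inr (Or.inr (sub_eq_zero.1 h))
        rcases h3u ((ν₀ : F) ^ 3) z (by rw [← pow_mul, ← Units.val_pow_eq_pow_val, hν₀, Units.val_one])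
          (fun e => hν₀' (Units.ext (by simpa using e))) hdz with e | e | e
        · exact ⟨1, one_pow _, by rw [e]; simp⟩
        · exact ⟨ν₀, hν₀, e.symm⟩
        · exact ⟨ν₀ ^ 2, by rw [← pow_mul, mul_comm, pow_mul, hν₀, one_pow],
            by rw [e, Units.val_pow_eq_pow_val, ← pow_mul, ← pow_mul]⟩
      have hXXX : ∀ w, X *ᵥ (X *ᵥ (X *ᵥ w)) = z • w := fun w => by
        rw [Matrix.mulVec_mulVec, Matrix.mulVec_mulVec, ← pow_two, ← pow_succ, hz, Matrix.smul_mulVec,
          Matrix.one_mulVec]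
      obtain ⟨b, f, hb, hbf⟩ := exists_eigen_family (X := X)
        (fun k : Fin 3 => (ν : F) * (ρ : F) ^ (k : ℕ)) fun w => by
          let p : Fin 3 → (Fin 3 → F) := fun k => ((ν : F) * (ρ : F) ^ (k : ℕ)) ^ 2 • w +
            ((ν : F) * (ρ : F) ^ (k : ℕ)) • (X *ᵥ w) + X *ᵥ (X *ᵥ w)
          have hp : ∀ k, X *ᵥ p k = ((ν : F) * (ρ : F) ^ (k : ℕ)) • p k := by
            intro k
            simp only [p, Matrix.mulVec_add, Matrix.mulVec_smul, hXXX, smul_add, smul_smul]
            rw [show (ν : F) * (ρ : F) ^ (k : ℕ) * ((ν : F) * (ρ : F) ^ (k : ℕ)) ^ 2 = z by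
              rw [← hνz, show (ν : F) * (ρ : F) ^ (k : ℕ) * ((ν : F) * (ρ : F) ^ (k : ℕ)) ^ 2 =
                (ν : F) ^ 3 * ((ρ : F) ^ 3) ^ (k : ℕ) by rw [← pow_mul, mul_comm 3 (k : ℕ), pow_mul]; ring,
                hρ3, one_pow, mul_one], pow_two]
            abel
          have hν0 : (ν : F) ≠ 0 := Units.ne_zero ν
          have e : w = (3 * (ν : F) ^ 2)⁻¹ • (p 0 + (ρ : F) • p 1 + (ρ : F) ^ 2 • p 2) := by
            funext i
            simp [p, -Matrix.mulVec_mulVec]
            field_simp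
            linear_combination ((-2 : F) * (ν : F) ^ 2 * w i - (ν : F) ^ 2 * (ρ : F) ^ 3 * w i
                - (ν : F) * (ρ : F) * (X *ᵥ w) i) * hρ3
              - ((ν : F) * (X *ᵥ w) i + (X *ᵥ (X *ᵥ w)) i) * hρs
          rw [e]
          exact Submodule.smul_mem _ _ (Submodule.add_mem _ (Submodule.add_mem _
            (Submodule.subset_span ⟨0, hp 0⟩) (Submodule.smul_mem _ _ (Submodule.subset_span ⟨1, hp 1⟩)))
            (Submodule.smul_mem _ _ (Submodule.subset_span ⟨2, hp 2⟩)))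
      have hdet := det_eigen hb hbf
      rw [hdetx] at hdet
      set d : Fin 3 → Fˣ := fun i => ν * ρ ^ (f i : ℕ)
      have hdG : P * dg d * P⁻¹ ∈ G := hdgG d (fun i => by
          simp only [d]; rw [mul_pow, hν9, gp_pow_nine hρ, one_mul])
        (Units.ext (by simp only [d, Units.val_mul, Units.val_pow_eq_pow_val, Units.val_one]; exact hdet.symm))
      obtain ⟨g, hg, hgx⟩ := hG.conj x hx _ hdG b
        (fun i => (P : Matrix (Fin 3) (Fin 3) F) *ᵥ Pi.single i 1)
        (fun i => (ν : F) * (ρ : F) ^ (f i : ℕ)) (fun i => by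
          rw [← Units.val_pow_eq_pow_val, ← Units.val_mul, ← Units.val_pow_eq_pow_val,
            show (18 : ℕ) = 9 * 2 by norm_num, pow_mul, mul_pow, hν9, gp_pow_nine hρ, one_mul, one_pow,
            Units.val_one]) hb hPb hbf (fun i => by
          refine hconjv _ _ _ ?_
          rw [dg_val, Matrix.diagonal_mulVec_single]
          funext j
          by_cases h : j = i
          · subst h; simp [d]
          · simp [h])
      exact ⟨g, hg, hgx ▸ hdgN ν f⟩

end Cfsg.Agent.Heis3
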