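import Cfsg.Agent.Lib.TransvMax.Heisenberg3
import Cfsg.Agent.Lib.TransvMax.UnitaryGen

/-!
The special linear and special unitary groups in dimension three as ambient groups for the
normaliser of an extraspecial group of order 27.
-/

set_option autoImplicit false

namespace Cfsg.Agent.Heis3

open Cfsg.Agent
open scoped Matrix MatrixGroups

variable {F : Type*} [Field F]

theorem mem_SL {g : GL (Fin 3) F} :
    g ∈ Cfsg.Geo.specialLinear (Fin 3) F ↔ (g : Matrix (Fin 3) (Fin 3) F).det = 1 := by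
  rw [Cfsg.Geo.specialLinear, MonoidHom.mem_ker, Units.ext_iff]
  rfl

theorem det_conj (P g : GL (Fin 3) F) :
    ((P * g * P⁻¹ : GL (Fin 3) F) : Matrix (Fin 3) (Fin 3) F).det =
      (g : Matrix (Fin 3) (Fin 3) F).det := by
  rw [Units.val_mul, Units.val_mul]
  exact Matrix.det_units_conj P _

/-- The invertible matrix with prescribed independent columns. -/
theorem exists_cols {b : Fin 3 → Fin 3 → F} (hb : LinearIndependent F b) :
    ∃ B : GL (Fin 3) F, (B : Matrix (Fin 3) (Fin 3) F) = (Matrix.of b)ᵀ := by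
  have hu : IsUnit (Matrix.of b)ᵀ := by
    rw [Matrix.isUnit_transpose, ← Matrix.linearIndependent_rows_iff_isUnit]
    exact hb
  exact ⟨hu.unit, hu.unit_spec⟩

theorem mul_cols {X : Matrix (Fin 3) (Fin 3) F} {b : Fin 3 → Fin 3 → F} {c : Fin 3 → F}
    (h : ∀ i, X *ᵥ b i = c i • b i) :
    X * (Matrix.of b)ᵀ = (Matrix.of b)ᵀ * Matrix.diagonal c := by
  ext a i
  rw [Matrix.mul_diagonal]
  calc (X * (Matrix.of b)ᵀ) a i = (X *ᵥ b i) a := rfl
    _ = (c i • b i) a := by rw [h]
    _ = (Matrix.of b)ᵀ a i * c i := by simp [mul_comm]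

/-- Two elements with the same eigenvalues are conjugate by every matrix mapping eigenvectors to
multiples of eigenvectors. -/
theorem conj_of_cols {x y B B' : GL (Fin 3) F} {c : Fin 3 → F}
    (hx : (x : Matrix (Fin 3) (Fin 3) F) * B = (B : Matrix (Fin 3) (Fin 3) F) * Matrix.diagonal c)
    (hy : (y : Matrix (Fin 3) (Fin 3) F) * B' = (B' : Matrix (Fin 3) (Fin 3) F) * Matrix.diagonal c)
    (d : Fin 3 → Fˣ) : (B * dg d * B'⁻¹)⁻¹ * x * (B * dg d * B'⁻¹) = y := by
  rw [mul_assoc, inv_mul_eq_iff_eq_mul]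
  have hy' : Matrix.diagonal c * ((B'⁻¹ : GL (Fin 3) F) : Matrix (Fin 3) (Fin 3) F) =
      ((B'⁻¹ : GL (Fin 3) F) : Matrix (Fin 3) (Fin 3) F) * y := by
    rw [← one_mul (Matrix.diagonal c), ← Units.val_one (α := Matrix (Fin 3) (Fin 3) F),
      ← inv_mul_cancel B', Units.val_mul, mul_assoc _ (B' : Matrix (Fin 3) (Fin 3) F), ← hy, mul_assoc,
      mul_assoc, ← Units.val_mul B', mul_inv_cancel, Units.val_one, mul_one]
  refine Units.ext ?_
  simp only [Units.val_mul]
  rw [← mul_assoc, ← mul_assoc, hx, mul_assoc (B : Matrix (Fin 3) (Fin 3) F) (Matrix.diagonal c),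
    dg_val, show Matrix.diagonal c * Matrix.diagonal (fun i => (d i : F)) =
      Matrix.diagonal (fun i => (d i : F)) * Matrix.diagonal c by
      rw [Matrix.diagonal_mul_diagonal, Matrix.diagonal_mul_diagonal]; simp only [mul_comm]]
  simp only [mul_assoc, hy']

theorem linear_ambient : Ambient (Cfsg.Geo.specialLinear (Fin 3) F) where
  det g hg := mem_SL.1 hg
  conj := by
    intro x _ y _ b b' c _ hb hb' hx hy
    obtain ⟨B, hB⟩ := exists_cols hb
    obtain ⟨B', hB'⟩ := exists_cols hb'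
    have hxB := mul_cols hx
    have hyB := mul_cols hy
    rw [← hB] at hxB
    rw [← hB'] at hyB
    set l : Fˣ := (Matrix.GeneralLinearGroup.det B)⁻¹ * Matrix.GeneralLinearGroup.det B'
    refine ⟨B * dg ![l, 1, 1] * B'⁻¹, ?_, conj_of_cols hxB hyB _⟩
    rw [Cfsg.Geo.specialLinear, MonoidHom.mem_ker, map_mul, map_mul, map_inv]
    have : Matrix.GeneralLinearGroup.det (dg ![l, 1, 1]) = l := Units.ext (by
      rw [Matrix.GeneralLinearGroup.val_det_apply, det_dg]
      simp)
    rw [this]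
    simp [l]
  mono := by
    intro P ρ _ _ _ _
    exact ⟨mem_SL.2 (by rw [det_conj, det_tau]), fun d _ hd => mem_SL.2 (by
      rw [det_conj, det_dg, ← Units.val_mul, ← Units.val_mul, hd, Units.val_one])⟩

/-- Every element of such a group has determinant one. -/
theorem det_one_of_mem {R : Subgroup (GL (Fin 3) F)} (hR : Nat.card R = 27)
    (hRe : Monoid.exponent R = 3) (hRna : ¬ IsMulCommutative R)
    (hρ0 : ∃ ρ : Fˣ, ρ ^ 3 = 1 ∧ ρ ≠ 1) (h3 : (3 : F) ≠ 0) :
    R ≤ Cfsg.Geo.specialLinear (Fin 3) F := by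
  have key : ∀ u ∈ R, ∀ v ∈ R, v * u ≠ u * v → u ∈ Cfsg.Geo.specialLinear (Fin 3) F := by
    intro u hu v hv huv
    obtain ⟨P, ρ, hρ, -, rfl, -⟩ := exists_frame hR hRe hρ0 h3 hu hv huv
    refine mem_SL.2 ?_
    rw [det_conj, det_dg, ← Units.val_mul, ← Units.val_mul, Units.val_eq_one]
    simp only [gp, ← pow_add]
    rw [pow_mod_three hρ]
    simp
  intro w hw
  obtain ⟨u, hu, v, hv, huv⟩ : ∃ u ∈ R, ∃ v ∈ R, v * u ≠ u * v := by
    by_contra hc
    push Not at hc
    exact hRna ⟨⟨fun a b => Subtype.ext (hc b b.2 a a.2)⟩⟩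
  by_cases h : v * w = w * v
  · have hwu : v * (w * u) ≠ w * u * v := fun e => huv (by
      rw [← mul_assoc, h, mul_assoc, mul_assoc] at e
      exact mul_left_cancel e)
    have := Subgroup.mul_mem _ (key _ (R.mul_mem hw hu) v hv hwu)
      (Subgroup.inv_mem _ (key u hu v hv huv))
    rwa [mul_inv_cancel_right] at this
  · exact key w hw v hv h

theorem ninth_iff [Fintype F] : Ninth F ↔ 9 ∣ Fintype.card F - 1 := by
  classical
  rw [← Fintype.card_units]
  constructor
  · rintro ⟨ν, h9, h3⟩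
    haveI : Fact (Nat.Prime 3) := ⟨Nat.prime_three⟩
    have ho : orderOf ν = 3 ^ (1 + 1) := orderOf_eq_prime_pow (by simpa using h3) (by simpa using h9)
    rw [show (9 : ℕ) = orderOf ν by rw [ho]; norm_num]
    exact orderOf_dvd_card
  · intro h
    obtain ⟨g, hg⟩ := IsCyclic.exists_ofOrder_eq_natCard (α := Fˣ)
    rw [Nat.card_eq_fintype_card] at hg
    obtain ⟨k, hk⟩ := h
    have hk0 : k ≠ 0 := fun e => by
      have := Fintype.card_pos (α := Fˣ)
      simp [hk, e] at this
    refine ⟨g ^ k, by rw [← pow_mul, mul_comm k 9, ← hk, ← hg, pow_orderOf_eq_one], fun e => ?_⟩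
    rw [← pow_mul] at e
    have := Nat.le_of_dvd (Nat.mul_pos (Nat.pos_of_ne_zero hk0) (by norm_num)) (orderOf_dvd_of_pow_eq_one e)
    rw [hg, hk] at this
    omega

theorem exists_rho [Fintype F] (h : 3 ∣ Fintype.card F - 1) : ∃ ρ : Fˣ, ρ ^ 3 = 1 ∧ ρ ≠ 1 := by
  classical
  haveI : Fact (Nat.Prime 3) := ⟨Nat.prime_three⟩
  rw [← Fintype.card_units] at h
  obtain ⟨ρ, hρ⟩ := exists_prime_orderOf_dvd_card 3 h
  exact ⟨ρ, by rw [← hρ]; exact pow_orderOf_eq_one ρ, fun e => by simp [e] at hρ⟩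

section Unitary

variable [Fintype F] {q : ℕ} {σ : F ≃+* F}
  (hf : Cfsg.Geo.IsUnitaryForm σ (Cfsg.hermForm 3 F q)) (hσ : ∀ a : F, σ a = a ^ q)

local notation "B₀" => Cfsg.hermForm 3 F q

omit [Fintype F] in
include hσ in
theorem herm_col (M : Matrix (Fin 3) (Fin 3) F) (i j : Fin 3) :
    (Mᵀ * M.map σ) i j = B₀ (fun a => M a i) (fun a => M a j) := by
  simp [Matrix.mul_apply, Cfsg.hermForm, hσ]

omit [Fintype F] in
include hσ in
theorem mem_GU_iff_mat {g : GL (Fin 3) F} : g ∈ Cfsg.GU 3 F q ↔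
    (g : Matrix (Fin 3) (Fin 3) F)ᵀ * (g : Matrix (Fin 3) (Fin 3) F).map σ = 1 := by
  have hdot : ∀ u v : Fin 3 → F, B₀ u v = u ⬝ᵥ (fun i => σ (v i)) := fun u v => by
    simp [Cfsg.hermForm, dotProduct, hσ]
  rw [TransvMax.mem_GU_iff]
  constructor
  · intro h
    ext i j
    have := h (Pi.single i 1) (Pi.single j 1)
    rw [Matrix.mulVec_single_one, Matrix.mulVec_single_one] at this
    rw [herm_col hσ]
    refine this.trans ?_
    rw [hdot, single_one_dotProduct]
    rcases eq_or_ne i j with rfl | hij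
    · simp
    · simp [Matrix.one_apply_ne hij, hij]
  · intro h u v
    rw [hdot, hdot]
    set M := (g : Matrix (Fin 3) (Fin 3) F)
    rw [show (fun i => σ ((M *ᵥ v) i)) = M.map σ *ᵥ fun i => σ (v i) from funext fun i =>
      RingHom.map_mulVec (σ : F →+* F) M v i]
    conv_rhs => rw [← Matrix.one_mulVec (fun i => σ (v i)), ← h]
    rw [← Matrix.mulVec_mulVec, Matrix.dotProduct_mulVec u Mᵀ, Matrix.vecMul_transpose]

omit [Fintype F] in
include hσ in
theorem det_norm {g : GL (Fin 3) F} (hg : g ∈ Cfsg.GU 3 F q) :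
    (g : Matrix (Fin 3) (Fin 3) F).det * σ (g : Matrix (Fin 3) (Fin 3) F).det = 1 := by
  have h := congrArg Matrix.det ((mem_GU_iff_mat hσ).1 hg)
  rw [Matrix.det_mul, Matrix.det_transpose, Matrix.det_one] at h
  rwa [RingEquiv.map_det]

omit [Fintype F] in
include hσ in
theorem dg_mem_GU {d : Fin 3 → Fˣ} (hd : ∀ i, (d i : F) * σ (d i) = 1) :
    dg d ∈ Cfsg.GU 3 F q := by
  rw [mem_GU_iff_mat hσ, dg_val, Matrix.diagonal_transpose, Matrix.diagonal_map (map_zero σ),
    Matrix.diagonal_mul_diagonal, ← Matrix.diagonal_one]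
  exact congrArg Matrix.diagonal (funext hd)

include hf in
/-- An eigenbasis with eigenvalues of norm one can be chosen orthonormal. -/
theorem exists_orthonormal {x : GL (Fin 3) F} (hx : x ∈ Cfsg.GU 3 F q) {b : Fin 3 → Fin 3 → F}
    {c : Fin 3 → F} (hb : LinearIndependent F b) (hc : ∀ i, c i * σ (c i) = 1)
    (hbc : ∀ i, (x : Matrix (Fin 3) (Fin 3) F) *ᵥ b i = c i • b i) :
    ∃ v : Fin 3 → Fin 3 → F, (∀ i, (x : Matrix (Fin 3) (Fin 3) F) *ᵥ v i = c i • v i) ∧
      ∀ i j, B₀ (v i) (v j) = if i = j then 1 else 0 := by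
  classical
  set X := (x : Matrix (Fin 3) (Fin 3) F)
  have horth : ∀ {v w : Fin 3 → F} {i j : Fin 3}, X *ᵥ v = c i • v → X *ᵥ w = c j • w →
      c i ≠ c j → B₀ v w = 0 := by
    intro v w i j hv hw hij
    have h := TransvMax.mem_GU_iff.1 hx v w
    rw [hv, hw, hf.smul_left, TransvMax.herm_smul_right hf] at h
    by_contra h0
    have : c i * σ (c j) = 1 := mul_right_cancel₀ h0 (by rw [one_mul]; linear_combination h)
    refine hij ?_
    linear_combination c j * this - c i * hc j
  have hzl : ∀ v, B₀ 0 v = 0 := fun v => by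
    rw [← zero_smul F (0 : Fin 3 → F), hf.smul_left, zero_mul]
  have hsuml : ∀ (s : Finset (Fin 3)) (g : Fin 3 → (Fin 3 → F)) (w : Fin 3 → F),
      B₀ (∑ i ∈ s, g i) w = ∑ i ∈ s, B₀ (g i) w := by
    intro s g w
    induction s using Finset.induction_on with
    | empty => simp [hzl]
    | insert a s ha ih => rw [Finset.sum_insert ha, Finset.sum_insert ha, hf.add_left, ih]
  suffices h : ∀ s : Finset (Fin 3), ∃ v : Fin 3 → Fin 3 → F, (∀ i ∈ s, X *ᵥ v i = c i • v i) ∧
      ∀ i ∈ s, ∀ j ∈ s, B₀ (v i) (v j) = if i = j then 1 else 0 by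
    obtain ⟨v, h1, h2⟩ := h Finset.univ
    exact ⟨v, fun i => h1 i (Finset.mem_univ _), fun i j =>
      h2 i (Finset.mem_univ _) j (Finset.mem_univ _)⟩
  intro s
  induction s using Finset.induction_on with
  | empty => exact ⟨0, by simp, by simp⟩
  | insert k s hk ih =>
    obtain ⟨v, hve, hvo⟩ := ih
    let pr : (Fin 3 → F) → (Fin 3 → F) := fun e => e - ∑ j ∈ s, B₀ e (v j) • v j
    have hsub : ∀ a b w, B₀ (a - b) w = B₀ a w - B₀ b w := fun a b w => by
      rw [eq_sub_iff_add_eq, ← hf.add_left, sub_add_cancel]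
    have hpr0 : ∀ e, ∀ j ∈ s, B₀ (pr e) (v j) = 0 := by
      intro e j hj
      simp only [pr]
      rw [hsub, hsuml, Finset.sum_eq_single_of_mem j hj (fun i hi hij => by
        rw [hf.smul_left, hvo i hi j hj, if_neg hij, mul_zero])]
      rw [hf.smul_left, hvo j hj j hj, if_pos rfl, mul_one, sub_self]
    have hpre : ∀ i, c i = c k → X *ᵥ pr (b i) = c k • pr (b i) := by
      intro i hi
      simp only [pr]
      rw [Matrix.mulVec_sub, hbc, hi, Matrix.mulVec_sum, smul_sub, Finset.smul_sum]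
      congr 1
      refine Finset.sum_congr rfl fun j hj => ?_
      rw [Matrix.mulVec_smul, hve j hj, smul_smul, smul_smul]
      by_cases hjk : c j = c k
      · rw [hjk, mul_comm]
      · rw [horth (hbc i) (hve j hj) (hi ▸ Ne.symm hjk)]
        simp
    obtain ⟨i₀, hi₀, hw⟩ : ∃ i, c i = c k ∧ pr (b i) ≠ 0 := by
      by_contra hcon
      push Not at hcon
      let T : Finset (Fin 3) := Finset.univ.filter fun i => c i = c k
      let S' : Finset (Fin 3) := s.filter fun j => c j = c k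
      have hmem : ∀ i : T, b i ∈ Submodule.span F ((S'.image v : Finset (Fin 3 → F)) : Set (Fin 3 → F)) := by
        intro i
        have hi : c i = c k := (Finset.mem_filter.1 i.2).2
        have h0 := hcon i hi
        simp only [pr, sub_eq_zero] at h0
        rw [h0]
        refine Submodule.sum_mem _ fun j hj => ?_
        by_cases hjk : c j = c k
        · exact Submodule.smul_mem _ _ (Submodule.subset_span (Finset.mem_coe.2
            (Finset.mem_image_of_mem v (Finset.mem_filter.2 ⟨hj, hjk⟩))))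
        · rw [horth (hbc i) (hve j hj) (hi ▸ Ne.symm hjk), zero_smul]
          exact Submodule.zero_mem _
      have h1 := (hb.comp ((↑) : T → Fin 3) Subtype.val_injective)
      have h2 : Submodule.span F (Set.range fun i : T => b i) ≤
          Submodule.span F ((S'.image v : Finset (Fin 3 → F)) : Set (Fin 3 → F)) :=
        Submodule.span_le.2 (Set.range_subset_iff.2 hmem)
      have h3 := (finrank_span_eq_card h1).symm.le.trans
        ((Submodule.finrank_mono h2).trans (finrank_span_finset_le_card _))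
      rw [Fintype.card_coe] at h3
      have h4 : S'.card < T.card := Finset.card_lt_card
        ((Finset.ssubset_iff_of_subset (fun j hj => Finset.mem_filter.2
          ⟨Finset.mem_univ j, (Finset.mem_filter.1 hj).2⟩)).2
          ⟨k, Finset.mem_filter.2 ⟨Finset.mem_univ k, rfl⟩, fun h => hk (Finset.mem_filter.1 h).1⟩)
      have := h3.trans Finset.card_image_le
      omega
    obtain ⟨w, hwe, hws, hww⟩ : ∃ w, X *ᵥ w = c k • w ∧ (∀ j ∈ s, B₀ w (v j) = 0) ∧ B₀ w w ≠ 0 := by
      by_contra hcon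
      push Not at hcon
      have hiso : ∀ u u', X *ᵥ u = c k • u → (∀ j ∈ s, B₀ u (v j) = 0) →
          X *ᵥ u' = c k • u' → (∀ j ∈ s, B₀ u' (v j) = 0) → B₀ u u' = 0 := by
        intro u u' hu hus hu' hus'
        have key : ∀ a : F, σ a * B₀ u u' + a * B₀ u' u = 0 := by
          intro a
          have h := hcon (u + a • u') (by
            rw [Matrix.mulVec_add, Matrix.mulVec_smul, hu, hu', smul_add, smul_comm])
            (fun j hj => by rw [hf.add_left, hf.smul_left, hus j hj, hus' j hj, mul_zero, add_zero])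
          rw [hf.add_left, hf.smul_left, TransvMax.herm_add_right hf, TransvMax.herm_add_right hf,
            TransvMax.herm_smul_right hf, TransvMax.herm_smul_right hf, hcon u hu hus,
            hcon u' hu' hus'] at h
          linear_combination h
        by_contra h0
        refine hf.ne_refl (RingEquiv.ext fun a => ?_)
        have h1 := key 1
        rw [map_one] at h1
        show σ a = a
        exact mul_right_cancel₀ h0 (by linear_combination key a - a * h1)
      obtain ⟨⟨u, hu⟩, -⟩ := hf.nondegenerate (pr (b i₀)) hw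
      have hall : ∀ l, B₀ (pr (b i₀)) (b l) = 0 := by
        intro l
        by_cases hl : c l = c k
        · have hvp : ∀ j ∈ s, B₀ (v j) (pr (b i₀)) = 0 := fun j hj => by
            rw [hf.herm, hpr0 _ j hj, map_zero]
          have e : b l = pr (b l) + ∑ j ∈ s, B₀ (b l) (v j) • v j := by simp [pr]
          rw [hf.herm, e, hf.add_left, hsuml,
            hiso _ _ (hpre l hl) (hpr0 _) (hpre i₀ hi₀) (hpr0 _), zero_add,
            Finset.sum_eq_zero fun j hj => by
              rw [hf.smul_left, hvp j hj, mul_zero], map_zero]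
        · exact horth (i := k) (hpre i₀ hi₀) (hbc l) (Ne.symm hl)
      apply hu
      let Bs := basisOfLinearIndependentOfCardEqFinrank hb (by simp)
      rw [← Bs.sum_repr u, hsuml]
      refine Finset.sum_eq_zero fun l _ => ?_
      rw [coe_basisOfLinearIndependentOfCardEqFinrank, hf.smul_left, hf.herm, hall, map_zero, mul_zero]
    have hfix : σ (B₀ w w) = B₀ w w := (hf.herm w w).symm
    obtain ⟨t, ht⟩ := TransvMax.exists_norm_eq hf.ne_refl hf.involutive (a := (B₀ w w)⁻¹)
      (by rw [map_inv₀, hfix])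
    have hne : ∀ i ∈ s, i ≠ k := fun i hi e => hk (by rwa [e] at hi)
    refine ⟨Function.update v k (t • w), fun i hi => ?_, fun i hi j hj => ?_⟩
    · rcases Finset.mem_insert.1 hi with e | hi'
      · rw [e, Function.update_self, Matrix.mulVec_smul, hwe, smul_comm]
      · rw [Function.update_of_ne (hne i hi'), hve i hi']
    · rcases Finset.mem_insert.1 hi with e | hi' <;> rcases Finset.mem_insert.1 hj with e' | hj'
      · rw [e, e', Function.update_self, if_pos rfl, hf.smul_left, TransvMax.herm_smul_right hf,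
          ← mul_assoc, ht, inv_mul_cancel₀ hww]
      · rw [e, Function.update_self, Function.update_of_ne (hne j hj'), hf.smul_left, hws j hj',
          mul_zero, if_neg (hne j hj').symm]
      · rw [e', Function.update_self, Function.update_of_ne (hne i hi'), hf.herm, hf.smul_left,
          hws i hi', mul_zero, map_zero, if_neg (hne i hi')]
      · rw [Function.update_of_ne (hne i hi'), Function.update_of_ne (hne j hj'), hvo i hi' j hj']

include hf hσ in
theorem cols_mem_GU {v : Fin 3 → Fin 3 → F}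
    (hv : ∀ i j, B₀ (v i) (v j) = if i = j then 1 else 0) :
    ∃ V : GL (Fin 3) F, (V : Matrix (Fin 3) (Fin 3) F) = (Matrix.of v)ᵀ ∧ V ∈ Cfsg.GU 3 F q := by
  have hm : (Matrix.of v) * ((Matrix.of v)ᵀ).map σ = 1 := by
    ext i j
    rw [Matrix.one_apply, ← hv i j, Matrix.mul_apply, Cfsg.hermForm]
    simp [hσ]
  have hu : IsUnit (Matrix.of v)ᵀ := by
    rw [Matrix.isUnit_transpose, Matrix.isUnit_iff_isUnit_det]
    exact Matrix.isUnit_det_of_right_inverse hm
  refine ⟨hu.unit, hu.unit_spec, (mem_GU_iff_mat hσ).2 ?_⟩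
  rw [hu.unit_spec, Matrix.transpose_transpose, hm]

omit [Field F] [Fintype F] in
theorem gcd_step {p g : ℕ} (hp : p % 3 = 2) (hodd : p % 2 = 1) (h18 : g ∣ 18)
    (hg : g ∣ (p - 1) * (p + 1)) : g ∣ p + 1 := by
  by_cases h9 : 9 ∣ g
  · have h : 9 ∣ p + 1 := by
      refine Nat.Coprime.dvd_of_dvd_mul_left ?_ (h9.trans hg)
      rw [show (9 : ℕ) = 3 ^ 2 by norm_num]
      refine Nat.Coprime.pow_left _ ((Nat.Prime.coprime_iff_not_dvd Nat.prime_three).2 ?_)
      omega
    exact h18.trans (by omega)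
  · have := Nat.le_of_dvd (by norm_num) h18
    have h6 : g ∣ 6 := by
      interval_cases g <;> omega
    exact h6.trans (by omega)

include hσ in
theorem norm_one_of_pow (hF : Fintype.card F = q ^ 2) (hq3 : q % 3 = 2) (hq2 : q % 2 = 1)
    {a : F} (ha : a ^ 18 = 1) : a * σ a = 1 := by
  have ha0 : a ≠ 0 := fun e => by simp [e] at ha
  have h1 : a ^ (Fintype.card F - 1) = 1 := FiniteField.pow_card_sub_one_eq_one a ha0
  have ho : orderOf a ∣ q + 1 := by
    refine gcd_step hq3 hq2 (orderOf_dvd_of_pow_eq_one ha) ?_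
    rw [mul_comm, ← Nat.sq_sub_sq q 1, one_pow, ← hF]
    exact orderOf_dvd_of_pow_eq_one h1
  rw [hσ, ← pow_succ']
  exact orderOf_dvd_iff_pow_eq_one.1 ho

include hf hσ in
theorem unitary_ambient (hF : Fintype.card F = q ^ 2) (hq3 : q % 3 = 2) (hq2 : q % 2 = 1) :
    Ambient (Cfsg.GU 3 F q ⊓ Cfsg.Geo.specialLinear (Fin 3) F) where
  det g hg := mem_SL.1 hg.2
  conj := by
    intro x hx y hy b b' c hc hb hb' hxb hyb
    have hcn : ∀ i, c i * σ (c i) = 1 := fun i => norm_one_of_pow hσ hF hq3 hq2 (hc i)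
    obtain ⟨v, hv, hvo⟩ := exists_orthonormal hf hx.1 hb hcn hxb
    obtain ⟨v', hv', hvo'⟩ := exists_orthonormal hf hy.1 hb' hcn hyb
    obtain ⟨B, hB, hBU⟩ := cols_mem_GU hf hσ hvo
    obtain ⟨B', hB', hBU'⟩ := cols_mem_GU hf hσ hvo'
    have hxB := mul_cols hv
    have hyB := mul_cols hv'
    rw [← hB] at hxB
    rw [← hB'] at hyB
    set l : Fˣ := (Matrix.GeneralLinearGroup.det B)⁻¹ * Matrix.GeneralLinearGroup.det B'
    have hdl : Matrix.GeneralLinearGroup.det (dg ![l, 1, 1]) = l := Units.ext (by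
      rw [Matrix.GeneralLinearGroup.val_det_apply, det_dg]
      simp)
    have hl : (l : F) * σ l = 1 := by
      simp only [l, Units.val_mul, Units.val_inv_eq_inv_val, map_mul, map_inv₀,
        Matrix.GeneralLinearGroup.val_det_apply]
      have n1 := det_norm hσ hBU
      have n2 := det_norm hσ hBU'
      rw [mul_mul_mul_comm, ← mul_inv, n1, n2, inv_one, one_mul]
    refine ⟨B * dg ![l, 1, 1] * B'⁻¹,
      ⟨Subgroup.mul_mem _ (Subgroup.mul_mem _ hBU (dg_mem_GU hσ ?_)) (Subgroup.inv_mem _ hBU'), ?_⟩,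
      conj_of_cols hxB hyB _⟩
    · intro i
      fin_cases i <;> simp [hl]
    · show _ ∈ Cfsg.Geo.specialLinear (Fin 3) F
      rw [Cfsg.Geo.specialLinear, MonoidHom.mem_ker, map_mul, map_mul, map_inv, hdl]
      simp [l]
  mono := by
    intro P ρ hρ hρ1 hu hv
    set U : GL (Fin 3) F := P * dg (gp ρ 0 1) * P⁻¹
    set V : GL (Fin 3) F := P * sh * P⁻¹
    set p : Fin 3 → Fin 3 → F := fun i => (P : Matrix (Fin 3) (Fin 3) F) *ᵥ Pi.single i 1
    have hPc : ∀ (g : GL (Fin 3) F) (w : Fin 3 → F), ((P * g * P⁻¹ : GL (Fin 3) F) :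
        Matrix (Fin 3) (Fin 3) F) *ᵥ ((P : Matrix (Fin 3) (Fin 3) F) *ᵥ w) =
        (P : Matrix (Fin 3) (Fin 3) F) *ᵥ ((g : Matrix (Fin 3) (Fin 3) F) *ᵥ w) := fun g w => by
      rw [Units.val_mul, Units.val_mul, ← Matrix.mulVec_mulVec, ← Matrix.mulVec_mulVec,
        TransvMax.inv_mulVec_mulVec]
    have hUp : ∀ i, (U : Matrix (Fin 3) (Fin 3) F) *ᵥ p i = ((gp ρ 0 1 i : Fˣ) : F) • p i := by
      intro i
      rw [hPc, dg_val, Matrix.diagonal_mulVec_single, ← Matrix.mulVec_smul]
      congr 1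
      funext j
      by_cases h : j = i
      · subst h; simp
      · simp [h]
    have hVp : ∀ i, (V : Matrix (Fin 3) (Fin 3) F) *ᵥ p i = p (i + 1) := by
      intro i
      rw [hPc]
      show (P : Matrix (Fin 3) (Fin 3) F) *ᵥ _ = _
      congr 1
      funext j
      fin_cases i <;> fin_cases j <;> simp [sh, Matrix.mulVec, dotProduct, Fin.sum_univ_three]
    have hρn : ∀ i, ((gp ρ 0 1 i : Fˣ) : F) * σ (gp ρ 0 1 i : Fˣ) = 1 := fun i =>
      norm_one_of_pow hσ hF hq3 hq2 (by
        rw [gp, ← Units.val_pow_eq_pow_val, ← pow_mul, mul_comm, pow_mul,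
          show ρ ^ 18 = (ρ ^ 3) ^ 6 by rw [← pow_mul], hρ, one_pow, one_pow, Units.val_one])
    have horth : ∀ i j, i ≠ j → B₀ (p i) (p j) = 0 := by
      intro i j hij
      have h := TransvMax.mem_GU_iff.1 hu.1 (p i) (p j)
      rw [hUp, hUp, hf.smul_left, TransvMax.herm_smul_right hf] at h
      by_contra h0
      have h1 : ((gp ρ 0 1 i : Fˣ) : F) * σ (gp ρ 0 1 j : Fˣ) = 1 :=
        mul_right_cancel₀ h0 (by rw [one_mul]; linear_combination h)
      refine hij (gp_injective hρ hρ1 (Units.ext ?_))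
      linear_combination ((gp ρ 0 1 j : Fˣ) : F) * h1 - ((gp ρ 0 1 i : Fˣ) : F) * hρn j
    have hsame : ∀ i, B₀ (p i) (p i) = B₀ (p 0) (p 0) := by
      have hs : ∀ i, B₀ (p (i + 1)) (p (i + 1)) = B₀ (p i) (p i) := fun i => by
        rw [← hVp]; exact TransvMax.mem_GU_iff.1 hv.1 _ _
      intro i
      fin_cases i
      · rfl
      · exact hs 0
      · exact (hs 1).trans (hs 0)
    set α := B₀ (p 0) (p 0)
    have hPα : (P : Matrix (Fin 3) (Fin 3) F)ᵀ * (P : Matrix (Fin 3) (Fin 3) F).map σ =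
        α • (1 : Matrix (Fin 3) (Fin 3) F) := by
      ext i j
      rw [herm_col hσ, Matrix.smul_apply, Matrix.one_apply]
      have e : ∀ i : Fin 3, (fun a => (P : Matrix (Fin 3) (Fin 3) F) a i) = p i := fun i => by
        simp only [p, Matrix.mulVec_single_one]; rfl
      rw [e, e]
      rcases eq_or_ne i j with rfl | hij
      · simp [hsame i]
      · simp [horth i j hij, hij]
    have hα : α ≠ 0 := fun e => by
      have := congrArg Matrix.det hPα
      rw [e, zero_smul, Matrix.det_zero, Matrix.det_mul, Matrix.det_transpose,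
        ← RingEquiv.mapMatrix_apply, ← RingEquiv.map_det, mul_eq_zero] at this
      have hd : (P : Matrix (Fin 3) (Fin 3) F).det ≠ 0 :=
        ((Matrix.isUnit_iff_isUnit_det _).1 P.isUnit).ne_zero
      rcases this with h | h
      · exact hd h
      · exact hd ((EmbeddingLike.map_eq_zero_iff).1 h)
    obtain ⟨t, ht⟩ := TransvMax.exists_norm_eq hf.ne_refl hf.involutive (a := α⁻¹)
      (by rw [map_inv₀]; exact congrArg Inv.inv (hf.herm (p 0) (p 0)).symm)
    have ht0 : t ≠ 0 := fun e => inv_ne_zero hα (by rw [← ht, e, zero_mul])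
    set S : GL (Fin 3) F := dg (fun _ => Units.mk0 t ht0) * P
    have hSU : S ∈ Cfsg.GU 3 F q := by
      rw [mem_GU_iff_mat hσ]
      simp only [S, Units.val_mul, dg_val, Units.val_mk0, ← Matrix.smul_one_eq_diagonal,
        Matrix.smul_mul, one_mul, Matrix.transpose_smul]
      rw [Matrix.map_smul' σ t _ (map_mul σ), Matrix.mul_smul, hPα, smul_smul, smul_smul,
        ht, inv_mul_cancel₀ hα, one_smul]
    have hc : ∀ g : GL (Fin 3) F, g ∈ Cfsg.GU 3 F q → P * g * P⁻¹ ∈ Cfsg.GU 3 F q := by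
      intro g hg
      set D : GL (Fin 3) F := dg (fun _ => Units.mk0 t ht0)
      have hD : ∀ h : GL (Fin 3) F, D * h = h * D := fun h => Units.ext (by
        simp [D, ← Matrix.smul_one_eq_diagonal])
      have : P * g * P⁻¹ = S * g * S⁻¹ := by
        show _ = D * P * g * (D * P)⁻¹
        rw [mul_inv_rev, mul_assoc D P, mul_assoc D, ← mul_assoc (P * g) P⁻¹ D⁻¹, ← mul_assoc,
          hD, mul_assoc _ D, mul_inv_cancel, mul_one]
      rw [this]
      exact Subgroup.mul_mem _ (Subgroup.mul_mem _ hSU hg) (Subgroup.inv_mem _ hSU)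
    refine ⟨⟨hc _ ((mem_GU_iff_mat hσ).2 ?_), mem_SL.2 (by rw [det_conj, det_tau])⟩,
      fun d hd hd1 => ⟨hc _ (dg_mem_GU hσ fun i => norm_one_of_pow hσ hF hq3 hq2 ?_), mem_SL.2 ?_⟩⟩
    · ext i j
      fin_cases i <;> fin_cases j <;>
        simp [tau, Matrix.mul_apply, Matrix.transpose_apply, Fin.sum_univ_three]
    · rw [← Units.val_pow_eq_pow_val, show (18 : ℕ) = 9 * 2 by norm_num, pow_mul, hd, one_pow,
        Units.val_one]
    · rw [det_conj, det_dg, ← Units.val_mul, ← Units.val_mul, hd1, Units.val_one]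

end Unitary

end Cfsg.Agent.Heis3
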