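import Cfsg.Agent.Lib.TransvMax.QuadSingular

/-!
Overgroups of the normaliser of a quadratic extension field in a derived orthogonal group, the
extension acting by similitudes with the non-trivial adjoint.
-/

set_option autoImplicit false

namespace Cfsg.Agent.QMax

open scoped Matrix MatrixGroups
open Cfsg.Agent Cfsg.Agent.TransvMax

variable {ι : Type} [Fintype ι] [DecidableEq ι] {F : Type*} [Field F]
  {Q : QuadraticForm F (ι → F)}

/-- A similitude with irreducible quadratic minimal polynomial and conjugate adjoint. -/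
structure JSetting (Q : QuadraticForm F (ι → F)) (J : (ι → F) →ₗ[F] (ι → F)) (t d : F) : Prop where
  set : QSetting Q
  sq : ∀ x, J (J x) = t • J x - d • x
  adj : ∀ x y, pB Q (J x) y = t * pB Q x y - pB Q x (J y)
  scal : ∀ x, Q (J x) = d * Q x
  val : ∀ x, pB Q x (J x) = t * Q x
  noroot : ∀ e : F, e * e - t * e + d ≠ 0
  dim : 14 ≤ Fintype.card ι

namespace JSetting

variable {J : (ι → F) →ₗ[F] (ι → F)} {t d : F} (S : JSetting Q J t d)

include S

theorem d_ne : d ≠ 0 := fun e => S.noroot 0 (by rw [e]; ring)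

theorem symmJ (x y : ι → F) : pB Q y (J x) = t * pB Q x y - pB Q x (J y) := by
  rw [S.set.pB_comm, S.adj]

theorem sing_J {x : ι → F} (h : Q x = 0) : Q (J x) = 0 := by rw [S.scal, h, mul_zero]

theorem val_zero {x : ι → F} (h : Q x = 0) : pB Q x (J x) = 0 := by rw [S.val, h, mul_zero]

theorem val_zero' {x : ι → F} (h : Q x = 0) : pB Q (J x) x = 0 := by
  rw [S.set.pB_comm, S.val_zero h]

theorem self_zero {x : ι → F} (h : Q x = 0) : pB Q x x = 0 := by rw [S.set.pB_self, h, mul_zero]

theorem coeff_zero {x : ι → F} (hx : x ≠ 0) {a b : F} (h : a • x + b • J x = 0) : a = 0 ∧ b = 0 := by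
  by_cases hb : b = 0
  · subst hb
    rw [zero_smul, add_zero, smul_eq_zero] at h
    exact ⟨h.resolve_right hx, rfl⟩
  exfalso
  set e := -a / b
  have he : J x = e • x := by
    rw [← inv_smul_smul₀ hb (J x), eq_neg_of_add_eq_zero_right h, smul_neg, smul_smul, ← neg_smul]
    congr 1
    simp only [e]
    field_simp
  have h1 := S.sq x
  rw [he, map_smul, he, smul_smul, smul_smul, ← sub_smul] at h1
  exact S.noroot e (by
    have h2 : (e * e - (t * e - d)) • x = 0 := by rw [sub_smul, h1, sub_self]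
    linear_combination (smul_eq_zero.1 h2).resolve_right hx)

/-- The span of a vector over the field. -/
def line (_S : JSetting Q J t d) (x : ι → F) : Submodule F (ι → F) := Submodule.span F {x, J x}

theorem mem_line {x y : ι → F} : y ∈ S.line x ↔ ∃ a b : F, a • x + b • J x = y :=
  Submodule.mem_span_pair

theorem self_mem_line (x : ι → F) : x ∈ S.line x := Submodule.subset_span (by simp)

theorem J_mem_line {x y : ι → F} (h : y ∈ S.line x) : J y ∈ S.line x := by
  obtain ⟨a, b, rfl⟩ := S.mem_line.1 h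
  refine S.mem_line.2 ⟨-(b * d), a + b * t, ?_⟩
  rw [map_add, map_smul, map_smul, S.sq]
  module

theorem li_four {x y : ι → F} (hx : x ≠ 0) (hy : y ∉ S.line x) :
    LinearIndependent F ![y, J y, x, J x] := by
  rw [Fintype.linearIndependent_iff]
  intro c hc
  simp only [Fin.sum_univ_four] at hc
  change c 0 • y + c 1 • J y + c 2 • x + c 3 • J x = 0 at hc
  have h01 : c 0 = 0 ∧ c 1 = 0 := by
    by_contra hne
    refine hy ?_
    have hm : c 0 • y + c 1 • J y ∈ S.line x :=
      S.mem_line.2 ⟨-c 2, -c 3, by linear_combination (norm := module) -hc⟩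
    -- multiply by the conjugate
    have hn : c 0 * c 0 + c 0 * c 1 * t + c 1 * c 1 * d ≠ 0 := by
      intro e
      by_cases h1 : c 1 = 0
      · exact hne ⟨by simpa [h1] using e, h1⟩
      · exact S.noroot (-c 0 / c 1) (by field_simp; linear_combination e)
    have h2 := (S.line x).smul_mem (c 0 * c 0 + c 0 * c 1 * t + c 1 * c 1 * d)⁻¹
      ((S.line x).sub_mem ((S.line x).smul_mem (c 0 + c 1 * t) hm)
        ((S.line x).smul_mem (c 1) (S.J_mem_line hm)))
    convert h2 using 1
    rw [map_add, map_smul, map_smul, S.sq]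
    match_scalars <;> first
      | ring1
      | linear_combination -(inv_mul_cancel₀ hn)
      | linear_combination inv_mul_cancel₀ hn
  rw [h01.1, h01.2, zero_smul, zero_smul, zero_add, zero_add] at hc
  obtain ⟨h2, h3⟩ := S.coeff_zero hx hc
  intro i
  fin_cases i
  exacts [h01.1, h01.2, h2, h3]

theorem li_two {x : ι → F} (hx : x ≠ 0) : LinearIndependent F ![x, J x] :=
  LinearIndependent.pair_iff.2 fun _ _ h => S.coeff_zero hx h

theorem li_three {x w : ι → F} (hx : x ≠ 0) (hw : w ∉ S.line x) :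
    LinearIndependent F ![w, x, J x] :=
  linearIndependent_finCons.2 ⟨S.li_two hx, fun h => hw (Submodule.span_mono (by
    rintro _ ⟨i, rfl⟩; fin_cases i <;> simp) h)⟩

theorem not_line_symm {x y : ι → F} (hx : x ≠ 0) (hy : y ∉ S.line x) : x ∉ S.line y := by
  intro h
  obtain ⟨a, b, hab⟩ := S.mem_line.1 h
  have h4 := Fintype.linearIndependent_iff.1 (S.li_four hx hy) ![a, b, -1, 0] (by
    simp only [Fin.sum_univ_four]
    show a • y + b • J y + (-1 : F) • x + (0 : F) • J x = 0
    rw [← hab]; module) 2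
  exact one_ne_zero (neg_eq_zero.1 (show (-1 : F) = 0 from h4))

/-- Two singular vectors orthogonal over the field. -/
def KPair (_S : JSetting Q J t d) (x y : ι → F) : Prop :=
  Q x = 0 ∧ Q y = 0 ∧ pB Q x y = 0 ∧ pB Q x (J y) = 0

theorem kPair_symm {x y : ι → F} (h : S.KPair x y) : S.KPair y x :=
  ⟨h.2.1, h.1, by rw [S.set.pB_comm, h.2.2.1], by rw [S.symmJ, h.2.2.1, h.2.2.2, mul_zero, sub_zero]⟩

theorem kPair_of {x y : ι → F} (hx : Q x = 0) (hy : Q y = 0) (h1 : pB Q y x = 0)
    (h2 : pB Q y (J x) = 0) : S.KPair x y := S.kPair_symm ⟨hy, hx, h1, h2⟩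

/-- The root element of a singular point over the field commutes with it. -/
theorem root_comm {u : ι → F} (hu : Q u = 0) (s : F) (h : pB Q (s • J u) u = 0) (x : ι → F) :
    J (S.set.siegel u (s • J u) hu h x) = S.set.siegel u (s • J u) hu h (J x) := by
  simp only [S.set.siegel_apply, siegelHom_apply, S.set.quad_smul, S.sing_J hu, map_add, map_sub,
    map_smul, S.sq, S.adj, smul_eq_mul]
  match_scalars <;> ring

theorem root_perp {u : ι → F} (hu : Q u = 0) (s : F) : pB Q (s • J u) u = 0 := by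
  rw [map_smul, LinearMap.smul_apply, S.val_zero' hu, smul_zero]

/-- All root elements of singular points over the field. -/
def Roots (_S : JSetting Q J t d) (K : Subgroup ((ι → F) ≃ₗ[F] (ι → F))) : Prop :=
  ∀ (u : ι → F) (hu : Q u = 0) (s : F) (h : pB Q (s • J u) u = 0),
    _S.set.siegel u (s • J u) hu h ∈ K

/-- The full root group of a singular plane. -/
def Good (_S : JSetting Q J t d) (K : Subgroup ((ι → F) ≃ₗ[F] (ι → F))) (x y : ι → F) : Prop :=
  ∀ (s : F) (h1 : Q x = 0) (h2 : pB Q (s • y) x = 0), _S.set.siegel x (s • y) h1 h2 ∈ K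

variable {K : Subgroup ((ι → F) ≃ₗ[F] (ι → F))}

theorem plane_swap {x y : ι → F} (hx : Q x = 0) (hy : Q y = 0) (hxy : pB Q x y = 0) (s : F)
    (h1 : pB Q (s • y) x = 0) (h2 : pB Q ((-s) • x) y = 0) :
    S.set.siegel x (s • y) hx h1 = S.set.siegel y ((-s) • x) hy h2 := by
  refine LinearEquiv.ext fun v => ?_
  simp only [S.set.siegel_apply, siegelHom_apply, S.set.quad_smul, hx, hy, map_smul, smul_eq_mul]
  module

theorem good_swap {x y : ι → F} (hx : Q x = 0) (hxy : pB Q x y = 0) (h : S.Good K x y) :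
    S.Good K y x := by
  intro s hy h2
  have h1 : pB Q ((-s) • y) x = 0 := by
    rw [map_smul, LinearMap.smul_apply, S.set.pB_comm, hxy, smul_zero]
  have e := h (-s) hx h1
  rw [S.plane_swap hx hy hxy (-s) h1 (by rw [neg_neg]; exact h2)] at e
  convert e using 1
  exact S.set.siegel_congr rfl (by rw [neg_neg])

variable [Finite F]

theorem exists_val {k : ℕ} {v : Fin k → ι → F} (hv : LinearIndependent F v) (hk : k ≤ 5)
    (α : Fin k → F) : ∃ w, Q w = 0 ∧ ∀ i, pB Q w (v i) = α i := by
  obtain ⟨x, -, h1, h2⟩ := S.set.topDec.exists_values_in (v := v) (fun _ => Submodule.mem_top) hv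
    (by rw [S.set.finrank_top_eq]; have := S.dim; omega) α 0
  exact ⟨x, h1, h2⟩

theorem exists_out {k : ℕ} (v : Fin k → ι → F) (hk : k ≤ 5) :
    ∃ x, Q x = 0 ∧ (∀ i, pB Q x (v i) = 0) ∧ x ∉ Submodule.span F (Set.range v) := by
  have h := finrank_range_le_card (R := F) v
  rw [Fintype.card_fin] at h
  obtain ⟨x, -, h1, h2, h3⟩ := S.set.topDec.exists_norm_out v (Submodule.span F (Set.range v))
    (by rw [S.set.finrank_top_eq]; have := S.dim; omega)
    (by
      rw [S.set.finrank_top_eq]
      have := S.dim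
      unfold Set.finrank at h
      omega) 0
  exact ⟨x, h1, h2, h3⟩

/-- A singular vector orthogonal over the field to two points and outside both. -/
theorem exists_nbr (x x' : ι → F) :
    ∃ z, Q z = 0 ∧ pB Q z x = 0 ∧ pB Q z (J x) = 0 ∧ pB Q z x' = 0 ∧ pB Q z (J x') = 0 ∧
      z ∉ S.line x ∧ z ∉ S.line x' := by
  obtain ⟨z, hz, hz', hzn⟩ := S.exists_out ![x, J x, x', J x'] (by omega)
  refine ⟨z, hz, hz' 0, hz' 1, hz' 2, hz' 3, fun h => hzn (Submodule.span_mono ?_ h),
    fun h => hzn (Submodule.span_mono ?_ h)⟩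
  · rintro _ (rfl | rfl)
    · exact ⟨0, rfl⟩
    · exact ⟨1, rfl⟩
  · rintro _ (rfl | rfl)
    · exact ⟨2, rfl⟩
    · exact ⟨3, rfl⟩

/-- A group mapping singular points over the field to such points is semilinear. -/
theorem semilinear_of_lines {g : (ι → F) ≃ₗ[F] (ι → F)} (hg : g ∈ FormsLib.oGroup Q)
    (h : ∀ p, Q p = 0 → g (J p) ∈ S.line (g p)) :
    ∃ a b : F, ∀ x, g (J x) = a • g x + b • J (g x) := by
  have hagree : ∀ y z, S.KPair y z → y ≠ 0 → z ∉ S.line y → ∀ a b : F,
      g (J y) = a • g y + b • J (g y) → g (J z) = a • g z + b • J (g z) := by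
    intro y z hyz hy0 hzy a b hab
    obtain ⟨a', b', hz'⟩ := S.mem_line.1 (h z hyz.2.1)
    have hsum : Q (y + z) = 0 := by rw [S.set.quad_add, hyz.1, hyz.2.1, hyz.2.2.1, add_zero, add_zero]
    obtain ⟨a'', b'', hs⟩ := S.mem_line.1 (h (y + z) hsum)
    rw [map_add, map_add, map_add, map_add, hab, ← hz'] at hs
    have hgy : g y ≠ 0 := fun e => hy0 ((LinearEquiv.map_eq_zero_iff g).1 e)
    have hgz : g z ∉ S.line (g y) := fun hmem => hzy (by
      obtain ⟨p, q, hpq⟩ := S.mem_line.1 hmem
      by_cases hb : b = 0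
      · exfalso
        rw [hb, zero_smul, add_zero, ← map_smul] at hab
        exact one_ne_zero (S.coeff_zero hy0 (a := -a) (b := 1) (by rw [g.injective hab]; module)).2
      · refine S.mem_line.2 ⟨p - q * a / b, q / b, g.injective ?_⟩
        rw [map_add, map_smul, map_smul, hab, ← hpq]
        match_scalars <;> field_simp <;> ring)
    have h4 := Fintype.linearIndependent_iff.1 (S.li_four hgy hgz)
      ![a'' - a', b'' - b', a'' - a, b'' - b] (by
        simp only [Fin.sum_univ_four]
        show (a'' - a') • g z + (b'' - b') • J (g z) + (a'' - a) • g y + (b'' - b) • J (g y) = 0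
        linear_combination (norm := module) hs)
    have e0 : a'' - a' = 0 := h4 0
    have e1 : b'' - b' = 0 := h4 1
    have e2 : a'' - a = 0 := h4 2
    have e3 : b'' - b = 0 := h4 3
    rw [← hz', show a' = a by linear_combination e2 - e0, show b' = b by linear_combination e3 - e1]
  obtain ⟨y₀, hy₀, -, hy₀n⟩ := S.exists_out (k := 0) ![] (by omega)
  have hy₀0 : y₀ ≠ 0 := fun e => hy₀n (e ▸ Submodule.zero_mem _)
  obtain ⟨a, b, hab⟩ := S.mem_line.1 (h y₀ hy₀)
  have hall : ∀ z, Q z = 0 → g (J z) = a • g z + b • J (g z) := by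
    intro z hz
    rcases eq_or_ne z 0 with rfl | hz0
    · simp
    obtain ⟨w, hw, h1, h2, h3, h4, hn1, hn2⟩ := S.exists_nbr y₀ z
    have hw0 : w ≠ 0 := fun e => hn1 (e ▸ Submodule.zero_mem _)
    exact hagree w z ⟨hw, hz, h3, h4⟩ hw0 (S.not_line_symm hz0 hn2) a b
      (hagree y₀ w (S.kPair_of hy₀ hw h1 h2) hy₀0 hn1 a b hab.symm)
  refine ⟨a, b, fun x => ?_⟩
  by_cases hx : Q x = 0
  · exact hall x hx
  obtain ⟨u, hu, hux⟩ := S.exists_val (v := ![x]) (by
    simp [linearIndependent_unique_iff]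
    rintro rfl
    exact hx (QuadraticMap.map_zero _)) (by omega) ![1]
  have hxu : pB Q x u = 1 := by rw [S.set.pB_comm]; exact hux 0
  have e1 := hall (x + (-Q x) • u) (by
    rw [S.set.quad_add, S.set.quad_smul, hu, map_smul, hxu, smul_eq_mul]; ring)
  have e2 := hall u hu
  simp only [map_add, map_smul] at e1
  rw [e2] at e1
  linear_combination (norm := module) e1

/-- An overgroup element moving a point off every line gives a good plane orthogonal over the field. -/
theorem exists_good_kPair (hroots : S.Roots K) {x₁ x₂ : ι → F} (h1 : Q x₁ = 0) (h2 : Q x₂ = 0)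
    (h12 : pB Q x₁ x₂ = 0) (hx : x₁ ≠ 0) (hn : x₂ ∉ S.line x₁) (hG : S.Good K x₁ x₂) :
    ∃ x a, S.KPair x a ∧ x ≠ 0 ∧ a ∉ S.line x ∧ S.Good K x a := by
  have h4 := S.li_four hx hn
  obtain ⟨v₅, -, hv, hvn⟩ := S.exists_out ![x₂, J x₂, x₁, J x₁] (by omega)
  obtain ⟨a, ha, ha'⟩ := S.exists_val (v := ![v₅, x₂, J x₂, x₁, J x₁])
    (linearIndependent_finCons.2 ⟨h4, hvn⟩) le_rfl ![1, 0, 0, 0, 1]
  have hav : pB Q a v₅ = 1 := ha' 0
  have hax2 : pB Q a x₂ = 0 := ha' 1
  have haJx2 : pB Q a (J x₂) = 0 := ha' 2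
  have hax1 : pB Q a x₁ = 0 := ha' 3
  have haJx1 : pB Q a (J x₁) = 1 := ha' 4
  have hx2a : pB Q x₂ a = 0 := by rw [S.set.pB_comm, hax2]
  have hx2Ja : pB Q x₂ (J a) = 0 := by rw [S.symmJ, hax2, haJx2, mul_zero, sub_zero]
  have hx20 : x₂ ≠ 0 := fun e => hn (e ▸ Submodule.zero_mem _)
  refine ⟨x₂, a, ⟨h2, ha, hx2a, hx2Ja⟩, hx20, fun h => ?_, fun s hq hz => ?_⟩
  · obtain ⟨p, q, rfl⟩ := S.mem_line.1 h
    have hv1 : pB Q x₂ v₅ = 0 := by rw [S.set.pB_comm]; exact hv 0
    have hv2 : pB Q (J x₂) v₅ = 0 := by rw [S.set.pB_comm]; exact hv 1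
    rw [map_add, LinearMap.add_apply, map_smul, map_smul, LinearMap.smul_apply, LinearMap.smul_apply,
      hv1, hv2, smul_zero, smul_zero, add_zero] at hav
    exact zero_ne_one hav
  have hp : pB Q ((1 : F) • J a) a = 0 := S.root_perp ha 1
  set h := S.set.siegel a ((1 : F) • J a) ha hp
  have hK : h ∈ K := hroots a ha 1 hp
  have hQJ : Q ((1 : F) • J a) = 0 := by rw [one_smul, S.sing_J ha]
  have e2 : h x₂ = x₂ := by
    rw [S.set.siegel_apply, siegelHom_apply, hx2a, hQJ, one_smul, hx2Ja]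
    simp
  have e1 : h x₁ = x₁ + a := by
    rw [S.set.siegel_apply, siegelHom_apply, hQJ, one_smul, S.set.pB_comm x₁ a, hax1,
      S.symmJ, hax1, haJx1]
    module
  have hz1 : pB Q (s • x₂) x₁ = 0 := by
    rw [map_smul, LinearMap.smul_apply, S.set.pB_comm, h12, smul_zero]
  have hX := hG s h1 hz1
  have hc := K.mul_mem (K.mul_mem hK hX) (K.inv_mem hK)
  rw [S.set.siegel_conj (S.set.siegel_mem_oGroup _ _)] at hc
  have hQs : Q (x₁ + a) = 0 := by
    rw [S.set.quad_add, h1, ha, S.set.pB_comm, hax1]; simp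
  have hz2 : pB Q (s • x₂) (x₁ + a) = 0 := by
    rw [map_add, hz1, map_smul, LinearMap.smul_apply, hx2a, smul_zero, add_zero]
  rw [S.set.siegel_congr e1 (by rw [map_smul, e2]) (hu' := hQs) (hw' := hz2),
    S.plane_swap hQs h2 (by rw [map_add, LinearMap.add_apply, h12, hax2, add_zero]) s hz2
      (by rw [map_smul, LinearMap.smul_apply, map_add, LinearMap.add_apply, h12, hax2, add_zero, smul_zero])] at hc
  rw [S.plane_swap h1 h2 h12 s hz1 (by rw [map_smul, LinearMap.smul_apply, h12, smul_zero])] at hX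
  have h3 := K.mul_mem hX (K.inv_mem hc)
  rw [S.set.siegel_inv, S.set.siegel_mul] at h3
  convert h3 using 1
  exact S.set.siegel_congr rfl (by module)

/-- Moving the second member of a good pair. -/
theorem good_move (hroots : S.Roots K) {x y z : ι → F} (hxy : S.KPair x y) (hxz : S.KPair x z)
    (hyz : pB Q y z = 0) (hne : pB Q y (J z) ≠ 0) (hG : S.Good K x y) : S.Good K x z := by
  intro s hx h2
  have hp : pB Q ((1 : F) • J z) z = 0 := S.root_perp hxz.2.1 1
  set h := S.set.siegel z ((1 : F) • J z) hxz.2.1 hp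
  have hK : h ∈ K := hroots z hxz.2.1 1 hp
  set c := pB Q y (J z)
  have hQJ : Q ((1 : F) • J z) = 0 := by rw [one_smul, S.sing_J hxz.2.1]
  have e1 : h x = x := by
    rw [S.set.siegel_apply, siegelHom_apply, hQJ, one_smul, hxz.2.2.1, hxz.2.2.2]
    simp
  have e2 : h y = y - c • z := by
    rw [S.set.siegel_apply, siegelHom_apply, hQJ, one_smul, hyz]
    module
  have hz1 : pB Q ((-(s / c)) • y) x = 0 := by
    rw [map_smul, LinearMap.smul_apply, S.set.pB_comm, hxy.2.2.1, smul_zero]
  have hX := hG (-(s / c)) hx hz1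
  have hc := K.mul_mem (K.mul_mem (K.mul_mem hK hX) (K.inv_mem hK)) (K.inv_mem hX)
  rw [S.set.siegel_conj (S.set.siegel_mem_oGroup _ _)] at hc
  have hw : pB Q (s • z + (-(s / c)) • y) x = 0 := by
    rw [map_add, LinearMap.add_apply, h2, hz1, add_zero]
  rw [S.set.siegel_congr e1 (show h ((-(s / c)) • y) = s • z + (-(s / c)) • y by
      rw [map_smul, e2]; match_scalars <;> field_simp [hne]) (hu' := hx) (hw' := hw),
    ← S.set.siegel_mul hx h2 hz1, mul_inv_cancel_right] at hc
  exact hc

/-- Vectors whose Siegel transformation at a centre lies in the group, for all multiples. -/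
def Cent (_S : JSetting Q J t d) (K : Subgroup ((ι → F) ≃ₗ[F] (ι → F))) (x v : ι → F) : Prop :=
  pB Q v x = 0 ∧ _S.Good K x v

theorem cent_add {x v w : ι → F} (hv : S.Cent K x v) (hw : S.Cent K x w) : S.Cent K x (v + w) := by
  refine ⟨by rw [map_add, LinearMap.add_apply, hv.1, hw.1, add_zero], fun s h1 h2 => ?_⟩
  have a1 : pB Q (s • v) x = 0 := by rw [map_smul, LinearMap.smul_apply, hv.1, smul_zero]
  have a2 : pB Q (s • w) x = 0 := by rw [map_smul, LinearMap.smul_apply, hw.1, smul_zero]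
  have h := K.mul_mem (hv.2 s h1 a1) (hw.2 s h1 a2)
  rw [S.set.siegel_mul] at h
  convert h using 1
  exact S.set.siegel_congr rfl (smul_add _ _ _)

theorem cent_smul {x v : ι → F} (c : F) (hv : S.Cent K x v) : S.Cent K x (c • v) := by
  refine ⟨by rw [map_smul, LinearMap.smul_apply, hv.1, smul_zero], fun s h1 h2 => ?_⟩
  have h := hv.2 (s * c) h1 (by rw [map_smul, LinearMap.smul_apply, hv.1, smul_zero])
  convert h using 1
  exact S.set.siegel_congr rfl (smul_smul _ _ _)

/-- Around a good pair in general position. -/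
theorem cent_of_indep (hroots : S.Roots K) {x y : ι → F} (hxy : S.KPair x y) (hx : x ≠ 0)
    (hy : y ∉ S.line x) (hG : S.Good K x y) {v : ι → F} (hvx : pB Q v x = 0)
    (hvJx : pB Q v (J x) = 0) (hvy : pB Q v y = 0)
    (hvn : v ∉ Submodule.span F (Set.range ![y, J y, x, J x])) : S.Cent K x v := by
  classical
  have hli : LinearIndependent F ![v, y, J y, x, J x] :=
    linearIndependent_finCons.2 ⟨S.li_four hx hy, hvn⟩
  have key : ∀ z, Q z = 0 → pB Q z x = 0 → pB Q z (J x) = 0 → pB Q z y = 0 → pB Q z (J y) ≠ 0 →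
      S.Cent K x z := by
    intro z hz hzx hzJx hzy hne
    refine ⟨hzx, S.good_move hroots hxy (S.kPair_of hxy.1 hz hzx hzJx) (by rw [S.set.pB_comm, hzy]) ?_ hG⟩
    rw [S.symmJ, hzy, mul_zero, zero_sub]
    exact neg_ne_zero.2 hne
  -- vectors annihilated by `J y` as well
  have part : ∀ u, pB Q u x = 0 → pB Q u (J x) = 0 → pB Q u y = 0 → pB Q u (J y) = 0 →
      LinearIndependent F ![u, y, J y, x, J x] → S.Cent K x u := by
    intro u hux huJx huy huJy hl
    obtain ⟨z, hz, hz'⟩ := S.exists_val hl le_rfl ![if Q u = 0 then 0 else 1, 0, 1, 0, 0]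
    have hzy : pB Q z y = 0 := hz' 1
    have hzJy : pB Q z (J y) = 1 := hz' 2
    have hzx : pB Q z x = 0 := hz' 3
    have hzJx : pB Q z (J x) = 0 := hz' 4
    have hzu : pB Q u z = if Q u = 0 then 0 else 1 := by rw [S.set.pB_comm]; exact hz' 0
    have cz : S.Cent K x z := key z hz hzx hzJx hzy (by rw [hzJy]; exact one_ne_zero)
    have lin : ∀ c : F, ∀ w, pB Q z w = 0 → pB Q u w = 0 → pB Q (u + c • z) w = 0 := fun c w a b => by
      rw [map_add, LinearMap.add_apply, map_smul, LinearMap.smul_apply, a, b, smul_zero, add_zero]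
    by_cases hQ : Q u = 0
    · rw [if_pos hQ] at hzu
      have c1 : S.Cent K x (u + (1 : F) • z) := key _
        (by rw [S.set.quad_add, S.set.quad_smul, hQ, hz, map_smul, hzu]; simp)
        (lin _ _ hzx hux) (lin _ _ hzJx huJx) (lin _ _ hzy huy)
        (by rw [map_add, LinearMap.add_apply, map_smul, LinearMap.smul_apply, hzJy, huJy]; simp)
      convert S.cent_add c1 (S.cent_smul (-1) cz) using 1
      module
    · rw [if_neg hQ] at hzu
      have c1 : S.Cent K x (u + (-Q u) • z) := key _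
        (by rw [S.set.quad_add, S.set.quad_smul, hz, map_smul, hzu, smul_eq_mul]; ring)
        (lin _ _ hzx hux) (lin _ _ hzJx huJx) (lin _ _ hzy huy)
        (by rw [map_add, LinearMap.add_apply, map_smul, LinearMap.smul_apply, hzJy, huJy]; simpa using hQ)
      convert S.cent_add c1 (S.cent_smul (Q u) cz) using 1
      module
  obtain ⟨z, hz, hz'⟩ := S.exists_val hli le_rfl ![0, 0, 1, 0, 0]
  have hzy : pB Q z y = 0 := hz' 1
  have hzJy : pB Q z (J y) = 1 := hz' 2
  have hzx : pB Q z x = 0 := hz' 3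
  have hzJx : pB Q z (J x) = 0 := hz' 4
  have cz : S.Cent K x z := key z hz hzx hzJx hzy (by rw [hzJy]; exact one_ne_zero)
  set c := pB Q v (J y)
  have hnew : ∀ w, pB Q z w = 0 → pB Q v w = 0 → pB Q (v + (-c) • z) w = 0 := fun w a b => by
    rw [map_add, LinearMap.add_apply, map_smul, LinearMap.smul_apply, a, b, smul_zero, add_zero]
  have hJ : pB Q (v + (-c) • z) (J y) = 0 := by
    rw [map_add, LinearMap.add_apply, map_smul, LinearMap.smul_apply, hzJy, smul_eq_mul, mul_one]
    exact add_neg_cancel _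
  by_cases hin : v + (-c) • z ∈ Submodule.span F (Set.range ![y, J y, x, J x])
  · -- then `v` lies in the span after adjusting by a further vector
    obtain ⟨w, -, hw, hwn⟩ := S.exists_out ![y, J y, x, J x] (by omega)
    have c1 : S.Cent K x w := part w (hw 2) (hw 3) (hw 0) (hw 1)
      (linearIndependent_finCons.2 ⟨S.li_four hx hy, hwn⟩)
    have c2 : S.Cent K x (v + (-c) • z + w) := part _
      (by rw [map_add, LinearMap.add_apply, hnew x hzx hvx, show pB Q w x = 0 from hw 2, add_zero])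
      (by rw [map_add, LinearMap.add_apply, hnew _ hzJx hvJx, show pB Q w (J x) = 0 from hw 3, add_zero])
      (by rw [map_add, LinearMap.add_apply, hnew y hzy hvy, show pB Q w y = 0 from hw 0, add_zero])
      (by rw [map_add, LinearMap.add_apply, hJ, show pB Q w (J y) = 0 from hw 1, add_zero])
      (linearIndependent_finCons.2 ⟨S.li_four hx hy, fun h => hwn (by
        simpa using Submodule.sub_mem _ h hin)⟩)
    convert S.cent_add (S.cent_add c2 (S.cent_smul (-1) c1)) (S.cent_smul c cz) using 1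
    module
  · convert S.cent_add (part _ (hnew x hzx hvx) (hnew _ hzJx hvJx) (hnew y hzy hvy) hJ
      (linearIndependent_finCons.2 ⟨S.li_four hx hy, hin⟩)) (S.cent_smul c cz) using 1
    module

/-- A good pair makes the whole orthogonal over the field good. -/
theorem cent_kperp (hroots : S.Roots K) {x y : ι → F} (hxy : S.KPair x y) (hx : x ≠ 0)
    (hy : y ∉ S.line x) (hG : S.Good K x y) {v : ι → F} (hvx : pB Q v x = 0)
    (hvJx : pB Q v (J x) = 0) : S.Cent K x v := by
  have hyperplane : ∀ y, S.KPair x y → y ∉ S.line x → S.Good K x y → ∀ u, pB Q u x = 0 →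
      pB Q u (J x) = 0 → pB Q u y = 0 → S.Cent K x u := by
    intro y hxy hy hG u hux huJx huy
    by_cases hin : u ∈ Submodule.span F (Set.range ![y, J y, x, J x])
    · obtain ⟨w, -, hw, hwn⟩ := S.exists_out ![y, J y, x, J x] (by omega)
      have c1 := S.cent_of_indep hroots hxy hx hy hG (hw 2) (hw 3) (hw 0) hwn
      have c2 := S.cent_of_indep hroots hxy hx hy hG (v := u + w)
        (by rw [map_add, LinearMap.add_apply, hux, show pB Q w x = 0 from hw 2, add_zero])
        (by rw [map_add, LinearMap.add_apply, huJx, show pB Q w (J x) = 0 from hw 3, add_zero])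
        (by rw [map_add, LinearMap.add_apply, huy, show pB Q w y = 0 from hw 0, add_zero])
        (fun h => hwn (by simpa using Submodule.sub_mem _ h hin))
      convert S.cent_add c2 (S.cent_smul (-1) c1) using 1
      module
    · exact S.cent_of_indep hroots hxy hx hy hG hux huJx huy hin
  -- a second base
  have h4 := S.li_four hx hy
  obtain ⟨z, hz, hz'⟩ := S.exists_val h4 (by omega) ![0, 1, 0, 0]
  have hzy : pB Q z y = 0 := hz' 0
  have hzJy : pB Q z (J y) = 1 := hz' 1
  have hxz : S.KPair x z := S.kPair_of hxy.1 hz (hz' 2) (hz' 3)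
  have hzn : z ∉ S.line x := fun h => by
    obtain ⟨p, q, rfl⟩ := S.mem_line.1 h
    have e1 : pB Q x (J y) = 0 := hxy.2.2.2
    have e2 : pB Q (J x) (J y) = 0 := by
      rw [S.adj, e1, S.sq, map_sub, map_smul, map_smul, hxy.2.2.1, e1]; simp
    rw [map_add, LinearMap.add_apply, map_smul, map_smul, LinearMap.smul_apply, LinearMap.smul_apply,
      e1, e2, smul_zero, smul_zero, add_zero] at hzJy
    exact zero_ne_one hzJy
  have hzG : S.Good K x z := S.good_move hroots hxy hxz (by rw [S.set.pB_comm, hzy])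
    (by rw [S.symmJ, hzy, hzJy, mul_zero, zero_sub]; exact neg_ne_zero.2 one_ne_zero) hG
  -- a vector separating the two hyperplanes
  have hl : LinearIndependent F ![z, y, x, J x] := by
    refine linearIndependent_finCons.2 ⟨?_, fun h => ?_⟩
    · exact S.li_three hx hy
    · have hle : Submodule.span F (Set.range ![y, x, J x]) ≤ LinearMap.ker ((pB Q).flip (J y)) := by
        rw [Submodule.span_le]
        rintro _ ⟨i, rfl⟩
        have e1 : pB Q x (J y) = 0 := hxy.2.2.2
        fin_cases i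
        · exact S.val_zero hxy.2.1
        · exact e1
        · show pB Q (J x) (J y) = 0
          rw [S.adj, e1, S.sq, map_sub, map_smul, map_smul, hxy.2.2.1, e1]; simp
      have h0 : pB Q z (J y) = 0 := hle h
      rw [hzJy] at h0
      exact one_ne_zero h0
  obtain ⟨w, -, hw⟩ := S.exists_val hl (by omega) ![0, 1, 0, 0]
  have hwz : pB Q w z = 0 := hw 0
  have hwy : pB Q w y = 1 := hw 1
  have hwx : pB Q w x = 0 := hw 2
  have hwJx : pB Q w (J x) = 0 := hw 3
  set c := pB Q v y
  have c1 : S.Cent K x (v + (-c) • w) := hyperplane y hxy hy hG _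
    (by rw [map_add, LinearMap.add_apply, map_smul, LinearMap.smul_apply, hvx, hwx]; simp)
    (by rw [map_add, LinearMap.add_apply, map_smul, LinearMap.smul_apply, hvJx, hwJx]; simp)
    (by
      rw [map_add, LinearMap.add_apply, map_smul, LinearMap.smul_apply, hwy, smul_eq_mul, mul_one]
      exact add_neg_cancel _)
  have c2 : S.Cent K x w := hyperplane z hxz hzn hzG w hwx hwJx hwz
  convert S.cent_add c1 (S.cent_smul c c2) using 1
  module

/-- A good pair makes every Siegel transformation good. -/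
theorem all_siegel (hroots : S.Roots K) {x₀ y₀ : ι → F} (hxy : S.KPair x₀ y₀) (hx₀ : x₀ ≠ 0)
    (hy₀ : y₀ ∉ S.line x₀) (hG : S.Good K x₀ y₀) (u w : ι → F) (hu : Q u = 0) (hw : pB Q w u = 0) :
    S.set.siegel u w hu hw ∈ K := by
  have move : ∀ x y, S.KPair x y → x ≠ 0 → y ∉ S.line x → S.Good K x y →
      ∀ z, S.KPair x z → z ∉ S.line x → S.Good K z x := fun x y hxy hx hy hG z hxz _ =>
    S.good_swap hxy.1 hxz.2.2.1
      (S.cent_kperp hroots hxy hx hy hG (by rw [S.set.pB_comm, hxz.2.2.1]) (S.kPair_symm hxz).2.2.2).2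
  -- every centre has a good pair
  have hbase : ∀ x, Q x = 0 → x ≠ 0 → ∃ z, S.KPair x z ∧ z ∉ S.line x ∧ S.Good K x z := by
    intro x hx hx0
    obtain ⟨z, hz, h1, h2, h3, h4, hn1, hn2⟩ := S.exists_nbr x₀ x
    have hz0 : z ≠ 0 := fun e => hn1 (e ▸ Submodule.zero_mem _)
    have hx₀z : S.KPair x₀ z := S.kPair_of hxy.1 hz h1 h2
    have g1 := move x₀ y₀ hxy hx₀ hy₀ hG z hx₀z hn1
    have g2 := move z x₀ (S.kPair_symm hx₀z) hz0 (S.not_line_symm hx₀ hn1) g1 x ⟨hz, hx, h3, h4⟩
      (S.not_line_symm hx0 hn2)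
    exact ⟨z, S.kPair_symm ⟨hz, hx, h3, h4⟩, hn2, g2⟩
  have hcent : ∀ x, Q x = 0 → x ≠ 0 → ∀ v, pB Q v x = 0 → S.Cent K x v := by
    intro x hx hx0 v hv
    obtain ⟨y, hxy, hy, hG⟩ := hbase x hx hx0
    have h4 := S.li_four hx0 hy
    obtain ⟨c, hc, hc'⟩ := S.exists_val h4 (by omega) ![1, 0, 0, 0]
    have hcy : pB Q c y = 1 := hc' 0
    have hcx : pB Q c x = 0 := hc' 2
    have hcJx : pB Q c (J x) = 0 := hc' 3
    have hc0 : c ≠ 0 := fun e => by
      rw [e, map_zero, LinearMap.zero_apply] at hcy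
      exact zero_ne_one hcy
    have hJxc : J x ∉ S.line c := fun h => by
      obtain ⟨p, q, hpq⟩ := S.mem_line.1 h
      have e1 : pB Q (J x) y = 0 := by rw [S.adj, hxy.2.2.1, hxy.2.2.2]; ring
      have e2 : pB Q (J c) x = 0 := by rw [S.adj, hcx, hcJx]; ring
      have h1 := congrArg (fun z => pB Q z c) hpq
      have e3 : pB Q (J x) c = 0 := by rw [S.set.pB_comm, hcJx]
      simp only [map_add, map_smul, LinearMap.add_apply, LinearMap.smul_apply, S.self_zero hc,
        S.val_zero' hc, smul_eq_mul, mul_zero, add_zero] at h1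
      have hJx0 : J x ≠ 0 := fun e0 => one_ne_zero (S.coeff_zero hx0 (a := 0) (b := 1) (by
        rw [e0]; simp)).2
      have hcl : c ∈ S.line (J x) := by
        by_contra hcn
        exact S.not_line_symm hJx0 hcn (S.mem_line.2 ⟨p, q, hpq⟩)
      obtain ⟨r, s, hrs⟩ := S.mem_line.1 hcl
      have h2 := congrArg (fun z => pB Q z y) hrs
      simp only [S.sq, map_add, map_sub, map_smul, LinearMap.add_apply, LinearMap.sub_apply,
        LinearMap.smul_apply, e1, hxy.2.2.1, hcy, smul_eq_mul, mul_zero, add_zero, sub_zero] at h2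
      exact zero_ne_one h2
    have hliC : LinearIndependent F ![J x, c, J c] := S.li_three hc0 hJxc
    -- a vector with value one at `J x`
    obtain ⟨e, he, he'⟩ : ∃ e, Q e = 0 ∧ pB Q e x = 0 ∧ pB Q e (J x) = 1 ∧ pB Q e c = 0 ∧
        pB Q e (J c) = 0 := by
      obtain ⟨z, hz, hz'⟩ := S.exists_val (v := ![c, J c, x, J x]) (S.li_four hx0 (fun h => by
        obtain ⟨p, q, hpq⟩ := S.mem_line.1 h
        have h1 := congrArg (fun z => pB Q z y) hpq
        simp only [map_add, map_smul, LinearMap.add_apply, LinearMap.smul_apply, hxy.2.2.1, hcy,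
          S.adj, hxy.2.2.2, smul_eq_mul, mul_zero, sub_zero, add_zero] at h1
        exact zero_ne_one h1)) (by omega) ![0, 0, 0, 1]
      exact ⟨z, hz, hz' 2, hz' 3, hz' 0, hz' 1⟩
    obtain ⟨hex, heJx, hec, heJc⟩ := he'
    obtain ⟨y', hcy', hy', hG'⟩ := hbase c hc hc0
    have hce : S.Good K c e := (S.cent_kperp hroots hcy' hc0 hy' hG' hec heJc).2
    have hz1 : pB Q ((1 : F) • e) c = 0 := by rw [one_smul, hec]
    set h := S.set.siegel c ((1 : F) • e) hc hz1
    have hK : h ∈ K := hce 1 hc hz1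
    have ex : h x = x := by
      rw [S.set.siegel_apply, siegelHom_apply, one_smul, S.set.pB_comm x c, hcx, S.set.pB_comm x e, hex]
      simp
    have ey : h y = y + e - pB Q y e • c := by
      rw [S.set.siegel_apply, siegelHom_apply, one_smul, S.set.pB_comm y c, hcy, he]
      module
    set w := y + e - pB Q y e • c with hwdef
    have hwx : pB Q w x = 0 := by
      rw [hwdef, map_sub, map_add, map_smul, LinearMap.sub_apply, LinearMap.add_apply,
        LinearMap.smul_apply, hex, hcx, S.set.pB_comm, hxy.2.2.1]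
      simp
    have hwJx : pB Q w (J x) = 1 := by
      rw [hwdef, map_sub, map_add, map_smul, LinearMap.sub_apply, LinearMap.add_apply,
        LinearMap.smul_apply, heJx, hcJx, (S.kPair_symm hxy).2.2.2]
      simp
    have cw : S.Cent K x w := by
      refine ⟨hwx, fun s h1 h2 => ?_⟩
      have hz2 : pB Q (s • y) x = 0 := by
        rw [map_smul, LinearMap.smul_apply, S.set.pB_comm, hxy.2.2.1, smul_zero]
      have h3 := K.mul_mem (K.mul_mem hK (hG s h1 hz2)) (K.inv_mem hK)
      rw [S.set.siegel_conj (S.set.siegel_mem_oGroup _ _)] at h3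
      convert h3 using 1
      exact S.set.siegel_congr ex.symm (by rw [map_smul, ey])
    set γ := pB Q v (J x)
    have c1 : S.Cent K x (v + (-γ) • w) := S.cent_kperp hroots hxy hx0 hy hG
      (by rw [map_add, LinearMap.add_apply, map_smul, LinearMap.smul_apply, hv, hwx]; simp)
      (by
        rw [map_add, LinearMap.add_apply, map_smul, LinearMap.smul_apply, hwJx, smul_eq_mul, mul_one]
        exact add_neg_cancel _)
    convert S.cent_add c1 (S.cent_smul γ cw) using 1
    module
  obtain ⟨b, hb, hb'⟩ := S.exists_val (v := ![x₀])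
    (by simpa [linearIndependent_unique_iff] using hx₀) (by omega) ![1]
  have hbx : pB Q b x₀ = 1 := hb' 0
  have hb0 : b ≠ 0 := fun e => by
    rw [e, map_zero, LinearMap.zero_apply] at hbx
    exact zero_ne_one hbx
  have hfull : ∀ x, ∀ hx : Q x = 0, x ≠ 0 → ∀ v (hv : pB Q v x = 0),
      glOf (S.set.siegel x v hx hv) ∈ K.map glOf := fun x hx hx0 v hv => by
    refine ⟨_, (hcent x hx hx0 v hv).2 1 hx (by rwa [one_smul]), ?_⟩
    rw [S.set.siegel_congr rfl (one_smul F v)]
  have h := siegel_mem_of_pair S.set (K := K.map glOf) hxy.1 hb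
    (by rw [S.set.pB_comm, hbx]; exact one_ne_zero) (hfull x₀ hxy.1 hx₀) (hfull b hb hb0) u w hu hw
  obtain ⟨z, hz, hze⟩ := h
  rwa [show z = S.set.siegel u w hu hw from LinearEquiv.ext fun v => by
    rw [← glOf_mulVec z v, hze, glOf_mulVec]] at hz

/-- The root element of a pair orthogonal over the field is not semilinear. -/
theorem exists_not_semilinear : ∃ (x y : ι → F) (hx : Q x = 0) (hy : pB Q y x = 0),
    ¬ ∃ a b : F, ∀ z, S.set.siegel x y hx hy (J z) =
      a • S.set.siegel x y hx hy z + b • J (S.set.siegel x y hx hy z) := by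
  obtain ⟨x, hx, -, hxn⟩ := S.exists_out (k := 0) ![] (by omega)
  have hx0 : x ≠ 0 := fun e => hxn (e ▸ Submodule.zero_mem _)
  obtain ⟨y, hy, h1, h2, -, -, hn, -⟩ := S.exists_nbr x x
  refine ⟨x, y, hx, h1, fun ⟨a, b, hab⟩ => ?_⟩
  have h4 := S.li_four hx0 hn
  have hxy := S.kPair_of hx hy h1 h2
  have e1 := hab x
  rw [S.set.siegel_apply, S.set.siegel_apply, siegelHom_apply, siegelHom_apply, S.self_zero hx,
    S.val_zero' hx, hxy.2.2.1, show pB Q (J x) y = 0 by rw [S.set.pB_comm, h2]] at e1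
  simp only [mul_zero, zero_smul, add_zero, sub_zero] at e1
  obtain ⟨ha, hb⟩ := S.coeff_zero hx0 (a := a) (b := b - 1) (by linear_combination (norm := module) -e1)
  obtain ⟨p, -, hp⟩ := S.exists_val h4 (by omega) ![0, 0, 1, 0]
  have hpy : pB Q p y = 0 := hp 0
  have hpx : pB Q p x = 1 := hp 2
  have hpJy : pB Q p (J y) = 0 := hp 1
  have e2 := hab p
  rw [ha, sub_eq_zero.1 hb, zero_smul, zero_add, one_smul] at e2
  simp only [S.set.siegel_apply, siegelHom_apply, hy, hpx, hpy, S.adj, show pB Q p (J x) = 0 from hp 3,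
    hpJy, mul_one, mul_zero, sub_zero, zero_mul, zero_smul, one_smul, map_add, add_zero] at e2
  have h5 := Fintype.linearIndependent_iff.1 h4 ![t, -1, 0, 0] (by
    simp only [Fin.sum_univ_four]
    show t • y + (-1 : F) • J y + (0 : F) • x + (0 : F) • J x = 0
    linear_combination (norm := module) e2) 1
  exact one_ne_zero (neg_eq_zero.1 (show (-1 : F) = 0 from h5))

/-- A proper overgroup of the root elements contains every Siegel transformation. -/
theorem siegel_of_over (hroots : S.Roots K) {g : (ι → F) ≃ₗ[F] (ι → F)} (hgK : g ∈ K)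
    (hgO : g ∈ FormsLib.oGroup Q) (hg : ¬ ∃ a b : F, ∀ x, g (J x) = a • g x + b • J (g x))
    (u w : ι → F) (hu : Q u = 0) (hw : pB Q w u = 0) : S.set.siegel u w hu hw ∈ K := by
  obtain ⟨p, hp, hpn⟩ : ∃ p, Q p = 0 ∧ g (J p) ∉ S.line (g p) := by
    by_contra hc
    push Not at hc
    exact hg (S.semilinear_of_lines hgO hc)
  have hgp : g p ≠ 0 := fun e => hpn (by
    rw [g.map_eq_zero_iff.1 e]
    simp)
  have h2 : Q (g (J p)) = 0 := by rw [hgO, S.sing_J hp]
  have h12 : pB Q (g p) (g (J p)) = 0 := by rw [S.set.pB_of_mem hgO, S.val_zero hp]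
  have hG : S.Good K (g p) (g (J p)) := by
    intro s h1 hz
    have h0 : pB Q (s • J p) p = 0 := S.root_perp hp s
    have := K.mul_mem (K.mul_mem hgK (hroots p hp s h0)) (K.inv_mem hgK)
    rw [S.set.siegel_conj hgO] at this
    convert this using 1
    exact S.set.siegel_congr rfl (map_smul g s (J p)).symm
  obtain ⟨x, a, hxa, hx0, han, hxG⟩ :=
    S.exists_good_kPair hroots (by rw [hgO, hp]) h2 h12 hgp hpn hG
  exact S.all_siegel hroots hxa hx0 han hxG u w hu hw

end JSetting

end Cfsg.Agent.QMax
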