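import Cfsg.Agent.Lib.TransvMax.JordanSplit
import Cfsg.Agent.Lib.Spinor.EvenClass
import Cfsg.Agent.Lib.Spinor.Main
import Cfsg.Agent.Lib.Spinor.Products

/-!
Unipotent isometries with prescribed Jordan blocks in odd characteristic.
-/

set_option autoImplicit false

namespace Cfsg.Agent.JordanOrth

open Cfsg.Agent
open scoped Matrix

/-- The indices: blocks of each size. -/
abbrev Idx (p : ℕ) (μ : Multiset ℕ) : Type := Σ e : Fin (p + 1), Fin (e : ℕ) × Fin (μ.count (e : ℕ))

variable {F : Type*} [Field F] {p : ℕ} {μ : Multiset ℕ}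

/-- The pairing of the indices. -/
def opp (s : Idx p μ) : Idx p μ :=
  ⟨s.1, s.2.1.rev, if Even (s.1 : ℕ) then s.2.2.rev else s.2.2⟩

/-- The entries. -/
def wt (l : Idx p μ → F) (s : Idx p μ) : F :=
  (-1) ^ (s.2.1 : ℕ) *
    (if Even (s.1 : ℕ) then (if 2 * (s.2.2 : ℕ) < μ.count (s.1 : ℕ) then 1 else -1) else l s)

theorem opp_opp (s : Idx p μ) : opp (opp s) = s := by
  obtain ⟨e, i, j⟩ := s
  by_cases h : Even (e : ℕ) <;> simp [opp, h]

/-- The parameters are constant along each block. -/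
def BlockConst (l : Idx p μ → F) : Prop := ∀ e i i' j, l ⟨e, i, j⟩ = l ⟨e, i', j⟩

theorem wt_opp {l : Idx p μ → F} (hl : BlockConst l) (hμ : ∀ e, Even e → Even (μ.count e))
    (s : Idx p μ) : wt l (opp s) = wt l s := by
  obtain ⟨e, i, j⟩ := s
  have hi := i.isLt
  by_cases h : Even (e : ℕ)
  · simp only [wt, opp, h, if_true, Fin.val_rev]
    obtain ⟨t, ht⟩ := hμ _ h
    obtain ⟨u, hu⟩ := h
    have hj := j.isLt
    rw [neg_one_pow_eq_pow_mod_two, neg_one_pow_eq_pow_mod_two (n := (i : ℕ))]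
    by_cases h1 : 2 * (j : ℕ) < μ.count (e : ℕ)
    · rw [if_pos h1, if_neg (by omega)]
      rcases Nat.mod_two_eq_zero_or_one (i : ℕ) with h2 | h2
      · rw [h2, show ((e : ℕ) - ((i : ℕ) + 1)) % 2 = 1 by omega]; ring
      · rw [h2, show ((e : ℕ) - ((i : ℕ) + 1)) % 2 = 0 by omega]; ring
    · rw [if_neg h1, if_pos (by omega)]
      rcases Nat.mod_two_eq_zero_or_one (i : ℕ) with h2 | h2
      · rw [h2, show ((e : ℕ) - ((i : ℕ) + 1)) % 2 = 1 by omega]; ring
      · rw [h2, show ((e : ℕ) - ((i : ℕ) + 1)) % 2 = 0 by omega]; ring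
  · simp only [wt, opp, h, if_false, Fin.val_rev]
    rw [hl e i.rev i j, neg_one_pow_eq_pow_mod_two, neg_one_pow_eq_pow_mod_two (n := (i : ℕ))]
    rw [Nat.not_even_iff] at h
    rw [show ((e : ℕ) - ((i : ℕ) + 1)) % 2 = (i : ℕ) % 2 by omega]

/-- The Gram matrix. -/
def gram (l : Idx p μ → F) : Matrix (Idx p μ) (Idx p μ) F :=
  fun s t => if t = opp s then wt l s else 0

theorem gram_symm {l : Idx p μ → F} (hl : BlockConst l) (hμ : ∀ e, Even e → Even (μ.count e)) :
    (gram l).IsSymm := by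
  ext s t
  simp only [Matrix.transpose_apply, gram]
  by_cases h : t = opp s
  · subst h
    rw [opp_opp, if_pos rfl, if_pos rfl, wt_opp hl hμ]
  · rw [if_neg h, if_neg fun h' => h (by rw [h', opp_opp])]

theorem wt_ne {l : Idx p μ → F} (h : ∀ s, l s ≠ 0) (s : Idx p μ) : wt l s ≠ 0 := by
  unfold wt
  refine mul_ne_zero (pow_ne_zero _ (neg_ne_zero.2 one_ne_zero)) ?_
  split
  · split
    · exact one_ne_zero
    · exact neg_ne_zero.2 one_ne_zero
  · exact h s

/-- The form. -/
noncomputable def form (l : Idx p μ → F) : LinearMap.BilinForm F (Idx p μ → F) :=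
  Matrix.toBilin' (gram l)

theorem form_single (l : Idx p μ → F) (s t : Idx p μ) :
    form l (Pi.single s 1) (Pi.single t 1) = if t = opp s then wt l s else 0 :=
  Matrix.toBilin'_single _ s t

theorem form_nondeg {l : Idx p μ → F} (hl0 : ∀ s, l s ≠ 0) {v : Idx p μ → F}
    (h : ∀ w, form l v w = 0) : v = 0 := by
  funext s
  have := h (Pi.single (opp s) 1)
  rw [form, Matrix.toBilin'_apply', Matrix.mulVec_single_one, dotProduct,
    Finset.sum_eq_single s (fun b _ hb => by
      rw [Matrix.col_apply, gram, if_neg (fun e => hb (by rw [← opp_opp b, ← e, opp_opp])), mul_zero])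
      (by simp)] at this
  rw [Matrix.col_apply, gram, if_pos rfl, mul_eq_zero] at this
  exact this.resolve_right (wt_ne hl0 s)

/-- The nilpotent shift. -/
def shift : (Idx p μ → F) →ₗ[F] (Idx p μ → F) where
  toFun v s := if h : (s.2.1 : ℕ) = 0 then 0 else v ⟨s.1, ⟨(s.2.1 : ℕ) - 1, by omega⟩, s.2.2⟩
  map_add' u v := by
    funext s
    simp only [Pi.add_apply]
    split <;> simp
  map_smul' c v := by
    funext s
    simp only [Pi.smul_apply, RingHom.id_apply]
    split <;> simp

theorem shift_pow_apply (k : ℕ) (v : Idx p μ → F) (s : Idx p μ) :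
    ((shift : (Idx p μ → F) →ₗ[F] _) ^ k) v s =
      if h : k ≤ (s.2.1 : ℕ) then v ⟨s.1, ⟨(s.2.1 : ℕ) - k, by omega⟩, s.2.2⟩ else 0 := by
  induction k generalizing s with
  | zero => simp
  | succ k ih =>
    rw [pow_succ', Module.End.mul_apply]
    show (if h : (s.2.1 : ℕ) = 0 then 0 else _) = _
    by_cases h0 : (s.2.1 : ℕ) = 0
    · rw [dif_pos h0, dif_neg (by omega)]
    · rw [dif_neg h0, ih]
      by_cases h1 : k + 1 ≤ (s.2.1 : ℕ)
      · rw [dif_pos h1, dif_pos (show k ≤ (s.2.1 : ℕ) - 1 by omega)]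
        congr 1
        simp only [Sigma.mk.injEq, heq_eq_eq, true_and]
        refine Prod.ext (Fin.ext ?_) rfl
        show (s.2.1 : ℕ) - 1 - k = (s.2.1 : ℕ) - (k + 1)
        omega
      · rw [dif_neg h1, dif_neg (show ¬ k ≤ (s.2.1 : ℕ) - 1 by omega)]

theorem shift_pow_p : ((shift : (Idx p μ → F) →ₗ[F] _) ^ p) = 0 := by
  refine LinearMap.ext fun v => funext fun s => ?_
  rw [shift_pow_apply, dif_neg, LinearMap.zero_apply, Pi.zero_apply]
  have := s.1.isLt
  have := s.2.1.isLt
  omega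

theorem finrank_shift_pow (k : ℕ) :
    Module.finrank F (LinearMap.range ((shift : (Idx p μ → F) →ₗ[F] _) ^ k)) =
      Fintype.card {s : Idx p μ // k ≤ (s.2.1 : ℕ)} := by
  let j : ({s : Idx p μ // k ≤ (s.2.1 : ℕ)} → F) →ₗ[F] (Idx p μ → F) :=
    { toFun := fun w s => if h : k ≤ (s.2.1 : ℕ) then w ⟨s, h⟩ else 0
      map_add' := fun a b => funext fun s => by simp only [Pi.add_apply]; split <;> simp
      map_smul' := fun a b => funext fun s => by
        simp only [Pi.smul_apply, RingHom.id_apply]; split <;> simp }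
  have hinj : Function.Injective j := fun a b h => funext fun s => by
    have := congrFun h s.1
    simpa [j, s.2] using this
  rw [show LinearMap.range ((shift : (Idx p μ → F) →ₗ[F] _) ^ k) = LinearMap.range j from ?_,
    LinearMap.finrank_range_of_inj hinj, Module.finrank_fintype_fun_eq_card]
  ext v
  constructor
  · rintro ⟨w, rfl⟩
    refine ⟨fun s => w ⟨s.1.1, ⟨(s.1.2.1 : ℕ) - k, by omega⟩, s.1.2.2⟩, funext fun s => ?_⟩
    rw [shift_pow_apply]
    show (if h : _ then _ else _) = _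
    split <;> rfl
  · rintro ⟨w, rfl⟩
    refine ⟨fun s => if h : (s.2.1 : ℕ) + k < (s.1 : ℕ) then
      w ⟨⟨s.1, ⟨(s.2.1 : ℕ) + k, h⟩, s.2.2⟩, Nat.le_add_left _ _⟩ else 0, funext fun s => ?_⟩
    rw [shift_pow_apply]
    show _ = if h : _ then _ else _
    by_cases h : k ≤ (s.2.1 : ℕ)
    · have := s.2.1.isLt
      rw [dif_pos h, dif_pos h, dif_pos (show (s.2.1 : ℕ) - k + k < (s.1 : ℕ) by omega)]
      congr 1
      refine Subtype.ext ?_
      simp only [Sigma.mk.injEq, heq_eq_eq, true_and]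
      obtain ⟨e, i, t⟩ := s
      simp only [Sigma.mk.injEq, heq_eq_eq, true_and]
      refine Prod.ext (Fin.ext ?_) rfl
      show (i : ℕ) - k + k = i
      simp only at h
      omega
    · rw [dif_neg h, dif_neg h]

theorem card_ge (hμp : ∀ e ∈ μ, e ≤ p) (k : ℕ) :
    Fintype.card {s : Idx p μ // k ≤ (s.2.1 : ℕ)} = rk μ k := by
  rw [rk_eq_sum μ hμp k]
  have e : {s : Idx p μ // k ≤ (s.2.1 : ℕ)} ≃
      Σ e : Fin (p + 1), Fin ((e : ℕ) - k) × Fin (μ.count (e : ℕ)) :=
    { toFun := fun s => ⟨s.1.1, ⟨(s.1.2.1 : ℕ) - k, by have := s.2; have := s.1.2.1.isLt; omega⟩, s.1.2.2⟩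
      invFun := fun t => ⟨⟨t.1, ⟨(t.2.1 : ℕ) + k, by have := t.2.1.isLt; omega⟩, t.2.2⟩, Nat.le_add_left _ _⟩
      left_inv := fun ⟨⟨e, i, j⟩, h⟩ => by
        refine Subtype.ext ?_
        simp only [Sigma.mk.injEq, heq_eq_eq, true_and]
        exact Prod.ext (Fin.ext (Nat.sub_add_cancel h)) rfl
      right_inv := fun ⟨e, i, j⟩ => by
        simp only [Sigma.mk.injEq, heq_eq_eq, true_and]
        exact Prod.ext (Fin.ext (Nat.add_sub_cancel _ _)) rfl }
  rw [Fintype.card_congr e, Fintype.card_sigma]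
  refine Finset.sum_congr rfl fun e _ => ?_
  rw [Fintype.card_prod, Fintype.card_fin, Fintype.card_fin, mul_comm]

theorem card_idx (hμp : ∀ e ∈ μ, e ≤ p) : Fintype.card (Idx p μ) = μ.sum := by
  rw [← rk_zero, ← card_ge hμp 0]
  exact (Fintype.card_congr (Equiv.subtypeUnivEquiv fun s => Nat.zero_le _)).symm

theorem shift_skew {l : Idx p μ → F} (hl : BlockConst l) (v w : Idx p μ → F) :
    form l (shift v) w + form l v (shift w) = 0 := by
  suffices h : (form l).compl₂ shift + LinearMap.comp (form l) shift = 0 by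
    have := LinearMap.congr_fun₂ h v w
    simp only [LinearMap.add_apply, LinearMap.compl₂_apply, LinearMap.comp_apply, LinearMap.zero_apply] at this
    linear_combination this
  refine LinearMap.ext_basis (Pi.basisFun F (Idx p μ)) (Pi.basisFun F (Idx p μ)) fun s t => ?_
  simp only [Pi.basisFun_apply, LinearMap.add_apply, LinearMap.compl₂_apply, LinearMap.comp_apply,
    LinearMap.zero_apply]
  obtain ⟨e, i, j⟩ := s
  -- the image of a basis vector
  have hsh : ∀ u : Idx p μ, shift (Pi.single u (1 : F)) =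
      if h : (u.2.1 : ℕ) + 1 < (u.1 : ℕ) then Pi.single ⟨u.1, ⟨(u.2.1 : ℕ) + 1, h⟩, u.2.2⟩ 1 else 0 := by
    intro u
    funext z
    show (if h : _ then (0 : F) else _) = _
    obtain ⟨ue, ui, uj⟩ := u
    obtain ⟨ze, zi, zj⟩ := z
    by_cases h0 : (zi : ℕ) = 0
    · rw [dif_pos h0]
      split
      · rw [Pi.single_eq_of_ne]
        intro h
        simp only [Sigma.mk.injEq] at h
        obtain ⟨rfl, h⟩ := h
        rw [heq_eq_eq, Prod.mk.injEq] at h
        have := congrArg Fin.val h.1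
        simp only at this
        omega
      · rfl
    · rw [dif_neg h0]
      by_cases heq : (⟨ze, ⟨(zi : ℕ) - 1, by omega⟩, zj⟩ : Idx p μ) = ⟨ue, ui, uj⟩
      · rw [heq, Pi.single_eq_same]
        simp only [Sigma.mk.injEq] at heq
        obtain ⟨rfl, heq⟩ := heq
        rw [heq_eq_eq, Prod.mk.injEq] at heq
        obtain ⟨h1, rfl⟩ := heq
        have h1' := congrArg Fin.val h1
        simp only at h1'
        have := zi.isLt
        rw [dif_pos (by simp only; omega),
          show (⟨ze, ⟨(ui : ℕ) + 1, by omega⟩, zj⟩ : Idx p μ) = ⟨ze, zi, zj⟩ from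
            congrArg (Sigma.mk ze) (Prod.ext (Fin.ext (by simp only; omega)) rfl), Pi.single_eq_same]
      · rw [Pi.single_eq_of_ne heq]
        split
        · rw [Pi.single_eq_of_ne]
          intro h
          apply heq
          simp only [Sigma.mk.injEq] at h ⊢
          obtain ⟨rfl, h⟩ := h
          rw [heq_eq_eq, Prod.mk.injEq] at h
          refine ⟨rfl, heq_of_eq (Prod.ext (Fin.ext ?_) h.2)⟩
          have := congrArg Fin.val h.1
          simp only at this ⊢
          omega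
        · rfl
  obtain ⟨te, ti, tj⟩ := t
  rw [hsh, hsh]
  have hi := i.isLt
  have hti := ti.isLt
  by_cases he : te = e
  swap
  · split <;> split <;> simp only [map_zero, LinearMap.zero_apply, add_zero, zero_add, form_single] <;>
      simp [opp, he]
  subst he
  have hopp : ∀ (a b : Fin (te : ℕ)) (c : Fin (μ.count (te : ℕ))),
      ((⟨te, b, tj⟩ : Idx p μ) = opp ⟨te, a, c⟩) ↔
        ((a : ℕ) + b + 1 = te ∧ tj = if Even (te : ℕ) then c.rev else c) := by
    intro a b c
    simp only [opp, Sigma.mk.injEq, heq_eq_eq, true_and, Prod.mk.injEq, Fin.ext_iff (a := b), Fin.val_rev]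
    have := a.isLt
    have := b.isLt
    constructor <;> rintro ⟨h1, h2⟩ <;> exact ⟨by omega, h2⟩
  by_cases hcase : (i : ℕ) + ti + 2 = te ∧ tj = if Even (te : ℕ) then j.rev else j
  · rw [dif_pos (show (ti : ℕ) + 1 < te by omega), dif_pos (show (i : ℕ) + 1 < te by omega), form_single,
      form_single, if_pos ((hopp i _ j).2 ⟨by simp only; omega, hcase.2⟩),
      if_pos ((hopp ⟨(i : ℕ) + 1, by omega⟩ ti j).2 ⟨by simp only; omega, hcase.2⟩)]
    simp only [wt]
    rw [hl te ⟨(i : ℕ) + 1, by omega⟩ i j, pow_succ]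
    ring
  · split <;> split <;> simp only [map_zero, LinearMap.zero_apply, add_zero, zero_add, form_single]
    all_goals
      repeat rw [if_neg]
      all_goals first
        | simp
        | (intro h; exact hcase ⟨by have := ((hopp _ _ _).1 h).1; simp only at this; omega, ((hopp _ _ _).1 h).2⟩)

/-- An isometry with the prescribed blocks for every form given by block-constant parameters. -/
theorem exists_iso {p : ℕ} [Fact p.Prime] [CharP F p] {μ : Multiset ℕ} (hμp : ∀ e ∈ μ, e ≤ p) :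
    ∃ g : (Idx p μ → F) ≃ₗ[F] (Idx p μ → F),
      (∀ l : Idx p μ → F, BlockConst l → ∀ x y, form l (g x) (g y) = form l x y) ∧
      g ^ p = 1 ∧ ((g : (Idx p μ → F) →ₗ[F] _) - LinearMap.id) ^ p = 0 ∧
      (p ≠ 2 → ∀ k, pr ((g : (Idx p μ → F) →ₗ[F] _) - LinearMap.id) ⊤ k = rk μ k) := by
  set T : Module.End F (Idx p μ → F) := shift
  have hT : IsNilpotent T := ⟨p, shift_pow_p⟩
  obtain ⟨a, ha⟩ := hT.isUnit_one_add
  obtain ⟨b, hb⟩ := hT.isUnit_one_sub
  let G := LinearMap.GeneralLinearGroup.generalLinearEquiv F (Idx p μ → F) (a * b⁻¹)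
  have hG : (G : (Idx p μ → F) →ₗ[F] (Idx p μ → F)) =
      ((a * b⁻¹ : (Module.End F (Idx p μ → F))ˣ) : Module.End F (Idx p μ → F)) := rfl
  have hN : ((G : (Idx p μ → F) →ₗ[F] _) - LinearMap.id) =
      (2 • T) * ((b⁻¹ : (Module.End F (Idx p μ → F))ˣ) : Module.End F (Idx p μ → F)) := by
    rw [hG, Units.val_mul, ha, show (LinearMap.id : (Idx p μ → F) →ₗ[F] _) = (b : Module.End F (Idx p μ → F)) *
      ((b⁻¹ : (Module.End F (Idx p μ → F))ˣ) : Module.End F (Idx p μ → F)) from by
        rw [← Units.val_mul, mul_inv_cancel, Units.val_one]; rfl, hb, ← sub_mul]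
    congr 1
    rw [two_nsmul]
    abel
  have hcb : Commute T ((b⁻¹ : (Module.End F (Idx p μ → F))ˣ) : Module.End F (Idx p μ → F)) := by
    refine Commute.units_inv_right ?_
    rw [hb]
    exact (Commute.one_right T).sub_right (Commute.refl T)
  have hNk : ∀ k, ((G : (Idx p μ → F) →ₗ[F] _) - LinearMap.id) ^ k =
      (2 ^ k : ℕ) • (T ^ k * ((b⁻¹ ^ k : (Module.End F (Idx p μ → F))ˣ) : Module.End F (Idx p μ → F))) := by
    intro k
    rw [hN, smul_mul_assoc, smul_pow, hcb.mul_pow, Units.val_pow_eq_pow_val]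
  refine ⟨G, fun l hl x y => ?_, ?_, ?_, fun hp2 k => ?_⟩
  · -- the Cayley transform is an isometry
    show form l (((a * b⁻¹ : (Module.End F (Idx p μ → F))ˣ) : Module.End F (Idx p μ → F)) x)
      (((a * b⁻¹ : (Module.End F (Idx p μ → F))ˣ) : Module.End F (Idx p μ → F)) y) = _
    rw [Units.val_mul, Module.End.mul_apply, Module.End.mul_apply]
    have hbb : ∀ z, (b : Module.End F (Idx p μ → F))
        (((b⁻¹ : (Module.End F (Idx p μ → F))ˣ) : Module.End F (Idx p μ → F)) z) = z := fun z => by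
      rw [← Module.End.mul_apply, ← Units.val_mul, mul_inv_cancel, Units.val_one, Module.End.one_apply]
    conv_rhs => rw [← hbb x, ← hbb y]
    rw [ha, hb]
    simp only [LinearMap.add_apply, LinearMap.sub_apply, Module.End.one_apply, map_add, map_sub]
    linear_combination 2 * shift_skew hl
      (((b⁻¹ : (Module.End F (Idx p μ → F))ˣ) : Module.End F (Idx p μ → F)) x)
      (((b⁻¹ : (Module.End F (Idx p μ → F))ˣ) : Module.End F (Idx p μ → F)) y)
  · refine LinearEquiv.toLinearMap_injective ?_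
    have hpow : ((G ^ p : (Idx p μ → F) ≃ₗ[F] (Idx p μ → F)) : (Idx p μ → F) →ₗ[F] _) =
        (G : Module.End F (Idx p μ → F)) ^ p := by
      have : ∀ n : ℕ, ((G ^ n : (Idx p μ → F) ≃ₗ[F] (Idx p μ → F)) : (Idx p μ → F) →ₗ[F] _) =
          (G : Module.End F (Idx p μ → F)) ^ n := by
        intro n
        induction n with
        | zero => rfl
        | succ n ih => rw [pow_succ, pow_succ, ← ih]; rfl
      exact this p
    rw [hpow]
    have hz := hNk p
    rw [show T ^ p = 0 from shift_pow_p, zero_mul, smul_zero] at hz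
    by_cases hempty : IsEmpty (Idx p μ)
    · exact Subsingleton.elim _ _
    rw [not_isEmpty_iff] at hempty
    haveI : CharP (Module.End F (Idx p μ → F)) p :=
      charP_of_injective_algebraMap (algebraMap F (Module.End F (Idx p μ → F))).injective p
    rw [show (G : Module.End F (Idx p μ → F)) =
      1 + ((G : (Idx p μ → F) →ₗ[F] _) - LinearMap.id) by
        rw [show (1 : Module.End F (Idx p μ → F)) = LinearMap.id from rfl]; abel,
      add_pow_char_of_commute (p := p) (h := Commute.one_left _), one_pow, hz, add_zero]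
    rfl
  · rw [hNk, show T ^ p = 0 from shift_pow_p, zero_mul, smul_zero]
  · rw [pr, Submodule.map_top, hNk, ← card_ge hμp k, ← finrank_shift_pow (F := F) k]
    have h2 : ((2 ^ k : ℕ) : F) ≠ 0 := by
      rw [Ne, CharP.cast_eq_zero_iff F p]
      intro h
      exact hp2 ((Nat.prime_dvd_prime_iff_eq Fact.out Nat.prime_two).1 ((Fact.out : p.Prime).dvd_of_dvd_pow h))
    rw [← Nat.cast_smul_eq_nsmul F, LinearMap.range_smul _ _ h2]
    rw [show T ^ k * ((b⁻¹ ^ k : (Module.End F (Idx p μ → F))ˣ) : Module.End F (Idx p μ → F)) =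
      (T ^ k).comp ((b⁻¹ ^ k : (Module.End F (Idx p μ → F))ˣ) : Module.End F (Idx p μ → F)) from rfl,
      LinearMap.range_comp_of_range_eq_top (T ^ k) (LinearMap.range_eq_top_of_surjective
      (((b⁻¹ ^ k : (Module.End F (Idx p μ → F))ˣ) : Module.End F (Idx p μ → F)))
      (LinearMap.GeneralLinearGroup.generalLinearEquiv F (Idx p μ → F) (b⁻¹ ^ k)).surjective)]

theorem det_gram_ne {l : Idx p μ → F} (hl0 : ∀ s, l s ≠ 0) : (gram l).det ≠ 0 := by
  intro h
  obtain ⟨v, hv, hv'⟩ := Matrix.exists_vecMul_eq_zero_iff.2 h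
  refine hv (form_nondeg hl0 fun w => ?_)
  rw [form, Matrix.toBilin'_apply', Matrix.dotProduct_mulVec, hv', zero_dotProduct]

/-- Two forms whose determinants differ by a non-square. -/
theorem exists_pair (hν : ∃ ν : F, ¬ IsSquare ν) {μ : Multiset ℕ} (hμp : ∀ e ∈ μ, e ≤ p)
    (hodd : ∃ e ∈ μ, Odd e) :
    ∃ l l' : Idx p μ → F, BlockConst l ∧ BlockConst l' ∧ (∀ s, l s ≠ 0) ∧ (∀ s, l' s ≠ 0) ∧
      ∀ M : Matrix (Idx p μ) (Idx p μ) F, Mᵀ * gram l' * M ≠ gram l := by
  classical
  obtain ⟨ν, hν⟩ := hν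
  have hν0 : ν ≠ 0 := fun e => hν (e ▸ IsSquare.zero)
  obtain ⟨e, he, hodd⟩ := hodd
  let E : Fin (p + 1) := ⟨e, by have := hμp e he; omega⟩
  have hc : 0 < μ.count (E : ℕ) := Multiset.count_pos.2 he
  let t : Idx p μ → F := fun s => if s.1 = E ∧ (s.2.2 : ℕ) = 0 then ν else 1
  refine ⟨1, t, fun _ _ _ _ => rfl, fun _ _ _ _ => rfl, fun _ => one_ne_zero, fun s => ?_, fun M hM => ?_⟩
  · simp only [t]
    split
    · exact hν0
    · exact one_ne_zero
  have hg : gram t = Matrix.diagonal t * gram (1 : Idx p μ → F) := by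
    ext s s'
    rw [Matrix.diagonal_mul]
    simp only [gram]
    split
    · simp only [wt, Pi.one_apply, mul_one]
      by_cases hev : Even (s.1 : ℕ)
      · rw [if_pos hev]
        rw [show t s = 1 from if_neg fun h => by
          rw [h.1] at hev
          exact Nat.not_even_iff_odd.2 hodd hev, one_mul, if_pos hev]
      · rw [if_neg hev, if_neg hev]; ring
    · rw [mul_zero]
  have hd := congrArg Matrix.det hM
  rw [Matrix.det_mul, Matrix.det_mul, Matrix.det_transpose, hg, Matrix.det_mul, Matrix.det_diagonal] at hd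
  have h1 : (gram (1 : Idx p μ → F)).det ≠ 0 := det_gram_ne fun _ => one_ne_zero
  have hprod : (∏ s, t s) = ν ^ e := by
    rw [Finset.prod_ite, Finset.prod_const, Finset.prod_const_one, mul_one]
    congr 1
    rw [← Fintype.card_subtype]
    refine (Fintype.card_congr (β := Fin e) ?_).trans (Fintype.card_fin e)
    exact
      { toFun := fun s => ⟨(s.1.2.1 : ℕ), by
          have := s.1.2.1.isLt; have h := congrArg Fin.val s.2.1; simp only [E] at h; omega⟩
        invFun := fun i => ⟨⟨E, i, ⟨0, hc⟩⟩, rfl, rfl⟩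
        left_inv := fun ⟨⟨e', i, j⟩, h1, h2⟩ => by
          simp only at h1 h2
          subst h1
          refine Subtype.ext ?_
          simp only [Sigma.mk.injEq, heq_eq_eq, true_and]
          exact Prod.ext rfl (Fin.ext h2.symm)
        right_inv := fun i => rfl }
  rw [hprod] at hd
  obtain ⟨k, hk⟩ := hodd
  refine hν ⟨(M.det * ν ^ k * ν)⁻¹ * ν, ?_⟩
  have hM0 : M.det ≠ 0 := fun h => h1 (by rw [← hd, h]; ring)
  have e1 : M.det * M.det * ν ^ e = 1 := mul_right_cancel₀ h1 (by rw [one_mul]; linear_combination hd)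
  rw [hk, pow_succ, pow_mul', pow_two] at e1
  field_simp
  linear_combination e1

end Cfsg.Agent.JordanOrth
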