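import Cfsg.Agent.Lib.TransvMax.UnitaryTools

/-!
The stabiliser of a pair of complementary totally isotropic subspaces in a special unitary group.
-/

set_option autoImplicit false

namespace Cfsg.Agent.TransvMax

open scoped Matrix MatrixGroups
open Cfsg.Agent

variable {ι : Type} [Fintype ι] [DecidableEq ι] {F : Type*} [Field F]
  {σ : F ≃+* F} {f : (ι → F) → (ι → F) → F}

/-- Two complementary totally isotropic subspaces of dimension at least five. -/
structure HPair (σ : F ≃+* F) (f : (ι → F) → (ι → F) → F) (U W : Submodule F (ι → F)) : Prop where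
  herm : Cfsg.Geo.IsUnitaryForm σ f
  compl : IsCompl U W
  isoU : ∀ x ∈ U, ∀ y ∈ U, f x y = 0
  isoW : ∀ x ∈ W, ∀ y ∈ W, f x y = 0
  dimU : Module.finrank F U = Module.finrank F W
  five : 5 ≤ Module.finrank F U

/-- Maps both subspaces into themselves or into each other. -/
def MapsPair (U W : Submodule F (ι → F)) (g : GL ι F) : Prop :=
  ((∀ x ∈ U, (g : Matrix ι ι F) *ᵥ x ∈ U) ∧ (∀ x ∈ W, (g : Matrix ι ι F) *ᵥ x ∈ W)) ∨
    ((∀ x ∈ U, (g : Matrix ι ι F) *ᵥ x ∈ W) ∧ (∀ x ∈ W, (g : Matrix ι ι F) *ᵥ x ∈ U))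

theorem mapsPair_swap {U W : Submodule F (ι → F)} {g : GL ι F} (h : MapsPair U W g) :
    MapsPair W U g := h.imp And.symm And.symm

namespace HPair

variable {U W : Submodule F (ι → F)} (S : HPair σ f U W)
include S

theorem swap : HPair σ f W U where
  herm := S.herm
  compl := S.compl.symm
  isoU := S.isoW
  isoW := S.isoU
  dimU := S.dimU.symm
  five := S.dimU ▸ S.five

theorem decomp (v : ι → F) : ∃ a ∈ U, ∃ b ∈ W, a + b = v :=
  Submodule.mem_sup.1 (S.compl.sup_eq_top.ge Submodule.mem_top)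

theorem mem_of_perp {v : ι → F} (h : ∀ p ∈ U, f v p = 0) : v ∈ U := by
  obtain ⟨a, ha, b, hb, rfl⟩ := S.decomp v
  rcases eq_or_ne b 0 with rfl | hb0
  · rw [add_zero]; exact ha
  exfalso
  obtain ⟨x, hx⟩ := (S.herm.nondegenerate b hb0).2
  obtain ⟨p, hp, r, hr, rfl⟩ := S.decomp x
  have h1 := h p hp
  rw [S.herm.add_left, S.isoU a ha p hp, zero_add] at h1
  exact hx (by rw [herm_add_right S.herm, h1, S.isoW b hb r hr, add_zero])

theorem exists_pairing_ne {v : ι → F} (h : v ∉ U) : ∃ p ∈ U, f v p ≠ 0 := by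
  by_contra hc
  push Not at hc
  exact h (S.mem_of_perp hc)

theorem exists_perp_mem {k : ℕ} (v : Fin k → ι → F) (hk : k < Module.finrank F U) :
    ∃ u ∈ U, u ≠ 0 ∧ ∀ i, f u (v i) = 0 := by
  let L : U →ₗ[F] (Fin k → F) := LinearMap.pi fun i => (hermFun S.herm (v i)).comp U.subtype
  have h3 := LinearMap.finrank_range_add_finrank_ker L
  have h4 := Submodule.finrank_le (LinearMap.range L)
  rw [Module.finrank_fintype_fun_eq_card, Fintype.card_fin] at h4
  have hne : LinearMap.ker L ≠ ⊥ := fun e => by rw [e, finrank_bot] at h3; omega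
  obtain ⟨⟨u, hu⟩, huk, hu0⟩ := Submodule.exists_mem_ne_zero_of_ne_bot hne
  exact ⟨u, hu, fun e => hu0 (Subtype.ext e), fun i => congrFun huk i⟩

/-- A member of `W` with prescribed values on independent members of `U`. -/
theorem exists_values {k : ℕ} {v : Fin k → ι → F} (hvU : ∀ i, v i ∈ U)
    (hv : LinearIndependent F v) (α : Fin k → F) : ∃ w ∈ W, ∀ i, f w (v i) = α i := by
  obtain ⟨x, hx⟩ := exists_herm_values S.herm hv α
  obtain ⟨a, ha, b, hb, rfl⟩ := S.decomp x
  refine ⟨b, hb, fun i => ?_⟩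
  rw [← hx i, S.herm.add_left, S.isoU a ha _ (hvU i), zero_add]

theorem siegel_mapsPair {u w : ι → F} (hu : u ∈ U) (hw : w ∈ W) (h : f w u = 0) :
    MapsPair U W (hSiegel S.herm (S.isoU u hu u hu) h 0) := by
  refine Or.inl ⟨fun x hx => ?_, fun x hx => ?_⟩ <;> rw [hSiegel_mulVec]
  · rw [S.isoU x hx u hu, zero_smul, add_zero, mul_zero, zero_sub]
    exact U.add_mem hx (U.smul_mem _ hu)
  · rw [S.isoW x hx w hw, zero_mul, sub_zero, zero_smul, add_zero]
    exact W.add_mem hx (W.smul_mem _ hw)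

/-- The swap, as a product of unitary transvections. -/
theorem exists_swap :
    ∃ J : GL ι F, J ∈ Cfsg.Geo.specialLinear ι F ∧
      (∀ x y, f ((J : Matrix ι ι F) *ᵥ x) ((J : Matrix ι ι F) *ᵥ y) = f x y) ∧
      (∀ x ∈ U, (J : Matrix ι ι F) *ᵥ x ∈ W) ∧ (∀ x ∈ W, (J : Matrix ι ι F) *ᵥ x ∈ U) := by
  classical
  have hf := S.herm
  set k := Module.finrank F U
  let bU := Module.finBasis F U
  have hli : LinearIndependent F fun i => ((bU i : U) : ι → F) :=
    bU.linearIndependent.map' U.subtype U.ker_subtype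
  choose w hwW hw using fun i : Fin k =>
    S.exists_values (fun j => (bU j).2) hli (Pi.single i 1)
  have hwu : ∀ i j, f (bU j : ι → F) (w i) = (Pi.single i 1 : Fin k → F) j := fun i j => by
    rw [hf.herm, hw i j]
    rcases eq_or_ne j i with rfl | h
    · simp
    · simp [Pi.single_eq_of_ne h]
  obtain ⟨e, he0, he⟩ := exists_trace_zero hf.ne_refl hf.involutive
  have he' : -e⁻¹ + σ (-e⁻¹) = 0 := by
    rw [map_neg, map_inv₀, show σ e = -e by linear_combination he, inv_neg]
    ring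
  -- process the pairs one by one
  have key : ∀ s : Finset (Fin k), ∃ J : GL ι F, J ∈ Cfsg.Geo.specialLinear ι F ∧
      (∀ x y, f ((J : Matrix ι ι F) *ᵥ x) ((J : Matrix ι ι F) *ᵥ y) = f x y) ∧
      (∀ i, (J : Matrix ι ι F) *ᵥ (bU i : ι → F) = if i ∈ s then (-e⁻¹) • w i else (bU i : ι → F)) ∧
      (∀ i, (J : Matrix ι ι F) *ᵥ w i = if i ∈ s then e • (bU i : ι → F) else w i) := by
    intro s
    induction s using Finset.induction_on with
    | empty => exact ⟨1, Subgroup.one_mem _, fun x y => by simp, fun i => by simp, fun i => by simp⟩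
    | insert a s has ih =>
      obtain ⟨J, hJS, hJiso, hJu, hJw⟩ := ih
      have hu : f (bU a : ι → F) (bU a : ι → F) = 0 := S.isoU _ (bU a).2 _ (bU a).2
      have hww : f (w a) (w a) = 0 := S.isoW _ (hwW a) _ (hwW a)
      set T : GL ι F := utrv hf hu e * utrv hf hww (-e⁻¹) * utrv hf hu e with hT
      have hT1 : ∀ x, f x (bU a : ι → F) = 0 → f x (w a) = 0 → (T : Matrix ι ι F) *ᵥ x = x := by
        intro x h1 h2
        simp only [hT, Units.val_mul, ← Matrix.mulVec_mulVec, utrv_mulVec, h1, h2, mul_zero,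
          zero_smul, add_zero]
      have hTu : (T : Matrix ι ι F) *ᵥ (bU a : ι → F) = (-e⁻¹) • w a := by
        simp only [hT, Units.val_mul, ← Matrix.mulVec_mulVec, utrv_mulVec, hu, hwu, Pi.single_eq_same,
          mul_zero, mul_one, zero_smul, add_zero, hf.add_left, hf.smul_left, hw a a, zero_add]
        rw [mul_neg, mul_inv_cancel₀ he0, neg_smul, neg_smul, one_smul]
        abel
      have hTw : (T : Matrix ι ι F) *ᵥ w a = e • (bU a : ι → F) := by
        simp only [hT, Units.val_mul, ← Matrix.mulVec_mulVec, utrv_mulVec, hu, hwu, Pi.single_eq_same,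
          mul_zero, mul_one, zero_smul, add_zero, hf.add_left, hf.smul_left, hw a a, zero_add, hww,
          neg_mul, inv_mul_cancel₀ he0, neg_smul, one_smul]
        rw [show f (-w a) (bU a : ι → F) = -1 by
          rw [← neg_one_smul F (w a), hf.smul_left, hw a a, Pi.single_eq_same, mul_one],
          add_neg_cancel, mul_zero, zero_smul, add_zero]
        abel
      refine ⟨T * J, Subgroup.mul_mem _ (Subgroup.mul_mem _ (Subgroup.mul_mem _
        (trv_mem_specialLinear _ _ _) (trv_mem_specialLinear _ _ _)) (trv_mem_specialLinear _ _ _)) hJS,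
        fun x y => ?_, fun i => ?_, fun i => ?_⟩
      · simp only [hT, Units.val_mul, ← Matrix.mulVec_mulVec, utrv_isometry hf hu he,
          utrv_isometry hf hww he', hJiso]
      · rw [Units.val_mul, ← Matrix.mulVec_mulVec, hJu]
        rcases eq_or_ne i a with rfl | hia
        · rw [if_neg has, if_pos (Finset.mem_insert_self _ _), hTu]
        · simp only [Finset.mem_insert, hia, false_or]
          split_ifs with hi
          · rw [hT1 _ (by rw [hf.smul_left, hw i a, Pi.single_eq_of_ne hia.symm, mul_zero])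
              (by rw [hf.smul_left, S.isoW _ (hwW i) _ (hwW a), mul_zero])]
          · exact hT1 _ (S.isoU _ (bU i).2 _ (bU a).2) (by rw [hwu, Pi.single_eq_of_ne hia])
      · rw [Units.val_mul, ← Matrix.mulVec_mulVec, hJw]
        rcases eq_or_ne i a with rfl | hia
        · rw [if_neg has, if_pos (Finset.mem_insert_self _ _), hTw]
        · simp only [Finset.mem_insert, hia, false_or]
          split_ifs with hi
          · rw [hT1 _ (by rw [hf.smul_left, S.isoU _ (bU i).2 _ (bU a).2, mul_zero])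
              (by rw [hf.smul_left, hwu, Pi.single_eq_of_ne hia, mul_zero])]
          · exact hT1 _ (by rw [hw i a, Pi.single_eq_of_ne hia.symm]) (S.isoW _ (hwW i) _ (hwW a))
  obtain ⟨J, hJS, hJiso, hJu, hJw⟩ := key Finset.univ
  have hU : U.map (Matrix.toLin' (J : Matrix ι ι F)) ≤ W := by
    rw [Submodule.map_le_iff_le_comap]
    intro x hx
    rw [show x = ((⟨x, hx⟩ : U) : ι → F) from rfl, ← bU.sum_repr ⟨x, hx⟩, Submodule.coe_sum]
    refine Submodule.sum_mem _ fun i _ => ?_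
    rw [Submodule.coe_smul]
    refine Submodule.smul_mem _ _ ?_
    show Matrix.toLin' (J : Matrix ι ι F) (bU i : ι → F) ∈ W
    rw [Matrix.toLin'_apply, hJu, if_pos (Finset.mem_univ _)]
    exact W.smul_mem _ (hwW i)
  refine ⟨J, hJS, hJiso, fun x hx => by
    have := hU ⟨x, hx, rfl⟩
    rwa [Matrix.toLin'_apply] at this, fun y hy => ?_⟩
  refine S.mem_of_perp fun p hp => ?_
  -- `p` is the image of something in `W`
  have hp' : p ∈ Submodule.span F (Set.range fun i => (bU i : ι → F)) := by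
    rw [show p = ((⟨p, hp⟩ : U) : ι → F) from rfl, ← bU.sum_repr ⟨p, hp⟩, Submodule.coe_sum]
    exact Submodule.sum_mem _ fun i _ => by
      rw [Submodule.coe_smul]; exact Submodule.smul_mem _ _ (Submodule.subset_span ⟨i, rfl⟩)
  refine herm_eq_zero_comm hf ?_
  have hle : Submodule.span F (Set.range fun i => (bU i : ι → F)) ≤
      LinearMap.ker (hermFun hf ((J : Matrix ι ι F) *ᵥ y)) := by
    rw [Submodule.span_le]
    rintro _ ⟨i, rfl⟩
    show f (bU i : ι → F) _ = 0
    have h1 : (bU i : ι → F) = (J : Matrix ι ι F) *ᵥ (e⁻¹ • w i) := by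
      rw [Matrix.mulVec_smul, hJw, if_pos (Finset.mem_univ _), smul_smul, inv_mul_cancel₀ he0,
        one_smul]
    rw [h1, hJiso, hf.smul_left, S.isoW _ (hwW i) _ hy, mul_zero]
  exact hle hp'

/-- An element outside the stabiliser moves some vector of the union out of it. -/
theorem exists_moved {g : GL ι F} (hg : ¬ MapsPair U W g) :
    ∃ x, (x ∈ U ∨ x ∈ W) ∧ (g : Matrix ι ι F) *ᵥ x ∉ U ∧ (g : Matrix ι ι F) *ᵥ x ∉ W := by
  by_contra hc
  push Not at hc
  have hinj : Function.Injective (Matrix.toLin' (g : Matrix ι ι F)) := fun a b h => by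
    simpa [Matrix.toLin'_apply, inv_mulVec_mulVec] using
      congrArg (((g⁻¹ : GL ι F) : Matrix ι ι F) *ᵥ ·) h
  have key : ∀ X : Submodule F (ι → F),
      (∀ x ∈ X, (g : Matrix ι ι F) *ᵥ x ∈ U ∨ (g : Matrix ι ι F) *ᵥ x ∈ W) →
      (∀ x ∈ X, (g : Matrix ι ι F) *ᵥ x ∈ U) ∨ (∀ x ∈ X, (g : Matrix ι ι F) *ᵥ x ∈ W) := by
    intro X hX
    by_contra hcon
    push Not at hcon
    obtain ⟨⟨a, ha, haU⟩, b, hb, hbW⟩ := hcon
    have haW := (hX a ha).resolve_left haU
    have hbU := (hX b hb).resolve_right hbW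
    rcases hX (a + b) (X.add_mem ha hb) with h | h <;> rw [Matrix.mulVec_add] at h
    · exact haU (by simpa using U.sub_mem h hbU)
    · exact hbW (by simpa using W.sub_mem h haW)
  have hU := key U fun x hx => by
    by_contra h; push Not at h; exact h.2 (hc x (Or.inl hx) h.1)
  have hW := key W fun x hx => by
    by_contra h; push Not at h; exact h.2 (hc x (Or.inr hx) h.1)
  have hnot : ∀ X : Submodule F (ι → F), (∀ x ∈ U, (g : Matrix ι ι F) *ᵥ x ∈ X) →
      (∀ x ∈ W, (g : Matrix ι ι F) *ᵥ x ∈ X) → X = ⊤ := fun X h1 h2 => by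
    rw [eq_top_iff]
    intro v _
    obtain ⟨a, ha, b, hb, hab⟩ := S.decomp (((g⁻¹ : GL ι F) : Matrix ι ι F) *ᵥ v)
    rw [← mulVec_inv_mulVec g v, ← hab, Matrix.mulVec_add]
    exact X.add_mem (h1 a ha) (h2 b hb)
  have hne : ∀ X Y : Submodule F (ι → F), Disjoint X Y → X = ⊤ → 0 < Module.finrank F Y → False := by
    intro X Y hXY hX hY
    rw [hX, top_disjoint] at hXY
    rw [hXY, finrank_bot] at hY
    omega
  rcases hU with hU | hU <;> rcases hW with hW | hW
  · exact hne U W S.compl.disjoint (hnot U hU hW) (by rw [← S.dimU]; have := S.five; omega)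
  · exact hg (Or.inl ⟨hU, hW⟩)
  · exact hg (Or.inr ⟨hU, hW⟩)
  · exact hne W U S.compl.disjoint.symm (hnot W hU hW) (by have := S.five; omega)

/-- A mixed pair element yields a full centre in `U`. -/
theorem exists_centre_of_pair {K : Subgroup (GL ι F)}
    (hpair : ∀ (u : ι → F) (hu : u ∈ U), ∀ w ∈ W, ∀ h : f w u = 0,
      hSiegel S.herm (S.isoU u hu u hu) h 0 ∈ K)
    {u' w' : ι → F} (hu'i : f u' u' = 0) (h' : f w' u' = 0) (hw'i : f w' w' = 0)
    (hm : hSiegel S.herm hu'i h' 0 ∈ K) (hu' : u' ∉ W) {w : ι → F} (hw : w ∈ W)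
    (hwu : f w u' = 0) (hww : f w w' ≠ 0) :
    ∃ u ∈ U, u ≠ 0 ∧ IsoCentre S.herm K u := by
  have hf := S.herm
  obtain ⟨r, hr, hru⟩ := S.swap.exists_pairing_ne hu'
  obtain ⟨u, hu, hu0, hperp⟩ :=
    S.exists_perp_mem ![u', w', w, r] (lt_of_lt_of_le (by norm_num) S.five)
  have hsw : ∀ {x y : ι → F}, f x y = 0 → f y x = 0 := fun h => herm_eq_zero_comm hf h
  have huu : f u u' = 0 := hperp 0
  have huw' : f u w' = 0 := hperp 1
  have huw : f u w = 0 := hperp 2
  have hur : f u r = 0 := hperp 3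
  set w₁ := (f w w')⁻¹ • w with hw₁
  have hw₁W : w₁ ∈ W := W.smul_mem _ hw
  have hw₁w' : f w₁ w' = 1 := by rw [hw₁, hf.smul_left, inv_mul_cancel₀ hww]
  have hw'w₁ : f w' w₁ = 1 := by rw [hf.herm, hw₁w', map_one]
  have huw₁ : f u w₁ = 0 := by rw [hw₁, herm_smul_right hf, huw, mul_zero]
  have hw₁u' : f w₁ u' = 0 := by rw [hw₁, hf.smul_left, hwu, mul_zero]
  have hui : f u u = 0 := S.isoU u hu u hu
  have hw₁i : f w₁ w₁ = 0 := S.isoW _ hw₁W _ hw₁W
  set E := hSiegel hf hui (hsw huw₁) 0 with hE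
  set E' := hSiegel hf hu'i h' 0 with hE'
  have hEK : E ∈ K := hpair u hu w₁ hw₁W (hsw huw₁)
  have hu'u : f u' u = 0 := hsw huu
  set Z := hSiegel hf hui hu'u 0 with hZdef
  have hZK : Z ∈ K := by
    have hZ : Z * (E' * E) = E * E' := by
      refine gl_ext fun x => ?_
      simp only [hZdef, hE, hE', Units.val_mul, ← Matrix.mulVec_mulVec, hSiegel_mulVec, hf.add_left,
        hf.smul_left, hui, hu'i, hw₁i, hw'i, huu, hu'u, huw', hsw huw', huw₁, hsw huw₁, hw₁u',
        hsw hw₁u', hw₁w', hw'w₁, h', hsw h', zero_mul, mul_zero, zero_sub, add_zero, zero_add]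
      module
    rw [eq_mul_inv_of_mul_eq hZ]
    exact K.mul_mem (K.mul_mem hEK hm) (K.inv_mem (K.mul_mem hm hEK))
  have hru' : f u' r ≠ 0 := hru
  refine ⟨u, hu, hu0, hui, fun e he => ?_⟩
  obtain ⟨t, ht⟩ := exists_trace_eq hf.ne_refl hf.involutive (a := (-1 : F)) (by rw [map_neg, map_one])
  -- rescale so that the value is `e t`
  set b := e * t
  set r₁ := σ (b / f u' r) • r with hr₁
  have hu'r₁ : f u' r₁ = b := by
    rw [hr₁, herm_smul_right hf, hf.involutive, div_mul_cancel₀ _ hru']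
  have hr₁u' : f r₁ u' = σ b := by rw [hf.herm, hu'r₁]
  have hur₁ : f u r₁ = 0 := by rw [hr₁, herm_smul_right hf, hur, mul_zero]
  have hr₁W : r₁ ∈ W := W.smul_mem _ hr
  set h₁ := hSiegel hf hui (hsw hur₁) 0 with hh₁
  have hh₁K : h₁ ∈ K := hpair u hu r₁ hr₁W (hsw hur₁)
  have hfin := K.mul_mem (K.inv_mem hZK) (K.mul_mem (K.mul_mem hh₁K hZK) (K.inv_mem hh₁K))
  convert hfin using 1
  rw [eq_inv_mul_iff_mul_eq, eq_mul_inv_iff_mul_eq]
  refine gl_ext fun x => ?_
  have hb : σ b - b = e := by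
    simp only [b, map_mul]
    rw [show σ e = -e by linear_combination he]
    linear_combination (-e) * ht
  simp only [hh₁, hZdef, Units.val_mul, ← Matrix.mulVec_mulVec, hSiegel_mulVec, utrv_mulVec,
    hf.add_left, hf.smul_left, hui, huu, hu'u, hur₁, hsw hur₁, hu'r₁, hr₁u', zero_mul, mul_zero,
    zero_sub, add_zero, zero_add, ← hb]
  match_scalars <;> ring

/-- A proper overgroup of the stabiliser of the pair contains all unitary transvections. -/
theorem isoCentre_of_over [Finite F] {K : Subgroup (GL ι F)}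
    (hK : ∀ g ∈ K, ∀ x y, f ((g : Matrix ι ι F) *ᵥ x) ((g : Matrix ι ι F) *ᵥ y) = f x y)
    (hstab : ∀ h ∈ Cfsg.Geo.specialLinear ι F,
      (∀ x y, f ((h : Matrix ι ι F) *ᵥ x) ((h : Matrix ι ι F) *ᵥ y) = f x y) →
      MapsPair U W h → h ∈ K)
    {g : GL ι F} (hgK : g ∈ K) (hg : ¬ MapsPair U W g) :
    ∀ v, f v v = 0 → IsoCentre S.herm K v := by
  have hf := S.herm
  have hsw : ∀ {x y : ι → F}, f x y = 0 → f y x = 0 := fun h => herm_eq_zero_comm hf h
  have hpair : ∀ (u : ι → F) (hu : u ∈ U), ∀ w ∈ W, ∀ h : f w u = 0,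
      hSiegel hf (S.isoU u hu u hu) h 0 ∈ K := fun u hu w hw h =>
    hstab _ (hSiegel_mem_SL hf _ h 0) (hSiegel_isometry hf _ h (by
      rw [map_zero, S.isoW w hw w hw, add_zero, neg_zero])) (S.siegel_mapsPair hu hw h)
  have hpair' : ∀ (u : ι → F) (hu : u ∈ W), ∀ w ∈ U, ∀ h : f w u = 0,
      hSiegel hf (S.isoW u hu u hu) h 0 ∈ K := fun u hu w hw h =>
    hstab _ (hSiegel_mem_SL hf _ h 0) (hSiegel_isometry hf _ h (by
      rw [map_zero, S.isoU w hw w hw, add_zero, neg_zero]))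
      (mapsPair_swap (S.swap.siegel_mapsPair hu hw h))
  obtain ⟨J, hJS, hJiso, hJU, hJW⟩ := S.exists_swap
  have hJK : J ∈ K := hstab J hJS hJiso (Or.inr ⟨hJU, hJW⟩)
  -- one centre in `U`
  obtain ⟨u₀, hu₀, hu₀0, hu₀C⟩ : ∃ u ∈ U, u ≠ 0 ∧ IsoCentre hf K u := by
    obtain ⟨x, hx, hxU, hxW⟩ := S.exists_moved hg
    obtain ⟨p, hp, hpx⟩ := S.exists_pairing_ne hxU
    obtain ⟨r, hr, hrx⟩ := S.swap.exists_pairing_ne hxW
    have hxx : f x x = 0 := hx.elim (fun h => S.isoU x h x h) (fun h => S.isoW x h x h)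
    obtain ⟨X', hX', hXi, hXX'⟩ : ∃ X' : Submodule F (ι → F), 5 ≤ Module.finrank F X' ∧
        (∀ w₀ ∈ X', f w₀ w₀ = 0) ∧
        ∀ w₀ ∈ X', ∀ h : f w₀ x = 0, hSiegel hf hxx h 0 ∈ K := by
      rcases hx with hx | hx
      · exact ⟨W, S.dimU ▸ S.five, fun w hw => S.isoW w hw w hw, fun w₀ hw₀ h => hpair x hx w₀ hw₀ h⟩
      · exact ⟨U, S.five, fun w hw => S.isoU w hw w hw, fun w₀ hw₀ h => hpair' x hx w₀ hw₀ h⟩
    by_contra hnone
    push Not at hnone
    set gx := (g : Matrix ι ι F) *ᵥ x with hgx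
    have hperp : ∀ w₀ ∈ X', f w₀ x = 0 →
        (∀ w ∈ W, f w gx = 0 → f w ((g : Matrix ι ι F) *ᵥ w₀) = 0) ∧
        (∀ w ∈ U, f w gx = 0 → f w ((g : Matrix ι ι F) *ᵥ w₀) = 0) := by
      intro w₀ hw₀ h
      have hi : f gx gx = 0 := by rw [hgx, hK g hgK, hxx]
      have h2 : f ((g : Matrix ι ι F) *ᵥ w₀) gx = 0 := by rw [hgx, hK g hgK, h]
      have h3 : f ((g : Matrix ι ι F) *ᵥ w₀) ((g : Matrix ι ι F) *ᵥ w₀) = 0 := by
        rw [hK g hgK, hXi w₀ hw₀]
      have hm : hSiegel hf hi h2 0 ∈ K := by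
        convert K.mul_mem (K.mul_mem hgK (hXX' w₀ hw₀ h)) (K.inv_mem hgK) using 1
        rw [eq_mul_inv_iff_mul_eq]
        refine gl_ext fun z => ?_
        simp only [Units.val_mul, ← Matrix.mulVec_mulVec, hSiegel_mulVec, Matrix.mulVec_add,
          Matrix.mulVec_smul, hgx, hK g hgK]
      refine ⟨fun w hw hwx => ?_, fun w hw hwx => ?_⟩
      · by_contra hne
        obtain ⟨u, h1, h4, h5⟩ := S.exists_centre_of_pair hpair hi h2 h3 hm hxW hw hwx hne
        exact hnone u h1 h4 h5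
      · by_contra hne
        obtain ⟨u, h1, h4, h5⟩ := S.swap.exists_centre_of_pair hpair' hi h2 h3 hm hxU hw hwx hne
        exact hnone _ (hJW u h1)
          (fun e => h4 (by rw [← inv_mulVec_mulVec J u, e, Matrix.mulVec_zero]))
          (h5.map hJK hJiso)
    let L : X' →ₗ[F] (Fin 3 → F) := LinearMap.pi
      ![(hermFun hf x).comp X'.subtype,
        ((hermFun hf p).comp (Matrix.toLin' (g : Matrix ι ι F))).comp X'.subtype,
        ((hermFun hf r).comp (Matrix.toLin' (g : Matrix ι ι F))).comp X'.subtype]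
    have h3 := LinearMap.finrank_range_add_finrank_ker L
    have h4 := Submodule.finrank_le (LinearMap.range L)
    rw [Module.finrank_fintype_fun_eq_card, Fintype.card_fin] at h4
    have hne : LinearMap.ker L ≠ ⊥ := fun e => by rw [e, finrank_bot] at h3; omega
    obtain ⟨⟨w₀, hw₀⟩, hk, hw₀0⟩ := Submodule.exists_mem_ne_zero_of_ne_bot hne
    have e0 : f w₀ x = 0 := congrFun hk 0
    have e1 : f ((g : Matrix ι ι F) *ᵥ w₀) p = 0 := congrFun hk 1
    have e2 : f ((g : Matrix ι ι F) *ᵥ w₀) r = 0 := congrFun hk 2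
    obtain ⟨hW', hU'⟩ := hperp w₀ hw₀ e0
    set gw := (g : Matrix ι ι F) *ᵥ w₀ with hgw
    suffices gw = 0 by
      refine hw₀0 (Subtype.ext ?_)
      show w₀ = 0
      rw [← inv_mulVec_mulVec g w₀, ← hgw, this, Matrix.mulVec_zero]
    refine herm_eq_of_forall hf fun y => ?_
    rw [herm_zero_right hf]
    obtain ⟨a, ha, b, hb, rfl⟩ := S.decomp y
    have hpx' : f p gx ≠ 0 := fun h => hpx (hsw h)
    have hrx' : f r gx ≠ 0 := fun h => hrx (hsw h)
    have ea := hU' (a - (f a gx / f p gx) • p) (U.sub_mem ha (U.smul_mem _ hp))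
      (by rw [herm_sub_left hf, hf.smul_left, div_mul_cancel₀ _ hpx', sub_self])
    rw [herm_sub_left hf, hf.smul_left, hsw e1, mul_zero, sub_zero] at ea
    have eb := hW' (b - (f b gx / f r gx) • r) (W.sub_mem hb (W.smul_mem _ hr))
      (by rw [herm_sub_left hf, hf.smul_left, div_mul_cancel₀ _ hrx', sub_self])
    rw [herm_sub_left hf, hf.smul_left, hsw e2, mul_zero, sub_zero] at eb
    rw [hf.add_left, ea, eb, add_zero]
  -- transitivity on `U`
  have hUC : ∀ b ∈ U, IsoCentre hf K b := by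
    intro b hb
    by_cases hbu : b ∈ Submodule.span F {u₀}
    · obtain ⟨s, rfl⟩ := Submodule.mem_span_singleton.1 hbu
      exact hu₀C.smul s
    have hdn : b - u₀ ∉ Submodule.span F {u₀} := fun h => hbu (by
      simpa using Submodule.add_mem _ h (Submodule.mem_span_singleton_self u₀))
    obtain ⟨w, hw, hwv⟩ := S.exists_values (v := ![b - u₀, u₀])
      (fun i => by fin_cases i; exacts [U.sub_mem hb hu₀, hu₀])
      (linearIndependent_finCons.2 ⟨by simp [linearIndependent_unique_iff, hu₀0], by simpa using hdn⟩)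
      ![0, -1]
    have h1 : f u₀ w = -1 := by
      rw [hf.herm, show f w u₀ = -1 from hwv 1, map_neg, map_one]
    have hdw : f w (b - u₀) = 0 := hwv 0
    have hEK := hpair _ (U.sub_mem hb hu₀) w hw hdw
    have h2 := hu₀C.map hEK (hK _ hEK)
    rw [hSiegel_mulVec, S.isoU u₀ hu₀ _ (U.sub_mem hb hu₀), h1, zero_smul, add_zero, mul_zero,
      zero_sub, neg_neg, one_smul, add_sub_cancel] at h2
    exact h2
  have hWC : ∀ b ∈ W, IsoCentre hf K b := by
    intro b hb
    have h1 := (hUC _ (hJW b hb)).map (K.inv_mem hJK) (hK _ (K.inv_mem hJK))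
    rwa [inv_mulVec_mulVec] at h1
  have hjoin : ∀ a c, IsoCentre hf K a → IsoCentre hf K c → f a c ≠ 0 → f a c + σ (f a c) = 0 →
      IsoCentre hf K (a + c) := by
    intro a c ha hc hne htr
    have he : (f a c)⁻¹ + σ (f a c)⁻¹ = 0 := by
      rw [map_inv₀, show σ (f a c) = -f a c by linear_combination htr, inv_neg, add_neg_cancel]
    have := ha.line hc he
    rwa [inv_mul_cancel₀ hne, one_smul] at this
  intro v hv
  obtain ⟨a, ha, b, hb, rfl⟩ := S.decomp v
  have htr : f a b + σ (f a b) = 0 := by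
    rw [hf.add_left, herm_add_right hf, herm_add_right hf, S.isoU a ha a ha, S.isoW b hb b hb,
      hf.herm b a] at hv
    linear_combination hv
  rcases eq_or_ne a 0 with rfl | ha0
  · rw [zero_add]; exact hWC b hb
  by_cases hab : f a b = 0
  · obtain ⟨t, ht0, ht⟩ := exists_trace_zero hf.ne_refl hf.involutive
    obtain ⟨r, hr, hra⟩ := S.exists_values (v := ![a]) (fun i => by fin_cases i; exact ha)
      (by simp [linearIndependent_unique_iff, ha0]) ![σ t]
    have har : f a r = t := by rw [hf.herm, show f r a = σ t from hra 0, hf.involutive]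
    have h1 := hjoin a r (hUC a ha) (hWC r hr) (by rw [har]; exact ht0) (by rw [har]; exact ht)
    have hval : f (a + r) (b - r) = -t := by
      rw [hf.add_left, herm_sub_right hf, hab, har, S.isoW r hr _ (W.sub_mem hb hr)]
      ring
    have h2 := hjoin _ _ h1 (hWC _ (W.sub_mem hb hr)) (by rw [hval]; exact neg_ne_zero.mpr ht0)
      (by rw [hval, map_neg]; linear_combination -ht)
    rwa [add_assoc, add_sub_cancel] at h2
  · exact hjoin a b (hUC a ha) (hWC b hb) hab htr

/-- The stabiliser of the pair is proper. -/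
theorem exists_not_maps [Finite F] : ∃ u : ι → F, ∃ hu : f u u = 0, ∃ e : F, e + σ e = 0 ∧
    ¬ MapsPair U W (utrv S.herm hu e) := by
  obtain ⟨a, ha, ha0, -⟩ := S.exists_perp_mem (![] : Fin 0 → ι → F) (lt_of_lt_of_le (by norm_num) S.five)
  obtain ⟨e, he0, he⟩ := exists_trace_zero S.herm.ne_refl S.herm.involutive
  refine ⟨a, S.isoU a ha a ha, e, he, fun h => ?_⟩
  obtain ⟨r, hr, hra⟩ := S.exists_values (v := ![a]) (fun i => by fin_cases i; exact ha)
    (by simp [linearIndependent_unique_iff, ha0]) ![1]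
  have hval : (utrv S.herm (S.isoU a ha a ha) e : Matrix ι ι F) *ᵥ r = r + e • a := by
    rw [utrv_mulVec, show f r a = 1 from hra 0, mul_one]
  have hfix : (utrv S.herm (S.isoU a ha a ha) e : Matrix ι ι F) *ᵥ a = a := by
    rw [utrv_mulVec, S.isoU a ha a ha, mul_zero, zero_smul, add_zero]
  rcases h with ⟨-, hW⟩ | ⟨hU, -⟩
  · have h1 : r + e • a ∈ W := hval ▸ hW r hr
    exact smul_ne_zero he0 ha0 (Submodule.disjoint_def.1 S.compl.disjoint _ (U.smul_mem _ ha)
      (by simpa using W.sub_mem h1 hr))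
  · have h1 : a ∈ W := hfix ▸ hU a ha
    exact ha0 (Submodule.disjoint_def.1 S.compl.disjoint _ ha h1)

end HPair

end Cfsg.Agent.TransvMax
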