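import Cfsg.Agent.Lib.TransvMax.MonomialQuot

/-! An overgroup of the monomial group inside the special linear group which is not monomial has a
non-monomial element fixing a coordinate line. -/

set_option autoImplicit false
set_option linter.unusedSectionVars false
set_option linter.style.haveILetI false

namespace Cfsg.Agent.MonomialMax

open Finset

variable {F : Type*} [Field F] {κ : Type*} [Fintype κ] [DecidableEq κ]

/-- Each coordinate line goes to a coordinate line. -/
def Mono (g : (κ → F) ≃ₗ[F] (κ → F)) : Prop :=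
  ∀ j, ∃ i, ∀ k, k ≠ i → g (Pi.single j 1) k = 0

/-- The support. -/
noncomputable def supp (v : κ → F) : Finset κ := by classical exact univ.filter fun i => v i ≠ 0

@[simp] theorem mem_supp {v : κ → F} {i : κ} : i ∈ supp v ↔ v i ≠ 0 := by simp [supp]

theorem single_eq_smul (i : κ) (a : F) : (Pi.single i a : κ → F) = a • Pi.single i 1 := by
  rw [← Pi.single_smul, smul_eq_mul, mul_one]

theorem eq_single_of_line {v : κ → F} {i : κ} (h : ∀ k, k ≠ i → v k = 0) : v = Pi.single i (v i) := by
  funext k
  by_cases hk : k = i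
  · subst hk; simp
  · rw [h k hk, Pi.single_eq_of_ne hk]

theorem monE_mono (σ : Equiv.Perm κ) (c : κ → Fˣ) : Mono (monE σ c) := fun j =>
  ⟨σ j, fun k hk => by rw [monE_single, Pi.single_eq_of_ne hk]⟩

theorem Mono.mul {g h : (κ → F) ≃ₗ[F] (κ → F)} (hg : Mono g) (hh : Mono h) : Mono (g * h) := by
  intro j
  obtain ⟨i, hi⟩ := hh j
  obtain ⟨l, hl⟩ := hg i
  refine ⟨l, fun k hk => ?_⟩
  show g (h (Pi.single j 1)) k = 0
  rw [eq_single_of_line hi, single_eq_smul, map_smul, Pi.smul_apply, hl k hk, smul_zero]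

theorem exists_monE {g : (κ → F) ≃ₗ[F] (κ → F)} (hg : Mono g) : ∃ σ c, g = monE σ c := by
  classical
  choose f hf using hg
  have hne : ∀ j, g (Pi.single j 1) (f j) ≠ 0 := fun j e => by
    have : g (Pi.single j 1) = 0 := by rw [eq_single_of_line (hf j), e, Pi.single_zero]
    rw [map_eq_zero_iff g g.injective, Pi.single_eq_zero_iff] at this
    exact one_ne_zero this
  have hinj : Function.Injective f := by
    intro a b e
    by_contra hab
    have h0 : g (g (Pi.single b 1) (f b) • Pi.single a 1 - g (Pi.single a 1) (f a) • Pi.single b 1) = 0 := by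
      have h1 := eq_single_of_line (hf a)
      have h2 := eq_single_of_line (hf b)
      rw [e] at h1
      rw [map_sub, map_smul, map_smul, e]
      funext k
      by_cases hk : k = f b
      · subst hk; simp [mul_comm]
      · simp [hf b k hk, hf a k (e ▸ hk)]
    rw [map_eq_zero_iff g g.injective] at h0
    have := congrFun h0 a
    simp [hab, hne b] at this
  refine ⟨Equiv.ofBijective f (Finite.injective_iff_bijective.mp hinj),
    fun j => Units.mk0 _ (hne j), ?_⟩
  refine LinearEquiv.toLinearMap_injective (LinearMap.pi_ext fun j a => ?_)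
  rw [LinearEquiv.coe_coe, LinearEquiv.coe_coe, monE_single, single_eq_smul j a, map_smul]
  conv_lhs => rw [eq_single_of_line (hf j)]
  rw [← Pi.single_smul, smul_eq_mul, mul_comm]
  rfl

/-- Twisting the permutation matrices by a vector of units. -/
def twist (w : κ → Fˣ) : Equiv.Perm κ →* ((κ → F) ≃ₗ[F] (κ → F)) where
  toFun σ := monE σ fun j => w (σ j) / w j
  map_one' := LinearEquiv.ext fun v => funext fun i => by simp [monE_apply, Equiv.Perm.one_def]
  map_mul' σ τ := LinearEquiv.ext fun v => funext fun i => by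
    simp only [LinearEquiv.mul_apply, monE_apply, Equiv.Perm.mul_def, Equiv.symm_trans_apply,
      Equiv.trans_apply, Equiv.apply_symm_apply]
    rw [← mul_assoc, ← Units.val_mul, div_mul_div_cancel]

theorem twist_single (w : κ → Fˣ) (σ : Equiv.Perm κ) (l : κ) :
    twist w σ (Pi.single l (w l : F)) = Pi.single (σ l) (w (σ l) : F) := by
  show monE σ _ _ = _
  rw [monE_single]
  simp

theorem twist_inj (w : κ → Fˣ) : Function.Injective (twist w) := by
  intro σ τ h
  refine Equiv.ext fun l => ?_
  have := congrArg (fun g : (κ → F) ≃ₗ[F] (κ → F) => g (Pi.single l (w l : F)) (σ l)) h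
  simp only [twist_single, Pi.single_eq_same] at this
  by_contra hne
  rw [Pi.single_eq_of_ne hne] at this
  exact (w (σ l)).ne_zero this

theorem twist_mono (w : κ → Fˣ) (σ : Equiv.Perm κ) : Mono (twist w σ) := monE_mono _ _

/-- A three-cycle as a commutator. -/
def cyc (a b c : κ) : Equiv.Perm κ :=
  Equiv.swap a b * Equiv.swap a c * Equiv.swap a b * Equiv.swap a c

theorem cyc_a {a b c : κ} (hab : a ≠ b) (hac : a ≠ c) (hbc : b ≠ c) : cyc a b c a = b := by
  simp [cyc, Equiv.swap_apply_def, hab, hab.symm, hac, hac.symm, hbc, hbc.symm]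

theorem cyc_b {a b c : κ} (hab : a ≠ b) (hac : a ≠ c) (hbc : b ≠ c) : cyc a b c b = c := by
  simp [cyc, Equiv.swap_apply_def, hab, hab.symm, hac, hac.symm, hbc, hbc.symm]

theorem cyc_c {a b c : κ} (hab : a ≠ b) (hac : a ≠ c) (hbc : b ≠ c) : cyc a b c c = a := by
  simp [cyc, Equiv.swap_apply_def, hab, hab.symm, hac, hac.symm, hbc, hbc.symm]

theorem cyc_out {a b c x : κ} (ha : x ≠ a) (hb : x ≠ b) (hc : x ≠ c) : cyc a b c x = x := by
  simp [cyc, Equiv.swap_apply_of_ne_of_ne, ha, hb, hc]

theorem cyc_cube {a b c : κ} (hab : a ≠ b) (hac : a ≠ c) (hbc : b ≠ c) :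
    cyc a b c * cyc a b c * cyc a b c = 1 := by
  refine Equiv.ext fun x => ?_
  simp only [Equiv.Perm.mul_apply, Equiv.Perm.one_apply]
  by_cases ha : x = a
  · subst ha; rw [cyc_a hab hac hbc, cyc_b hab hac hbc, cyc_c hab hac hbc]
  by_cases hb : x = b
  · subst hb; rw [cyc_b hab hac hbc, cyc_c hab hac hbc, cyc_a hab hac hbc]
  by_cases hc : x = c
  · subst hc; rw [cyc_c hab hac hbc, cyc_a hab hac hbc, cyc_b hab hac hbc]
  rw [cyc_out ha hb hc, cyc_out ha hb hc, cyc_out ha hb hc]

theorem twist_cyc_det (w : κ → Fˣ) (a b c : κ) : LinearEquiv.det (twist w (cyc a b c)) = 1 := by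
  simp only [cyc, map_mul]
  have h : ∀ σ : Equiv.Perm κ, σ * σ = 1 → LinearEquiv.det (twist w σ) * LinearEquiv.det (twist w σ) = 1 :=
    fun σ hσ => by rw [← map_mul, ← map_mul, hσ, map_one, map_one]
  have h1 := h (Equiv.swap a b) (Equiv.swap_mul_self a b)
  have h2 := h (Equiv.swap a c) (Equiv.swap_mul_self a c)
  calc _ = (LinearEquiv.det (twist w (Equiv.swap a b)) * LinearEquiv.det (twist w (Equiv.swap a b))) *
        (LinearEquiv.det (twist w (Equiv.swap a c)) * LinearEquiv.det (twist w (Equiv.swap a c))) := by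
          simp only [mul_comm, mul_assoc, mul_left_comm]
    _ = 1 := by rw [h1, h2, one_mul]

/-- The image of one cycle. -/
structure Image (x : (κ → F) ≃ₗ[F] (κ → F)) (w : κ → Fˣ) (i a b c : κ) (P : Finset κ) : Prop where
  card : P.card = 3
  notMem : i ∉ P
  span : ∀ v ∈ Submodule.span F ({x (Pi.single b (w b : F) - Pi.single a (w a : F)),
    x (Pi.single c (w c : F) - Pi.single b (w b : F))} : Set (κ → F)),
      supp v ⊆ P ∧ (v ≠ 0 → 2 ≤ (supp v).card)
  fixed : ∀ v, (x * twist w (cyc a b c) * x⁻¹) v = v → ∀ p ∈ P, v p ≠ 0 → P ⊆ supp v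

theorem exists_image {x : (κ → F) ≃ₗ[F] (κ → F)} {w : κ → Fˣ} {i a b c d : κ}
    (hab : a ≠ b) (hac : a ≠ c) (hbc : b ≠ c) (had : a ≠ d) (hbd : b ≠ d) (hcd : c ≠ d)
    (hm : Mono (x * twist w (cyc a b c) * x⁻¹)) (hm' : Mono (x * twist w (cyc a b d) * x⁻¹))
    (hfix : (x * twist w (cyc a b c) * x⁻¹) (Pi.single i 1) = Pi.single i 1) :
    ∃ P, Image x w i a b c P := by
  classical
  obtain ⟨y, hy⟩ : ∃ y, y = x * twist w (cyc a b c) * x⁻¹ := ⟨_, rfl⟩
  obtain ⟨τ, δ, hτ⟩ := exists_monE hm
  obtain ⟨τ', δ', hτ'⟩ := exists_monE hm'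
  rw [← hy] at hτ hfix
  have hy3 : y * y * y = 1 := by
    rw [hy]
    calc _ = x * twist w (cyc a b c * cyc a b c * cyc a b c) * x⁻¹ := by rw [map_mul, map_mul]; group
      _ = 1 := by rw [cyc_cube hab hac hbc, map_one, mul_one, mul_inv_cancel]
  have hmul : ∀ (σ σ' : Equiv.Perm κ) (e e' : κ → Fˣ),
      monE σ e * monE σ' e' = monE (σ * σ') fun j => e (σ' j) * e' j := fun σ σ' e e' =>
    LinearEquiv.toLinearMap_injective (LinearMap.pi_ext fun j s => by
      show monE σ e (monE σ' e' (Pi.single j s)) = monE (σ * σ') _ (Pi.single j s)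
      simp [monE_single, mul_assoc])
  have hperm : ∀ {σ σ' : Equiv.Perm κ} {e e' : κ → Fˣ}, monE σ e = monE σ' e' → σ = σ' := by
    intro σ σ' e e' h
    refine Equiv.ext fun j => ?_
    have := congrArg (fun g : (κ → F) ≃ₗ[F] (κ → F) => g (Pi.single j (1 : F)) (σ j)) h
    simp only [monE_single, Pi.single_eq_same] at this
    by_contra hne
    rw [Pi.single_eq_of_ne hne] at this
    simp at this
  have hone : (1 : (κ → F) ≃ₗ[F] (κ → F)) = monE 1 1 :=
    LinearEquiv.ext fun v => funext fun j => by simp [monE_apply, Equiv.Perm.one_def]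
  have hτ3 : τ * τ * τ = 1 := by
    rw [hτ, hmul, hmul, hone] at hy3
    exact hperm hy3
  have hτne : τ ≠ 1 := by
    intro h1
    subst h1
    have hdiag : ∀ e e' : κ → Fˣ, monE (1 : Equiv.Perm κ) e * monE 1 e' = monE 1 e' * monE 1 e :=
      fun e e' => by rw [hmul, hmul]; congr 1; funext j; simp [mul_comm]
    obtain ⟨e2, he2⟩ : ∃ e2, monE τ' δ' * monE 1 δ * (monE τ' δ')⁻¹ = monE 1 e2 := by
      refine ⟨fun j => δ (τ'.symm j), mul_inv_eq_iff_eq_mul.mpr ?_⟩
      rw [hmul, hmul, mul_one, one_mul]
      congr 1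
      funext j
      simp [mul_comm]
    have hcomm := hdiag δ e2
    rw [← he2, ← hτ, ← hτ', hy] at hcomm
    have h2 : twist w (cyc a b c * (cyc a b d * cyc a b c * (cyc a b d)⁻¹)) =
        twist w (cyc a b d * cyc a b c * (cyc a b d)⁻¹ * cyc a b c) := by
      apply mul_left_cancel (a := x)
      apply mul_right_cancel (b := x⁻¹)
      simp only [map_mul, map_inv, mul_inv_rev, inv_inv] at hcomm ⊢
      simp only [mul_assoc, inv_mul_cancel_left] at hcomm ⊢
      exact hcomm
    have h3 := congrArg (fun σ : Equiv.Perm κ => σ b) (twist_inj w h2)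
    have e1 : (cyc a b d)⁻¹ b = a := by rw [Equiv.Perm.inv_eq_iff_eq, cyc_a hab had hbd]
    have e2' : (cyc a b d)⁻¹ c = c := by
      rw [Equiv.Perm.inv_eq_iff_eq, cyc_out hac.symm hbc.symm hcd]
    simp only [Equiv.Perm.mul_apply, e1, e2', cyc_a hab hac hbc, cyc_b hab hac hbc,
      cyc_b hab had hbd, cyc_out had.symm hbd.symm hcd.symm, cyc_c hab hac hbc,
      cyc_a hab had hbd] at h3
    exact absurd h3.symm hbd
  obtain ⟨p, hp⟩ : ∃ p, τ p ≠ p := by
    by_contra h
    push Not at h
    exact hτne (Equiv.ext h)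
  have hτ3' : ∀ z, τ (τ (τ z)) = z := fun z => Equiv.congr_fun hτ3 z
  have hqr : τ (τ p) ≠ τ p := fun e => hp (τ.injective e)
  have hpr' : τ (τ p) ≠ p := fun e => hp (by
    have := hτ3' p
    rwa [e] at this)
  obtain ⟨W, hW⟩ : ∃ W, W = Submodule.span F ({x (Pi.single b (w b : F) - Pi.single a (w a : F)),
    x (Pi.single c (w c : F) - Pi.single b (w b : F))} : Set (κ → F)) := ⟨_, rfl⟩
  have hrange : ∀ v, y v - v ∈ W := by
    intro v
    have key : ∀ u : κ → F, twist w (cyc a b c) u - u ∈ Submodule.span F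
        ({Pi.single b (w b : F) - Pi.single a (w a : F),
          Pi.single c (w c : F) - Pi.single b (w b : F)} : Set (κ → F)) := by
      intro u
      obtain ⟨S, hS⟩ : ∃ S, S = Submodule.span F
        ({Pi.single b (w b : F) - Pi.single a (w a : F),
          Pi.single c (w c : F) - Pi.single b (w b : F)} : Set (κ → F)) := ⟨_, rfl⟩
      rw [← hS]
      rw [← Finset.univ_sum_single u, map_sum, ← Finset.sum_sub_distrib]
      refine Submodule.sum_mem _ fun l _ => ?_
      rw [show (Pi.single l (u l) : κ → F) = (u l * (↑(w l)⁻¹ : F)) • Pi.single l (w l : F) by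
        rw [← Pi.single_smul]; simp, map_smul, ← smul_sub, twist_single]
      refine Submodule.smul_mem _ _ ?_
      have hA : Pi.single b (w b : F) - Pi.single a (w a : F) ∈ S :=
        hS ▸ Submodule.subset_span (Set.mem_insert _ _)
      have hB : Pi.single c (w c : F) - Pi.single b (w b : F) ∈ S :=
        hS ▸ Submodule.subset_span (Set.mem_insert_of_mem _ rfl)
      by_cases h1 : l = a
      · subst h1; rw [cyc_a hab hac hbc]; exact hA
      by_cases h2 : l = b
      · subst h2; rw [cyc_b hab hac hbc]; exact hB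
      by_cases h3 : l = c
      · subst h3; rw [cyc_c hab hac hbc]
        convert S.neg_mem (S.add_mem hA hB) using 1
        abel
      rw [cyc_out h1 h2 h3, sub_self]
      exact S.zero_mem
    have h1 : y v - v = x (twist w (cyc a b c) (x.symm v) - x.symm v) := by
      rw [hy, map_sub]; simp [LinearEquiv.mul_apply]
    rw [h1, hW]
    have := Submodule.mem_map_of_mem (f := (x : (κ → F) →ₗ[F] (κ → F))) (key (x.symm v))
    rwa [Submodule.map_span, Set.image_pair] at this
  obtain ⟨zp, hzp⟩ : ∃ z : κ → F, z = Pi.single (τ p) (δ p : F) - Pi.single p 1 := ⟨_, rfl⟩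
  obtain ⟨zq, hzq⟩ : ∃ z : κ → F, z = Pi.single (τ (τ p)) (δ (τ p) : F) - Pi.single (τ p) 1 := ⟨_, rfl⟩
  have hzpW : zp ∈ W := by
    have := hrange (Pi.single p 1)
    rwa [hτ, monE_single, mul_one, ← hzp] at this
  have hzqW : zq ∈ W := by
    have := hrange (Pi.single (τ p) 1)
    rwa [hτ, monE_single, mul_one, ← hzq] at this
  have hli : LinearIndependent F ![zp, zq] := by
    rw [LinearIndependent.pair_iff]
    intro s t h
    have h1 := congrFun h p
    simp [hzp, hzq, Ne.symm hp, hpr'.symm] at h1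
    have h2 := congrFun h (τ (τ p))
    simp [hzp, hzq, hqr, hpr', h1] at h2
    exact ⟨h1, h2⟩
  have hspanW : Submodule.span F (Set.range ![zp, zq]) = W := by
    refine Submodule.eq_of_le_of_finrank_le (Submodule.span_le.mpr ?_) ?_
    · rintro _ ⟨k, rfl⟩; fin_cases k <;> assumption
    · rw [finrank_span_eq_card hli, Fintype.card_fin, hW]
      refine (finrank_span_le_card _).trans ?_
      simp only [Set.toFinset_insert, Set.toFinset_singleton]
      exact Finset.card_le_two
  refine ⟨{p, τ p, τ (τ p)}, ?_, ?_, fun v hv => ?_, fun v hv l hl hvl => ?_⟩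
  · rw [Finset.card_eq_three]
    exact ⟨p, τ p, τ (τ p), hp.symm, hpr'.symm, hqr.symm, rfl⟩
  · have hi : τ i = i := by
      rw [hτ, monE_single] at hfix
      by_contra h
      have := congrFun hfix (τ i)
      simp [Pi.single_eq_of_ne h] at this
    simp only [Finset.mem_insert, Finset.mem_singleton, not_or]
    refine ⟨fun e => hp (e ▸ hi), fun e => hqr (by rw [← e]; exact hi), fun e => ?_⟩
    exact hp (by have := hτ3' p; rw [← e, hi] at this; rw [← this]; exact hi)
  · rw [← hW, ← hspanW, Matrix.range_cons, Matrix.range_cons, Matrix.range_empty, Set.union_empty,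
      ← Set.insert_eq, Submodule.mem_span_pair] at hv
    obtain ⟨s, t, rfl⟩ := hv
    refine ⟨fun l hl => ?_, fun hne => ?_⟩
    · by_contra hn
      simp only [Finset.mem_insert, Finset.mem_singleton, not_or] at hn
      simp [mem_supp, hzp, hzq, hn.1, hn.2.1, hn.2.2] at hl
    · by_contra hlt
      have hval : (s • zp + t • zq) p = -s ∧ (s • zp + t • zq) (τ (τ p)) = t * δ (τ p) ∧
          (s • zp + t • zq) (τ p) = s * δ p - t := by
        refine ⟨?_, ?_, ?_⟩ <;> simp [hzp, hzq, hp, Ne.symm hp, hqr, Ne.symm hqr, hpr', hpr'.symm]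
        ring
      have h1 : ∀ u₁ u₂ : κ, u₁ ≠ u₂ → (s • zp + t • zq) u₁ ≠ 0 → (s • zp + t • zq) u₂ ≠ 0 → False :=
        fun u₁ u₂ hne hu₁ hu₂ => hlt (Finset.one_lt_card.mpr
          ⟨u₁, mem_supp.mpr hu₁, u₂, mem_supp.mpr hu₂, hne⟩)
      by_cases hs : s = 0
      · by_cases ht : t = 0
        · exact hne (by rw [hs, ht, zero_smul, zero_smul, add_zero])
        · exact h1 (τ p) (τ (τ p)) hqr.symm (by rw [hval.2.2, hs]; simpa using ht)
            (by rw [hval.2.1]; exact mul_ne_zero ht (δ (τ p)).ne_zero)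
      · by_cases ht : t = 0
        · exact h1 p (τ p) hp.symm (by rw [hval.1]; exact neg_ne_zero.mpr hs)
            (by rw [hval.2.2, ht]; simp [hs])
        · exact h1 p (τ (τ p)) hpr'.symm (by rw [hval.1]; exact neg_ne_zero.mpr hs)
            (by rw [hval.2.1]; exact mul_ne_zero ht (δ (τ p)).ne_zero)
  · rw [← hy, hτ] at hv
    have step : ∀ z, v z ≠ 0 → v (τ z) ≠ 0 := fun z hz => by
      have := congrFun hv (τ z)
      rw [monE_apply, Equiv.symm_apply_apply] at this
      rw [← this]
      exact mul_ne_zero (δ z).ne_zero hz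
    simp only [Finset.mem_insert, Finset.mem_singleton] at hl
    have hp0 : v p ≠ 0 := by
      rcases hl with rfl | rfl | rfl
      · exact hvl
      · have := step _ (step _ hvl); rwa [hτ3'] at this
      · have := step _ hvl; rwa [hτ3'] at this
    intro z hz
    simp only [Finset.mem_insert, Finset.mem_singleton] at hz
    rw [mem_supp]
    rcases hz with rfl | rfl | rfl
    · exact hp0
    · exact step _ hp0
    · exact step _ (step _ hp0)

/-- Four two-element sets meeting pairwise have a common point. -/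
theorem common_point {β : Type*} {B : Finset β} (hB : 4 ≤ B.card) {E : β → Finset κ}
    (h2 : ∀ b ∈ B, (E b).card = 2) (hint : ∀ b ∈ B, ∀ c ∈ B, b ≠ c → E b ≠ E c ∧ (E b ∩ E c).Nonempty) :
    ∃ p, ∀ b ∈ B, p ∈ E b := by
  classical
  obtain ⟨b, hb, c, hc, hbc⟩ := Finset.one_lt_card.mp (show 1 < B.card by omega)
  obtain ⟨p, hp⟩ := (hint b hb c hc hbc).2
  rw [mem_inter] at hp
  obtain ⟨q, hq⟩ : ∃ q, E b = {p, q} ∧ p ≠ q := by
    obtain ⟨u, v, huv, he⟩ := Finset.card_eq_two.mp (h2 b hb)
    have := hp.1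
    rw [he, Finset.mem_insert, Finset.mem_singleton] at this
    rcases this with rfl | rfl
    · exact ⟨v, he, huv⟩
    · exact ⟨u, by rw [he, Finset.pair_comm], huv.symm⟩
  obtain ⟨r, hr⟩ : ∃ r, E c = {p, r} ∧ p ≠ r := by
    obtain ⟨u, v, huv, he⟩ := Finset.card_eq_two.mp (h2 c hc)
    have := hp.2
    rw [he, Finset.mem_insert, Finset.mem_singleton] at this
    rcases this with rfl | rfl
    · exact ⟨v, he, huv⟩
    · exact ⟨u, by rw [he, Finset.pair_comm], huv.symm⟩
  have hqr : q ≠ r := fun e => (hint b hb c hc hbc).1 (by rw [hq.1, hr.1, e])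
  refine ⟨p, fun d hd => ?_⟩
  by_contra hpd
  have hdb : d ≠ b := fun e => hpd (e ▸ hp.1)
  have hdc : d ≠ c := fun e => hpd (e ▸ hp.2)
  have meet : ∀ f ∈ B, f ≠ b → f ≠ c → p ∉ E f → E f = {q, r} := by
    intro f hf hfb hfc hpf
    obtain ⟨u, hu⟩ := (hint f hf b hb hfb).2
    obtain ⟨v, hv⟩ := (hint f hf c hc hfc).2
    rw [mem_inter, hq.1, Finset.mem_insert, Finset.mem_singleton] at hu
    rw [mem_inter, hr.1, Finset.mem_insert, Finset.mem_singleton] at hv
    have hu' : q ∈ E f := hu.2.elim (fun e => absurd (e ▸ hu.1) hpf) (fun e => e ▸ hu.1)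
    have hv' : r ∈ E f := hv.2.elim (fun e => absurd (e ▸ hv.1) hpf) (fun e => e ▸ hv.1)
    exact (Finset.eq_of_subset_of_card_le (by
      intro z hz; simp only [Finset.mem_insert, Finset.mem_singleton] at hz
      rcases hz with rfl | rfl <;> assumption) (by rw [h2 f hf, Finset.card_pair hqr])).symm
  have hd' := meet d hd hdb hdc hpd
  obtain ⟨f, hf, hf'⟩ := Finset.exists_mem_notMem_of_card_lt_card (s := ({b, c, d} : Finset β))
    (t := B) (by have := Finset.card_le_three (a := b) (b := c) (c := d); omega)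
  simp only [Finset.mem_insert, Finset.mem_singleton, not_or] at hf'
  by_cases hpf : p ∈ E f
  · obtain ⟨u, hu⟩ := (hint f hf d hd hf'.2.2).2
    rw [mem_inter, hd', Finset.mem_insert, Finset.mem_singleton] at hu
    rcases hu with ⟨hu1, rfl | rfl⟩
    · exact (hint f hf b hb hf'.1).1 (by
        rw [hq.1]
        exact (Finset.eq_of_subset_of_card_le (by
          intro z hz; simp only [Finset.mem_insert, Finset.mem_singleton] at hz
          rcases hz with rfl | rfl <;> assumption) (by rw [h2 f hf, Finset.card_pair hq.2])).symm)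
    · exact (hint f hf c hc hf'.2.1).1 (by
        rw [hr.1]
        exact (Finset.eq_of_subset_of_card_le (by
          intro z hz; simp only [Finset.mem_insert, Finset.mem_singleton] at hz
          rcases hz with rfl | rfl <;> assumption) (by rw [h2 f hf, Finset.card_pair hr.2])).symm)
  · exact (hint f hf d hd hf'.2.2).1 ((meet f hf hf'.1 hf'.2.1 hpf).trans hd'.symm)

/-- The structure of an element carrying twisted three-cycles to monomial maps. -/
theorem exists_intertwine {x : (κ → F) ≃ₗ[F] (κ → F)} {w : κ → Fˣ} {i : κ} {R : Finset κ}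
    (hR : 5 ≤ R.card)
    (hy : ∀ a ∈ R, ∀ b ∈ R, ∀ c ∈ R, a ≠ b → a ≠ c → b ≠ c →
      Mono (x * twist w (cyc a b c) * x⁻¹) ∧
        (x * twist w (cyc a b c) * x⁻¹) (Pi.single i 1) = Pi.single i 1) :
    ∃ (ι : κ → κ) (co : κ → F) (D : κ → F), Set.InjOn ι R ∧ (∀ l ∈ R, ι l ≠ i ∧ co l ≠ 0 ∧
      x (Pi.single l (w l : F)) = Pi.single (ι l) (co l) + D) ∧
      ∀ a ∈ R, ∀ b ∈ R, ∀ c ∈ R, a ≠ b → a ≠ c → b ≠ c →
        ∃ P : Finset κ, P.card = 3 ∧ ι a ∈ P ∧
          ∀ v, (x * twist w (cyc a b c) * x⁻¹) v = v → v (ι a) ≠ 0 → P ⊆ supp v := by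
  classical
  have himg : ∀ a ∈ R, ∀ b ∈ R, ∀ c ∈ R, a ≠ b → a ≠ c → b ≠ c → ∃ P, Image x w i a b c P := by
    intro a ha b hb c hc hab hac hbc
    obtain ⟨d, hd, hd'⟩ := Finset.exists_mem_notMem_of_card_lt_card (s := ({a, b, c} : Finset κ))
      (t := R) (by have := Finset.card_le_three (a := a) (b := b) (c := c); omega)
    simp only [Finset.mem_insert, Finset.mem_singleton, not_or] at hd'
    exact exists_image hab hac hbc (Ne.symm hd'.1) (Ne.symm hd'.2.1) (Ne.symm hd'.2.2)
      (hy a ha b hb c hc hab hac hbc).1 (hy a ha b hb d hd hab (Ne.symm hd'.1) (Ne.symm hd'.2.1)).1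
      (hy a ha b hb c hc hab hac hbc).2
  let z : κ → κ → κ → F := fun a b => x (Pi.single a (w a : F) - Pi.single b (w b : F))
  have zadd : ∀ a b c, z a c = z a b + z b c := fun a b c => by
    simp only [z]; rw [← map_add]; congr 1; abel
  have zsp : ∀ {a b c P}, Image x w i a b c P →
      ∀ s t : F, supp (s • z a b + t • z a c) ⊆ P ∧ (s • z a b + t • z a c ≠ 0 → 2 ≤ (supp (s • z a b + t • z a c)).card) := by
    intro a b c P hP s t
    refine hP.span _ (Submodule.mem_span_pair.mpr ⟨-(s + t), -t, ?_⟩)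
    simp only [z, map_sub, neg_smul, add_smul, smul_sub]
    abel
  have zindep : ∀ (T : Finset κ) (a : κ), a ∉ T → ∀ f : κ → F, (∑ b ∈ T, f b • z a b) = 0 →
      ∀ b ∈ T, f b = 0 := by
    intro T a haT f hf b hb
    simp only [z, ← map_smul] at hf
    rw [← map_sum, map_eq_zero_iff x x.injective] at hf
    have := congrFun hf b
    rw [Finset.sum_apply] at this
    rw [Finset.sum_eq_single b] at this
    · simpa [(show b ≠ a from fun e => haT (e ▸ hb)), (w b).ne_zero] using this
    · intro l _ hl
      simp [(show b ≠ a from fun e => haT (e ▸ hb)), Ne.symm hl]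
    · exact fun h => absurd hb h
  have hne0 : ∀ {a b}, a ≠ b → z a b ≠ 0 := fun {a b} hab h => by
    have := zindep {b} a (by simpa using hab) (fun _ => 1) (by simpa using h) b (by simp)
    exact one_ne_zero this
  have h2 : ∀ a ∈ R, ∀ b ∈ R, a ≠ b → (supp (z a b)).card = 2 := by
    intro a ha b hb hab
    obtain ⟨c, hc, hc'⟩ := Finset.exists_mem_notMem_of_card_lt_card (s := ({a, b} : Finset κ))
      (t := R) (by have := Finset.card_le_two (a := a) (b := b); omega)
    simp only [Finset.mem_insert, Finset.mem_singleton, not_or] at hc'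
    obtain ⟨P, hP⟩ := himg a ha b hb c hc hab (Ne.symm hc'.1) (Ne.symm hc'.2)
    have hb2 := zsp hP 1 0
    rw [one_smul, zero_smul, add_zero] at hb2
    refine le_antisymm ?_ (hb2.2 (hne0 hab))
    by_contra h3
    have hsP : supp (z a b) = P := Finset.eq_of_subset_of_card_le hb2.1 (by rw [hP.card]; omega)
    -- then all the differences from `a` live on `P`
    have hall : ∀ l ∈ R, l ≠ a → supp (z a l) ⊆ P := by
      intro l hl hla
      by_cases hlb : l = b
      · subst hlb; exact hb2.1
      obtain ⟨P', hP'⟩ := himg a ha b hb l hl hab (Ne.symm hla) (Ne.symm hlb)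
      have h1 := zsp hP' 1 0
      rw [one_smul, zero_smul, add_zero, hsP] at h1
      have : P = P' := Finset.eq_of_subset_of_card_le h1.1 (by rw [hP.card, hP'.card])
      have h2 := zsp hP' 0 1
      rw [zero_smul, zero_add, one_smul, ← this] at h2
      exact h2.1
    obtain ⟨T, hT, hTc⟩ := Finset.exists_subset_card_eq (s := R.erase a) (n := 4)
      (by rw [card_erase_of_mem ha]; omega)
    let Φ : (T → F) →ₗ[F] (P → F) :=
      { toFun := fun f p => ∑ l : T, f l * z a l p
        map_add' := fun f g => funext fun p => by simp [add_mul, Finset.sum_add_distrib]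
        map_smul' := fun s f => funext fun p => by simp [Finset.mul_sum, mul_assoc] }
    have hinj : Function.Injective Φ := by
      rw [← LinearMap.ker_eq_bot, LinearMap.ker_eq_bot']
      intro f hf
      funext l
      have hv : (∑ m ∈ T, (if h : m ∈ T then f ⟨m, h⟩ else 0) • z a m) = 0 := by
        funext p
        rw [Finset.sum_apply, ← Finset.sum_coe_sort]
        by_cases hp : p ∈ P
        · refine Eq.trans (Finset.sum_congr rfl fun m _ => ?_) (congrFun hf ⟨p, hp⟩)
          simp [m.2]
        · refine Finset.sum_eq_zero fun m _ => ?_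
          have : z a m p = 0 := by
            by_contra h
            have hm := Finset.mem_erase.mp (hT m.2)
            exact hp (hall m hm.2 hm.1 (mem_supp.mpr h))
          simp [this]
      have := zindep T a (fun h => (Finset.mem_erase.mp (hT h)).1 rfl) _ hv l l.2
      simpa [l.2] using this
    have := LinearMap.finrank_le_finrank_of_injective hinj
    simp only [Module.finrank_fintype_fun_eq_card, Fintype.card_coe, hP.card, hTc] at this
    omega
  obtain ⟨a, ha⟩ : R.Nonempty := Finset.card_pos.mp (by omega)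
  obtain ⟨p, hp⟩ := common_point (B := R.erase a) (E := fun b => supp (z a b))
    (by rw [card_erase_of_mem ha]; omega)
    (fun b hb => h2 a ha b (Finset.mem_erase.mp hb).2 (Finset.mem_erase.mp hb).1.symm)
    (fun b hb c hc hbc => by
      rw [Finset.mem_erase] at hb hc
      obtain ⟨P, hP⟩ := himg a ha b hb.2 c hc.2 hb.1.symm hc.1.symm hbc
      have h1 := zsp hP 1 0
      have h1' := zsp hP 0 1
      rw [one_smul, zero_smul, add_zero] at h1
      rw [zero_smul, zero_add, one_smul] at h1'
      have cb := h2 a ha b hb.2 hb.1.symm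
      have cc := h2 a ha c hc.2 hc.1.symm
      refine ⟨fun e => ?_, ?_⟩
      · obtain ⟨u, hu⟩ : (supp (z a b)).Nonempty := Finset.card_pos.mp (by omega)
        have hu' : z a c u ≠ 0 := mem_supp.mp (e ▸ hu)
        have hsub := zsp hP (z a c u) (-(z a b u))
        have hle : supp (z a c u • z a b + -(z a b u) • z a c) ⊆ (supp (z a b)).erase u := by
          intro l hl
          rw [Finset.mem_erase]
          refine ⟨fun e' => ?_, ?_⟩
          · subst e'; simp [mem_supp, mul_comm] at hl
          · by_contra hn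
            have hn' : l ∉ supp (z a c) := e ▸ hn
            simp only [mem_supp, not_not] at hn hn'
            simp [mem_supp, hn, hn'] at hl
        have hzero : z a c u • z a b + -(z a b u) • z a c = 0 := by
          by_contra h0
          have := (hsub.2 h0).trans (card_le_card hle)
          rw [card_erase_of_mem hu] at this
          omega
        have := zindep {b, c} a (by simp [hb.1.symm, hc.1.symm])
          (fun l => if l = b then z a c u else -(z a b u)) (by
            rw [Finset.sum_pair hbc]; simpa [hbc.symm] using hzero) b (by simp)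
        simp [hu'] at this
      · rw [← Finset.card_pos]
        have h3 := Finset.card_union_add_card_inter (supp (z a b)) (supp (z a c))
        have h4 := card_le_card (Finset.union_subset h1.1 h1'.1)
        rw [hP.card] at h4
        omega)
  have hother : ∀ b ∈ R.erase a, ∃ o, o ≠ p ∧ z a b o ≠ 0 ∧
      z a b = Pi.single p (z a b p) + Pi.single o (z a b o) := by
    intro b hb
    have hb' := Finset.mem_erase.mp hb
    have hcard := h2 a ha b hb'.2 hb'.1.symm
    obtain ⟨o, ho⟩ := Finset.card_eq_one.mp (show ((supp (z a b)).erase p).card = 1 by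
      rw [card_erase_of_mem (hp b hb)]; omega)
    have hop : o ∈ (supp (z a b)).erase p := by rw [ho]; simp
    rw [Finset.mem_erase, mem_supp] at hop
    refine ⟨o, hop.1, hop.2, funext fun l => ?_⟩
    by_cases h1 : l = p
    · subst h1; simp [hop.1.symm]
    by_cases h2' : l = o
    · subst h2'; simp [h1]
    · simp only [Pi.add_apply, Pi.single_eq_of_ne h1, Pi.single_eq_of_ne h2', add_zero]
      by_contra hne
      have : l ∈ (supp (z a b)).erase p := Finset.mem_erase.mpr ⟨h1, mem_supp.mpr hne⟩
      rw [ho, Finset.mem_singleton] at this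
      exact h2' this
  choose o ho1 ho2 ho3 using hother
  have hoinj : ∀ b (hb : b ∈ R.erase a) c (hc : c ∈ R.erase a), b ≠ c → o b hb ≠ o c hc ∧ z a b p = z a c p := by
    intro b hb c hc hbc
    have hb' := Finset.mem_erase.mp hb
    have hc' := Finset.mem_erase.mp hc
    have hbc2 := h2 b hb'.2 c hc'.2 hbc
    have hz : z b c = z a c - z a b := by rw [zadd a b c]; abel
    rw [hz] at hbc2
    have hne : o b hb ≠ o c hc := by
      intro e
      have hle : supp (z a c - z a b) ⊆ {p, o c hc} := fun l hl => by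
        by_contra hn
        simp only [Finset.mem_insert, Finset.mem_singleton, not_or] at hn
        rw [mem_supp, Pi.sub_apply, ho3 c hc, ho3 b hb] at hl
        simp [hn.1, hn.2, e] at hl
      obtain ⟨P, hP⟩ := himg a ha b hb'.2 c hc'.2 hb'.1.symm hc'.1.symm hbc
      have hv := zsp hP (z a c p) (-(z a b p))
      have hzero : z a c p • z a b + -(z a b p) • z a c = 0 := by
        by_contra h0
        refine absurd (hv.2 h0) (not_le.mpr (lt_of_le_of_lt (card_le_card (t := {o c hc}) fun l hl => ?_) (by simp)))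
        rw [Finset.mem_singleton]
        by_contra hn
        rw [mem_supp, Pi.add_apply, Pi.smul_apply, Pi.smul_apply, ho3 c hc, ho3 b hb] at hl
        by_cases hlp : l = p
        · subst hlp; simp [(ho1 c hc).symm, (ho1 b hb).symm, mul_comm] at hl
        · simp [hlp, e, hn] at hl
      have := zindep {b, c} a (by simp [hb'.1.symm, hc'.1.symm])
        (fun l => if l = b then z a c p else -(z a b p)) (by
          rw [Finset.sum_pair hbc]; simpa [hbc.symm] using hzero) b (by simp)
      simp [mem_supp.mp (hp c hc)] at this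
    refine ⟨hne, ?_⟩
    by_contra hpne
    have hsub : ({p, o b hb, o c hc} : Finset κ) ⊆ supp (z a c - z a b) := by
      intro l hl
      simp only [Finset.mem_insert, Finset.mem_singleton] at hl
      rw [mem_supp, Pi.sub_apply, ho3 c hc, ho3 b hb]
      rcases hl with rfl | rfl | rfl
      · simp [(ho1 c hc).symm, (ho1 b hb).symm, sub_eq_zero, Ne.symm hpne]
      · simp [ho1 b hb, hne, ho2 b hb]
      · simp [ho1 c hc, Ne.symm hne, ho2 c hc]
    have := card_le_card hsub
    rw [hbc2, Finset.card_eq_three.mpr ⟨p, o b hb, o c hc, (ho1 b hb).symm, (ho1 c hc).symm, hne, rfl⟩] at this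
    omega
  obtain ⟨b₀, hb₀⟩ : (R.erase a).Nonempty := Finset.card_pos.mp (by rw [card_erase_of_mem ha]; omega)
  obtain ⟨α, hα⟩ : ∃ α, α = z a b₀ p := ⟨_, rfl⟩
  have hαall : ∀ b (hb : b ∈ R.erase a), z a b p = α := fun b hb => by
    by_cases h : b = b₀
    · rw [h, hα]
    · rw [hα]; exact (hoinj b hb b₀ hb₀ h).2
  let ι : κ → κ := fun l => if h : l ∈ R.erase a then o l h else p
  let co : κ → F := fun l => if h : l ∈ R.erase a then -(z a l (o l h)) else α
  let D : κ → F := x (Pi.single a (w a : F)) - Pi.single p α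
  have hform : ∀ l ∈ R, co l ≠ 0 ∧ x (Pi.single l (w l : F)) = Pi.single (ι l) (co l) + D := by
    intro l hl
    by_cases h : l ∈ R.erase a
    · simp only [ι, co, dif_pos h]
      refine ⟨neg_ne_zero.mpr (ho2 l h), ?_⟩
      have := ho3 l h
      obtain ⟨ζ, hζ⟩ : ∃ ζ, ζ = z a l (o l h) := ⟨_, rfl⟩
      rw [hαall l h, ← hζ] at this
      rw [← hζ]
      have e : z a l = x (Pi.single a (w a : F)) - x (Pi.single l (w l : F)) := map_sub x _ _
      rw [e] at this
      rw [Pi.single_neg]
      show _ = -_ + (x (Pi.single a (w a : F)) - Pi.single p α)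
      rw [sub_eq_iff_eq_add] at this
      conv_rhs => rw [this]
      abel
    · have hla : l = a := by
        by_contra hne; exact h (Finset.mem_erase.mpr ⟨hne, hl⟩)
      subst hla
      simp only [ι, co, dif_neg h, D, add_sub_cancel, and_true]
      rw [hα]
      exact mem_supp.mp (hp b₀ hb₀)
  have hinj : Set.InjOn ι R := by
    intro l hl m hm e
    by_cases h : l ∈ R.erase a <;> by_cases h' : m ∈ R.erase a <;> simp only [ι, dif_pos, dif_neg, h, h', not_false_iff] at e
    · by_contra hne; exact (hoinj l h m h' hne).1 e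
    · exact absurd e (ho1 l h)
    · exact absurd e.symm (ho1 m h')
    · rw [Finset.mem_erase, not_and_or] at h h'
      rw [not_not.mp (h.resolve_right (not_not.mpr hl)), not_not.mp (h'.resolve_right (not_not.mpr hm))]
  have hmemP : ∀ {u v c P}, u ∈ R → v ∈ R → u ≠ v → Image x w i u v c P → ι u ∈ P := by
    intro u v c P hu hv huv hP
    refine (zsp hP 1 0).1 ?_
    have hne : ι u ≠ ι v := fun e => huv (hinj hu hv e)
    rw [mem_supp, one_smul, zero_smul, add_zero]
    simp only [z, map_sub, (hform u hu).2, (hform v hv).2]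
    simp [hne, (hform u hu).1]
  refine ⟨ι, co, D, hinj, fun l hl => ⟨fun e => ?_, hform l hl⟩, fun u hu v hv c hc huv huc hvc => ?_⟩
  · obtain ⟨v, hv, hv'⟩ := Finset.exists_mem_notMem_of_card_lt_card (s := ({l} : Finset κ)) (t := R)
      (by simp; omega)
    obtain ⟨c, hc, hc'⟩ := Finset.exists_mem_notMem_of_card_lt_card (s := ({l, v} : Finset κ))
      (t := R) (by have := Finset.card_le_two (a := l) (b := v); omega)
    simp only [Finset.mem_insert, Finset.mem_singleton, not_or] at hv' hc'
    obtain ⟨P, hP⟩ := himg l hl v hv c hc (Ne.symm hv') (Ne.symm hc'.1) (Ne.symm hc'.2)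
    exact hP.notMem (e ▸ hmemP hl hv (Ne.symm hv') hP)
  · obtain ⟨P, hP⟩ := himg u hu v hv c hc huv huc hvc
    exact ⟨P, hP.card, hmemP hu hv huv hP, fun y hfix hy => hP.fixed y hfix _ (hmemP hu hv huv hP) hy⟩

section Orbit

variable [Fintype F] {K : Subgroup ((κ → F) ≃ₗ[F] (κ → F))}

/-- The vectors in the orbit of the coordinate vectors. -/
def Orb (K : Subgroup ((κ → F) ≃ₗ[F] (κ → F))) (v : κ → F) : Prop :=
  ∃ g ∈ K, ∃ i, g (Pi.single i 1) = v

theorem Orb.map {v : κ → F} (h : Orb K v) {g : (κ → F) ≃ₗ[F] (κ → F)} (hg : g ∈ K) :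
    Orb K (g v) := by
  obtain ⟨k, hk, i, rfl⟩ := h
  exact ⟨g * k, K.mul_mem hg hk, i, rfl⟩

theorem exists_mono_moving (hH : ∀ g, Mono g → LinearEquiv.det g = 1 → g ∈ K) {v v' : κ → F}
    (hcard : (supp v).card = (supp v').card) (hlt : (supp v).card < Fintype.card κ) :
    ∃ g ∈ K, Mono g ∧ g v = v' := by
  classical
  obtain ⟨e⟩ : Nonempty ({l // l ∈ supp v} ≃ {l // l ∈ supp v'}) :=
    ⟨Finset.equivOfCardEq hcard⟩
  let σ : Equiv.Perm κ := e.extendSubtype
  have hσ : ∀ l, l ∈ supp v ↔ σ l ∈ supp v' := fun l => by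
    by_cases h : l ∈ supp v
    · exact iff_of_true h (Equiv.extendSubtype_mem e l h)
    · exact iff_of_false h (Equiv.extendSubtype_not_mem e l h)
  let c : κ → Fˣ := fun l => if h : l ∈ supp v then
    Units.mk0 (v' (σ l)) (mem_supp.mp ((hσ l).mp h)) / Units.mk0 (v l) (mem_supp.mp h) else 1
  obtain ⟨z, hz⟩ : ∃ z, z ∉ supp v := by
    by_contra h
    push Not at h
    rw [Finset.eq_univ_of_forall h, Finset.card_univ] at hlt
    omega
  have hM : monE σ c v = v' := funext fun l => by
    rw [monE_apply]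
    by_cases h : σ.symm l ∈ supp v
    · simp only [c, dif_pos h, Units.val_div_eq_div_val, Units.val_mk0, Equiv.apply_symm_apply]
      exact div_mul_cancel₀ _ (mem_supp.mp h)
    · have h1 : v (σ.symm l) = 0 := by simpa [mem_supp] using h
      have h2 : v' l = 0 := by
        have := mt (hσ (σ.symm l)).mpr h
        simpa [mem_supp] using this
      rw [h1, h2, mul_zero]
  refine ⟨monE σ c * dil z (LinearEquiv.det (monE σ c))⁻¹, hH _ ((monE_mono σ c).mul (monE_mono _ _)) ?_,
    (monE_mono σ c).mul (monE_mono _ _), ?_⟩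
  · rw [map_mul, show LinearEquiv.det (dil z (LinearEquiv.det (monE σ c))⁻¹) = (LinearEquiv.det (monE σ c))⁻¹ from
      Units.ext (by rw [LinearEquiv.coe_det, dil_det]), mul_inv_cancel]
  · show monE σ c (dil z _ v) = v'
    rw [dil_apply, show v z = 0 by simpa [mem_supp] using hz, mul_zero, zero_smul, add_zero, hM]

theorem Orb.move (hH : ∀ g, Mono g → LinearEquiv.det g = 1 → g ∈ K) {v v' : κ → F} (h : Orb K v)
    (hcard : (supp v).card = (supp v').card) (hlt : (supp v).card < Fintype.card κ) : Orb K v' := by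
  obtain ⟨g, hg, -, rfl⟩ := exists_mono_moving hH hcard hlt
  exact h.map hg

/-- Prescribed sum with prescribed cancellations. -/
theorem exists_coeff (h5 : 5 ≤ Fintype.card F) {R M : Finset κ} (hM : M ⊆ R) (hfree : M.card + 2 ≤ R.card)
    (bad : κ → F) (hbad : ∀ l ∈ M, bad l ≠ 0) :
    ∃ u : κ → F, (∀ l ∈ R, u l ≠ 0) ∧ (∀ l, l ∉ R → u l = 0) ∧ ∑ l ∈ R, u l = 1 ∧
      ∀ l ∈ R, (u l = bad l ↔ l ∈ M) := by
  classical
  have hθ : ∀ l, ∃ θ : F, θ ≠ 0 ∧ θ ≠ bad l := fun l => by
    obtain ⟨θ, -, hθ⟩ := Finset.exists_mem_notMem_of_card_lt_card (s := ({0, bad l} : Finset F))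
      (t := Finset.univ) (by rw [Finset.card_univ]; have := Finset.card_le_two (a := (0 : F)) (b := bad l); omega)
    simp only [Finset.mem_insert, Finset.mem_singleton, not_or] at hθ
    exact ⟨θ, hθ⟩
  choose θ hθ0 hθb using hθ
  obtain ⟨p, hp, q, hq, hpq⟩ := Finset.one_lt_card.mp (show 1 < (R \ M).card by
    rw [Finset.card_sdiff_of_subset hM]; omega)
  rw [Finset.mem_sdiff] at hp hq
  let u0 : κ → F := fun l => if l ∈ M then bad l else θ l
  obtain ⟨τ, hτ⟩ : ∃ τ, τ = 1 - ∑ l ∈ (R.erase p).erase q, u0 l := ⟨_, rfl⟩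
  obtain ⟨A, -, hA⟩ := Finset.exists_mem_notMem_of_card_lt_card
    (s := ({0, bad p, τ, τ - bad q} : Finset F)) (t := Finset.univ) (by
      rw [Finset.card_univ]; have := Finset.card_le_four (a := (0 : F)) (b := bad p) (c := τ) (d := τ - bad q)
      omega)
  simp only [Finset.mem_insert, Finset.mem_singleton, not_or] at hA
  let u : κ → F := fun l => if l ∉ R then 0 else if l = p then A else if l = q then τ - A else u0 l
  have hval : ∀ l ∈ R, l ≠ p → l ≠ q → u l = u0 l := fun l hl h1 h2 => by simp [u, hl, h1, h2]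
  have hup : u p = A := by simp [u, hp.1]
  have huq : u q = τ - A := by simp [u, hq.1, hpq.symm]
  refine ⟨u, fun l hl => ?_, fun l hl => by simp [u, hl], ?_, fun l hl => ?_⟩
  · by_cases h1 : l = p
    · subst h1; rw [hup]; exact hA.1
    by_cases h2 : l = q
    · subst h2; rw [huq]; exact sub_ne_zero.mpr (Ne.symm hA.2.2.1)
    rw [hval l hl h1 h2]
    simp only [u0]
    split_ifs with h
    · exact hbad l h
    · exact hθ0 l
  · rw [← Finset.add_sum_erase _ _ hp.1, ← Finset.add_sum_erase _ _
      (Finset.mem_erase.mpr ⟨hpq.symm, hq.1⟩), hup, huq,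
      Finset.sum_congr rfl fun l hl => hval l (Finset.mem_erase.mp (Finset.mem_erase.mp hl).2).2
        (Finset.mem_erase.mp (Finset.mem_erase.mp hl).2).1 (Finset.mem_erase.mp hl).1, hτ]
    ring
  · by_cases h1 : l = p
    · subst h1; rw [hup]; exact iff_of_false hA.2.1 hp.2
    by_cases h2 : l = q
    · subst h2; rw [huq]
      refine iff_of_false (fun e => hA.2.2.2 ?_) hq.2
      rw [← e]; ring
    rw [hval l hl h1 h2]
    simp only [u0]
    split_ifs with h
    · exact iff_of_true rfl h
    · exact iff_of_false (hθb l) h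

variable (h5 : 5 ≤ Fintype.card F) (h13 : 6 ≤ Fintype.card κ)
  (hdet : ∀ g ∈ K, LinearEquiv.det g = 1)
  (hH : ∀ g, Mono g → LinearEquiv.det g = 1 → g ∈ K)
  (hline : ∀ g ∈ K, ∀ i, (∀ k, k ≠ i → g (Pi.single i 1) k = 0) → Mono g)

include hH hline in
theorem cycle_images {v : κ → F} {x : (κ → F) ≃ₗ[F] (κ → F)} {i : κ} (hx : x ∈ K)
    (hxv : x v = Pi.single i 1) {w : κ → Fˣ} (hw : ∀ l ∈ supp v, (w l : F) = v l) {a b c : κ}
    (hsupp : ∀ l, cyc a b c l ∈ supp v ↔ l ∈ supp v) :
    Mono (x * twist w (cyc a b c) * x⁻¹) ∧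
      (x * twist w (cyc a b c) * x⁻¹) (Pi.single i 1) = Pi.single i 1 := by
  have hfixv : twist w (cyc a b c) v = v := funext fun l => by
    show monE _ _ v l = v l
    rw [monE_apply, Equiv.apply_symm_apply]
    have hiff := hsupp ((cyc a b c).symm l)
    rw [Equiv.apply_symm_apply] at hiff
    by_cases h : l ∈ supp v
    · rw [Units.val_div_eq_div_val, hw l h, hw _ (hiff.mp h)]
      exact div_mul_cancel₀ _ (mem_supp.mp (hiff.mp h))
    · rw [show v ((cyc a b c).symm l) = 0 by simpa [mem_supp] using mt hiff.mpr h, mul_zero]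
      simpa [mem_supp, eq_comm] using h
  have hfix : (x * twist w (cyc a b c) * x⁻¹) (Pi.single i 1) = Pi.single i 1 := by
    show x (twist w (cyc a b c) (x.symm (Pi.single i 1))) = _
    rw [← hxv, LinearEquiv.symm_apply_apply, hfixv]
  refine ⟨hline _ (K.mul_mem (K.mul_mem hx (hH _ (twist_mono _ _) (twist_cyc_det _ _ _ _))) (K.inv_mem hx)) i
    (fun k hk => by rw [hfix, Pi.single_eq_of_ne hk]), hfix⟩

include h5 h13 in
/-- A diagonal element with two moved coordinates whose conjugate is monomial. -/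
theorem pair_eigen {x : (κ → F) ≃ₗ[F] (κ → F)} {a b : κ} (hab : a ≠ b) {c : Fˣ} (hc2 : c ^ 2 ≠ 1)
    (hc3 : c ^ 3 ≠ 1) (hy : Mono (x * (dil a c * dil b c⁻¹) * x⁻¹)) :
    (∃ p, ∀ k, k ≠ p → x (Pi.single a 1) k = 0) ∨ (∃ p, ∀ k, k ≠ p → x (Pi.single b 1) k = 0) ∨
      (c ^ 4 = 1 ∧ ∃ p q, p ≠ q ∧ supp (x (Pi.single a 1)) = {p, q} ∧ supp (x (Pi.single b 1)) = {p, q}) := by
  classical
  obtain ⟨d, hd⟩ : ∃ d, d = dil a c * dil b c⁻¹ := ⟨_, rfl⟩
  rw [← hd] at hy
  obtain ⟨τ, δ, hyx⟩ := exists_monE hy
  have hc0 : (c : F) ≠ 0 := c.ne_zero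
  have hcc : (c : F) * c ≠ 1 := fun e => hc2 (Units.ext (by rw [Units.val_pow_eq_pow_val, Units.val_one, sq, e]))
  have hc1 : (c : F) ≠ 1 := fun e => hcc (by rw [e, one_mul])
  have hinv : (c : F)⁻¹ ≠ c := fun e => hcc (by
    conv_lhs => arg 1; rw [← e]
    exact inv_mul_cancel₀ hc0)
  have hdl : ∀ (v : κ → F) (l : κ), d v l = (if l = a then (c : F) else if l = b then (c : F)⁻¹ else 1) * v l := by
    intro v l
    rw [hd, LinearEquiv.mul_apply, dil_apply, dil_apply b]
    by_cases ha : l = a
    · subst ha; simp [hab]; ring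
    by_cases hb : l = b
    · subst hb; simp [ha]; ring
    simp [ha, hb]
  obtain ⟨T, hT⟩ : ∃ T, T = 1 + (c : F) + (c : F)⁻¹ := ⟨_, rfl⟩
  have hd3 : ∀ v, d (d (d v)) - T • d (d v) + T • d v - v = 0 := fun v => funext fun l => by
    simp only [Pi.add_apply, Pi.sub_apply, Pi.smul_apply, smul_eq_mul, hdl, Pi.zero_apply, hT]
    split_ifs <;> field_simp <;> ring
  have hyv : ∀ v, monE τ δ (x v) = x (d v) := fun v => by
    rw [← hyx]
    show x (d (x.symm (x v))) = _
    rw [LinearEquiv.symm_apply_apply]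
  have hy3 : ∀ v, monE τ δ (monE τ δ (monE τ δ v)) - T • monE τ δ (monE τ δ v) + T • monE τ δ v - v = 0 := by
    intro v
    obtain ⟨u, rfl⟩ := x.surjective v
    have := congrArg x (hd3 u)
    simpa only [hyv, map_smul, map_add, map_sub, map_zero] using this
  have hperm : ∀ j, τ j = j ∨ ((c : F) * c = -1 ∧ τ (τ j) = j ∧ (δ j : F) * δ (τ j) = -1) := by
    intro j
    by_cases h1 : τ j = j
    · exact Or.inl h1
    right
    have h := hy3 (Pi.single j 1)
    simp only [monE_single, mul_one] at h
    have h2' : τ (τ j) ≠ τ j := fun e => h1 (τ.injective e)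
    by_cases h2 : τ (τ j) = j
    · rw [h2] at h
      have e1 := congrFun h (τ j)
      have e2 := congrFun h j
      simp [h1, Ne.symm h1] at e1 e2
      have e3 : (δ j : F) * ((δ (τ j) : F) * δ j + T) = 0 := by linear_combination e1
      have e4 : (δ (τ j) : F) * δ j = -T := by
        linear_combination (mul_eq_zero.mp e3).resolve_left (δ j).ne_zero
      have e5 : (T - 1) * (T + 1) = 0 := by linear_combination e2 + T * e4
      have hq : ((c : F) + 1) * ((c : F) + 1) ≠ 0 := fun e => hcc (by
        rw [eq_neg_of_add_eq_zero_left (mul_self_eq_zero.mp e)]; ring)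
      rcases mul_eq_zero.mp e5 with e | e
      · refine ⟨?_, h2, by linear_combination e4 - e⟩
        rw [hT] at e
        field_simp at e
        linear_combination e
      · exfalso
        apply hq
        rw [hT] at e
        field_simp at e
        linear_combination e
    · have h3' : τ (τ (τ j)) ≠ τ (τ j) := fun e => h2' (τ.injective e)
      have h3'' : τ (τ (τ j)) ≠ τ j := fun e => h2 (τ.injective e)
      exfalso
      by_cases h3 : τ (τ (τ j)) = j
      · rw [h3] at h
        have e1 := congrFun h (τ j)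
        simp [h1, Ne.symm h1, h2', Ne.symm h2'] at e1
        refine hc3 (Units.ext ?_)
        rw [hT] at e1
        field_simp at e1
        rw [Units.val_pow_eq_pow_val, Units.val_one]
        linear_combination ((c : F) - 1) * e1
      · have e1 := congrFun h (τ (τ (τ j)))
        simp [h3, h3', h3''] at e1
  have heig : ∀ (e : F) (r : κ), (∀ l, l ≠ r → (if l = a then (c : F) else if l = b then (c : F)⁻¹ else 1) ≠ e) →
      ∀ z, monE τ δ z = e • z → ∀ k, x (Pi.single r 1) k = 0 → z k = 0 := by
    intro e r hr z hz k hk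
    obtain ⟨u, rfl⟩ := x.surjective z
    rw [hyv, ← map_smul] at hz
    have hu : u = u r • Pi.single r 1 := funext fun l => by
      by_cases hl : l = r
      · subst hl; simp
      · have := congrFun (x.injective hz) l
        rw [hdl, Pi.smul_apply, smul_eq_mul, mul_eq_mul_right_iff] at this
        rw [Pi.smul_apply, Pi.single_eq_of_ne hl, smul_zero]
        exact this.resolve_left (hr l hl)
    rw [hu, map_smul, Pi.smul_apply, hk, smul_zero]
  have hra : ∀ l, l ≠ a → (if l = a then (c : F) else if l = b then (c : F)⁻¹ else 1) ≠ c := fun l hl => by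
    rw [if_neg hl]; split_ifs
    · exact hinv
    · exact Ne.symm hc1
  have hrb : ∀ l, l ≠ b → (if l = a then (c : F) else if l = b then (c : F)⁻¹ else 1) ≠ (c : F)⁻¹ := fun l hl => by
    split_ifs
    · exact Ne.symm hinv
    · exact fun e => hc1 (inv_eq_one.mp e.symm)
  have hua : monE τ δ (x (Pi.single a 1)) = (c : F) • x (Pi.single a 1) := by
    rw [hyv, ← map_smul]; congr 1; funext l; rw [hdl]
    by_cases hl : l = a
    · subst hl; simp
    · simp [hl]
  obtain ⟨p, hp⟩ : ∃ p, x (Pi.single a 1) p ≠ 0 := by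
    by_contra hcon
    push Not at hcon
    have : x (Pi.single a 1) = 0 := funext hcon
    simp at this
  have huse : ∀ (e : F) (r : κ) (z : κ → F), (∀ l, l ≠ r → (if l = a then (c : F) else if l = b then (c : F)⁻¹ else 1) ≠ e) →
      monE τ δ (x (Pi.single r 1)) = e • x (Pi.single r 1) → monE τ δ z = e • z → z ≠ 0 →
      supp (x (Pi.single r 1)) = supp z := by
    intro e r z hr hx hz hz0
    obtain ⟨u, rfl⟩ := x.surjective z
    have hu : u = u r • Pi.single r 1 := funext fun l => by
      by_cases hl : l = r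
      · subst hl; simp
      · have hz' := hz
        rw [hyv, ← map_smul] at hz'
        have := congrFun (x.injective hz') l
        rw [hdl, Pi.smul_apply, smul_eq_mul, mul_eq_mul_right_iff] at this
        rw [Pi.smul_apply, Pi.single_eq_of_ne hl, smul_zero]
        exact this.resolve_left (hr l hl)
    have hur : u r ≠ 0 := fun e => hz0 (by rw [hu, e, zero_smul, map_zero])
    ext l
    rw [mem_supp, mem_supp, hu, map_smul, Pi.smul_apply, smul_eq_mul]
    simp [hur]
  by_cases hτp : τ p = p
  · refine Or.inl ⟨p, fun k hk => ?_⟩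
    have hδp : (δ p : F) = c := by
      have := congrFun hua p
      rw [monE_apply, (Equiv.symm_apply_eq τ).mpr hτp.symm, Pi.smul_apply, smul_eq_mul] at this
      exact mul_right_cancel₀ hp this
    have h := huse c a (Pi.single p 1) hra hua
      (by rw [monE_single, hτp, hδp, mul_one, ← Pi.single_smul, smul_eq_mul, mul_one]) (by simp)
    by_contra hne
    have h' := h ▸ mem_supp.mpr hne
    rw [mem_supp, Pi.single_eq_of_ne hk] at h'
    exact h' rfl
  obtain ⟨hcm, hτ2, hδ⟩ := (hperm p).resolve_left hτp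
  refine Or.inr (Or.inr ⟨Units.ext ?_, p, τ p, Ne.symm hτp, ?_, ?_⟩)
  · rw [Units.val_pow_eq_pow_val, Units.val_one]
    linear_combination ((c : F) * c - 1) * hcm
  all_goals
    have hpair : ∀ e : F, e * e = -1 → monE τ δ (Pi.single p 1 + ((δ p : F) / e) • Pi.single (τ p) 1) =
        e • (Pi.single p 1 + ((δ p : F) / e) • Pi.single (τ p) 1) ∧
        supp (Pi.single p 1 + ((δ p : F) / e) • Pi.single (τ p) 1 : κ → F) = {p, τ p} := by
      intro e he
      have he0 : e ≠ 0 := fun h => by rw [h, mul_zero] at he; exact one_ne_zero (neg_eq_zero.mp he.symm)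
      refine ⟨funext fun l => ?_, ?_⟩
      · simp only [map_add, map_smul, monE_single, mul_one, hτ2, Pi.add_apply, Pi.smul_apply, smul_eq_mul,
          Pi.single_apply]
        by_cases h1 : l = p
        · subst h1
          simp [Ne.symm hτp]
          field_simp
          linear_combination hδ - he
        by_cases h2 : l = τ p
        · subst h2; simp [hτp]; field_simp
        simp [h1, h2]
      · ext l
        rw [mem_supp, Finset.mem_insert, Finset.mem_singleton, Pi.add_apply, Pi.smul_apply, smul_eq_mul]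
        by_cases h1 : l = p
        · subst h1; simp [Ne.symm hτp]
        by_cases h2 : l = τ p
        · subst h2; simp [hτp, he0]
        simp [h1, h2]
  · obtain ⟨h1, h2⟩ := hpair c hcm
    rw [← h2]
    refine huse c a _ hra hua h1 fun e => ?_
    have := congrFun e p
    simp [Ne.symm hτp] at this
  · obtain ⟨h1, h2⟩ := hpair (c : F)⁻¹ (by rw [← mul_inv, hcm, inv_neg, inv_one])
    rw [← h2]
    refine huse _ b _ hrb ?_ h1 fun e => ?_
    · rw [hyv, ← map_smul]; congr 1; funext l; rw [hdl]
      by_cases hl : l = b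
      · subst hl; simp [Ne.symm hab]
      · simp [hl]
    · have := congrFun e p
      simp [Ne.symm hτp] at this

include h5 h13 hdet hH hline in
theorem all_mono : ∀ g ∈ K, Mono g := by
  classical
  set n := Fintype.card κ with hn
  have hw : ∀ v : κ → F, ∃ w : κ → Fˣ, ∀ l ∈ supp v, (w l : F) = v l := fun v =>
    ⟨fun l => if h : v l ≠ 0 then Units.mk0 (v l) h else 1, fun l hl => by
      simp only [dif_pos (mem_supp.mp hl), Units.val_mk0]⟩
  have hpres : ∀ (v : κ → F), ∀ a ∈ supp v, ∀ b ∈ supp v, ∀ c ∈ supp v, a ≠ b → a ≠ c → b ≠ c →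
      ∀ l, cyc a b c l ∈ supp v ↔ l ∈ supp v := by
    intro v a ha b hb c hc hab hac hbc l
    by_cases h1 : l = a
    · subst h1; rw [cyc_a hab hac hbc]; exact iff_of_true hb ha
    by_cases h2 : l = b
    · subst h2; rw [cyc_b hab hac hbc]; exact iff_of_true hc hb
    by_cases h3 : l = c
    · subst h3; rw [cyc_c hab hac hbc]; exact iff_of_true ha hc
    rw [cyc_out h1 h2 h3]
  have hfull : ∀ v, Orb K v → (supp v).card < n := by
    intro v hv
    by_contra hge
    have hS : supp v = Finset.univ := Finset.eq_univ_of_card _ (le_antisymm (Finset.card_le_univ _) (by omega))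
    obtain ⟨g, hg, i, hgi⟩ := hv
    obtain ⟨w, hwv⟩ := hw v
    obtain ⟨ι, co, D, hinj, hl, -⟩ := exists_intertwine (x := g⁻¹) (w := w) (i := i) (R := supp v)
      (by rw [hS, Finset.card_univ]; omega) fun a ha b hb c hc hab hac hbc =>
        cycle_images hH hline (K.inv_mem hg) (by rw [← hgi]; exact g.symm_apply_apply _) hwv
          (hpres v a ha b hb c hc hab hac hbc)
    rw [hS] at hinj hl
    obtain ⟨l, hl'⟩ := (Finite.injective_iff_surjective.mp
      (fun a b e => hinj (Finset.mem_coe.mpr (Finset.mem_univ a)) (Finset.mem_coe.mpr (Finset.mem_univ b)) e)) i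
    exact (hl l (Finset.mem_univ l)).1 hl'
  -- no vector with exactly one zero coordinate
  have htop : ∀ v, Orb K v → (supp v).card + 1 ≠ n := by
    intro v hv hk
    have hkn := hfull v hv
    obtain ⟨g, hg, i, hgi⟩ := id hv
    obtain ⟨w, hwv⟩ := hw v
    have hxv : g⁻¹ v = Pi.single i 1 := by rw [← hgi]; exact g.symm_apply_apply _
    obtain ⟨ι, co, D, hinj, hl, -⟩ := exists_intertwine (x := g⁻¹) (w := w) (i := i) (R := supp v) (by omega)
      fun a ha b hb c hc hab hac hbc =>
        cycle_images hH hline (K.inv_mem hg) hxv hwv (hpres v a ha b hb c hc hab hac hbc)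
    have himage : ∀ u : κ → F, (∀ l, l ∉ supp v → u l = 0) →
        g⁻¹ (fun l => u l * (w l : F)) =
          (fun p => ∑ l ∈ supp v, if ι l = p then u l * co l else 0) + (∑ l ∈ supp v, u l) • D := by
      intro u hu
      rw [show (fun l => u l * (w l : F)) = ∑ l ∈ supp v, u l • Pi.single l (w l : F) from funext fun p => by
        rw [Finset.sum_apply]
        simp only [Pi.smul_apply, Pi.single_apply, smul_eq_mul, mul_ite, mul_zero, Finset.sum_ite_eq]
        split_ifs with h
        · rfl
        · rw [hu p h, zero_mul], map_sum]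
      rw [Finset.sum_congr rfl fun l hlR => by rw [map_smul, (hl l hlR).2.2, smul_add],
        Finset.sum_add_distrib, ← Finset.sum_smul]
      congr 1
      funext p
      rw [Finset.sum_apply]
      refine Finset.sum_congr rfl fun l _ => ?_
      simp [Pi.single_apply, eq_comm]
    have hiim : i ∉ (supp v).image ι := fun h => by
      obtain ⟨l, hlR, e⟩ := Finset.mem_image.mp h
      exact (hl l hlR).1 e
    have himv : (supp v).image ι = Finset.univ.erase i := Finset.eq_of_subset_of_card_le
      (fun p hp => Finset.mem_erase.mpr ⟨fun e => hiim (e ▸ hp), Finset.mem_univ _⟩)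
      (by rw [Finset.card_erase_of_mem (Finset.mem_univ i), Finset.card_univ, Finset.card_image_of_injOn hinj]; omega)
    have hat : ∀ u : κ → F, (∀ l, l ∉ supp v → u l = 0) → ∀ l ∈ supp v,
        g⁻¹ (fun l => u l * (w l : F)) (ι l) = u l * co l + (∑ l ∈ supp v, u l) * D (ι l) := by
      intro u hu l hlR
      rw [himage u hu, Pi.add_apply, Pi.smul_apply, smul_eq_mul, Finset.sum_eq_single l, if_pos rfl]
      · intro m hm hml; rw [if_neg fun e => hml (hinj hm hlR e)]
      · exact fun h => absurd hlR h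
    have hati : ∀ u : κ → F, (∀ l, l ∉ supp v → u l = 0) →
        g⁻¹ (fun l => u l * (w l : F)) i = (∑ l ∈ supp v, u l) * D i := by
      intro u hu
      rw [himage u hu, Pi.add_apply, Pi.smul_apply, smul_eq_mul, Finset.sum_eq_zero fun m hm => ?_, zero_add]
      rw [if_neg fun e => hiim (Finset.mem_image.mpr ⟨m, hm, e⟩)]
    have hv1 : (fun l => (if l ∈ supp v then (1 : F) else 0) * (w l : F)) = v := funext fun l => by
      split_ifs with h
      · rw [one_mul, hwv l h]
      · rw [zero_mul]; simpa [mem_supp, eq_comm] using h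
    have hDi : D i ≠ 0 := fun e => by
      have := hati (fun l => if l ∈ supp v then (1 : F) else 0) fun l h => if_neg h
      rw [hv1, hxv, e, mul_zero, Pi.single_eq_same] at this
      exact one_ne_zero this
    obtain ⟨u, hu0, huR, husum, hubad⟩ := exists_coeff h5 (R := supp v) (M := ∅) (Finset.empty_subset _)
      (by simp; omega) (fun l => -(D (ι l)) / co l) (by simp)
    have hO : Orb K (g⁻¹ fun l => u l * (w l : F)) := by
      refine Orb.map (Orb.move hH hv ?_ hkn) (K.inv_mem hg)
      congr 1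
      ext l
      simp only [mem_supp]
      by_cases h : l ∈ supp v
      · exact iff_of_true (mem_supp.mp h) (mul_ne_zero (hu0 l h) (w l).ne_zero)
      · exact iff_of_false (fun e => h (mem_supp.mpr e)) (by rw [huR l h, zero_mul, not_not])
    refine lt_irrefl n (lt_of_le_of_lt ?_ (hfull _ hO))
    rw [hn, ← Finset.card_univ]
    refine card_le_card fun p _ => mem_supp.mpr ?_
    by_cases hp : p = i
    · subst hp; rw [hati u huR, husum, one_mul]; exact hDi
    obtain ⟨l, hlR, rfl⟩ := Finset.mem_image.mp (himv ▸ Finset.mem_erase.mpr ⟨hp, Finset.mem_univ _⟩)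
    rw [hat u huR l hlR, husum, one_mul]
    intro e
    refine absurd ((hubad l hlR).mp ?_) (Finset.notMem_empty _)
    rw [eq_div_iff (hl l hlR).2.1, eq_neg_iff_add_eq_zero, e]
  -- a coordinate line outside the support does not go to a line
  have hline' : ∀ v, ∀ g ∈ K, ∀ i, g (Pi.single i 1) = v → 1 < (supp v).card → ∀ a, a ∉ supp v →
      ¬ ∃ p, ∀ k, k ≠ p → g⁻¹ (Pi.single a 1) k = 0 := by
    rintro v g hg i hgi hk a ha ⟨p, hp⟩
    have hxv : g⁻¹ v = Pi.single i 1 := by rw [← hgi]; exact g.symm_apply_apply _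
    have hs : g⁻¹ (Pi.single a 1) p ≠ 0 := fun e => by
      have : g⁻¹ (Pi.single a 1) = 0 := by rw [eq_single_of_line hp, e, Pi.single_zero]
      simp at this
    have hsp : supp (g⁻¹ (Pi.single a (1 : F))) = {p} := Finset.ext fun l => by
      rw [mem_supp, Finset.mem_singleton]
      by_cases h : l = p
      · subst h; exact iff_of_true hs rfl
      · exact iff_of_false (fun e => e (hp l h)) h
    have hsa : supp (Pi.single a 1 : κ → F) = {a} := Finset.ext fun l => by
      rw [mem_supp, Finset.mem_singleton]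
      by_cases h : l = a
      · subst h; simp
      · simp [h]
    obtain ⟨h, hh, hhm, hhv⟩ := exists_mono_moving hH (v := g⁻¹ (Pi.single a 1)) (v' := Pi.single a 1)
      (by rw [hsp, hsa, Finset.card_singleton, Finset.card_singleton]) (by rw [hsp]; simp; omega)
    have hmono := hline (h * g⁻¹) (K.mul_mem hh (K.inv_mem hg)) a fun k hk => by
      show h (g⁻¹ (Pi.single a 1)) k = 0
      rw [hhv, Pi.single_eq_of_ne hk]
    obtain ⟨σ, d, hσd⟩ := exists_monE hmono
    have h2 : (h * g⁻¹) v = h (Pi.single i 1) := congrArg h hxv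
    obtain ⟨j, hj⟩ := hhm i
    rw [hσd, eq_single_of_line hj] at h2
    refine absurd (Finset.card_le_one.mpr fun p hp q hq => ?_) (not_le.mpr hk)
    rw [mem_supp] at hp hq
    have hh' : ∀ r, v r ≠ 0 → σ r = j := fun r hr => by
      by_contra hne
      have := congrFun h2 (σ r)
      rw [monE_apply, Equiv.symm_apply_apply, Pi.single_eq_of_ne hne, mul_eq_zero] at this
      exact this.elim (d r).ne_zero hr
    exact σ.injective ((hh' p hp).trans (hh' q hq).symm)
  obtain ⟨c, hc⟩ := IsCyclic.exists_generator (α := Fˣ)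
  have hord : orderOf c = Fintype.card F - 1 := by
    rw [orderOf_eq_card_of_forall_mem_zpowers hc, Nat.card_eq_fintype_card, Fintype.card_units]
  have hcpow : ∀ j, 0 < j → j < 4 → c ^ j ≠ 1 := fun j h0 h4 =>
    pow_ne_one_of_lt_orderOf h0.ne' (by omega)
  -- two zero coordinates
  have hpairs : ∀ v, ∀ g ∈ K, ∀ i, g (Pi.single i 1) = v → 1 < (supp v).card → ∀ a b, a ∉ supp v → b ∉ supp v →
      a ≠ b → ∃ p q, p ≠ q ∧ supp (g⁻¹ (Pi.single a 1)) = {p, q} ∧ supp (g⁻¹ (Pi.single b 1)) = {p, q} := by
    intro v g hg i hgi hk a b ha hb hab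
    have hxv : g⁻¹ v = Pi.single i 1 := by rw [← hgi]; exact g.symm_apply_apply _
    have hdK : dil a c * dil b c⁻¹ ∈ K := hH _ ((monE_mono _ _).mul (monE_mono _ _)) (by
      rw [map_mul, show LinearEquiv.det (dil a c) = c from Units.ext (by rw [LinearEquiv.coe_det, dil_det]),
        show LinearEquiv.det (dil b c⁻¹) = c⁻¹ from Units.ext (by rw [LinearEquiv.coe_det, dil_det]), mul_inv_cancel])
    have hy : Mono (g⁻¹ * (dil a c * dil b c⁻¹) * g⁻¹⁻¹) := by
      refine hline _ (K.mul_mem (K.mul_mem (K.inv_mem hg) hdK) (K.inv_mem (K.inv_mem hg))) i fun k hk => ?_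
      rw [inv_inv]
      show g⁻¹ (dil a c (dil b c⁻¹ (g (Pi.single i 1)))) k = 0
      rw [hgi, dil_apply b, show v b = 0 by simpa [mem_supp] using hb, mul_zero, zero_smul, add_zero,
        dil_apply, show v a = 0 by simpa [mem_supp] using ha, mul_zero, zero_smul, add_zero, hxv,
        Pi.single_eq_of_ne hk]
    rcases pair_eigen h5 h13 hab (hcpow 2 (by omega) (by omega)) (hcpow 3 (by omega) (by omega)) hy with
      h | h | ⟨-, h⟩
    · exact absurd h (hline' v g hg i hgi hk a ha)
    · exact absurd h (hline' v g hg i hgi hk b hb)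
    · exact h
  have hthree : ∀ v, Orb K v → 1 < (supp v).card → n < (supp v).card + 3 := by
    intro v hv hk
    by_contra hlt
    obtain ⟨g, hg, i, hgi⟩ := hv
    obtain ⟨a, b, b', ha, hb, hb', hab, hab', hbb'⟩ := Finset.two_lt_card_iff.mp
      (show 2 < (supp v)ᶜ.card by rw [Finset.card_compl]; omega)
    rw [Finset.mem_compl] at ha hb hb'
    obtain ⟨p, q, hpq, hpa, hpb⟩ := hpairs v g hg i hgi hk a b ha hb hab
    obtain ⟨p', q', -, hpa', hpb'⟩ := hpairs v g hg i hgi hk a b' ha hb' hab'
    rw [← hpa', hpa] at hpb'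
    let L : (Fin 3 → F) →ₗ[F] (Fin 2 → F) :=
      { toFun := fun u j => (g⁻¹ (u 0 • Pi.single a 1 + u 1 • Pi.single b 1 + u 2 • Pi.single b' 1)) (![p, q] j)
        map_add' := fun u u' => funext fun j => by simp only [Pi.add_apply, add_smul, map_add]; ring
        map_smul' := fun s u => funext fun j => by simp [mul_smul, mul_add] }
    have hL : Function.Injective L := by
      rw [injective_iff_map_eq_zero]
      intro u hu
      have h0 : g⁻¹ (u 0 • Pi.single a 1 + u 1 • Pi.single b 1 + u 2 • Pi.single b' 1) = 0 := funext fun l => by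
        by_cases hp : l = p
        · subst hp; exact congrFun hu 0
        by_cases hq : l = q
        · subst hq; exact congrFun hu 1
        have hz : ∀ t, supp (g⁻¹ (Pi.single t (1 : F))) = {p, q} → g.symm (Pi.single t 1) l = 0 := fun t ht => by
          by_contra hne
          have hne' : l ∈ supp (g⁻¹ (Pi.single t (1 : F))) := mem_supp.mpr hne
          rw [ht] at hne'
          simp [hp, hq] at hne'
        simp [hz a hpa, hz b hpb, hz b' hpb']
      rw [LinearEquiv.map_eq_zero_iff] at h0
      funext j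
      fin_cases j
      · simpa [hab, hab'] using congrFun h0 a
      · simpa [hbb', Ne.symm hab] using congrFun h0 b
      · simpa [Ne.symm hab', Ne.symm hbb'] using congrFun h0 b'
    have := LinearMap.finrank_le_finrank_of_injective hL
    simp at this
  have hone : ∀ v, Orb K v → (supp v).card ≤ 1 := by
    intro v hv
    by_contra hk
    have h1 := hfull v hv
    have h2 := htop v hv
    have h3 := hthree v hv (by omega)
    obtain ⟨g, hg, i, hgi⟩ := hv
    obtain ⟨a, ha, b, hb, hab⟩ := Finset.one_lt_card.mp (show 1 < (supp v)ᶜ.card by rw [Finset.card_compl]; omega)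
    rw [Finset.mem_compl] at ha hb
    obtain ⟨p, q, hpq, hpa, -⟩ := hpairs v g hg i hgi (by omega) a b ha hb hab
    have hc2 : (supp (g⁻¹ (Pi.single a (1 : F)))).card = 2 := by rw [hpa, Finset.card_pair hpq]
    have := hthree _ ⟨g⁻¹, K.inv_mem hg, a, rfl⟩ (by omega)
    omega
  intro g hg j
  have := hone _ ⟨g, hg, j, rfl⟩
  by_cases h : ∃ i, g (Pi.single j 1) i ≠ 0
  · obtain ⟨i, hi⟩ := h
    refine ⟨i, fun k hk => ?_⟩
    by_contra hne
    exact hk (Finset.card_le_one.mp this k (mem_supp.mpr hne) i (mem_supp.mpr hi))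
  · push Not at h
    exact ⟨j, fun k _ => h k⟩

end Orbit

end Cfsg.Agent.MonomialMax
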