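import Mathlib

/-! Overgroups of the full monomial group that are not monomial contain an elementary transvection
(fields with at least five elements). -/

set_option autoImplicit false
set_option linter.unusedSectionVars false
set_option linter.style.haveILetI false

namespace Cfsg.Agent.MonomialMax

open scoped Pointwise

variable {F V : Type*} [Field F] [AddCommGroup V] [Module F V]

/-- `x ↦ x + φ x • u`. -/
def rk1 (u : V) (φ : V →ₗ[F] F) (h : 1 + φ u ≠ 0) : V ≃ₗ[F] V where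
  toFun x := x + φ x • u
  invFun x := x - ((1 + φ u)⁻¹ * φ x) • u
  map_add' x y := by rw [map_add, add_smul]; abel
  map_smul' c x := by simp [smul_add, smul_smul]
  left_inv x := by
    simp only [map_add, map_smul, smul_eq_mul]
    have : (1 + φ u)⁻¹ * (φ x + φ x * φ u) = φ x := by field_simp
    rw [this]; abel
  right_inv x := by
    simp only [map_sub, map_smul, smul_eq_mul]
    rw [sub_add, sub_eq_self, sub_eq_zero]
    congr 1
    field_simp
    ring

@[simp] theorem rk1_apply (u : V) (φ : V →ₗ[F] F) (h : 1 + φ u ≠ 0) (x : V) :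
    rk1 u φ h x = x + φ x • u := rfl

@[simp] theorem rk1_symm_apply (u : V) (φ : V →ₗ[F] F) (h : 1 + φ u ≠ 0) (x : V) :
    (rk1 u φ h).symm x = x - ((1 + φ u)⁻¹ * φ x) • u := rfl

theorem rk1_coe (u : V) (φ : V →ₗ[F] F) (h : 1 + φ u ≠ 0) :
    (rk1 u φ h : V →ₗ[F] V) = LinearMap.transvection φ u :=
  LinearMap.ext fun x => by simp [LinearMap.transvection.apply]

theorem rk1_det [FiniteDimensional F V] (u : V) (φ : V →ₗ[F] F) (h : 1 + φ u ≠ 0) :
    LinearMap.det (rk1 u φ h : V →ₗ[F] V) = 1 + φ u := by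
  rw [rk1_coe]; exact LinearMap.transvection.det φ u

variable (K : Subgroup (V ≃ₗ[F] V))

/-- `K` contains a transvection with this centre and functional. -/
def Tv (u : V) (φ : V →ₗ[F] F) : Prop :=
  φ u = 0 ∧ ∃ y ∈ K, ∀ x, y x = x + φ x • u

/-- `K` contains all the reflections with this centre and axis. -/
def Refl (u : V) (ψ : V →ₗ[F] F) : Prop :=
  ψ u = 1 ∧ ∀ c : F, c ≠ 0 → ∃ y ∈ K, ∀ x, y x = x + ((c - 1) * ψ x) • u

variable {K}

theorem Tv.conj {u : V} {φ : V →ₗ[F] F} (h : Tv K u φ) {g : V ≃ₗ[F] V} (hg : g ∈ K) :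
    Tv K (g u) (φ.comp (g.symm : V →ₗ[F] V)) := by
  obtain ⟨h1, y, hy, hx⟩ := h
  exact ⟨by simp [h1], g * y * g⁻¹, K.mul_mem (K.mul_mem hg hy) (K.inv_mem hg), fun x => by
    show g (y (g.symm x)) = _
    simp [hx]⟩

theorem Refl.conj {u : V} {ψ : V →ₗ[F] F} (h : Refl K u ψ) {g : V ≃ₗ[F] V} (hg : g ∈ K) :
    Refl K (g u) (ψ.comp (g.symm : V →ₗ[F] V)) := by
  obtain ⟨h1, hc⟩ := h
  refine ⟨by simp [h1], fun c hc0 => ?_⟩
  obtain ⟨y, hy, hx⟩ := hc c hc0
  exact ⟨g * y * g⁻¹, K.mul_mem (K.mul_mem hg hy) (K.inv_mem hg), fun x => by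
    show g (y (g.symm x)) = _
    simp [hx]⟩

theorem Refl.rescale {u : V} {ψ : V →ₗ[F] F} (h : Refl K u ψ) {s : F} (hs : s ≠ 0) :
    Refl K (s • u) (s⁻¹ • ψ) := by
  obtain ⟨h1, hc⟩ := h
  refine ⟨by simp [h1, hs], fun c hc0 => ?_⟩
  obtain ⟨y, hy, hx⟩ := hc c hc0
  refine ⟨y, hy, fun x => ?_⟩
  rw [hx, LinearMap.smul_apply, smul_eq_mul, smul_smul]
  congr 2
  field_simp

theorem Tv.smul_centre {u : V} {φ : V →ₗ[F] F} (h : Tv K u φ) {s : F} (hs : s ≠ 0) :
    Tv K (s • u) (s⁻¹ • φ) := by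
  obtain ⟨h1, y, hy, hx⟩ := h
  refine ⟨by simp [h1], y, hy, fun x => ?_⟩
  rw [hx, LinearMap.smul_apply, smul_eq_mul, smul_smul]
  congr 2
  field_simp

theorem Tv.sub {u : V} {φ φ' : V →ₗ[F] F} (h : Tv K u φ) (h' : Tv K u φ') : Tv K u (φ' - φ) := by
  obtain ⟨h1, y, hy, hx⟩ := h
  obtain ⟨h2, y', hy', hx'⟩ := h'
  refine ⟨by simp [h1, h2], y' * y⁻¹, K.mul_mem hy' (K.inv_mem hy), fun x => ?_⟩
  obtain ⟨z, rfl⟩ := y.surjective x
  show y' (y.symm (y z)) = _
  rw [LinearEquiv.symm_apply_apply, hx', hx]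
  simp only [LinearMap.sub_apply, map_add, map_smul, h1, h2, smul_eq_mul, mul_zero, add_zero]
  rw [add_assoc, ← add_smul]
  congr 2
  ring

theorem Tv.sub_centre {u u' : V} {φ : V →ₗ[F] F} (h : Tv K u φ) (h' : Tv K u' φ) :
    Tv K (u' - u) φ := by
  obtain ⟨h1, y, hy, hx⟩ := h
  obtain ⟨h2, y', hy', hx'⟩ := h'
  refine ⟨by simp [h1, h2], y' * y⁻¹, K.mul_mem hy' (K.inv_mem hy), fun x => ?_⟩
  obtain ⟨z, rfl⟩ := y.surjective x
  show y' (y.symm (y z)) = _
  rw [LinearEquiv.symm_apply_apply, hx', hx]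
  simp only [map_add, map_smul, h1, smul_zero, add_zero, smul_sub]
  abel

theorem Refl.sub {u : V} {ψ ψ' : V →ₗ[F] F} (h : Refl K u ψ) (h' : Refl K u ψ') {c : F}
    (hc : c ≠ 0) : Tv K u ((c - 1) • (ψ' - ψ)) := by
  obtain ⟨h1, hy⟩ := h
  obtain ⟨h2, hy'⟩ := h'
  obtain ⟨y, hyK, hx⟩ := hy c hc
  obtain ⟨y', hyK', hx'⟩ := hy' c hc
  refine ⟨by simp [h1, h2], y' * y⁻¹, K.mul_mem hyK' (K.inv_mem hyK), fun x => ?_⟩
  obtain ⟨z, rfl⟩ := y.surjective x
  show y' (y.symm (y z)) = _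
  rw [LinearEquiv.symm_apply_apply, hx', hx]
  simp only [LinearMap.smul_apply, LinearMap.sub_apply, map_add, map_smul, h1, h2, smul_eq_mul]
  rw [add_assoc, ← add_smul]
  congr 2
  ring

theorem Refl.sub_centre {u u' : V} {ψ : V →ₗ[F] F} (h : Refl K u ψ) (h' : Refl K u' ψ) {c : F}
    (hc : c ≠ 0) : Tv K (((c - 1) * c⁻¹) • (u' - u)) ψ := by
  obtain ⟨h1, hy⟩ := h
  obtain ⟨h2, hy'⟩ := h'
  obtain ⟨y, hyK, hx⟩ := hy c hc
  obtain ⟨y', hyK', hx'⟩ := hy' c hc
  refine ⟨by simp [h1, h2], y' * y⁻¹, K.mul_mem hyK' (K.inv_mem hyK), fun x => ?_⟩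
  obtain ⟨z, rfl⟩ := y.surjective x
  show y' (y.symm (y z)) = _
  rw [LinearEquiv.symm_apply_apply, hx', hx]
  simp only [map_add, map_smul, h1, smul_eq_mul, mul_one, smul_sub, smul_smul]
  rw [show (ψ z + (c - 1) * ψ z) * ((c - 1) * c⁻¹) = (c - 1) * ψ z by field_simp; ring]
  abel

theorem exists_ne_two [Fintype F] (h5 : 5 ≤ Fintype.card F) : ∃ c : F, c ≠ 0 ∧ c ≠ 1 := by
  classical
  obtain ⟨c, hc⟩ := Finset.exists_mem_notMem_of_card_lt_card (s := ({0, 1} : Finset F))
    (t := Finset.univ) (by rw [Finset.card_univ]; have := Finset.card_le_two (a := (0 : F)) (b := 1); omega)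
  simp only [Finset.mem_insert, Finset.mem_singleton, not_or] at hc
  exact ⟨c, hc.2⟩

/-- The parameter needed to move one reflection onto another. -/
def GoodParam (x : F) : Prop :=
  ∃ t : F, t ≠ 0 ∧ 1 + t ≠ 0 ∧ 1 + t * x ≠ 0 ∧ 1 + t + x * (t * t) ≠ 0

theorem goodParam_of_large [Fintype F] (h : 7 ≤ Fintype.card F) {x : F} (hx : x ≠ 0) :
    GoodParam x := by
  classical
  let P : Polynomial F := Polynomial.C x * Polynomial.X ^ 2 + Polynomial.X + 1
  have hP : P.natDegree = 2 := by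
    simp only [P]
    compute_degree!
  obtain ⟨t, ht⟩ := Finset.exists_mem_notMem_of_card_lt_card
    (s := ({0, -1, -x⁻¹} : Finset F) ∪ P.roots.toFinset) (t := Finset.univ) (by
      rw [Finset.card_univ]
      have h1 := Finset.card_union_le ({0, -1, -x⁻¹} : Finset F) P.roots.toFinset
      have h2 := Finset.card_le_three (a := (0 : F)) (b := -1) (c := -x⁻¹)
      have h3 := (Multiset.toFinset_card_le P.roots).trans (Polynomial.card_roots' P)
      omega)
  simp only [Finset.mem_union, Finset.mem_insert, Finset.mem_singleton, Multiset.mem_toFinset,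
    not_or] at ht
  obtain ⟨-, ⟨h0, h1, h2⟩, h3⟩ := ht
  refine ⟨t, h0, fun e => h1 (by linear_combination e), fun e => h2 ?_, fun e => h3 ?_⟩
  · rw [eq_neg_iff_add_eq_zero]; field_simp; linear_combination e
  · rw [Polynomial.mem_roots (by intro e0; rw [e0] at hP; simp at hP)]
    simp only [P, Polynomial.IsRoot, Polynomial.eval_add, Polynomial.eval_mul, Polynomial.eval_C,
      Polynomial.eval_pow, Polynomial.eval_X, Polynomial.eval_one]
    linear_combination e

theorem five_cast [Fintype F] (h : Fintype.card F = 5) : (5 : F) = 0 := by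
  have := FiniteField.cast_card_eq_zero F
  rw [h] at this
  exact_mod_cast this

theorem zmod_five : ∀ w : ZMod 5, w = 0 ∨ w = 1 ∨ w = 2 ∨ w = 3 ∨ w = 4 := by decide

theorem cases_five [Fintype F] (h : Fintype.card F = 5) (x : F) :
    x = 0 ∨ x = 1 ∨ x = 2 ∨ x = 3 ∨ x = 4 := by
  haveI : Fact (Nat.Prime 5) := ⟨by norm_num⟩
  haveI : CharP F 5 := charP_of_card_eq_prime h
  have hb : Function.Bijective (ZMod.castHom (dvd_refl 5) F) :=
    (Fintype.bijective_iff_injective_and_card _).mpr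
      ⟨(ZMod.castHom (dvd_refl 5) F).injective, by rw [ZMod.card, h]⟩
  obtain ⟨z, rfl⟩ := hb.2 x
  rcases zmod_five z with rfl | rfl | rfl | rfl | rfl
  · exact Or.inl (map_zero _)
  · exact Or.inr (Or.inl (map_one _))
  · exact Or.inr (Or.inr (Or.inl (map_ofNat _ 2)))
  · exact Or.inr (Or.inr (Or.inr (Or.inl (map_ofNat _ 3))))
  · exact Or.inr (Or.inr (Or.inr (Or.inr (map_ofNat _ 4))))

theorem five_ne [Fintype F] (h : Fintype.card F = 5) (k : ℕ) (hk : 0 < k) (hk5 : k < 5) :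
    (k : F) ≠ 0 := by
  haveI : Fact (Nat.Prime 5) := ⟨by norm_num⟩
  haveI : CharP F 5 := charP_of_card_eq_prime h
  intro e
  have := Nat.le_of_dvd hk ((CharP.cast_eq_zero_iff F 5 k).mp e)
  omega

theorem goodParam_five [Fintype F] (h : Fintype.card F = 5) {x : F} (hx : x ≠ 0) (hx3 : x ≠ 3) :
    GoodParam x := by
  have h5 := five_cast h
  have n1 : (1 : F) ≠ 0 := one_ne_zero
  have n2 : (2 : F) ≠ 0 := by exact_mod_cast five_ne h 2 (by norm_num) (by norm_num)
  have n3 : (3 : F) ≠ 0 := by exact_mod_cast five_ne h 3 (by norm_num) (by norm_num)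
  have n4 : (4 : F) ≠ 0 := by exact_mod_cast five_ne h 4 (by norm_num) (by norm_num)
  rcases cases_five h x with rfl | rfl | rfl | rfl | rfl
  · exact absurd rfl hx
  · exact ⟨1, n1, fun e => n2 (by linear_combination e), fun e => n2 (by linear_combination e),
      fun e => n3 (by linear_combination e)⟩
  · exact ⟨1, n1, fun e => n2 (by linear_combination e), fun e => n3 (by linear_combination e),
      fun e => n4 (by linear_combination e)⟩
  · exact absurd rfl hx3
  · exact ⟨2, n2, fun e => n3 (by linear_combination e), fun e => n4 (by linear_combination e - h5),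
      fun e => n4 (by linear_combination e - 3 * h5)⟩

/-- Two reflection tori in one-sidedly orthogonal position. -/
theorem tv_of_right {e u : V} {f ψ : V →ₗ[F] F} (he : Refl K e f) (hu : Refl K u ψ)
    (hα : ψ e = 0) (hβ : f u ≠ 0) {c : F} (hc : c ≠ 0) (hc1 : c ≠ 1) :
    ∃ φ : V →ₗ[F] F, φ ≠ 0 ∧ Tv K e φ := by
  obtain ⟨y, hy, hx⟩ := hu.2 c hc
  have hye : y e = e := by rw [hx, hα, mul_zero, zero_smul, add_zero]
  have h2 := he.conj hy
  rw [hye] at h2
  refine ⟨_, fun h0 => ?_, he.sub h2 hc⟩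
  have hz := LinearMap.congr_fun h0 (y u)
  simp only [LinearMap.smul_apply, LinearMap.sub_apply, LinearMap.comp_apply, LinearEquiv.coe_coe,
    LinearEquiv.symm_apply_apply, smul_eq_mul, LinearMap.zero_apply] at hz
  rw [hx, map_add, map_smul, hu.1, smul_eq_mul, mul_one] at hz
  have hm : (c - 1) * (c - 1) * f u = 0 := by linear_combination -hz
  have hc' : c - 1 ≠ 0 := sub_ne_zero.mpr hc1
  simp [hc', hβ] at hm

theorem tv_of_left {e u : V} {f ψ : V →ₗ[F] F} (he : Refl K e f) (hu : Refl K u ψ)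
    (hα : ψ e ≠ 0) (hβ : f u = 0) {c : F} (hc : c ≠ 0) (hc1 : c ≠ 1) :
    ∃ v : V, v ≠ 0 ∧ Tv K v f := by
  obtain ⟨y, hy, hx⟩ := hu.2 c hc
  have hax : f.comp (y.symm : V →ₗ[F] V) = f := LinearMap.ext fun z => by
    obtain ⟨w, rfl⟩ := y.surjective z
    simp only [LinearMap.comp_apply, LinearEquiv.coe_coe, LinearEquiv.symm_apply_apply]
    rw [hx, map_add, map_smul, hβ, smul_zero, add_zero]
  have h2 := he.conj hy
  rw [hax] at h2
  refine ⟨_, ?_, he.sub_centre h2 hc⟩
  rw [hx, add_sub_cancel_left, smul_smul]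
  refine smul_ne_zero ?_ ?_
  · exact mul_ne_zero (mul_ne_zero (sub_ne_zero.mpr hc1) (inv_ne_zero hc))
      (mul_ne_zero (sub_ne_zero.mpr hc1) hα)
  · intro h
    have := hu.1
    rw [h, map_zero] at this
    exact zero_ne_one this

/-- Two reflection tori in general position. -/
theorem tv_of_general {e u : V} {f ψ : V →ₗ[F] F} (he : Refl K e f) (hu : Refl K u ψ)
    (hα : ψ e ≠ 0) (hβ : f u ≠ 0) (hg : GoodParam (ψ e * f u))
    (hind : ∃ z, ψ z = 0 ∧ f z ≠ 0) :
    ∃ φ : V →ₗ[F] F, φ ≠ 0 ∧ φ u = 0 ∧ ∀ c : F, c ≠ 0 → Tv K u ((c - 1) • φ) := by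
  obtain ⟨t, ht0, ht1, htx, htq⟩ := hg
  obtain ⟨α, hαd⟩ : ∃ α, α = ψ e := ⟨_, rfl⟩
  obtain ⟨β, hβd⟩ : ∃ β, β = f u := ⟨_, rfl⟩
  rw [← hαd, ← hβd] at htx htq
  rw [← hαd] at hα
  rw [← hβd] at hβ
  obtain ⟨r, hr, hrx⟩ := hu.2 (1 + t) ht1
  obtain ⟨b, hb⟩ : ∃ b, b = t * (α * β) / (1 + t * (α * β)) := ⟨_, rfl⟩
  have hb0 : b ≠ 0 := hb ▸ div_ne_zero (mul_ne_zero ht0 (mul_ne_zero hα hβ)) htx
  have hb1 : (b - 1) * (1 + t * (α * β)) = -1 := by
    have hb' : b * (1 + t * (α * β)) = t * (α * β) := hb ▸ div_mul_cancel₀ _ htx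
    linear_combination hb'
  obtain ⟨d, hd, hdx⟩ := he.2 b hb0
  have hge : d (r e) = (t * α) • u := by
    rw [hdx, hrx, map_add, map_smul, smul_eq_mul, ← hαd, he.1, ← hβd, show (1 + t - 1) * α = t * α by ring,
      show (b - 1) * (1 + t * α * β) = -1 by linear_combination hb1]
    module
  have h2 := (he.conj (K.mul_mem hd hr)).rescale (inv_ne_zero (mul_ne_zero ht0 hα))
  rw [show (d * r) e = (t * α) • u from hge, smul_smul, inv_mul_cancel₀ (mul_ne_zero ht0 hα),
    one_smul, inv_inv] at h2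
  refine ⟨_, fun h0 => ?_, by rw [LinearMap.sub_apply, h2.1, hu.1, sub_self], fun c hc => hu.sub h2 hc⟩
  obtain ⟨z, hz1, hz2⟩ := hind
  -- the new axis would have to be the old one
  have key : ∀ w, ψ (d (r w)) = t * α * f w := by
    intro w
    have := LinearMap.congr_fun h0 ((d * r) w)
    simp only [LinearMap.smul_apply, LinearMap.sub_apply, LinearMap.comp_apply, LinearEquiv.coe_coe,
      LinearEquiv.symm_apply_apply, smul_eq_mul, LinearMap.zero_apply, sub_eq_zero] at this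
    exact this.symm
  have e1 : ∀ w, ψ (d (r w)) = ψ w + t * ψ w + (b - 1) * α * (f w + t * ψ w * β) := fun w => by
    simp only [hdx, hrx, map_add, map_smul, smul_eq_mul, hu.1, ← hαd, ← hβd]
    ring
  have hz := (e1 z).symm.trans (key z)
  rw [hz1] at hz
  have hA : (b - 1 - t) * (α * f z) = 0 := by linear_combination hz
  have hbt : b - 1 = t :=
    sub_eq_zero.mp ((mul_eq_zero.mp hA).resolve_right (mul_ne_zero hα hz2))
  have hu' := (e1 u).symm.trans (key u)
  rw [hu.1, ← hβd, hbt] at hu'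
  exact htq (by linear_combination hu')

section Coord

variable {κ : Type*} [Fintype κ] [DecidableEq κ]

/-- The coordinate functional. -/
abbrev pr (i : κ) : (κ → F) →ₗ[F] F := LinearMap.proj i

/-- The monomial map `e_j ↦ c_j e_{σ j}`. -/
def monE (σ : Equiv.Perm κ) (c : κ → Fˣ) : (κ → F) ≃ₗ[F] (κ → F) where
  toFun v i := (c (σ.symm i) : F) * v (σ.symm i)
  invFun w j := (↑(c j)⁻¹ : F) * w (σ j)
  map_add' v w := by funext i; simp [mul_add]
  map_smul' a v := by funext i; simp [mul_left_comm]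
  left_inv v := by funext j; simp
  right_inv w := by funext i; simp

theorem monE_apply (σ : Equiv.Perm κ) (c : κ → Fˣ) (v : κ → F) (i : κ) :
    monE σ c v i = (c (σ.symm i) : F) * v (σ.symm i) := rfl

theorem monE_single (σ : Equiv.Perm κ) (c : κ → Fˣ) (j : κ) (a : F) :
    monE σ c (Pi.single j a) = Pi.single (σ j) ((c j : F) * a) := by
  funext i
  rw [monE_apply]
  by_cases h : σ.symm i = j
  · subst h; simp
  · rw [Pi.single_eq_of_ne h, mul_zero, Pi.single_eq_of_ne (fun e => h (by rw [e, Equiv.symm_apply_apply]))]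

/-- The map multiplying one coordinate. -/
def dil (l : κ) (c : Fˣ) : (κ → F) ≃ₗ[F] (κ → F) := monE 1 (Function.update 1 l c)

theorem dil_apply (l : κ) (c : Fˣ) (x : κ → F) :
    dil l c x = x + (((c : F) - 1) * x l) • Pi.single l 1 := by
  funext i
  by_cases h : i = l
  · subst h; simp [dil, monE_apply, Equiv.Perm.one_def, sub_mul]
  · simp [dil, monE_apply, Equiv.Perm.one_def, Function.update_of_ne h, Pi.single_eq_of_ne h]

theorem dil_det (l : κ) (c : Fˣ) :
    LinearMap.det (dil l c : (κ → F) →ₗ[F] (κ → F)) = (c : F) := by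
  have h : 1 + (((c : F) - 1) • pr (F := F) l) (Pi.single l 1) ≠ 0 := by simp
  have e : dil l c = rk1 (Pi.single l 1) (((c : F) - 1) • pr l) h := LinearEquiv.ext fun x => by
    rw [dil_apply, rk1_apply]; simp
  rw [e, rk1_det]
  simp

variable {K : Subgroup ((κ → F) ≃ₗ[F] (κ → F))}

theorem refl_basis (hK : ∀ σ c, monE σ c ∈ K) (l : κ) : Refl K (Pi.single l 1) (pr l) := by
  refine ⟨by simp, fun c hc => ⟨dil l (Units.mk0 c hc), hK _ _, fun x => ?_⟩⟩
  rw [dil_apply]; simp

/-- An elementary transvection. -/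
def Elem (K : Subgroup ((κ → F) ≃ₗ[F] (κ → F))) : Prop :=
  ∃ a b : κ, a ≠ b ∧ ∃ s : F, s ≠ 0 ∧ Tv K (Pi.single a 1) (s • pr b)

theorem dil_symm_pr (l : κ) (c : Fˣ) (φ : (κ → F) →ₗ[F] F) (x : κ → F) :
    φ ((dil l c).symm x) = φ x + ((↑c⁻¹ : F) - 1) * x l * φ (Pi.single l 1) := by
  have h : (dil l c).symm x = dil l c⁻¹ x := by
    rw [LinearEquiv.symm_apply_eq]
    funext i
    by_cases h : i = l
    · subst h; simp [dil, monE_apply, Equiv.Perm.one_def]
    · simp [dil, monE_apply, Equiv.Perm.one_def, Function.update_of_ne h]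
  rw [h, dil_apply, map_add, map_smul, smul_eq_mul]

theorem elem_of_basis_centre (hK : ∀ σ c, monE σ c ∈ K) {c : F} (hc : c ≠ 0) (hc1 : c ≠ 1)
    {l : κ} {φ : (κ → F) →ₗ[F] F} (hφ : φ ≠ 0) (h : Tv K (Pi.single l 1) φ) : Elem K := by
  obtain ⟨j, hj⟩ : ∃ j, φ (Pi.single j 1) ≠ 0 := by
    by_contra hcon
    push Not at hcon
    exact hφ (LinearMap.pi_ext fun i a => by
      rw [show (Pi.single i a : κ → F) = a • Pi.single i 1 by rw [← Pi.single_smul, smul_eq_mul, mul_one], map_smul, hcon, smul_zero,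
        LinearMap.zero_apply])
  have hlj : l ≠ j := fun e => hj (e ▸ h.1)
  have h2 := h.conj (hK 1 (Function.update 1 j (Units.mk0 c hc)))
  have hfix : monE 1 (Function.update 1 j (Units.mk0 c hc)) (Pi.single l (1 : F)) = Pi.single l 1 := by
    rw [monE_single]; simp [Function.update_of_ne hlj]
  rw [hfix] at h2
  refine ⟨l, j, hlj, (c⁻¹ - 1) * φ (Pi.single j 1), ?_, ?_⟩
  · exact mul_ne_zero (sub_ne_zero.mpr (fun e => hc1 (inv_eq_one.mp e))) hj
  · convert h.sub h2 using 1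
    refine LinearMap.ext fun x => ?_
    simp only [LinearMap.sub_apply, LinearMap.comp_apply, LinearEquiv.coe_coe]
    rw [show (monE 1 (Function.update 1 j (Units.mk0 c hc))).symm = (dil j (Units.mk0 c hc)).symm from rfl,
      dil_symm_pr]
    simp; ring

theorem elem_of_basis_axis (hK : ∀ σ c, monE σ c ∈ K) {c : F} (hc : c ≠ 0) (hc1 : c ≠ 1)
    {l : κ} {v : κ → F} (hv : v ≠ 0) (h : Tv K v (pr l)) : Elem K := by
  obtain ⟨j, hj⟩ : ∃ j, v j ≠ 0 := by
    by_contra hcon
    push Not at hcon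
    exact hv (funext hcon)
  have hlj : j ≠ l := fun e => hj (e ▸ h.1)
  have h2 := h.conj (hK 1 (Function.update 1 j (Units.mk0 c hc)))
  have hax : (pr (F := F) l).comp ((monE 1 (Function.update 1 j (Units.mk0 c hc))).symm : (κ → F) →ₗ[F] (κ → F)) = pr l :=
    LinearMap.ext fun x => by
      show (↑((Function.update (1 : κ → Fˣ) j (Units.mk0 c hc)) l)⁻¹ : F) * x l = x l
      simp [Function.update_of_ne hlj.symm]
  rw [hax] at h2
  have h3 := h.sub_centre h2
  rw [show monE 1 (Function.update 1 j (Units.mk0 c hc)) v - v = ((c - 1) * v j) • Pi.single j (1 : F) by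
    rw [show monE 1 (Function.update 1 j (Units.mk0 c hc)) = dil j (Units.mk0 c hc) from rfl, dil_apply]
    simp] at h3
  have hne : (c - 1) * v j ≠ 0 := mul_ne_zero (sub_ne_zero.mpr hc1) hj
  refine ⟨j, l, hlj, (c - 1) * v j, hne, ?_⟩
  have h4 := h3.smul_centre (inv_ne_zero hne)
  rwa [smul_smul, inv_mul_cancel₀ hne, one_smul, inv_inv] at h4

variable [Fintype F]

theorem elem_of_tvs (h5 : 5 ≤ Fintype.card F) (hK : ∀ σ c, monE σ c ∈ K) {u : κ → F}
    {φ : (κ → F) →ₗ[F] F} (hu : u ≠ 0) (hφ : φ ≠ 0) (hu0 : φ u = 0)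
    (h : ∀ c : F, c ≠ 0 → Tv K u ((c - 1) • φ)) : Elem K := by
  classical
  obtain ⟨c, hc, hc1⟩ := exists_ne_two h5
  by_cases hA : ∃ l, u l ≠ 0 ∧ φ (Pi.single l 1) = 0
  · obtain ⟨l, hl, hl'⟩ := hA
    have h1 := h c hc
    have h2 := h1.conj (hK 1 (Function.update 1 l (Units.mk0 c hc)))
    have hax : ((c - 1) • φ).comp ((monE 1 (Function.update 1 l (Units.mk0 c hc))).symm :
        (κ → F) →ₗ[F] (κ → F)) = (c - 1) • φ := LinearMap.ext fun x => by
      show ((c - 1) • φ) ((dil l (Units.mk0 c hc)).symm x) = _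
      rw [dil_symm_pr]; simp [hl']
    rw [hax] at h2
    have h3 := h1.sub_centre h2
    rw [show monE 1 (Function.update 1 l (Units.mk0 c hc)) u - u = ((c - 1) * u l) • Pi.single l (1 : F) by
      rw [show monE 1 (Function.update 1 l (Units.mk0 c hc)) = dil l (Units.mk0 c hc) from rfl, dil_apply]
      simp] at h3
    have hne : (c - 1) * u l ≠ 0 := mul_ne_zero (sub_ne_zero.mpr hc1) hl
    have h4 := h3.smul_centre (inv_ne_zero hne)
    rw [smul_smul, inv_mul_cancel₀ hne, one_smul] at h4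
    exact elem_of_basis_centre hK hc hc1
      (by rw [inv_inv]; exact smul_ne_zero hne (smul_ne_zero (sub_ne_zero.mpr hc1) hφ)) h4
  by_cases hB : ∃ l, u l = 0 ∧ φ (Pi.single l 1) ≠ 0
  · obtain ⟨l, hl, hl'⟩ := hB
    have h1 := h c hc
    have h2 := h1.conj (hK 1 (Function.update 1 l (Units.mk0 c hc)))
    have hfix : monE 1 (Function.update 1 l (Units.mk0 c hc)) u = u := by
      rw [show monE 1 (Function.update 1 l (Units.mk0 c hc)) = dil l (Units.mk0 c hc) from rfl, dil_apply]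
      simp [hl]
    rw [hfix] at h2
    have h3 := h1.sub h2
    have hci : c⁻¹ - 1 ≠ 0 := sub_ne_zero.mpr (fun e => hc1 (inv_eq_one.mp e))
    have hne : (c⁻¹ - 1) * ((c - 1) * φ (Pi.single l 1)) ≠ 0 :=
      mul_ne_zero hci (mul_ne_zero (sub_ne_zero.mpr hc1) hl')
    refine elem_of_basis_axis (l := l) hK hc hc1 (smul_ne_zero hne hu) ?_
    have h4 := h3.smul_centre hne
    convert h4 using 1
    refine LinearMap.ext fun x => ?_
    simp only [LinearMap.smul_apply, LinearMap.sub_apply, LinearMap.comp_apply, LinearEquiv.coe_coe,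
      smul_eq_mul]
    rw [show (monE 1 (Function.update 1 l (Units.mk0 c hc))).symm = (dil l (Units.mk0 c hc)).symm from rfl,
      dil_symm_pr]
    simp
    field_simp
    ring
  push Not at hA hB
  obtain ⟨l, hl⟩ : ∃ l, u l ≠ 0 := by
    by_contra hcon
    push Not at hcon
    exact hu (funext hcon)
  -- choose the parameter so that the pairing at `l` is not one
  obtain ⟨s, hs0, hs1, hs⟩ : ∃ s : F, s ≠ 0 ∧ s ≠ 1 ∧ u l * ((s - 1) * φ (Pi.single l 1)) ≠ 1 := by
    have hp := mul_ne_zero hl (hA l hl)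
    obtain ⟨s, hs⟩ := Finset.exists_mem_notMem_of_card_lt_card
      (s := ({0, 1, 1 + (u l * φ (Pi.single l 1))⁻¹} : Finset F)) (t := Finset.univ) (by
        rw [Finset.card_univ]
        have := Finset.card_le_three (a := (0 : F)) (b := 1) (c := 1 + (u l * φ (Pi.single l 1))⁻¹)
        omega)
    simp only [Finset.mem_insert, Finset.mem_singleton, not_or] at hs
    refine ⟨s, hs.2.1, hs.2.2.1, fun e => hs.2.2.2 ?_⟩
    have e2 : (s - 1) * (u l * φ (Pi.single l 1)) = 1 := by linear_combination e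
    rw [← eq_inv_of_mul_eq_one_left e2]; ring
  obtain ⟨φ', hφ'⟩ : ∃ φ', φ' = (s - 1) • φ := ⟨_, rfl⟩
  obtain ⟨h1, y, hy, hyx⟩ := h s hs0
  rw [← hφ'] at h1
  have hyx' : ∀ x, y x = x + φ' x • u := fun x => by rw [hyx, hφ']
  have hpl : φ' (Pi.single l 1) ≠ 0 := by
    rw [hφ']; exact mul_ne_zero (sub_ne_zero.mpr hs1) (hA l hl)
  replace hs : u l * φ' (Pi.single l 1) ≠ 1 := by rw [hφ']; exact hs
  have hr := (refl_basis hK l).conj hy
  have hyl : y (Pi.single l 1) = Pi.single l 1 + φ' (Pi.single l 1) • u := hyx' _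
  have haxl : ∀ x, (pr (F := F) l).comp (y.symm : (κ → F) →ₗ[F] (κ → F)) x = x l - φ' x * u l := fun x => by
    obtain ⟨z, rfl⟩ := y.surjective x
    simp only [LinearMap.comp_apply, LinearEquiv.coe_coe, LinearEquiv.symm_apply_apply, LinearMap.proj_apply]
    rw [hyx', map_add, map_smul, h1, smul_zero, add_zero, Pi.add_apply, Pi.smul_apply, smul_eq_mul, add_sub_cancel_right]
  obtain ⟨m, hml, hm⟩ : ∃ m, m ≠ l ∧ u m ≠ 0 := by
    by_contra hcon
    push Not at hcon
    have e : u = u l • Pi.single l 1 := funext fun i => by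
      by_cases h : i = l
      · subst h; simp
      · simp [Pi.single_eq_of_ne h, hcon i h]
    have h' : φ' u = 0 := h1
    rw [e, map_smul, smul_eq_mul, mul_eq_zero] at h'
    exact h'.elim hl hpl
  have hpm : φ' (Pi.single m 1) ≠ 0 := by
    rw [hφ']; exact mul_ne_zero (sub_ne_zero.mpr hs1) (hA m hm)
  by_cases hq : 7 ≤ Fintype.card F
  · have hα : (pr (F := F) m) (y (Pi.single l 1)) = φ' (Pi.single l 1) * u m := by
      rw [hyl]; simp [hml]
    have hβ : (pr (F := F) l).comp (y.symm : (κ → F) →ₗ[F] (κ → F)) (Pi.single m 1) =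
        -(φ' (Pi.single m 1) * u l) := by
      rw [haxl]; simp [hml.symm]
    have hα0 := mul_ne_zero hpl hm
    have hβ0 := neg_ne_zero.mpr (mul_ne_zero hpm hl)
    obtain ⟨χ, hχ, hχu, hT⟩ := tv_of_general hr (refl_basis hK m) (by rw [hα]; exact hα0)
      (by rw [hβ]; exact hβ0)
      (goodParam_of_large hq (by rw [hα, hβ]; exact mul_ne_zero hα0 hβ0))
      ⟨Pi.single l 1, by simp [hml], by
        rw [haxl]; simp only [Pi.single_eq_same]
        exact sub_ne_zero.mpr fun e => hs (by rw [mul_comm]; exact e.symm)⟩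
    exact elem_of_basis_centre hK hc hc1 (smul_ne_zero (sub_ne_zero.mpr hc1) hχ) (hT c hc)
  · have hq5 : Fintype.card F = 5 := by
      rcases (show Fintype.card F = 5 ∨ Fintype.card F = 6 by omega) with h | h
      · exact h
      · exfalso
        have h' := FiniteField.isPrimePow_card F
        rw [h, isPrimePow_nat_iff_bounded] at h'
        revert h'
        decide
    obtain ⟨p, hp⟩ : ∃ p, p = u l * φ' (Pi.single l 1) := ⟨_, rfl⟩
    have hp0 : p ≠ 0 := hp ▸ mul_ne_zero hl hpl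
    have h1m : 1 - p ≠ 0 := sub_ne_zero.mpr (hp ▸ hs.symm)
    have hα : (pr (F := F) l) (y (Pi.single l 1)) = 1 + p := by
      rw [hyl, hp]; simp [mul_comm]
    have hβ : (pr (F := F) l).comp (y.symm : (κ → F) →ₗ[F] (κ → F)) (Pi.single l 1) = 1 - p := by
      rw [haxl, hp]; simp [mul_comm]
    by_cases h1p : 1 + p = 0
    · -- the new centre has no component at `l`
      obtain ⟨v, hv, hT⟩ := tv_of_left (refl_basis hK l) hr (by rw [hβ]; exact h1m)
        (by rw [← hα] at h1p; exact h1p) hc hc1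
      exact elem_of_basis_axis hK hc hc1 hv hT
    obtain ⟨χ, hχ, hχu, hT⟩ := tv_of_general hr (refl_basis hK l) (by rw [hα]; exact h1p)
      (by rw [hβ]; exact h1m) (by
        rw [hα, hβ]
        refine goodParam_five hq5 (mul_ne_zero h1p h1m) fun e => ?_
        have h5' := five_cast hq5
        have hpp : p * p = 3 := by linear_combination -e - h5'
        rcases cases_five hq5 p with rfl | rfl | rfl | rfl | rfl
        · exact hp0 rfl
        · exact five_ne hq5 2 (by norm_num) (by norm_num) (by push_cast; linear_combination -hpp)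
        · exact five_ne hq5 1 (by norm_num) (by norm_num) (by push_cast; linear_combination hpp)
        · exact five_ne hq5 1 (by norm_num) (by norm_num) (by push_cast; linear_combination hpp - h5')
        · exact five_ne hq5 3 (by norm_num) (by norm_num) (by push_cast; linear_combination hpp - 2 * h5'))
      ⟨Pi.single m 1, by simp [hml.symm], by
        rw [haxl]; simp [hml.symm]; exact ⟨hpm, hl⟩⟩
    exact elem_of_basis_centre hK hc hc1 (smul_ne_zero (sub_ne_zero.mpr hc1) hχ) (hT c hc)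

omit [Fintype F] in
theorem sum_pairing {ψ : (κ → F) →ₗ[F] F} (v : κ → F) :
    ψ v = ∑ i, v i * ψ (Pi.single i 1) := by
  conv_lhs => rw [← Finset.univ_sum_single v, map_sum]
  refine Finset.sum_congr rfl fun i _ => ?_
  rw [show (Pi.single i (v i) : κ → F) = v i • Pi.single i 1 by
    rw [← Pi.single_smul, smul_eq_mul, mul_one], map_smul, smul_eq_mul]

omit [Fintype F] in
theorem monE_symm_pair (σ : Equiv.Perm κ) (d : κ → Fˣ) (ψ : (κ → F) →ₗ[F] F) (u : κ → F) :
    ψ ((monE σ d).symm u) = ∑ i, (↑(d i)⁻¹ : F) * u (σ i) * ψ (Pi.single i 1) :=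
  sum_pairing _

/-- A non-monomial overgroup of the monomial group contains an elementary transvection. -/
theorem elem_of_not_monomial (h5 : 5 ≤ Fintype.card F) (h3 : 3 ≤ Fintype.card κ)
    (hK : ∀ σ c, monE σ c ∈ K) {g : (κ → F) ≃ₗ[F] (κ → F)} (hg : g ∈ K) {j a b : κ} (hab : a ≠ b)
    (ha : g (Pi.single j 1) a ≠ 0) (hb : g (Pi.single j 1) b ≠ 0) : Elem K := by
  classical
  obtain ⟨c, hc, hc1⟩ := exists_ne_two h5
  have hr := (refl_basis hK j).conj hg
  obtain ⟨u, hu⟩ : ∃ u, u = g (Pi.single j 1) := ⟨_, rfl⟩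
  obtain ⟨ψ, hψ⟩ : ∃ ψ, ψ = (pr (F := F) j).comp (g.symm : (κ → F) →ₗ[F] (κ → F)) := ⟨_, rfl⟩
  rw [← hu, ← hψ] at hr
  rw [← hu] at ha hb
  by_cases hA : ∃ l, u l ≠ 0 ∧ ψ (Pi.single l 1) = 0
  · obtain ⟨l, hl, hl'⟩ := hA
    obtain ⟨χ, hχ, hT⟩ := tv_of_right (refl_basis hK l) hr hl' hl hc hc1
    exact elem_of_basis_centre hK hc hc1 hχ hT
  by_cases hB : ∃ l, u l = 0 ∧ ψ (Pi.single l 1) ≠ 0
  · obtain ⟨l, hl, hl'⟩ := hB
    obtain ⟨v, hv, hT⟩ := tv_of_left (refl_basis hK l) hr hl' hl hc hc1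
    exact elem_of_basis_axis hK hc hc1 hv hT
  push Not at hA hB
  have hu0 : u ≠ 0 := fun h => ha (by rw [h]; rfl)
  -- second reflection and the conclusion
  suffices key : ∃ e f, Refl K e f ∧ ψ e ≠ 0 ∧ f u ≠ 0 ∧ GoodParam (ψ e * f u) ∧
      ∃ z, ψ z = 0 ∧ f z ≠ 0 by
    obtain ⟨e, f, hef, h1, h2, h3, h4⟩ := key
    obtain ⟨φ, hφ, hφu, hT⟩ := tv_of_general hef hr h1 h2 h3 h4
    exact elem_of_tvs h5 hK hu0 hφ hφu hT
  have hab' : ∀ l, ∃ m, m ≠ l ∧ u m ≠ 0 := fun l => by
    by_cases h : a = l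
    · exact ⟨b, fun e => hab (h.trans e.symm), hb⟩
    · exact ⟨a, h, ha⟩
  by_cases hgood : ∃ l, u l ≠ 0 ∧ GoodParam (ψ (Pi.single l 1) * u l)
  · obtain ⟨l, hl, hlg⟩ := hgood
    obtain ⟨m, hml, hm⟩ := hab' l
    refine ⟨_, _, refl_basis hK l, hA l hl, hl, hlg,
      Pi.single l (ψ (Pi.single m 1)) - Pi.single m (ψ (Pi.single l 1)), ?_, ?_⟩
    · rw [show (Pi.single l (ψ (Pi.single m 1)) : κ → F) = ψ (Pi.single m 1) • Pi.single l 1 by
          rw [← Pi.single_smul, smul_eq_mul, mul_one],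
        show (Pi.single m (ψ (Pi.single l 1)) : κ → F) = ψ (Pi.single l 1) • Pi.single m 1 by
          rw [← Pi.single_smul, smul_eq_mul, mul_one], map_sub, map_smul, map_smul, smul_eq_mul,
        smul_eq_mul]
      ring
    · simp [hml.symm, hA m hm]
  push Not at hgood
  have hq : Fintype.card F = 5 := by
    rcases (show 7 ≤ Fintype.card F ∨ Fintype.card F = 5 ∨ Fintype.card F = 6 by omega) with h | h | h
    · exact absurd (goodParam_of_large h (mul_ne_zero (hA a ha) ha)) (hgood a ha)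
    · exact h
    · exfalso
      have h' := FiniteField.isPrimePow_card F
      rw [h, isPrimePow_nat_iff_bounded] at h'
      revert h'
      decide
  have h5' := five_cast hq
  have hp3 : ∀ l, u l ≠ 0 → u l * ψ (Pi.single l 1) = 3 := fun l hl => by
    by_contra hne
    exact hgood l hl (goodParam_five hq (mul_ne_zero (hA l hl) hl) (by rw [mul_comm]; exact hne))
  have hterm : ∀ l, u l * ψ (Pi.single l 1) = if u l = 0 then 0 else 3 := fun l => by
    split_ifs with h
    · rw [h, zero_mul]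
    · exact hp3 l h
  by_cases hout : ∃ o, u o = 0
  · obtain ⟨o, ho⟩ := hout
    obtain ⟨d, hd⟩ : ∃ d : κ → Fˣ, d = 1 := ⟨_, rfl⟩
    obtain ⟨τ, hτ⟩ : ∃ τ : Equiv.Perm κ, τ = Equiv.swap a o := ⟨_, rfl⟩
    have hψo : ψ (Pi.single o 1) = 0 := by
      by_contra h; exact hA a ha (False.elim (h (hB o ho)))
    have hsum1 : ψ u = 1 := hr.1
    have hval : ∀ x : κ, (monE τ d u) x = u (τ x) := fun x => by
      simp [monE_apply, hd, hτ]
    have hone : ψ (monE τ d u) = 1 - 3 := by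
      have h1 := (sum_pairing (ψ := ψ) u).symm.trans hsum1
      rw [← Finset.add_sum_erase _ _ (Finset.mem_univ a), hp3 a ha] at h1
      rw [sum_pairing (ψ := ψ), ← Finset.add_sum_erase _ _ (Finset.mem_univ a), hval, hτ,
        Equiv.swap_apply_left, ho, zero_mul, zero_add,
        Finset.sum_congr rfl (g := fun i => u i * ψ (Pi.single i 1)) fun i hi => ?_]
      · linear_combination h1
      · rw [hτ] at hval
        rw [hval]
        by_cases hio : i = o
        · subst hio; rw [hψo, mul_zero, mul_zero]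
        · rw [Equiv.swap_apply_of_ne_of_ne (Finset.mem_erase.mp hi).1 hio]
    have htwo : ψ ((monE τ d).symm u) = 1 - 3 := by
      rw [show (monE τ d).symm u = monE τ d u from funext fun x => by
        rw [hval]; show (↑(d x)⁻¹ : F) * u (τ x) = _; simp [hd]]
      exact hone
    have n2 : (1 : F) - 3 ≠ 0 := fun e =>
      five_ne hq 2 (by norm_num) (by norm_num) (by push_cast; linear_combination -e)
    refine ⟨_, _, hr.conj (hK τ d), by rw [hone]; exact n2, by
      simp only [LinearMap.comp_apply, LinearEquiv.coe_coe]; rw [htwo]; exact n2, ?_,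
      Pi.single o 1, hψo, ?_⟩
    · simp only [LinearMap.comp_apply, LinearEquiv.coe_coe]
      rw [hone, htwo]
      refine goodParam_five hq (mul_ne_zero n2 n2) fun e => ?_
      exact five_ne hq 1 (by norm_num) (by norm_num) (by push_cast; linear_combination e)
    · simp only [LinearMap.comp_apply, LinearEquiv.coe_coe]
      rw [show (monE τ d).symm (Pi.single o 1) = (Pi.single a 1 : κ → F) by
        rw [LinearEquiv.symm_apply_eq, monE_single, hd, hτ]; simp]
      exact hA a ha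
  push Not at hout
  obtain ⟨i₁, i₂, i₃, h12, h13, h23⟩ := Fintype.two_lt_card_iff.mp (show 2 < Fintype.card κ by omega)
  have n2 : (2 : F) ≠ 0 := by exact_mod_cast five_ne hq 2 (by norm_num) (by norm_num)
  obtain ⟨d, hd⟩ : ∃ d : κ → Fˣ,
      d = Function.update (Function.update (Function.update (1 : κ → Fˣ) i₁ (Units.mk0 2 n2)) i₂ (Units.mk0 2 n2)) i₃ (-1) :=
    ⟨_, rfl⟩
  have d1 : (d i₁ : F) = 2 := by simp [hd, h13, h12]
  have d2 : (d i₂ : F) = 2 := by simp [hd, h23]
  have d3 : (d i₃ : F) = -1 := by simp [hd]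
  have d1' : (↑(d i₁)⁻¹ : F) = 2⁻¹ := by rw [Units.val_inv_eq_inv_val, d1]
  have d2' : (↑(d i₂)⁻¹ : F) = 2⁻¹ := by rw [Units.val_inv_eq_inv_val, d2]
  have d3' : (↑(d i₃)⁻¹ : F) = -1 := by rw [Units.val_inv_eq_inv_val, d3]; simp
  have hoth : ∀ i, i ≠ i₁ → i ≠ i₂ → i ≠ i₃ → d i = 1 := fun i e1 e2 e3 => by simp [hd, e1, e2, e3]
  have hcalc : ∀ w : κ → F, (∀ i, i ≠ i₁ → i ≠ i₂ → i ≠ i₃ → w i = 1) →
      ∑ i, w i * (u i * ψ (Pi.single i 1)) = 1 + 3 * ((w i₁ - 1) + (w i₂ - 1) + (w i₃ - 1)) := by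
    intro w hw
    have hsum : ∑ i, u i * ψ (Pi.single i 1) = 1 := (sum_pairing u).symm.trans hr.1
    have : ∑ i, (w i - 1) * (u i * ψ (Pi.single i 1)) =
        3 * ((w i₁ - 1) + (w i₂ - 1) + (w i₃ - 1)) := by
      rw [Finset.sum_congr rfl fun i _ => by rw [hp3 i (hout i)]]
      rw [← Finset.sum_subset (Finset.subset_univ ({i₁, i₂, i₃} : Finset κ)) (fun i _ hi => by
        simp only [Finset.mem_insert, Finset.mem_singleton, not_or] at hi
        rw [hw i hi.1 hi.2.1 hi.2.2, sub_self, zero_mul])]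
      simp [h12, h13, h23]
      ring
    simp only [sub_mul, one_mul, Finset.sum_sub_distrib, hsum] at this
    linear_combination this
  have hone : ψ (monE 1 d u) = 1 := by
    rw [sum_pairing (ψ := ψ)]
    have := hcalc (fun i => (d i : F)) (fun i e1 e2 e3 => by simp [hoth i e1 e2 e3])
    simp only [d1, d2, d3] at this
    refine Eq.trans (Finset.sum_congr rfl fun i _ => ?_) (this.trans (by ring))
    rw [monE_apply, mul_assoc]
    simp [Equiv.Perm.one_def]
  have h2i : (2 : F)⁻¹ = 3 := inv_eq_of_mul_eq_one_right (by linear_combination h5')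
  have htwo : ψ ((monE 1 d).symm u) = 2 := by
    rw [monE_symm_pair]
    have := hcalc (fun i => (↑(d i)⁻¹ : F)) (fun i e1 e2 e3 => by simp [hoth i e1 e2 e3])
    simp only [d1', d2', d3', h2i] at this
    refine Eq.trans (Finset.sum_congr rfl fun i _ => ?_) (this.trans (by linear_combination h5'))
    rw [mul_assoc]
    simp [Equiv.Perm.one_def]
  refine ⟨_, _, hr.conj (hK 1 d), by rw [hone]; exact one_ne_zero, by
    simp only [LinearMap.comp_apply, LinearEquiv.coe_coe]; rw [htwo]; exact n2, ?_,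
    Pi.single i₁ (ψ (Pi.single i₃ 1)) - Pi.single i₃ (ψ (Pi.single i₁ 1)), ?_, ?_⟩
  · simp only [LinearMap.comp_apply, LinearEquiv.coe_coe]
    rw [hone, htwo]
    refine goodParam_five hq (mul_ne_zero one_ne_zero n2) fun e => ?_
    exact five_ne hq 1 (by norm_num) (by norm_num) (by push_cast; linear_combination -e)
  · rw [show (Pi.single i₁ (ψ (Pi.single i₃ 1)) : κ → F) = ψ (Pi.single i₃ 1) • Pi.single i₁ 1 by
        rw [← Pi.single_smul, smul_eq_mul, mul_one],
      show (Pi.single i₃ (ψ (Pi.single i₁ 1)) : κ → F) = ψ (Pi.single i₁ 1) • Pi.single i₃ 1 by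
        rw [← Pi.single_smul, smul_eq_mul, mul_one], map_sub, map_smul, map_smul, smul_eq_mul,
      smul_eq_mul]
    ring
  · simp only [LinearMap.comp_apply, LinearEquiv.coe_coe]
    rw [monE_symm_pair, ← Finset.sum_subset (Finset.subset_univ ({i₁, i₃} : Finset κ)) (fun i _ hi => by
      simp only [Finset.mem_insert, Finset.mem_singleton, not_or] at hi
      simp [Equiv.Perm.one_def, Pi.single_apply, hi.1, hi.2])]
    rw [Finset.sum_pair h13, d1', d3', h2i]
    simp [Equiv.Perm.one_def, h13, h13.symm]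
    intro e
    exact mul_ne_zero (mul_ne_zero (hA i₁ (hout i₁)) (hA i₃ (hout i₃)))
      (five_ne hq 4 (by norm_num) (by norm_num)) (by push_cast; linear_combination e)

end Coord

end Cfsg.Agent.MonomialMax
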