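import Cfsg.Agent.Lib.LinearGroups.OrthSigns

/-!
Elements of prime order of `Ω(Q)` in characteristic two and the non-singular points they fix.
-/

set_option autoImplicit false

namespace Cfsg.Agent.NonsingPoints

open Cfsg.Agent Cfsg.Agent.TransvMax Cfsg.Agent.QMax Cfsg.Agent.OrthSimple
open scoped Matrix

variable {ι : Type} [Fintype ι] [DecidableEq ι] {F : Type*} [Field F] [Fintype F]
  {Q : QuadraticForm F (ι → F)}

/-- Non-singular points. -/
def IsPoint (Q : QuadraticForm F (ι → F)) (W : Submodule F (ι → F)) : Prop :=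
  Module.finrank F ↥W = 1 ∧ ∃ v ∈ W, Q v ≠ 0

/-- Every element of the order `r` fixes a non-singular point. -/
def AllFix (Q : QuadraticForm F (ι → F)) (r : ℕ) : Prop :=
  ∀ x : GL ι F, x ∈ Cfsg.Geo.omegaGL ⇑Q →
    (∃ z : F, ((x ^ r : GL ι F) : Matrix ι ι F) = z • (1 : Matrix ι ι F)) →
    (∀ z : F, (x : Matrix ι ι F) ≠ z • (1 : Matrix ι ι F)) →
    ∃ W : Submodule F (ι → F), (Module.finrank F ↥W = 1 ∧ ∃ v ∈ W, Q v ≠ 0) ∧
      W.map (Matrix.toLin' (x : Matrix ι ι F)) ≤ W

variable (S : QSetting Q) (h2 : (2 : F) = 0)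

include S h2

theorem sq_inj {a b : F} (h : a * a = b * b) : a = b := by
  have h' : (a - b) * (a - b) = 0 := by linear_combination h + (b * b - a * b) * h2
  exact sub_eq_zero.1 (mul_self_eq_zero.1 h')

theorem card_points :
    Nat.card {W : Submodule F (ι → F) // Module.finrank F ↥W = 1 ∧ ∃ v ∈ W, Q v ≠ 0} =
      Nat.card {v : ι → F // Q v = 1} := by
  refine (Nat.card_congr (Equiv.ofBijective (fun v : {v : ι → F // Q v = 1} =>
    (⟨Submodule.span F {v.1}, ?_, v.1, Submodule.mem_span_singleton_self _, by rw [v.2]; exact one_ne_zero⟩ :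
      {W : Submodule F (ι → F) // Module.finrank F ↥W = 1 ∧ ∃ v ∈ W, Q v ≠ 0})) ⟨?_, ?_⟩)).symm
  · exact finrank_span_singleton fun e => one_ne_zero (α := F) (by rw [← v.2, e, QuadraticMap.map_zero])
  · intro v w h
    have hm : v.1 ∈ Submodule.span F {w.1} := by
      have := congrArg Subtype.val h
      simp only at this
      rw [← this]; exact Submodule.mem_span_singleton_self _
    obtain ⟨c, hc⟩ := Submodule.mem_span_singleton.1 hm
    have hc1 : c = 1 := sq_inj S h2 (by
      have := v.2
      rw [← hc, QuadraticMap.map_smul, w.2, smul_eq_mul, mul_one] at this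
      rw [this, mul_one])
    exact Subtype.ext (by rw [← hc, hc1, one_smul])
  · rintro ⟨W, hW, v, hv, hQv⟩
    obtain ⟨t, ht⟩ := S.exists_sq h2 (Q v)⁻¹
    have hQ1 : Q (t • v) = 1 := by
      rw [QuadraticMap.map_smul, smul_eq_mul, ht, inv_mul_cancel₀ hQv]
    refine ⟨⟨t • v, hQ1⟩, Subtype.ext (Submodule.eq_of_le_of_finrank_eq ?_ ?_)⟩
    · simpa using W.smul_mem t hv
    · rw [hW]
      exact finrank_span_singleton fun e =>
        one_ne_zero (α := F) (by rw [← hQ1, show t • v = 0 from e, QuadraticMap.map_zero])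

theorem index_eq : (commutator (FormsLib.oGroup Q)).index = 2 := by
  haveI : Finite (FormsLib.oGroup Q) := Finite.of_injective (fun g v => g.1 v) fun g h e =>
    Subtype.ext (LinearEquiv.ext (congrFun e))
  have h := OrthSigns.index_two S h2
  rw [← (commutator (FormsLib.oGroup Q)).index_mul_card, OrthIndex.card_commutator] at h
  haveI : Finite (Om (Q := Q)) := Finite.of_injective (fun g v => g.1 v) fun g h e =>
    Subtype.ext (LinearEquiv.ext (congrFun e))
  exact Nat.eq_of_mul_eq_mul_right Nat.card_pos h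

theorem odd_order_mem {g : (ι → F) ≃ₗ[F] (ι → F)} (hg : g ∈ FormsLib.oGroup Q) {r : ℕ} (hr : Odd r)
    (hgr : g ^ r = 1) : g ∈ Om (Q := Q) := by
  obtain ⟨k, rfl⟩ := hr
  have hsq := Subgroup.sq_mem_of_index_two (index_eq S h2) (⟨g, hg⟩ : FormsLib.oGroup Q)
  rw [← OrthIndex.map_commutator_eq]
  have e : g = ((⟨g, hg⟩ : FormsLib.oGroup Q) ^ 2) ^ (k + 1) := by
    show g = (g ^ 2) ^ (k + 1)
    rw [← pow_mul, show 2 * (k + 1) = (2 * k + 1) + 1 by ring, pow_succ, hgr, one_mul]
  rw [e]
  exact ⟨_, Subgroup.pow_mem _ hsq _, rfl⟩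

theorem point_fixed {g : (ι → F) ≃ₗ[F] (ι → F)} (hg : g ∈ FormsLib.oGroup Q)
    {W : Submodule F (ι → F)} (hW : Module.finrank F ↥W = 1) {v : ι → F} (hv : v ∈ W) (hQv : Q v ≠ 0)
    (hmap : W.map (Matrix.toLin' ((glOf g : GL ι F) : Matrix ι ι F)) ≤ W) : g v = v := by
  have hv0 : v ≠ 0 := fun e => hQv (by rw [e, QuadraticMap.map_zero])
  have hgv : g v ∈ W := hmap ⟨v, hv, by simp [glOf_mulVec]⟩
  obtain ⟨c, hc⟩ := Submodule.mem_span_singleton.1 (show g v ∈ Submodule.span F {v} by
    have hle : Submodule.span F {v} ≤ W := by simpa using hv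
    rw [Submodule.eq_of_le_of_finrank_eq hle (by rw [hW, finrank_span_singleton hv0])]
    exact hgv)
  have h : Q (g v) = Q v := hg v
  rw [← hc, QuadraticMap.map_smul, smul_eq_mul] at h
  have hc1 : c = 1 := sq_inj S h2 (by rw [one_mul]; exact mul_right_cancel₀ hQv (by rw [one_mul]; exact h))
  rw [← hc, hc1, one_smul]

/-- An isometry of odd order without fixed vectors fixes no point. -/
theorem not_allFix_of_fpf {g : (ι → F) ≃ₗ[F] (ι → F)} (hg : g ∈ FormsLib.oGroup Q) {r : ℕ}
    (hr : Odd r) (hgr : g ^ r = 1) (hfix : ∀ v, g v = v → v = 0) : ¬ AllFix Q r := by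
  intro hall
  have hx : glOf g ∈ Cfsg.Geo.omegaGL ⇑Q := by
    rw [omegaGL_eq S]
    exact ⟨g, odd_order_mem S h2 hg hr hgr, rfl⟩
  obtain ⟨W, ⟨hW, v, hv, hQv⟩, hmap⟩ := hall _ hx ⟨1, by rw [← map_pow, hgr, map_one, Units.val_one, one_smul]⟩
    (fun z hz => by
      obtain ⟨p, -, -, hp⟩ := S.topDec.exists_aniso (k := 0) ![]
        (by rw [S.finrank_top_eq]; have := S.dim; omega)
      have hgp : g p = z • p := by
        rw [← glOf_mulVec g p, hz, Matrix.smul_mulVec, Matrix.one_mulVec]
      have h : Q (g p) = Q p := hg p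
      rw [hgp, QuadraticMap.map_smul, smul_eq_mul] at h
      have hz1 : z = 1 := sq_inj S h2 (by rw [one_mul]; exact mul_right_cancel₀ hp (by rw [one_mul]; exact h))
      exact hp (by rw [hfix p (by rw [hgp, hz1, one_smul]), QuadraticMap.map_zero]))
  exact hQv (by rw [hfix v (point_fixed S h2 hg hW hv hQv hmap), QuadraticMap.map_zero])

theorem ts_two_le {W : Submodule F (ι → F)} (hW : ∀ w ∈ W, Q w = 0) :
    2 * Module.finrank F W ≤ Fintype.card ι := by
  have hle : W ≤ (pB Q).orthogonal W := by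
    intro v hv u hu
    show pB Q u v = 0
    have h : Q (u + v) = 0 := hW _ (W.add_mem hu hv)
    rw [S.quad_add, hW u hu, hW v hv] at h
    simpa using h
  have h1 := Submodule.finrank_mono hle
  have h2 : Module.finrank F ↥((pB Q).orthogonal W) = _ :=
    LinearMap.BilinForm.finrank_orthogonal S.nondeg W
  rw [Module.finrank_fintype_fun_eq_card] at h2
  have h3 := Submodule.finrank_le W
  rw [Module.finrank_fintype_fun_eq_card] at h3
  omega

theorem involution_data {x : GL ι F} (hx : x ∈ Cfsg.Geo.omegaGL ⇑Q) 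
    (hz : ∃ z : F, ((x ^ 2 : GL ι F) : Matrix ι ι F) = z • (1 : Matrix ι ι F)) :
    linOf x ∈ Om (Q := Q) ∧ linOf x ∈ FormsLib.oGroup Q ∧ ∀ v, linOf x (linOf x v) = v := by
  rw [omegaGL_eq S] at hx
  obtain ⟨g, hg, rfl⟩ := hx
  have e : linOf (glOf g : GL ι F) = g := LinearEquiv.ext fun v => by rw [linOf_apply, glOf_mulVec]
  rw [e]
  have hgo : g ∈ FormsLib.oGroup Q := by
    have hg' : g ∈ Om (Q := Q) := hg
    rw [← OrthIndex.map_commutator_eq] at hg'
    obtain ⟨g', -, rfl⟩ := hg'
    exact g'.2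
  refine ⟨hg, hgo, ?_⟩
  obtain ⟨z, hz⟩ := hz
  have hgg : ∀ v, g (g v) = z • v := fun v => by
    have := congrArg (fun M : Matrix ι ι F => M *ᵥ v) hz
    rw [← map_pow, pow_two] at this
    simpa only [glOf_mulVec, LinearEquiv.mul_apply, Matrix.smul_mulVec, Matrix.one_mulVec] using this
  obtain ⟨p, -, -, hp⟩ := S.topDec.exists_aniso (k := 0) ![]
    (by rw [S.finrank_top_eq]; have := S.dim; omega)
  have h : Q (g (g p)) = Q p := (hgo (g p)).trans (hgo p)
  rw [hgg, QuadraticMap.map_smul, smul_eq_mul] at h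
  have hz1 : z = 1 := sq_inj S h2 (by rw [one_mul]; exact mul_right_cancel₀ hp (by rw [one_mul]; exact h))
  intro v
  rw [hgg, hz1, one_smul]

/-- An involution fixes a point unless its fixed space is totally singular of half the dimension. -/
theorem involution_fix {x : GL ι F} (hx : x ∈ Cfsg.Geo.omegaGL ⇑Q)
    (hz : ∃ z : F, ((x ^ 2 : GL ι F) : Matrix ι ι F) = z • (1 : Matrix ι ι F)) :
    (∃ W : Submodule F (ι → F), (Module.finrank F ↥W = 1 ∧ ∃ v ∈ W, Q v ≠ 0) ∧
      W.map (Matrix.toLin' (x : Matrix ι ι F)) ≤ W) ∨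
    ∃ T : Submodule F (ι → F), (∀ t ∈ T, Q t = 0) ∧ 2 * Module.finrank F T = Fintype.card ι ∧
      Module.finrank F T % 2 = Fintype.card ι % 2 := by
  obtain ⟨hOm, hgo, hgg⟩ := involution_data S h2 hx hz
  set g := linOf x with hg
  set N := (g : (ι → F) →ₗ[F] (ι → F)) - LinearMap.id
  by_cases hts : ∀ v ∈ LinearMap.ker N, Q v = 0
  · refine Or.inr ⟨_, hts, ?_, OrthSigns.fix_parity S h2 hOm⟩
    have hle : LinearMap.range N ≤ LinearMap.ker N := by
      rintro _ ⟨v, rfl⟩
      rw [LinearMap.mem_ker]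
      simp only [N, LinearMap.sub_apply, LinearEquiv.coe_coe, LinearMap.id_apply, map_sub, hgg]
      funext i
      simp only [Pi.sub_apply, Pi.zero_apply]
      linear_combination (v i - g v i) * h2
    have h1 := LinearMap.finrank_range_add_finrank_ker N
    have h3 := Submodule.finrank_mono hle
    have h4 := ts_two_le S h2 hts
    rw [Module.finrank_fintype_fun_eq_card] at h1
    omega
  · push Not at hts
    obtain ⟨v, hv, hQv⟩ := hts
    have hgv : g v = v := by simpa [N, sub_eq_zero] using hv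
    refine Or.inl ⟨Submodule.span F {v}, ⟨finrank_span_singleton fun e => hQv (by rw [e, QuadraticMap.map_zero]),
      v, Submodule.mem_span_singleton_self v, hQv⟩, ?_⟩
    rw [Submodule.map_span, Set.image_singleton, Submodule.span_singleton_le_iff_mem]
    have : Matrix.toLin' (x : Matrix ι ι F) v = g v := by simp [hg, linOf_apply]
    rw [this, hgv]
    exact Submodule.mem_span_singleton_self v

/-- An involution with totally singular fixed space of even half dimension lies in the derived group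
and fixes no point. -/
theorem not_allFix_involution {g : (ι → F) ≃ₗ[F] (ι → F)} (hg : g ∈ FormsLib.oGroup Q)
    (hgg : g * g = 1) (hts : ∀ v, g v = v → Q v = 0) {d : ℕ} (hd : Fintype.card ι = 2 * d) (hde : Even d)
    (hk : Module.finrank F (LinearMap.ker ((g : (ι → F) →ₗ[F] (ι → F)) - LinearMap.id)) = d) :
    ¬ AllFix Q 2 := by
  intro hall
  set W := LinearMap.ker ((g : (ι → F) →ₗ[F] (ι → F)) - LinearMap.id) with hW
  have hWmem : ∀ v, v ∈ W ↔ g v = v := fun v => by simp [W, sub_eq_zero]
  obtain ⟨p, -, -, hp⟩ := S.topDec.exists_aniso (k := 0) ![]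
    (by rw [S.finrank_top_eq]; have := S.dim; omega)
  have hOm : g ∈ Om (Q := Q) := by
    by_contra hn
    have hrefl := OrthSigns.refl_notMem S h2 hp
    have hgo' : g * FormsLib.refl Q p hp ∈ Om (Q := Q) := by
      rw [← OrthIndex.map_commutator_eq] at hn hrefl ⊢
      refine ⟨⟨g, hg⟩ * ⟨FormsLib.refl Q p hp, FormsLib.refl_mem Q hp⟩,
        (Subgroup.mul_mem_iff_of_index_two (index_eq S h2)).2 (iff_of_false (fun h => hn ⟨_, h, rfl⟩)
          (fun h => hrefl ⟨_, h, rfl⟩)), rfl⟩
    have hpar := OrthSigns.fix_parity S h2 hgo'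
    have hker : LinearMap.ker (((g * FormsLib.refl Q p hp : (ι → F) ≃ₗ[F] (ι → F)) :
        (ι → F) →ₗ[F] (ι → F)) - LinearMap.id) = W ⊓ LinearMap.ker ((pB Q).flip p) := by
      ext v
      simp only [LinearMap.mem_ker, Submodule.mem_inf, LinearMap.sub_apply, LinearEquiv.coe_coe,
        LinearMap.id_apply, sub_eq_zero, LinearEquiv.mul_apply, hWmem]
      have hgi : ∀ w, g (g w) = w := fun w => by
        rw [← LinearEquiv.mul_apply, hgg, LinearEquiv.coe_one, id_eq]
      constructor
      · intro h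
        have h' : FormsLib.refl Q p hp v = g v := by rw [← hgi (FormsLib.refl Q p hp v), h]
        rw [FormsLib.refl_apply] at h'
        have hm : g v - v ∈ W := by
          rw [hWmem, map_sub, hgi]
          funext i
          simp only [Pi.sub_apply]
          linear_combination (v i - g v i) * h2
        rw [← h'] at hm
        have h0 := hts _ ((hWmem _).1 hm)
        rw [sub_sub_cancel_left, QuadraticMap.map_neg, QuadraticMap.map_smul, smul_eq_mul] at h0
        have hc := mul_self_eq_zero.1 ((mul_eq_zero.1 h0).resolve_right hp)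
        rw [hc, zero_smul, sub_zero] at h'
        exact ⟨h'.symm, (mul_eq_zero.1 hc).resolve_left (inv_ne_zero hp)⟩
      · rintro ⟨hgv, hpv⟩
        rw [FormsLib.refl_fix Q hp hpv, hgv]
    rw [hker] at hpar
    have hr : Module.finrank F (LinearMap.range (((pB Q).flip p).comp W.subtype)) = 1 := by
      refine le_antisymm ((Submodule.finrank_le _).trans (le_of_eq (Module.finrank_self F))) ?_
      rw [Nat.one_le_iff_ne_zero, Ne, Submodule.finrank_eq_zero, LinearMap.range_eq_bot]
      intro h0
      -- otherwise `W` plus `p` would be totally singular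
      have hperp : ∀ w ∈ W, pB Q w p = 0 := fun w hw => LinearMap.congr_fun h0 ⟨w, hw⟩
      have hpW : p ∈ W := by
        have hle : W ⊔ Submodule.span F {p} ≤ (pB Q).orthogonal W := by
          refine sup_le (fun v hv u hu => ?_) (by
            rw [Submodule.span_singleton_le_iff_mem]; exact fun u hu => hperp u hu)
          show pB Q u v = 0
          have h : Q (u + v) = 0 := hts _ ((hWmem _).1 (W.add_mem hu hv))
          rw [S.quad_add, hts _ ((hWmem u).1 hu), hts _ ((hWmem v).1 hv)] at h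
          simpa using h
        have h1 := Submodule.finrank_mono hle
        rw [LinearMap.BilinForm.finrank_orthogonal S.nondeg W,
          Module.finrank_fintype_fun_eq_card, hk, hd] at h1
        have h3 : W = W ⊔ Submodule.span F {p} :=
          Submodule.eq_of_le_of_finrank_le le_sup_left (by rw [hk]; omega)
        rw [h3]
        exact Submodule.mem_sup_right (Submodule.mem_span_singleton_self p)
      exact hp (hts p ((hWmem p).1 hpW))
    have h1 := LinearMap.finrank_range_add_finrank_ker (((pB Q).flip p).comp W.subtype)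
    have h5 : Module.finrank F (LinearMap.ker (((pB Q).flip p).comp W.subtype)) =
        Module.finrank F ↥(W ⊓ LinearMap.ker ((pB Q).flip p)) := by
      rw [LinearMap.ker_comp, ← (Submodule.equivMapOfInjective W.subtype W.injective_subtype _).finrank_eq.symm,
        Submodule.map_comap_subtype]
    obtain ⟨k, hk'⟩ := hde
    rw [hd] at hpar
    omega
  have hx : glOf g ∈ Cfsg.Geo.omegaGL ⇑Q := by
    rw [omegaGL_eq S]
    exact ⟨g, hOm, rfl⟩
  obtain ⟨W', ⟨hW', v, hv, hQv⟩, hmap⟩ := hall _ hx
    ⟨1, by rw [← map_pow, pow_two, hgg, map_one, Units.val_one, one_smul]⟩ (fun z hz => by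
      have hgp : g p = z • p := by
        rw [← glOf_mulVec g p, hz, Matrix.smul_mulVec, Matrix.one_mulVec]
      have h : Q (g p) = Q p := hg p
      rw [hgp, QuadraticMap.map_smul, smul_eq_mul] at h
      have hz1 : z = 1 := sq_inj S h2 (by rw [one_mul]; exact mul_right_cancel₀ hp (by rw [one_mul]; exact h))
      exact hp (hts p (by rw [hgp, hz1, one_smul])))
  exact hQv (hts v (point_fixed S h2 hg hW' hv hQv hmap))

end Cfsg.Agent.NonsingPoints
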