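import Cfsg.Agent.Lib.TransvMax.OrthSim
import Mathlib.LinearAlgebra.QuadraticForm.Basic

/-!
In odd characteristic the Siegel transformations lie in the derived group of the orthogonal group
and generate it.
-/

set_option autoImplicit false

namespace Cfsg.Agent.TransvMax

open scoped Matrix MatrixGroups commutatorElement
open Cfsg.Agent

variable {ι : Type} [Fintype ι] [DecidableEq ι] {F : Type*} [Field F] [Finite F]
  {Q : QuadraticForm F (ι → F)} (S : OSetting Q)

include S

omit [Finite F] in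
theorem pB_of_mem {g : (ι → F) ≃ₗ[F] (ι → F)} (hg : g ∈ FormsLib.oGroup Q) (x y : ι → F) :
    pB Q (g x) (g y) = pB Q x y := by
  simp only [QuadraticMap.polarBilin_apply_apply, FormsLib.polar_of_mem hg]

omit [Finite F] in
theorem siegel_mem_oGroup {u w : ι → F} (hu : Q u = 0) (hw : pB Q w u = 0) :
    S.siegel u w hu hw ∈ FormsLib.oGroup Q := fun v => S.siegel_quad hu hw v

omit [Finite F] in
theorem siegel_conj {g : (ι → F) ≃ₗ[F] (ι → F)} (hg : g ∈ FormsLib.oGroup Q) {u w : ι → F}
    (hu : Q u = 0) (hw : pB Q w u = 0) :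
    g * S.siegel u w hu hw * g⁻¹ =
      S.siegel (g u) (g w) (by rw [hg u, hu]) (by rw [pB_of_mem S hg, hw]) := by
  refine LinearEquiv.ext fun x => ?_
  simp only [LinearEquiv.mul_apply, S.siegel_apply, siegelHom_apply, map_sub, map_add, map_smul]
  rw [show (g⁻¹ : (ι → F) ≃ₗ[F] (ι → F)) = g.symm from rfl, LinearEquiv.apply_symm_apply, hg w]
  have e : ∀ z, pB Q (g.symm x) z = pB Q x (g z) := fun z => by
    rw [← pB_of_mem S hg, LinearEquiv.apply_symm_apply]
  rw [e, e]

/-- The group generated by the Siegel transformations. -/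
def siegelGroup : Subgroup ((ι → F) ≃ₗ[F] (ι → F)) :=
  Subgroup.closure {g | ∃ u w, ∃ (hu : Q u = 0) (hw : pB Q w u = 0), g = S.siegel u w hu hw}

omit [Finite F] in
theorem siegel_mem_siegelGroup {u w : ι → F} (hu : Q u = 0) (hw : pB Q w u = 0) :
    S.siegel u w hu hw ∈ siegelGroup S := Subgroup.subset_closure ⟨u, w, hu, hw, rfl⟩

omit [Finite F] in
theorem siegelGroup_le : siegelGroup S ≤ FormsLib.oGroup Q := by
  refine (Subgroup.closure_le _).2 ?_
  rintro _ ⟨u, w, hu, hw, rfl⟩
  exact siegel_mem_oGroup S hu hw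

/-- One Siegel transformation between two independent vectors of equal norm. -/
theorem exists_siegel_map {x y : ι → F} (hli : LinearIndependent F ![x, y]) (h : Q x = Q y) :
    ∃ g ∈ siegelGroup S, g x = y := by
  obtain ⟨u, hu, hu'⟩ := S.exists_sing_values hli (by omega) ![1, 1]
  have hxu : pB Q x u = 1 := by rw [S.pB_comm]; exact hu' 0
  have hyu : pB Q y u = 1 := by rw [S.pB_comm]; exact hu' 1
  have hw : pB Q (y - x) u = 0 := by rw [map_sub, LinearMap.sub_apply, hxu, hyu, sub_self]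
  refine ⟨_, siegel_mem_siegelGroup S hu hw, ?_⟩
  have h2 := S.quad_add x (y - x)
  rw [add_sub_cancel] at h2
  rw [S.siegel_apply, siegelHom_apply, hxu, one_smul, mul_one, sub_sub, ← add_smul,
    show pB Q x (y - x) + Q (y - x) = 0 by linear_combination -h2 - h, zero_smul, sub_zero,
    add_sub_cancel]

/-- A vector of given norm outside two lines. -/
theorem exists_norm_indep {x y : ι → F} (hx : x ≠ 0) (hy : y ≠ 0) (c : F) :
    ∃ z, Q z = c ∧ LinearIndependent F ![x, z] ∧ LinearIndependent F ![z, y] := by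
  obtain ⟨p, hp, hQp⟩ := S.exists_aniso_perp ![x, y] (by omega)
  obtain ⟨r, hr, hQr⟩ := S.exists_aniso_perp ![x, y, p] (by omega)
  obtain ⟨d, hd, hQd⟩ := S.exists_aniso_perp ![x, y, p, r] (by omega)
  have hrp : pB Q r p = 0 := hr 2
  have hdp : pB Q d p = 0 := hd 2
  have hdr : pB Q d r = 0 := hd 3
  obtain ⟨s, t, hst⟩ := S.exists_binary hQr hQd (c - Q p)
  set z := p + (s • r + t • d) with hzdef
  have hval : pB Q z p = 2 * Q p := by simp [hzdef, S.pB_self, hrp, hdp]
  have key : ∀ v, pB Q p v = 0 → ∀ a : F, a • v ≠ z := fun v hv a e =>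
    mul_ne_zero S.two_ne hQp (by
      rw [← hval, ← e, map_smul, LinearMap.smul_apply, S.pB_comm v p, hv, smul_zero])
  refine ⟨z, ?_, LinearIndependent.pair_iff' hx |>.2 (key x (hp 0)),
    LinearIndependent.pair_symm_iff.1 (LinearIndependent.pair_iff' hy |>.2 (key y (hp 1)))⟩
  simp only [hzdef, S.quad_add, S.quad_smul, map_add, map_smul, LinearMap.smul_apply,
    smul_eq_mul, S.pB_comm p r, S.pB_comm p d, S.pB_comm r d, hrp, hdp, hdr, mul_zero, add_zero]
  linear_combination hst

/-- Transitivity on non-zero vectors of equal norm. -/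
theorem exists_siegelGroup_map {x y : ι → F} (hx : x ≠ 0) (hy : y ≠ 0) (h : Q x = Q y) :
    ∃ g ∈ siegelGroup S, g x = y := by
  obtain ⟨z, hz, h1, h2⟩ := exists_norm_indep S hx hy (Q x)
  obtain ⟨g₁, hg₁, e₁⟩ := exists_siegel_map S h1 hz.symm
  obtain ⟨g₂, hg₂, e₂⟩ := exists_siegel_map S h2 (hz.trans h)
  exact ⟨g₂ * g₁, mul_mem hg₂ hg₁, by rw [LinearEquiv.mul_apply, e₁, e₂]⟩

omit [Finite F] in
/-- The orthogonal group is generated by reflections. -/
theorem oGroup_le_closure_refl :
    FormsLib.oGroup Q ≤ Subgroup.closure {g | ∃ v, ∃ hv : Q v ≠ 0, g = FormsLib.refl Q v hv} := by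
  classical
  haveI : Invertible (2 : F) := invertibleOfNonzero S.two_ne
  obtain ⟨b, hb⟩ := LinearMap.BilinForm.exists_orthogonal_basis (B := pB Q)
    ⟨fun x y => S.pB_comm x y⟩
  have hQb : ∀ i, Q (b i) ≠ 0 := by
    intro i e
    refine b.ne_zero i (S.eq_of_forall fun x => ?_)
    rw [map_zero, ← b.sum_repr x, map_sum, LinearMap.sum_apply]
    refine Finset.sum_eq_zero fun j _ => ?_
    rcases eq_or_ne j i with rfl | hji
    · rw [map_smul, LinearMap.smul_apply, S.pB_self, e, mul_zero, smul_zero]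
    · rw [map_smul, LinearMap.smul_apply, show pB Q (b j) (b i) = 0 from hb hji, smul_zero]
  set R := Subgroup.closure {g | ∃ v, ∃ hv : Q v ≠ 0, g = FormsLib.refl Q v hv}
  suffices h : ∀ s : Finset _, ∀ g ∈ FormsLib.oGroup Q, (∀ i, i ∉ s → g (b i) = b i) → g ∈ R from
    fun g hg => h Finset.univ g hg fun i hi => absurd (Finset.mem_univ i) hi
  intro s
  induction s using Finset.induction_on with
  | empty =>
    intro g _ hfix
    have : g = 1 := b.ext' fun i => hfix i (Finset.notMem_empty i)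
    rw [this]
    exact R.one_mem
  | insert i s hi ih =>
    intro g hg hfix
    have hperp : ∀ j, j ∉ insert i s → pB Q (b j) (g (b i)) = 0 ∧ pB Q (b j) (b i) = 0 := by
      intro j hj
      have hji : pB Q (b j) (b i) = 0 :=
        hb fun e => hj (e ▸ Finset.mem_insert_self i s)
      exact ⟨by rw [← hfix j hj, pB_of_mem S hg, hji], hji⟩
    have hfixv : ∀ v (hv : Q v ≠ 0), (∀ j, j ∉ insert i s → pB Q (b j) v = 0) →
        ∀ j, j ∉ insert i s → FormsLib.refl Q v hv (b j) = b j := fun v hv h j hj =>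
      FormsLib.refl_fix Q hv (h j hj)
    -- an element of `R` taking `g (b i)` back to `b i`
    obtain ⟨r, hr, hro, hri, hrfix⟩ : ∃ r ∈ R, r ∈ FormsLib.oGroup Q ∧ r (g (b i)) = b i ∧
        ∀ j, j ∉ insert i s → r (b j) = b j := by
      by_cases hd : Q (g (b i) - b i) ≠ 0
      · exact ⟨_, Subgroup.subset_closure ⟨_, hd, rfl⟩, FormsLib.refl_mem Q hd,
          FormsLib.refl_sub_apply Q (hg _) hd, hfixv _ hd fun j hj => by
            rw [map_sub, (hperp j hj).1, (hperp j hj).2, sub_zero]⟩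
      · push Not at hd
        have hd' : Q (g (b i) - -b i) ≠ 0 := by
          intro e
          rw [sub_neg_eq_add, S.quad_add] at e
          have h1 := S.quad_add (g (b i) - b i) (b i)
          rw [sub_add_cancel, hd, map_sub, LinearMap.sub_apply, S.pB_self] at h1
          have h4 : 4 * Q (b i) = 0 := by linear_combination e + h1 - 2 * hg (b i)
          refine mul_ne_zero ?_ (hQb i) h4
          rw [show (4 : F) = 2 * 2 by norm_num]
          exact mul_ne_zero S.two_ne S.two_ne
        refine ⟨FormsLib.refl Q (b i) (hQb i) * FormsLib.refl Q _ hd',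
          mul_mem (Subgroup.subset_closure ⟨_, _, rfl⟩) (Subgroup.subset_closure ⟨_, _, rfl⟩),
          mul_mem (FormsLib.refl_mem Q _) (FormsLib.refl_mem Q _), ?_, fun j hj => ?_⟩
        · rw [LinearEquiv.mul_apply, FormsLib.refl_sub_apply Q (by rw [hg _, QuadraticMap.map_neg]) hd',
            map_neg, FormsLib.refl_self, neg_neg]
        · rw [LinearEquiv.mul_apply, hfixv _ hd' (fun j hj => by
            rw [map_sub, map_neg, (hperp j hj).1, (hperp j hj).2, neg_zero, sub_zero]) j hj,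
            hfixv _ (hQb i) (fun j hj => (hperp j hj).2) j hj]
    have h1 : r * g ∈ R := ih _ (mul_mem hro hg) fun j hj => by
      rw [LinearEquiv.mul_apply]
      by_cases hji : j = i
      · rw [hji, hri]
      · have hj' : j ∉ insert i s := by simp [hji, hj]
        rw [hfix j hj', hrfix j hj']
    simpa using R.mul_mem (R.inv_mem hr) h1

/-- Commutators of isometries are products of Siegel transformations. -/
theorem commutator_le_siegelGroup :
    ⁅FormsLib.oGroup Q, FormsLib.oGroup Q⁆ ≤ siegelGroup S := by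
  set Sg := siegelGroup S with hSg
  have hN : ∀ g ∈ FormsLib.oGroup Q, ∀ s ∈ Sg, g * s * g⁻¹ ∈ Sg := by
    intro g hg s hs
    induction hs using Subgroup.closure_induction with
    | mem x hx =>
      obtain ⟨u, w, hu, hw, rfl⟩ := hx
      rw [siegel_conj S hg]
      exact siegel_mem_siegelGroup S _ _
    | one => simp
    | mul a b _ _ ha hb =>
      have := mul_mem ha hb
      simpa [mul_assoc] using this
    | inv a _ ha =>
      have := inv_mem ha
      simpa [mul_assoc] using this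
  -- two commuting reflections
  obtain ⟨p, -, hQp⟩ := S.exists_aniso_perp (k := 0) ![] (by omega)
  obtain ⟨r, hr, hQr⟩ := S.exists_aniso_perp ![p] (by omega)
  obtain ⟨e, he, hQe⟩ := S.exists_aniso_perp ![p, r] (by omega)
  obtain ⟨ν, hν⟩ := FiniteField.exists_nonsquare (F := F) S.odd
  have hν0 : ν ≠ 0 := fun e => hν (e ▸ IsSquare.zero)
  obtain ⟨s, t, hst⟩ := S.exists_binary hQr hQe (ν * Q p)
  set p' := s • r + t • e with hp'def
  have hrp : pB Q r p = 0 := hr 0
  have hep : pB Q e p = 0 := he 0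
  have her : pB Q e r = 0 := he 1
  have hQp' : Q p' = ν * Q p := by
    simp only [hp'def, S.quad_add, S.quad_smul, map_smul, LinearMap.smul_apply, smul_eq_mul,
      S.pB_comm r e, her, mul_zero, add_zero]
    linear_combination hst
  have hp'p : pB Q p' p = 0 := by simp [hp'def, hrp, hep]
  have hp'0 : Q p' ≠ 0 := by rw [hQp']; exact mul_ne_zero hν0 hQp
  set A := FormsLib.refl Q p hQp
  set B := FormsLib.refl Q p' hp'0
  have hAB : A * B = B * A := by
    have h := FormsLib.refl_conj Q hQp (FormsLib.refl_mem Q hp'0)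
    have e2 : FormsLib.refl Q p' hp'0 p = p := FormsLib.refl_fix Q hp'0 (by
      rw [QuadraticMap.polar_comm]; exact hp'p)
    rw [FormsLib.refl_congr Q _ hQp e2, mul_inv_eq_iff_eq_mul] at h
    exact h.symm
  let Rg : Subgroup ((ι → F) ≃ₗ[F] (ι → F)) := Subgroup.closure {A, B}
  have hRo : Rg ≤ FormsLib.oGroup Q := (Subgroup.closure_le _).2 (by
    rintro x (rfl | rfl) <;> exact FormsLib.refl_mem Q _)
  have hRc : ∀ a ∈ Rg, ∀ b ∈ Rg, a * b = b * a := by
    have hgen : ∀ a ∈ ({A, B} : Set _), ∀ b ∈ ({A, B} : Set _), a * b = b * a := by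
      rintro a (rfl | rfl) b (rfl | rfl) <;> first | rfl | exact hAB | exact hAB.symm
    haveI := Subgroup.isMulCommutative_closure hgen
    intro a ha b hb
    exact congrArg Subtype.val (IsMulCommutative.is_comm.comm (⟨a, ha⟩ : Rg) ⟨b, hb⟩)
  -- every isometry is a product
  let M : Subgroup ((ι → F) ≃ₗ[F] (ι → F)) :=
    { carrier := {g | ∃ x ∈ Sg, ∃ y ∈ Rg, g = x * y}
      one_mem' := ⟨1, one_mem _, 1, one_mem _, by simp⟩
      mul_mem' := by
        rintro _ _ ⟨x, hx, y, hy, rfl⟩ ⟨x', hx', y', hy', rfl⟩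
        exact ⟨x * (y * x' * y⁻¹), mul_mem hx (hN y (hRo hy) x' hx'), y * y', mul_mem hy hy',
          by group⟩
      inv_mem' := by
        rintro _ ⟨x, hx, y, hy, rfl⟩
        exact ⟨y⁻¹ * x⁻¹ * y⁻¹⁻¹, hN _ (inv_mem (hRo hy)) _ (inv_mem hx), y⁻¹, inv_mem hy,
          by group⟩ }
  have hOM : FormsLib.oGroup Q ≤ M := by
    refine (oGroup_le_closure_refl S).trans ((Subgroup.closure_le _).2 ?_)
    rintro _ ⟨v, hv, rfl⟩
    have key : ∀ (z : ι → F) (hz : Q z ≠ 0), FormsLib.refl Q z hz ∈ Rg →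
        (∃ c : F, c ≠ 0 ∧ Q v = c * c * Q z) → FormsLib.refl Q v hv ∈ M := by
      rintro z hz hzR ⟨c, hc, hcz⟩
      obtain ⟨g, hg, hgz⟩ := exists_siegelGroup_map S
        (smul_ne_zero hc fun e => hz (by rw [e, QuadraticMap.map_zero]))
        (fun e => hv (by rw [e, QuadraticMap.map_zero])) ((S.quad_smul c z).trans hcz.symm)
      have e1 : FormsLib.refl Q (c • z) (by rw [S.quad_smul]; exact mul_ne_zero (mul_ne_zero hc hc) hz) =
          FormsLib.refl Q z hz := LinearEquiv.ext fun x => by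
        rw [FormsLib.refl_apply, FormsLib.refl_apply, QuadraticMap.polar_smul_right, S.quad_smul,
          smul_smul, smul_eq_mul]
        congr 2
        field_simp
      have h1 := FormsLib.refl_conj Q (v := c • z) (by
        rw [S.quad_smul]; exact mul_ne_zero (mul_ne_zero hc hc) hz) (siegelGroup_le S hg)
      rw [FormsLib.refl_congr Q _ hv hgz, e1] at h1
      set T := FormsLib.refl Q z hz
      refine ⟨g * (T * g⁻¹ * T⁻¹), mul_mem hg (hN T (hRo hzR) _ (inv_mem hg)), T, hzR, ?_⟩
      rw [← h1]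
      group
    rcases em (IsSquare (Q v / Q p)) with ⟨c, hc⟩ | hns
    · refine key p hQp (Subgroup.subset_closure (Or.inl rfl)) ⟨c, fun e => ?_, ?_⟩
      · rw [e, mul_zero, div_eq_zero_iff] at hc
        exact hc.elim hv hQp
      · rw [← hc, div_mul_cancel₀ _ hQp]
    · obtain ⟨c, hc⟩ : IsSquare (Q v / (ν * Q p)) := by
        haveI := Fintype.ofFinite F
        have hd : Q v / Q p ≠ 0 := div_ne_zero hv hQp
        have h1 := (FiniteField.isSquare_iff S.odd hd).not.1 hns
        have h2 := (FiniteField.isSquare_iff S.odd hν0).not.1 hν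
        have h3 : Q v / (ν * Q p) ≠ 0 := div_ne_zero hv (mul_ne_zero hν0 hQp)
        refine (FiniteField.isSquare_iff S.odd h3).2 ?_
        have h1' := (FiniteField.pow_dichotomy S.odd hd).resolve_left h1
        have h2' := (FiniteField.pow_dichotomy S.odd hν0).resolve_left h2
        rw [show Q v / (ν * Q p) = Q v / Q p / ν by rw [div_div, mul_comm ν], div_pow, h1', h2',
          div_self (neg_ne_zero.2 one_ne_zero)]
      refine key p' hp'0 (Subgroup.subset_closure (Or.inr rfl)) ⟨c, fun e => ?_, ?_⟩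
      · rw [e, mul_zero, div_eq_zero_iff] at hc
        exact hc.elim hv (mul_ne_zero hν0 hQp)
      · rw [hQp', ← hc, div_mul_cancel₀ _ (mul_ne_zero hν0 hQp)]
  rw [Subgroup.commutator_le]
  intro g hg h hh
  obtain ⟨x, hx, y, hy, rfl⟩ := hOM hg
  obtain ⟨x', hx', y', hy', rfl⟩ := hOM hh
  have e : ⁅x * y, x' * y'⁆ = x * (y * x' * y⁻¹) * ((y * y' * y⁻¹) * x⁻¹ * y'⁻¹) * x'⁻¹ := by
    rw [commutatorElement_def]
    group
  have hc1 : y * y' * y⁻¹ = y' := by rw [hRc y hy y' hy', mul_inv_cancel_right]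
  rw [e, hc1]
  exact mul_mem (mul_mem (mul_mem hx (hN y (hRo hy) x' hx'))
    (hN y' (hRo hy') x⁻¹ (inv_mem hx))) (inv_mem hx')

/-- A Siegel transformation is a commutator of isometries. -/
theorem siegel_mem_commutator {u w : ι → F} (hu : Q u = 0) (hw : pB Q w u = 0) :
    S.siegel u w hu hw ∈ ⁅FormsLib.oGroup Q, FormsLib.oGroup Q⁆ := by
  by_cases hu0 : u = 0
  · have : S.siegel u w hu hw = 1 := LinearEquiv.ext fun x => by
      rw [S.siegel_apply, siegelHom_apply, hu0]
      simp
    rw [this]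
    exact one_mem _
  by_cases hwu : w ∈ Submodule.span F {u}
  · obtain ⟨c, rfl⟩ := Submodule.mem_span_singleton.1 hwu
    have : S.siegel u (c • u) hu hw = 1 := LinearEquiv.ext fun x => by
      rw [S.siegel_apply, siegelHom_apply, map_smul, S.quad_smul, hu, smul_eq_mul]
      show _ = x
      module
    rw [this]
    exact one_mem _
  obtain ⟨u', hu', hu''⟩ := S.exists_sing_values (sing_indep_pair S hu0 hwu) (by omega) ![0, 1]
  have hu'w : pB Q u' w = 0 := hu'' 0
  have hu'u : pB Q u' u = 1 := hu'' 1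
  have huu : pB Q u u = 0 := by rw [S.pB_self, hu, mul_zero]
  have hu'u' : pB Q u' u' = 0 := by rw [S.pB_self, hu', mul_zero]
  have e1 : Q (u + u') ≠ 0 := by
    rw [S.quad_add, hu, hu', S.pB_comm, hu'u]; simp
  have e2 : Q (u - u') ≠ 0 := by
    rw [sub_eq_add_neg, S.quad_add, hu, QuadraticMap.map_neg, hu', map_neg, S.pB_comm, hu'u]; simp
  set h := FormsLib.refl Q _ e1 * FormsLib.refl Q _ e2
  have hh : h ∈ FormsLib.oGroup Q := mul_mem (FormsLib.refl_mem Q e1) (FormsLib.refl_mem Q e2)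
  have hhu : h u = -u := by
    simp only [h, LinearEquiv.mul_apply, FormsLib.refl_apply, map_sub, map_smul,
      ← QuadraticMap.polarBilin_apply_apply, map_add, sub_eq_add_neg u u', S.quad_add,
      QuadraticMap.map_neg, map_neg, LinearMap.neg_apply, LinearMap.add_apply, S.pB_comm u u', hu, hu',
      hu'u, huu, hu'u']
    match_scalars <;> field_simp <;> ring
  have hhw : ∀ z, pB Q z u = 0 → pB Q z u' = 0 → h z = z := fun z h1 h2 => by
    rw [LinearEquiv.mul_apply, FormsLib.refl_fix Q e2, FormsLib.refl_fix Q e1]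
    · rw [← QuadraticMap.polarBilin_apply_apply, map_add, h1, h2, add_zero]
    · rw [← QuadraticMap.polarBilin_apply_apply, map_sub, h1, h2, sub_zero]
  set c : F := -(2 : F)⁻¹
  have hcw : pB Q (c • w) u = 0 := by rw [map_smul, LinearMap.smul_apply, hw, smul_zero]
  have key : ⁅h, S.siegel u (c • w) hu hcw⁆ = S.siegel u w hu hw := by
    rw [commutatorElement_def, mul_inv_eq_iff_eq_mul, siegel_conj S hh]
    refine LinearEquiv.ext fun x => ?_
    simp only [LinearEquiv.mul_apply, S.siegel_apply]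
    rw [S.siegelHom_siegelHom hu hw hcw, hhw (c • w) hcw (by
        rw [map_smul, LinearMap.smul_apply, S.pB_comm, hu'w, smul_zero]), hhu]
    rw [show w + c • w = (-c) • w by
      rw [show w + c • w = (1 + c) • w by rw [add_smul, one_smul]]
      congr 1
      show 1 + c = -c
      have := S.two_ne
      simp only [c]; field_simp; ring]
    simp only [siegelHom_apply, map_neg, map_smul, S.quad_smul, smul_eq_mul]
    module
  rw [← key]
  exact Subgroup.commutator_mem_commutator hh (siegel_mem_oGroup S hu hcw)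

omit [Finite F] in
theorem glOf_mem_isometryGroup {g : (ι → F) ≃ₗ[F] (ι → F)} :
    glOf g ∈ Cfsg.isometryGroup F ⇑Q ↔ g ∈ FormsLib.oGroup Q := by
  refine ⟨fun h v => ?_, fun h u v => ?_⟩
  · have := h v v
    simpa using this
  · show Q (((glOf g : GL ι F) : Matrix ι ι F) *ᵥ u) = Q u
    rw [glOf_mulVec]
    exact h u

omit [Finite F] in
theorem omegaGL_eq : Cfsg.Geo.omegaGL ⇑Q = ⁅FormsLib.oGroup Q, FormsLib.oGroup Q⁆.map glOf := by
  have h : (FormsLib.oGroup Q).map (glOf (ι := ι) (F := F)) = Cfsg.isometryGroup F ⇑Q := by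
    refine le_antisymm (Subgroup.map_le_iff_le_comap.2 fun g hg => (glOf_mem_isometryGroup S).2 hg)
      fun g hg => ⟨linOf g, ?_, glOf_linOf g⟩
    rw [← glOf_linOf g] at hg
    exact (glOf_mem_isometryGroup S).1 hg
  rw [Subgroup.map_commutator, h, Cfsg.Geo.omegaGL, Cfsg.Omega, map_commutator_eq]
  simp

theorem glOf_siegel_mem_omega {u w : ι → F} (hu : Q u = 0) (hw : pB Q w u = 0) :
    glOf (S.siegel u w hu hw) ∈ Cfsg.Geo.omegaGL ⇑Q := by
  rw [omegaGL_eq S]
  exact ⟨_, siegel_mem_commutator S hu hw, rfl⟩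

omit [Finite F] in
theorem omegaGL_iso {g : GL ι F} (hg : g ∈ Cfsg.Geo.omegaGL ⇑Q) : linOf g ∈ FormsLib.oGroup Q := by
  obtain ⟨x, -, rfl⟩ := hg
  exact fun v => x.2 v v

/-- The criterion for maximality inside the derived orthogonal group. -/
theorem omegaGL_le_of_siegel {K : Subgroup (GL ι F)}
    (h : ∀ u w (hu : Q u = 0) (hw : pB Q w u = 0), glOf (S.siegel u w hu hw) ∈ K) :
    Cfsg.Geo.omegaGL ⇑Q ≤ K := by
  rw [omegaGL_eq S, Subgroup.map_le_iff_le_comap]
  refine (commutator_le_siegelGroup S).trans ((Subgroup.closure_le _).2 ?_)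
  rintro _ ⟨u, w, hu, hw, rfl⟩
  exact h u w hu hw

theorem maximal_in_omegaGL (H : Subgroup (GL ι F)) (hH : H ≤ Cfsg.Geo.omegaGL ⇑Q)
    (hne : ∃ g ∈ Cfsg.Geo.omegaGL ⇑Q, g ∉ H)
    (hover : ∀ K : Subgroup (GL ι F), H ≤ K → K ≤ Cfsg.Geo.omegaGL ⇑Q → (∃ g ∈ K, g ∉ H) →
      ∀ u w (hu : Q u = 0) (hw : pB Q w u = 0), glOf (S.siegel u w hu hw) ∈ K) :
    Cfsg.Geo.IsMaximalIn (Cfsg.Geo.omegaGL ⇑Q) H := by
  obtain ⟨g₀, hg₀, hg₀H⟩ := hne
  refine ⟨lt_of_le_of_ne hH fun e => hg₀H (e ▸ hg₀), fun K hHK hK => ?_⟩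
  rcases hHK.eq_or_lt with e | hlt
  · exact Or.inl e.symm
  exact Or.inr (le_antisymm hK
    (omegaGL_le_of_siegel S (hover K hHK hK (SetLike.exists_of_lt hlt))))

end Cfsg.Agent.TransvMax
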