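import Cfsg.Agent.Lib.TransvMax.OrthOmega

/-!
Singular vectors inside a member of an orthogonal pair of subspaces, and elements of the derived
orthogonal group attached to them.
-/

set_option autoImplicit false

namespace Cfsg.Agent.TransvMax

open scoped Matrix MatrixGroups commutatorElement
open Cfsg.Agent

variable {ι : Type} [Fintype ι] [DecidableEq ι] {F : Type*} [Field F]
  {Q : QuadraticForm F (ι → F)}

/-- An orthogonal splitting of the space. -/
structure ODec (S : OSetting Q) (W U : Submodule F (ι → F)) : Prop where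
  compl : IsCompl W U
  orth : ∀ a ∈ W, ∀ b ∈ U, pB Q a b = 0

namespace ODec

variable {S : OSetting Q} {W U : Submodule F (ι → F)} (D : ODec S W U)

include D

theorem swap : ODec S U W :=
  ⟨D.compl.symm, fun a ha b hb => by rw [S.pB_comm]; exact D.orth b hb a ha⟩

theorem orth' {a : ι → F} (ha : a ∈ W) {b : ι → F} (hb : b ∈ U) : pB Q b a = 0 := by
  rw [S.pB_comm]; exact D.orth a ha b hb

theorem decomp (x : ι → F) : ∃ a ∈ W, ∃ b ∈ U, a + b = x :=
  Submodule.mem_sup.1 (D.compl.sup_eq_top.ge (Submodule.mem_top (x := x)))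

theorem eq_zero {x : ι → F} (hW : x ∈ W) (hU : x ∈ U) : x = 0 :=
  Submodule.disjoint_def.1 D.compl.disjoint x hW hU

theorem mem_W {x : ι → F} (h : ∀ b ∈ U, pB Q x b = 0) : x ∈ W := by
  obtain ⟨a, ha, b, hb, rfl⟩ := D.decomp x
  have hb0 : b = 0 := S.eq_of_forall fun z => by
    obtain ⟨a', ha', b', hb', rfl⟩ := D.decomp z
    have h1 := h b' hb'
    rw [map_add, LinearMap.add_apply, D.orth a ha b' hb', zero_add, S.pB_comm] at h1
    rw [map_zero, map_add, LinearMap.add_apply, D.orth a' ha' b hb, h1, add_zero]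
  rw [hb0, add_zero]
  exact ha

theorem exists_ne {b : ι → F} (hb : b ∈ U) (hb0 : b ≠ 0) : ∃ c ∈ U, pB Q c b ≠ 0 := by
  by_contra hc
  push Not at hc
  refine hb0 (D.eq_zero (D.mem_W fun c hcU => ?_) hb)
  rw [S.pB_comm]; exact hc c hcU

theorem finrank_add : Module.finrank F W + Module.finrank F U = Fintype.card ι := by
  have h := Submodule.finrank_sup_add_finrank_inf_eq W U
  rw [D.compl.sup_eq_top, D.compl.inf_eq_bot, finrank_top, finrank_bot,
    Module.finrank_fintype_fun_eq_card] at h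
  omega

theorem finrank_ker {k : ℕ} (v : Fin k → ι → F) :
    Module.finrank F U ≤
      Module.finrank F ↥(U ⊓ LinearMap.ker (LinearMap.pi fun i => (pB Q).flip (v i))) + k := by
  set L : (ι → F) →ₗ[F] (Fin k → F) := LinearMap.pi fun i => (pB Q).flip (v i)
  have h1 := Submodule.finrank_sup_add_finrank_inf_eq U (LinearMap.ker L)
  have h3 := LinearMap.finrank_range_add_finrank_ker L
  have h4 := Submodule.finrank_le (LinearMap.range L)
  have h5 := Submodule.finrank_le (U ⊔ LinearMap.ker L)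
  rw [Module.finrank_fintype_fun_eq_card, Fintype.card_fin] at h4
  rw [Module.finrank_fintype_fun_eq_card] at h3 h5
  omega

theorem exists_aniso {k : ℕ} (v : Fin k → ι → F) (hk : 2 * k < Module.finrank F U) :
    ∃ p ∈ U, (∀ i, pB Q p (v i) = 0) ∧ Q p ≠ 0 := by
  by_contra hc
  push Not at hc
  set M := U ⊓ LinearMap.ker (LinearMap.pi fun i => (pB Q).flip (v i))
  have hQ : ∀ p ∈ M, Q p = 0 := fun p hp => hc p hp.1 fun i => congrFun hp.2 i
  have hle : W ⊔ M ≤ LinearMap.BilinForm.orthogonal (pB Q) M := by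
    refine sup_le (fun x hx y hy => ?_) fun x hx y hy => ?_
    · exact D.orth' hx hy.1
    · show pB Q y x = 0
      have h := S.quad_add y x
      rw [hQ _ (M.add_mem hy hx), hQ _ hy, hQ _ hx] at h
      linear_combination -h
  have h1 := Submodule.finrank_mono hle
  rw [LinearMap.BilinForm.finrank_orthogonal S.nondeg, Module.finrank_fintype_fun_eq_card] at h1
  have h2 := Submodule.finrank_sup_add_finrank_inf_eq W M
  rw [disjoint_iff.1 (D.compl.disjoint.mono_right (inf_le_left : M ≤ U)), finrank_bot] at h2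
  have h3 : Module.finrank F U ≤ Module.finrank F ↥M + k := D.finrank_ker v
  have h4 := D.finrank_add
  omega

theorem exists_aniso_ne {b : ι → F} (hb : b ∈ U) (hb0 : b ≠ 0) :
    ∃ p ∈ U, Q p ≠ 0 ∧ pB Q b p ≠ 0 := by
  obtain ⟨c, hc, hcb⟩ := D.exists_ne hb hb0
  rw [S.pB_comm] at hcb
  by_cases hQb : Q b = 0
  · by_cases hQc : Q c = 0
    · refine ⟨b + c, U.add_mem hb hc, ?_, ?_⟩
      · rw [S.quad_add, hQb, hQc, zero_add, zero_add]; exact hcb
      · rw [map_add, S.pB_self, hQb, mul_zero, zero_add]; exact hcb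
    · exact ⟨c, hc, hQc, hcb⟩
  · exact ⟨b, hb, hQb, by rw [S.pB_self]; exact mul_ne_zero S.two_ne hQb⟩

variable [Finite F]

/-- Prescribed values and norm inside one member. -/
theorem exists_values_in {k : ℕ} {v : Fin k → ι → F} (hvU : ∀ i, v i ∈ U)
    (hv : LinearIndependent F v) (hk : 2 * (k + 1) < Module.finrank F U) (α : Fin k → F) (γ : F) :
    ∃ x ∈ U, Q x = γ ∧ ∀ i, pB Q x (v i) = α i := by
  obtain ⟨p, hpU, hp, hQp⟩ := D.exists_aniso v (by omega)
  obtain ⟨r, hrU, hr, hQr⟩ := D.exists_aniso (Fin.cons p v : Fin (k + 1) → ι → F) hk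
  have hrp : pB Q r p = 0 := by simpa using hr 0
  have hrv : ∀ i, pB Q r (v i) = 0 := fun i => by simpa using hr i.succ
  have hli : LinearIndependent F (Fin.cons r (Fin.cons p v) : Fin (k + 2) → ι → F) := by
    have hspan : ∀ (z : ι → F) {m : ℕ} (w : Fin m → ι → F), (∀ i, pB Q z (w i) = 0) →
        Submodule.span F (Set.range w) ≤ LinearMap.ker (pB Q z) := fun z m w h => by
      rw [Submodule.span_le]
      rintro _ ⟨i, rfl⟩
      exact h i
    refine linearIndependent_finCons.2 ⟨linearIndependent_finCons.2 ⟨hv, fun h => ?_⟩, fun h => ?_⟩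
    · have h1 : pB Q p p = 0 := hspan p v hp h
      rw [S.pB_self] at h1
      exact mul_ne_zero S.two_ne hQp h1
    · have h1 : pB Q r r = 0 := hspan r _ (fun i => by
        refine Fin.cases ?_ (fun j => ?_) i
        · simpa using hrp
        · simpa using hrv j) h
      rw [S.pB_self] at h1
      exact mul_ne_zero S.two_ne hQr h1
  obtain ⟨x₁, hx₁⟩ := S.exists_values hli (Fin.cons 0 (Fin.cons 0 α))
  obtain ⟨a, ha, x₀, hx₀, rfl⟩ := D.decomp x₁
  have hval : ∀ z ∈ U, pB Q (a + x₀) z = pB Q x₀ z := fun z hz => by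
    rw [map_add, LinearMap.add_apply, D.orth a ha z hz, zero_add]
  have hx0r : pB Q x₀ r = 0 := by rw [← hval r hrU]; simpa using hx₁ 0
  have hx0p : pB Q x₀ p = 0 := by rw [← hval p hpU]; simpa using hx₁ (Fin.succ 0)
  have hx0v : ∀ i, pB Q x₀ (v i) = α i := fun i => by
    rw [← hval _ (hvU i)]; simpa using hx₁ i.succ.succ
  obtain ⟨s, t, hst⟩ := S.exists_binary hQp hQr (γ - Q x₀)
  refine ⟨x₀ + (s • p + t • r), U.add_mem hx₀ (U.add_mem (U.smul_mem _ hpU) (U.smul_mem _ hrU)),
    ?_, fun i => ?_⟩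
  · simp only [S.quad_add, S.quad_smul, map_add, map_smul, LinearMap.smul_apply,
      smul_eq_mul, S.pB_comm p r, hrp, hx0p, hx0r, mul_zero, add_zero]
    linear_combination hst
  · simp only [map_add, map_smul, LinearMap.add_apply, LinearMap.smul_apply, hp i, hrv i, smul_zero,
      add_zero, hx0v]

/-- A singular vector of one member orthogonal to a few vectors, outside a small subspace. -/
theorem exists_sing_out {k : ℕ} (v : Fin k → ι → F) (X : Submodule F (ι → F))
    (hk : 2 * (k + 1) < Module.finrank F U)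
    (hX : Module.finrank F X + k + 2 < Module.finrank F U) :
    ∃ x ∈ U, Q x = 0 ∧ (∀ i, pB Q x (v i) = 0) ∧ x ∉ X := by
  obtain ⟨p, hpU, hp, hQp⟩ := D.exists_aniso v (by omega)
  obtain ⟨r, hrU, hr, hQr⟩ := D.exists_aniso (Fin.cons p v : Fin (k + 1) → ι → F) hk
  have hrp : pB Q r p = 0 := by simpa using hr 0
  obtain ⟨z, hzU, hz, hzX⟩ : ∃ z ∈ U,
      (∀ i, pB Q z ((Fin.cons r (Fin.cons p v) : Fin (k + 2) → ι → F) i) = 0) ∧ z ∉ X := by
    by_contra hc
    push Not at hc
    have h1 := Submodule.finrank_mono (show U ⊓ LinearMap.ker (LinearMap.pi fun i =>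
        (pB Q).flip ((Fin.cons r (Fin.cons p v) : Fin (k + 2) → ι → F) i)) ≤ X from
      fun z hz => hc z hz.1 fun i => congrFun hz.2 i)
    have h2 := D.finrank_ker (Fin.cons r (Fin.cons p v) : Fin (k + 2) → ι → F)
    omega
  have hzp : pB Q z p = 0 := by simpa using hz (Fin.succ 0)
  have hzr : pB Q z r = 0 := by simpa using hz 0
  obtain ⟨s, t, hst⟩ := S.exists_binary hQp hQr (-Q z)
  have hgood : ∀ ε : F, ε * ε = 1 → z + ε • (s • p + t • r) ∈ U ∧
      Q (z + ε • (s • p + t • r)) = 0 ∧ ∀ i, pB Q (z + ε • (s • p + t • r)) (v i) = 0 := by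
    intro ε hε
    refine ⟨U.add_mem hzU (U.smul_mem _ (U.add_mem (U.smul_mem _ hpU) (U.smul_mem _ hrU))), ?_,
      fun i => ?_⟩
    · simp only [S.quad_add, S.quad_smul, map_add, map_smul, LinearMap.smul_apply,
        smul_eq_mul, S.pB_comm p r, hzp, hzr, hrp, mul_zero, add_zero, hε]
      linear_combination hst
    · have h2 : pB Q r (v i) = 0 := by simpa using hr i.succ
      have h3 : pB Q z (v i) = 0 := by simpa using hz i.succ.succ
      simp only [map_add, map_smul, LinearMap.add_apply, LinearMap.smul_apply, hp i, h2, h3,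
        smul_zero, add_zero]
  by_contra hc
  push Not at hc
  obtain ⟨a1, b1, c1⟩ := hgood 1 (one_mul 1)
  obtain ⟨a2, b2, c2⟩ := hgood (-1) (by ring)
  refine hzX ?_
  have h3 := X.smul_mem (2 : F)⁻¹ (X.add_mem (hc _ a1 b1 c1) (hc _ a2 b2 c2))
  convert h3 using 1
  match_scalars <;> field_simp [S.two_ne] <;> ring

theorem siegel_fix {u w x : ι → F} (hu : u ∈ U) (hw : w ∈ U) (hQu : Q u = 0) (hwu : pB Q w u = 0)
    (hx : x ∈ W) : S.siegel u w hQu hwu x = x := by
  rw [S.siegel_apply, siegelHom_apply, D.orth x hx u hu, D.orth x hx w hw]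
  simp

end ODec

variable [Finite F] (S : OSetting Q)

include S

/-- Two reflections at vectors of equal norm multiply to a commutator. -/
theorem refl_pair_mem_omega {p p' : ι → F} (hp : Q p ≠ 0) (hp' : Q p' ≠ 0) (h : Q p = Q p') :
    glOf (FormsLib.refl Q p' hp' * FormsLib.refl Q p hp) ∈ Cfsg.Geo.omegaGL ⇑Q := by
  obtain ⟨g, hg, hgp⟩ := exists_siegelGroup_map S
    (fun e => hp (by rw [e, QuadraticMap.map_zero])) (fun e => hp' (by rw [e, QuadraticMap.map_zero])) h
  rw [omegaGL_eq S]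
  refine ⟨_, Subgroup.commutator_mem_commutator (siegelGroup_le S hg) (FormsLib.refl_mem Q hp), ?_⟩
  rw [commutatorElement_def, FormsLib.refl_conj Q hp (siegelGroup_le S hg), FormsLib.refl_inv,
    FormsLib.refl_congr Q _ hp' hgp]

/-- A torus element scaling a singular vector by a square. -/
theorem exists_torus_sq {u u' : ι → F} (hu : Q u = 0) (hu' : Q u' = 0) (huu' : pB Q u u' = 1)
    {t : F} (ht : t ≠ 0) :
    ∃ h : (ι → F) ≃ₗ[F] (ι → F), glOf h ∈ Cfsg.Geo.omegaGL ⇑Q ∧ h ∈ FormsLib.oGroup Q ∧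
      h u = (t * t) • u ∧ ∀ x, pB Q x u = 0 → pB Q x u' = 0 → h x = x := by
  have huu : pB Q u u = 0 := by rw [S.pB_self, hu, mul_zero]
  have hu'u' : pB Q u' u' = 0 := by rw [S.pB_self, hu', mul_zero]
  have hu'u : pB Q u' u = 1 := by rw [S.pB_comm, huu']
  have hQ : ∀ c : F, Q (u - c • u') = -c := fun c => by
    rw [sub_eq_add_neg, ← neg_smul, S.quad_add, S.quad_smul, hu, hu', map_smul, smul_eq_mul, huu']
    ring
  have hrefl : ∀ (c : F) (hc : Q (u - c • u') ≠ 0) (α β : F),
      FormsLib.refl Q (u - c • u') hc (α • u + β • u') = (β / c) • u + (α * c) • u' := by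
    intro c hc α β
    have hc0 : c ≠ 0 := fun e => hc (by rw [hQ, e, neg_zero])
    rw [FormsLib.refl_apply, hQ, ← QuadraticMap.polarBilin_apply_apply]
    simp only [map_add, map_sub, map_smul, LinearMap.add_apply, LinearMap.smul_apply, smul_eq_mul, huu,
      huu', hu'u, hu'u', mul_zero, mul_one, add_zero, zero_add, sub_zero]
    match_scalars <;> field_simp <;> ring
  have h1 : Q (u - (1 : F) • u') ≠ 0 := by rw [hQ]; exact neg_ne_zero.2 one_ne_zero
  have ht' : Q (u - t⁻¹ • u') ≠ 0 := by rw [hQ]; exact neg_ne_zero.2 (inv_ne_zero ht)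
  set a := FormsLib.refl Q (u - t⁻¹ • u') ht'
  set b := FormsLib.refl Q (u - (1 : F) • u') h1
  have ha : a ∈ FormsLib.oGroup Q := FormsLib.refl_mem Q _
  have hb : b ∈ FormsLib.oGroup Q := FormsLib.refl_mem Q _
  refine ⟨⁅a, b⁆, ?_, ?_, ?_, fun x hx hx' => ?_⟩
  · rw [omegaGL_eq S]
    exact ⟨_, Subgroup.commutator_mem_commutator ha hb, rfl⟩
  · rw [commutatorElement_def]
    exact mul_mem (mul_mem (mul_mem ha hb) (inv_mem ha)) (inv_mem hb)
  · rw [commutatorElement_def, FormsLib.refl_inv, FormsLib.refl_inv, LinearEquiv.mul_apply,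
      LinearEquiv.mul_apply, LinearEquiv.mul_apply]
    have e := congrArg (fun x => a (b (a (b x))))
      (show u = (1 : F) • u + (0 : F) • u' by simp)
    rw [e]
    simp only [a, b, hrefl]
    match_scalars <;> field_simp <;> ring
  · have key : ∀ (c : F) (hc : Q (u - c • u') ≠ 0), FormsLib.refl Q (u - c • u') hc x = x :=
      fun c hc => FormsLib.refl_fix Q hc (by
        rw [← QuadraticMap.polarBilin_apply_apply, map_sub, map_smul, hx, hx', smul_zero, sub_zero])
    rw [commutatorElement_def, FormsLib.refl_inv, FormsLib.refl_inv, LinearEquiv.mul_apply,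
      LinearEquiv.mul_apply, LinearEquiv.mul_apply, key, key, key, key]

end Cfsg.Agent.TransvMax
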