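import Cfsg.Agent.Lib.TransvMax.QuadSingular
import Cfsg.Agent.Lib.TransvMax.SubfieldRat

/-!
A quadratic form with values in a subfield on a rational structure: the form on coordinates and
existence of rational vectors with prescribed values.
-/

set_option autoImplicit false

namespace Cfsg.Agent.QMax

open scoped Matrix MatrixGroups
open Cfsg.Agent Cfsg.Agent.TransvMax

variable {ι : Type} [Fintype ι] [DecidableEq ι] {F : Type*} [Field F]

/-- A quadratic form rational on a structure over a subfield, dimension at least thirteen. -/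
structure ORat (Q : QuadraticForm F (ι → F)) (F₀ : Subfield F) (P : GL ι F) : Prop where
  set : QSetting Q
  rat : ∀ y : ι → F₀, Q (ratEmb F₀ P y) ∈ F₀
  dim : 13 ≤ Fintype.card ι

namespace ORat

variable {Q : QuadraticForm F (ι → F)} {F₀ : Subfield F} {P : GL ι F} (S : ORat Q F₀ P)

include S

theorem pB_rat (y z : ι → F₀) : pB Q (ratEmb F₀ P y) (ratEmb F₀ P z) ∈ F₀ := by
  rw [show pB Q (ratEmb F₀ P y) (ratEmb F₀ P z) = Q (ratEmb F₀ P (y + z)) - Q (ratEmb F₀ P y) -
    Q (ratEmb F₀ P z) by rw [ratEmb_add, S.set.quad_add]; ring]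
  exact F₀.sub_mem (F₀.sub_mem (S.rat _) (S.rat _)) (S.rat _)

/-- The form on coordinates. -/
noncomputable def q₀ : QuadraticForm F₀ (ι → F₀) :=
  QuadraticMap.ofPolar (fun y => ⟨_, S.rat y⟩)
    (fun a y => Subtype.ext (by
      simp only [ratEmb_smul, S.set.quad_smul, smul_eq_mul, MulMemClass.coe_mul]))
    (fun x x' y => Subtype.ext (by
      simp only [QuadraticMap.polar, ratEmb_add, S.set.quad_add, AddSubgroupClass.coe_sub,
        AddMemClass.coe_add, map_add, LinearMap.add_apply]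
      ring))
    (fun a x y => Subtype.ext (by
      simp only [QuadraticMap.polar, ratEmb_add, ratEmb_smul, S.set.quad_add, smul_eq_mul,
        AddSubgroupClass.coe_sub, MulMemClass.coe_mul, S.set.quad_smul, map_smul, LinearMap.smul_apply]
      ring))

theorem coe_q₀ (y : ι → F₀) : Q (ratEmb F₀ P y) = (S.q₀ y : F) := rfl

theorem coe_pB (y z : ι → F₀) :
    pB Q (ratEmb F₀ P y) (ratEmb F₀ P z) = (pB S.q₀ y z : F) := by
  simp only [QuadraticMap.polarBilin_apply_apply, QuadraticMap.polar, AddSubgroupClass.coe_sub, ← S.coe_q₀,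
    ratEmb_add]

theorem perp {y z : ι → F₀} (h : pB S.q₀ y z = 0) : pB Q (ratEmb F₀ P y) (ratEmb F₀ P z) = 0 := by
  rw [S.coe_pB, h]; rfl

theorem val_one {y z : ι → F₀} (h : pB S.q₀ y z = 1) :
    pB Q (ratEmb F₀ P y) (ratEmb F₀ P z) = 1 := by
  rw [S.coe_pB, h]; rfl

theorem sing {y : ι → F₀} (h : S.q₀ y = 0) : Q (ratEmb F₀ P y) = 0 := by
  rw [S.coe_q₀, h]; rfl

theorem eq_of_forall_rat {x x' : ι → F}
    (h : ∀ z : ι → F₀, pB Q (ratEmb F₀ P z) x = pB Q (ratEmb F₀ P z) x') : x = x' := by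
  refine S.set.eq_of_forall fun v => ?_
  rw [← mulVec_inv_mulVec P v, pi_eq_sum_univ' (((P⁻¹ : GL ι F) : Matrix ι ι F) *ᵥ v),
    Matrix.mulVec_sum, map_sum, LinearMap.sum_apply, LinearMap.sum_apply]
  refine Finset.sum_congr rfl fun j _ => ?_
  rw [Matrix.mulVec_smul, ← ratEmb_single F₀ P, map_smul, LinearMap.smul_apply, LinearMap.smul_apply,
    h]

theorem eq_of_forall_rat' {x x' : ι → F}
    (h : ∀ z : ι → F₀, pB Q x (ratEmb F₀ P z) = pB Q x' (ratEmb F₀ P z)) : x = x' :=
  S.eq_of_forall_rat fun z => by rw [S.set.pB_comm, h z, S.set.pB_comm]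

theorem set₀ : QSetting S.q₀ := by
  have key : ∀ v : ι → F₀, (∀ z, pB S.q₀ z v = 0) → v = 0 := fun v hv =>
    ratEmb_injective F₀ P (by
      rw [ratEmb_zero]
      exact S.eq_of_forall_rat fun z => by rw [S.perp (hv z), map_zero])
  exact ⟨⟨fun v hv => key v fun z => by
      simpa only [QuadraticMap.polarBilin_apply_apply, QuadraticMap.polar_comm (S.q₀) z v] using hv z,
    key⟩, by have := S.dim; omega⟩

theorem pB₀_comm (y z : ι → F₀) : pB S.q₀ y z = pB S.q₀ z y := S.set₀.pB_comm y z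

/-- A functional on coordinates is a value of the form. -/
theorem exists_rep (φ : (ι → F₀) →ₗ[F₀] F₀) : ∃ y₀, ∀ y, φ y = pB S.q₀ y y₀ := by
  refine ⟨(LinearMap.BilinForm.toDual (pB S.q₀) S.set₀.nondeg).symm φ, fun y => ?_⟩
  rw [S.pB₀_comm, LinearMap.BilinForm.apply_toDual_symm_apply]

theorem indep_pairing {k : ℕ} {v : Fin k → ι → F₀} (hv : LinearIndependent F₀ v) :
    LinearIndependent F fun i => ratEmb F₀ P (v i) := by
  rw [Fintype.linearIndependent_iff]
  intro g hg i
  obtain ⟨p, hp⟩ := S.set₀.exists_values hv (Pi.single i 1)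
  have h := congrArg (fun x => pB Q (ratEmb F₀ P p) x) hg
  simp only [map_sum, map_smul, S.coe_pB, hp, smul_eq_mul, map_zero] at h
  rw [Finset.sum_eq_single i (fun j _ hj => by simp [Pi.single_eq_of_ne hj])
    (fun hi => absurd (Finset.mem_univ i) hi)] at h
  simpa using h

theorem mem_of_smul {y y' : ι → F₀} (hy : y ≠ 0) {κ : F}
    (h : κ • ratEmb F₀ P y = ratEmb F₀ P y') : κ ∈ F₀ := by
  obtain ⟨p, hp⟩ := S.set₀.exists_values (v := ![y]) (by simp [linearIndependent_unique_iff, hy]) ![1]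
  have h1 := congrArg (fun x => pB Q (ratEmb F₀ P p) x) h
  have hpy : pB Q (ratEmb F₀ P p) (ratEmb F₀ P y) = 1 := S.val_one (hp 0)
  simp only [map_smul, hpy, smul_eq_mul, mul_one] at h1
  rw [h1]
  exact S.pB_rat p y'

theorem ne_zero_of_li {k : ℕ} {v : Fin k → ι → F₀} (hv : LinearIndependent F₀ v) (i : Fin k) :
    ratEmb F₀ P (v i) ≠ 0 := (S.indep_pairing hv).ne_zero i

variable [Finite F]

/-- A singular rational vector with prescribed values. -/
theorem exists_sing {k : ℕ} {v : Fin k → ι → F₀} (hv : LinearIndependent F₀ v) (hk : k ≤ 5)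
    (α : Fin k → F₀) : ∃ x, S.q₀ x = 0 ∧ ∀ i, pB S.q₀ x (v i) = α i := by
  obtain ⟨x, -, h1, h2⟩ := S.set₀.topDec.exists_values_in (v := v) (fun _ => Submodule.mem_top) hv
    (by rw [S.set₀.finrank_top_eq]; have := S.dim; omega) α 0
  exact ⟨x, h1, h2⟩

/-- A singular rational vector orthogonal to a few vectors and outside the span of a few. -/
theorem exists_out {k j : ℕ} (v : Fin k → ι → F₀) (w : Fin j → ι → F₀) (hk : k ≤ 5) (hj : j ≤ 5) :
    ∃ x, S.q₀ x = 0 ∧ (∀ i, pB S.q₀ x (v i) = 0) ∧ x ∉ Submodule.span F₀ (Set.range w) := by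
  have h := finrank_range_le_card (R := F₀) w
  rw [Fintype.card_fin] at h
  obtain ⟨x, -, h1, h2, h3⟩ := S.set₀.topDec.exists_norm_out v (Submodule.span F₀ (Set.range w))
    (by rw [S.set₀.finrank_top_eq]; have := S.dim; omega)
    (by
      rw [S.set₀.finrank_top_eq]
      have := S.dim
      unfold Set.finrank at h
      omega) 0
  exact ⟨x, h1, h2, h3⟩

theorem exists_third {a b : ι → F₀} (hli : LinearIndependent F₀ ![b, a]) :
    ∃ d, S.q₀ d = 0 ∧ pB S.q₀ d a = 0 ∧ pB S.q₀ d b = 0 ∧ LinearIndependent F₀ ![d, b, a] := by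
  obtain ⟨d, hd, hd', hdn⟩ := S.exists_out ![a, b] ![b, a] (by omega) (by omega)
  exact ⟨d, hd, hd' 0, hd' 1, linearIndependent_finCons.2 ⟨hli, hdn⟩⟩

/-- Singular vectors orthogonal to a given singular vector span its orthogonal. -/
theorem perp_induction {a : ι → F₀} (ha : S.q₀ a = 0) {motive : (ι → F₀) → Prop}
    (iso : ∀ c, S.q₀ c = 0 → pB S.q₀ c a = 0 → motive c)
    (add : ∀ b c, motive b → motive c → motive (b + c)) (y : ι → F₀) (hy : pB S.q₀ y a = 0) :
    motive y := by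
  by_cases h0 : S.q₀ y = 0
  · exact iso y h0 hy
  obtain ⟨u, hu, huy, hua⟩ : ∃ u, S.q₀ u = 0 ∧ pB S.q₀ u y = 1 ∧ pB S.q₀ u a = 0 := by
    rcases eq_or_ne a 0 with rfl | ha0
    · obtain ⟨u, hu, hu'⟩ := S.exists_sing (v := ![y]) (by
        simp [linearIndependent_unique_iff]
        rintro rfl
        exact h0 (QuadraticMap.map_zero _)) (by omega) ![1]
      exact ⟨u, hu, hu' 0, map_zero _⟩
    obtain ⟨u, hu, hu'⟩ := S.exists_sing (v := ![y, a]) (S.set₀.sing_indep_pair ha0 fun h => by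
      obtain ⟨t, rfl⟩ := Submodule.mem_span_singleton.1 h
      exact h0 (by rw [S.set₀.quad_smul, ha, mul_zero])) (by omega) ![1, 0]
    exact ⟨u, hu, hu' 0, hu' 1⟩
  have h := add (y + (-S.q₀ y) • u) (S.q₀ y • u)
    (iso _ (by rw [S.set₀.quad_add, S.set₀.quad_smul, hu, map_smul, S.pB₀_comm y u, huy,
        smul_eq_mul]; ring)
      (by rw [map_add, LinearMap.add_apply, map_smul, LinearMap.smul_apply, hy, hua, smul_zero, add_zero]))
    (iso _ (by rw [S.set₀.quad_smul, hu, mul_zero])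
      (by rw [map_smul, LinearMap.smul_apply, hua, smul_zero]))
  convert h using 1
  module

/-- Singular vectors span. -/
theorem sing_induction {motive : (ι → F₀) → Prop} (iso : ∀ c, S.q₀ c = 0 → motive c)
    (add : ∀ b c, motive b → motive c → motive (b + c)) (y : ι → F₀) : motive y :=
  S.perp_induction (a := 0) (QuadraticMap.map_zero _) (fun c hc _ => iso c hc) add y (map_zero _)

omit [Finite F] in
theorem siegel_rat {a z y : ι → F₀} (h1 : Q (ratEmb F₀ P a) = 0)
    (h2 : pB Q (ratEmb F₀ P z) (ratEmb F₀ P a) = 0) :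
    S.set.siegel _ _ h1 h2 (ratEmb F₀ P y) =
      ratEmb F₀ P (y + pB S.q₀ y a • z - pB S.q₀ y z • a - (S.q₀ z * pB S.q₀ y a) • a) := by
  rw [S.set.siegel_apply, siegelHom_apply]
  simp only [sub_eq_add_neg, ← neg_smul, ratEmb_add, ratEmb_smul, S.coe_pB, S.coe_q₀]
  push_cast
  rfl

/-- A vector orthogonal to a rational singular vector with rational values on the singular vectors
orthogonal to it is rational modulo that vector. -/
theorem rep_of_values {a : ι → F₀} (ha : S.q₀ a = 0) (ha0 : a ≠ 0) {z : ι → F}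
    (hza : pB Q z (ratEmb F₀ P a) = 0)
    (hv : ∀ c, S.q₀ c = 0 → pB S.q₀ c a = 0 → pB Q z (ratEmb F₀ P c) ∈ F₀) :
    ∃ (y : ι → F₀) (ξ : F), z = ratEmb F₀ P y + ξ • ratEmb F₀ P a := by
  set R := ratEmb F₀ P with hR
  obtain ⟨p, -, hp⟩ := S.exists_sing (v := ![a]) (by simp [linearIndependent_unique_iff, ha0])
    (by omega) ![1]
  have hpa : pB S.q₀ p a = 1 := hp 0
  have hall : ∀ y, pB S.q₀ y a = 0 → pB Q z (R y) ∈ F₀ := S.perp_induction ha hv fun b c hb hc => by
    rw [hR, ratEmb_add, map_add]; exact F₀.add_mem hb hc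
  have hy : ∀ y, pB S.q₀ (y + (-pB S.q₀ y a) • p) a = 0 := fun y => by
    rw [map_add, LinearMap.add_apply, map_smul, LinearMap.smul_apply, hpa, smul_eq_mul, mul_one,
      add_neg_cancel]
  let φ : (ι → F₀) →ₗ[F₀] F₀ :=
    { toFun := fun y => ⟨_, hall _ (hy y)⟩
      map_add' := fun b c => Subtype.ext (by
        simp only [AddMemClass.coe_add, hR, ratEmb_add, ratEmb_smul, map_add, map_smul,
          LinearMap.add_apply, neg_add, add_smul, smul_eq_mul]
        ring)
      map_smul' := fun t b => Subtype.ext (by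
        simp only [RingHom.id_apply, smul_eq_mul, MulMemClass.coe_mul, hR, ratEmb_add, ratEmb_smul,
          map_add, map_smul, LinearMap.smul_apply, NegMemClass.coe_neg]
        push_cast [S.coe_pB]
        ring) }
  obtain ⟨y₀, hy₀⟩ := S.exists_rep φ
  refine ⟨y₀, pB Q z (R p) - pB Q (R y₀) (R p), S.eq_of_forall_rat' fun y => ?_⟩
  have h1 : pB Q z (R (y + (-pB S.q₀ y a) • p)) = pB Q (R y₀) (R y) := by
    rw [S.set.pB_comm (R y₀), S.coe_pB y y₀, ← hy₀ y]
    rfl
  have h2 : pB Q (R y₀) (R a) = 0 := by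
    rw [S.set.pB_comm, S.coe_pB, ← hy₀ a]
    show pB Q z (R (a + (-pB S.q₀ a a) • p)) = 0
    rw [show pB S.q₀ a a = 0 by rw [S.set₀.pB_self, ha, mul_zero], neg_zero, zero_smul, add_zero, hza]
  rw [hR, ratEmb_add, ratEmb_smul, map_add, map_smul, smul_eq_mul, NegMemClass.coe_neg,
    ← S.coe_pB] at h1
  rw [map_add, LinearMap.add_apply, map_smul, LinearMap.smul_apply, smul_eq_mul,
    S.set.pB_comm (R a) (R y)]
  have h3 : pB Q (R y₀) (R p) * 1 = pB Q (R y₀) (R p) := mul_one _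
  have h4 : pB Q z (R y) - pB Q (R y) (R a) * pB Q z (R p) = pB Q (R y₀) (R y) := by
    rw [← h1]; ring
  have h5 : φ p = 0 := Subtype.ext (by
    show pB Q z (R (p + (-pB S.q₀ p a) • p)) = 0
    rw [hpa, neg_smul, one_smul, add_neg_cancel, hR, ratEmb_zero, map_zero])
  have h6 : pB Q (R y₀) (R p) = 0 := by
    rw [S.set.pB_comm, S.coe_pB, ← hy₀ p, h5]; rfl
  rw [h6, sub_zero]
  linear_combination h4

end ORat

end Cfsg.Agent.QMax
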