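import Cfsg.Agent.Lib.TransvMax.OrthRatShort
import Cfsg.Agent.Lib.TransvMax.SubfieldSL

/-!
An irrational root element and a pencil of rational root elements generate a group that would be
Frobenius with a non-cyclic abelian complement, unless an irrational Siegel transformation at a
rational centre appears.
-/

set_option autoImplicit false

namespace Cfsg.Agent.QMax

open scoped Matrix MatrixGroups
open Cfsg.Agent Cfsg.Agent.TransvMax

variable {ι : Type} [Fintype ι] [DecidableEq ι] {F : Type*} [Field F]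
  {Q : QuadraticForm F (ι → F)} {F₀ : Subfield F} {P : GL ι F}

/-- Two dual singular planes with a further singular vector orthogonal to both. -/
structure Pencil (S : QSetting Q) (A C U W E : ι → F) : Prop where
  qA : Q A = 0
  qC : Q C = 0
  qE : Q E = 0
  AC : pB Q A C = 0
  AE : pB Q A E = 0
  CE : pB Q C E = 0
  UW : pB Q U W = 0
  UE : pB Q U E = 0
  WE : pB Q W E = 0
  qU : Q U = 0
  qW : Q W = 0
  AU : pB Q A U = 1
  CW : pB Q C W = 1
  AW : pB Q A W = 0
  CU : pB Q C U = 0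

/-- The transformation with linear part `(p q; r s)` and translation `(v₁, v₂)`. -/
def Pencil.Rep {S : QSetting Q} {A C U W E : ι → F} (_Pe : Pencil S A C U W E)
    (Y : (ι → F) ≃ₗ[F] (ι → F)) (p q r s v₁ v₂ : F) : Prop :=
  p * s - q * r = 1 ∧ ∀ x, Y x = x +
    ((p - 1) * pB Q x U + q * pB Q x C + v₁ * pB Q x E) • A +
    (r * pB Q x U + (s - 1) * pB Q x C + v₂ * pB Q x E) • W +
    ((p - 1) * pB Q x W - q * pB Q x A) • C +
    ((s - 1) * pB Q x A - r * pB Q x W) • U -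
    (v₁ * (s * pB Q x A - r * pB Q x W) + v₂ * (p * pB Q x W - q * pB Q x A)) • E

namespace Pencil

variable {S : QSetting Q} {A C U W E : ι → F} (Pe : Pencil S A C U W E)
include Pe

theorem rep_mul {Y Y' : (ι → F) ≃ₗ[F] (ι → F)} {p q r s v₁ v₂ p' q' r' s' w₁ w₂ : F}
    (h : Pe.Rep Y p q r s v₁ v₂) (h' : Pe.Rep Y' p' q' r' s' w₁ w₂) :
    Pe.Rep (Y * Y') (p * p' + q * r') (p * q' + q * s') (r * p' + s * r') (r * q' + s * s')
      (v₁ + p * w₁ + q * w₂) (v₂ + r * w₁ + s * w₂) := by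
  refine ⟨?_, fun x => ?_⟩
  · linear_combination h.1 * (p' * s' - q' * r') + h'.1
  have aa : pB Q A A = 0 := by rw [S.pB_self, Pe.qA, mul_zero]
  have cc : pB Q C C = 0 := by rw [S.pB_self, Pe.qC, mul_zero]
  have ee : pB Q E E = 0 := by rw [S.pB_self, Pe.qE, mul_zero]
  have uu : pB Q U U = 0 := by rw [S.pB_self, Pe.qU, mul_zero]
  have ww : pB Q W W = 0 := by rw [S.pB_self, Pe.qW, mul_zero]
  rw [LinearEquiv.mul_apply, h'.2 x, h.2]
  simp only [map_add, map_sub, map_smul, LinearMap.add_apply, LinearMap.sub_apply, LinearMap.smul_apply,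
    aa, cc, ee, uu, ww, Pe.AC, Pe.AE, Pe.CE, Pe.UW, Pe.UE, Pe.WE, Pe.AU, Pe.CW, Pe.AW, Pe.CU,
    S.pB_comm C A, S.pB_comm E A, S.pB_comm E C, S.pB_comm W U, S.pB_comm E U, S.pB_comm E W,
    S.pB_comm U A, S.pB_comm W C, S.pB_comm W A, S.pB_comm U C, smul_eq_mul, mul_zero, mul_one,
    add_zero, zero_add, sub_zero]
  linear_combination (norm := module)
    (congrArg (fun t => (t * (w₁ * (s' * pB Q x A - r' * pB Q x W) +
      w₂ * (p' * pB Q x W - q' * pB Q x A))) • E) h.1)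

theorem rep_one : Pe.Rep 1 1 0 0 1 0 0 := by
  refine ⟨by ring, fun x => ?_⟩
  simp

theorem rep_ext {Y Y' : (ι → F) ≃ₗ[F] (ι → F)} {p q r s v₁ v₂ p' q' r' s' w₁ w₂ : F}
    (h : Pe.Rep Y p q r s v₁ v₂) (h' : Pe.Rep Y' p' q' r' s' w₁ w₂) (e1 : p = p') (e2 : q = q')
    (e3 : r = r') (e4 : s = s') (e5 : v₁ = w₁) (e6 : v₂ = w₂) : Y = Y' := by
  subst e1 e2 e3 e4 e5 e6
  exact LinearEquiv.ext fun x => by rw [h.2 x, h'.2 x]

theorem rep_at {Y : (ι → F) ≃ₗ[F] (ι → F)} {p q r s v₁ v₂ : F} (h : Pe.Rep Y p q r s v₁ v₂) :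
    pB Q (Y A) U = p ∧ pB Q (Y A) C = r := by
  have aa : pB Q A A = 0 := by rw [S.pB_self, Pe.qA, mul_zero]
  have cc : pB Q C C = 0 := by rw [S.pB_self, Pe.qC, mul_zero]
  have uu : pB Q U U = 0 := by rw [S.pB_self, Pe.qU, mul_zero]
  rw [h.2 A]
  constructor <;>
  simp [aa, cc, uu, Pe.AC, Pe.AE, Pe.CE, Pe.UW, Pe.UE, Pe.WE, Pe.AU, Pe.CW, Pe.AW, Pe.CU,
    S.pB_comm C A, S.pB_comm E A, S.pB_comm E C, S.pB_comm W U, S.pB_comm E U, S.pB_comm E W,
    S.pB_comm U A, S.pB_comm W C, S.pB_comm W A, S.pB_comm U C]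

theorem rep_lower (β v : F) (hz : pB Q (β • C - v • E) A = 0) :
    Pe.Rep (S.siegel A (β • C - v • E) Pe.qA hz) 1 (-β) 0 1 v 0 := by
  refine ⟨by ring, fun x => ?_⟩
  have hQ : Q (β • C - v • E) = 0 := by
    rw [sub_eq_add_neg, ← neg_smul, S.quad_add, S.quad_smul, S.quad_smul, Pe.qC, Pe.qE, map_smul,
      map_smul, LinearMap.smul_apply, Pe.CE]
    simp
  rw [S.siegel_apply, siegelHom_apply, hQ]
  simp only [map_sub, map_smul, smul_eq_mul]
  module

theorem rep_upper (α : F) (hz : pB Q (α • W) U = 0) :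
    Pe.Rep (S.siegel U (α • W) Pe.qU hz) 1 0 α 1 0 0 := by
  refine ⟨by ring, fun x => ?_⟩
  rw [S.siegel_apply, siegelHom_apply, S.quad_smul, Pe.qW]
  simp only [map_smul, smul_eq_mul]
  module

variable [Finite F]

/-- The group of these transformations. -/
def group : Subgroup ((ι → F) ≃ₗ[F] (ι → F)) where
  carrier := {Y | ∃ p q r s v₁ v₂, Pe.Rep Y p q r s v₁ v₂}
  one_mem' := ⟨_, _, _, _, _, _, Pe.rep_one⟩
  mul_mem' := fun ⟨_, _, _, _, _, _, h⟩ ⟨_, _, _, _, _, _, h'⟩ => ⟨_, _, _, _, _, _, Pe.rep_mul h h'⟩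
  inv_mem' := fun {Y} hY => by
    haveI : Finite ((ι → F) ≃ₗ[F] (ι → F)) :=
      Finite.of_injective (fun g => (g : (ι → F) → (ι → F))) DFunLike.coe_injective
    have hpow : ∀ n : ℕ, ∃ p q r s v₁ v₂, Pe.Rep (Y ^ n) p q r s v₁ v₂ := by
      intro n
      induction n with
      | zero => rw [pow_zero]; exact ⟨_, _, _, _, _, _, Pe.rep_one⟩
      | succ n ih =>
        obtain ⟨_, _, _, _, _, _, h⟩ := ih
        obtain ⟨_, _, _, _, _, _, h'⟩ := hY
        rw [pow_succ]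
        exact ⟨_, _, _, _, _, _, Pe.rep_mul h h'⟩
    obtain ⟨k, hk⟩ := (isOfFinOrder_of_finite Y).mem_powers_iff_mem_zpowers.2
      (Subgroup.inv_mem _ (Subgroup.mem_zpowers Y))
    have hk' : Y ^ k = Y⁻¹ := hk
    rw [← hk']
    exact hpow k

end Pencil

namespace ORat

variable (S : ORat Q F₀ P)

include S

/-- No element of degree two in odd prime degree. -/
theorem no_quadratic [Fintype F] {r : ℕ} (hr : r.Prime) (hr3 : 3 ≤ r)
    (hcard : Fintype.card F = Nat.card F₀ ^ r) {x : F} (hx : x ∉ F₀) {m n : F} (hm : m ∈ F₀)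
    (hn : n ∈ F₀) : x * x ≠ m + n * x := by
  intro h
  haveI := Fintype.ofFinite F₀
  let Ws : Set F := Set.range fun p : F₀ × F₀ => (p.1 : F) + p.2 * x
  have hW : ∀ z, z ∈ Ws := eq_univ_of_prime_degree F₀ hr hcard
    (fun y hy => ⟨(⟨y, hy⟩, 0), by simp⟩)
    (by rintro _ ⟨p, rfl⟩ _ ⟨q, rfl⟩; exact ⟨p + q, by simp [add_mul]; ring⟩)
    (by
      rintro _ ⟨p, rfl⟩ _ ⟨q, rfl⟩
      refine ⟨(⟨(p.1 : F) * q.1 + p.2 * q.2 * m,
        F₀.add_mem (F₀.mul_mem p.1.2 q.1.2) (F₀.mul_mem (F₀.mul_mem p.2.2 q.2.2) hm)⟩,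
        ⟨(p.1 : F) * q.2 + p.2 * q.1 + p.2 * q.2 * n, F₀.add_mem (F₀.add_mem (F₀.mul_mem p.1.2 q.2.2)
          (F₀.mul_mem p.2.2 q.1.2)) (F₀.mul_mem (F₀.mul_mem p.2.2 q.2.2) hn)⟩), ?_⟩
      show (p.1 : F) * q.1 + p.2 * q.2 * m + ((p.1 : F) * q.2 + p.2 * q.1 + p.2 * q.2 * n) * x = _
      linear_combination -((p.2 : F) * q.2) * h)
    (x := x) ⟨(0, 1), by simp⟩ hx
  have h1 := Nat.card_le_card_of_surjective (fun p : F₀ × F₀ => (p.1 : F) + p.2 * x) hW
  rw [Nat.card_prod, Nat.card_eq_fintype_card (α := F), hcard, ← pow_two] at h1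
  exact absurd h1 (not_le.2 (Nat.pow_lt_pow_right Finite.one_lt_card (by omega)))

variable {K : Subgroup ((ι → F) ≃ₗ[F] (ι → F))}

set_option maxHeartbeats 1000000 in
/-- A pencil with irrational ratio gives an irrational transformation at a rational centre. -/
theorem irrCentre_of_pencil [Fintype F] {r : ℕ} (hr : r.Prime) (hr3 : 3 ≤ r)
    (hcard : Fintype.card F = Nat.card F₀ ^ r) (hrat : S.RatIn K) {a c c' : ι → F₀}
    (ha : S.q₀ a = 0) (hc : S.q₀ c = 0) (hc' : S.q₀ c' = 0) (hac : pB S.q₀ a c = 0)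
    (hac' : pB S.q₀ a c' = 0) (hcc' : pB S.q₀ c c' = 0) {U W : ι → F} (hQU : Q U = 0) (hQW : Q W = 0)
    (hUW : pB Q U W = 0) (hAU : pB Q (ratEmb F₀ P a) U = 1) (hCW : pB Q (ratEmb F₀ P c) W = 1)
    (hAW : pB Q (ratEmb F₀ P a) W = 0) (hCU : pB Q (ratEmb F₀ P c) U = 0)
    (hlam : pB Q (ratEmb F₀ P c') W ∉ F₀) {α : F} (hα : α ≠ 0)
    (hz : pB Q (α • W) U = 0) (hX : S.set.siegel U (α • W) hQU hz ∈ K) : S.IrrCentre K := by
  classical
  set R := ratEmb F₀ P with hR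
  set A := R a with hAdef
  set C := R c with hCdef
  set lam := pB Q (R c') W with hlamdef
  set μ := pB Q (R c') U with hμdef
  set E := R c' - μ • A - lam • C with hE
  have aa : pB Q A A = 0 := by rw [S.set.pB_self, hAdef, hR, S.sing ha, mul_zero]
  have cc : pB Q C C = 0 := by rw [S.set.pB_self, hCdef, hR, S.sing hc, mul_zero]
  have ac : pB Q A C = 0 := S.perp hac
  have ac' : pB Q A (R c') = 0 := S.perp hac'
  have cc' : pB Q C (R c') = 0 := S.perp hcc'
  have ca : pB Q C A = 0 := by rw [S.set.pB_comm]; exact ac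
  have c'a : pB Q (R c') A = 0 := by rw [S.set.pB_comm]; exact ac'
  have c'c : pB Q (R c') C = 0 := by rw [S.set.pB_comm]; exact cc'
  have Pe : Pencil S.set A C U W E := by
    refine ⟨S.sing ha, S.sing hc, ?_, ac, ?_, ?_, hUW, ?_, ?_, hQU, hQW, hAU, hCW, hAW, hCU⟩
    · simp only [hE, sub_eq_add_neg, ← neg_smul, S.set.quad_add, S.set.quad_smul, map_add, map_smul,
        LinearMap.add_apply, LinearMap.smul_apply, smul_eq_mul, hAdef, hCdef, hR, S.sing ha, S.sing hc,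
        S.sing hc']
      simp only [← hR, ← hAdef, ← hCdef, c'a, c'c, ac, mul_zero, add_zero]
    · rw [hE, map_sub, map_sub, map_smul, map_smul, ac', aa, ac, smul_zero, smul_zero, sub_zero, sub_zero]
    · rw [hE, map_sub, map_sub, map_smul, map_smul, cc', ca, cc, smul_zero, smul_zero, sub_zero, sub_zero]
    · rw [hE, map_sub, map_sub, map_smul, map_smul, S.set.pB_comm U A, S.set.pB_comm U C, hAU, hCU,
        S.set.pB_comm U (R c'), ← hμdef, smul_zero, sub_zero, smul_eq_mul, mul_one, sub_self]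
    · rw [hE, map_sub, map_sub, map_smul, map_smul, S.set.pB_comm W A, S.set.pB_comm W C, hAW, hCW,
        S.set.pB_comm W (R c'), ← hlamdef, smul_zero, sub_zero, smul_eq_mul, mul_one, sub_self]
  have ha0 : a ≠ 0 := fun e => by
    rw [hAdef, e, hR, ratEmb_zero, map_zero, LinearMap.zero_apply] at hAU
    exact zero_ne_one hAU
  have hli : LinearIndependent F₀ ![c', c, a] := by
    rw [Fintype.linearIndependent_iff]
    intro g hg
    have h0 : (g 0 : F) • R c' + (g 1 : F) • C + (g 2 : F) • A = 0 := by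
      rw [Fin.sum_univ_three] at hg
      have h1 := congrArg R hg
      simp only [hR, ratEmb_add, ratEmb_smul, ratEmb_zero, Matrix.cons_val_zero, Matrix.cons_val_one,
        Matrix.cons_val] at h1
      exact h1
    have e1 := congrArg (fun x => pB Q x W) h0
    have e2 := congrArg (fun x => pB Q x U) h0
    simp only [map_add, map_smul, LinearMap.add_apply, LinearMap.smul_apply, hAW, hCW, hAU, hCU,
      ← hlamdef, ← hμdef, smul_eq_mul, mul_zero, mul_one, add_zero, map_zero, LinearMap.zero_apply] at e1 e2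
    have g0 : g 0 = 0 := by
      by_contra h
      refine hlam ?_
      have hg0 : (g 0 : F) ≠ 0 := fun e => h (Subtype.ext e)
      rw [show lam = -(g 1 : F) / g 0 by field_simp; linear_combination e1]
      exact F₀.div_mem (F₀.neg_mem (g 1).2) (g 0).2
    rw [g0] at e1 e2
    simp only [ZeroMemClass.coe_zero, zero_mul, zero_add] at e1 e2
    intro i
    fin_cases i
    · exact g0
    · exact Subtype.ext e1
    · exact Subtype.ext e2
  obtain ⟨p₁, hp₁⟩ := S.set₀.exists_values hli ![1, 0, 0]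
  obtain ⟨p₂, hp₂⟩ := S.set₀.exists_values hli ![0, 1, 0]
  by_contra hfail
  -- at the centre `A` only the rational transformations occur
  have hcoef : ∀ (β v : F) (hz : pB Q (β • C - v • E) A = 0),
      S.set.siegel A (β • C - v • E) Pe.qA hz ∈ K → v ∈ F₀ ∧ β + v * lam ∈ F₀ := by
    intro β v hz hK
    by_contra hcon
    refine hfail ⟨a, _, Pe.qA, hz, ha0, hK, fun y ξ h => hcon ?_⟩
    have f1 : pB Q (R p₁) (R c') = 1 := S.val_one (hp₁ 0)
    have f2 : pB Q (R p₁) C = 0 := S.perp (hp₁ 1)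
    have f3 : pB Q (R p₁) A = 0 := S.perp (hp₁ 2)
    have g1 : pB Q (R p₂) (R c') = 0 := S.perp (hp₂ 0)
    have g2 : pB Q (R p₂) C = 1 := S.val_one (hp₂ 1)
    have g3 : pB Q (R p₂) A = 0 := S.perp (hp₂ 2)
    have e1 := congrArg (pB Q (R p₁)) h
    have e2 := congrArg (pB Q (R p₂)) h
    simp only [hE, map_sub, map_add, map_smul, ← hR, ← hAdef, f1, f2, f3, g1, g2, g3, smul_eq_mul,
      mul_zero, mul_one, sub_zero, zero_sub, add_zero] at e1 e2
    refine ⟨?_, ?_⟩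
    · rw [← neg_neg v, e1]
      exact F₀.neg_mem (S.pB_rat _ _)
    · rw [show β + v * lam = pB Q (R p₂) (R y) by rw [← e2]; ring]
      exact S.pB_rat _ _
  have hzA : ∀ β v : F, pB Q (β • C - v • E) A = 0 := fun β v => by
    rw [map_sub, map_smul, map_smul, LinearMap.sub_apply, LinearMap.smul_apply, LinearMap.smul_apply, ca,
      S.set.pB_comm E A, Pe.AE, smul_zero, smul_zero, sub_zero]
  -- the rational pencil
  let h : F₀ → F₀ → (ι → F) ≃ₗ[F] (ι → F) := fun s t =>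
    S.set.siegel A (((s : F) + t * lam) • C - (-(t : F)) • E) Pe.qA (hzA _ _)
  have hrep : ∀ s t, Pe.Rep (h s t) 1 (-((s : F) + t * lam)) 0 1 (-(t : F)) 0 := fun s t =>
    Pe.rep_lower _ _ (hzA _ _)
  have hK0 : ∀ s t, h s t ∈ K := by
    intro s t
    have hw : pB Q (R (s • c + t • c')) A = 0 := by
      rw [hR, ratEmb_add, ratEmb_smul, ratEmb_smul, ← hR, ← hCdef, map_add, map_smul, map_smul,
        LinearMap.add_apply, LinearMap.smul_apply, LinearMap.smul_apply, ca, c'a, smul_zero, smul_zero,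
        add_zero]
    convert hrat a (s • c + t • c') Pe.qA hw using 1
    refine LinearEquiv.ext fun x => ?_
    simp only [h, S.set.siegel_apply, siegelHom_apply, hE, hR, ratEmb_add, ratEmb_smul]
    simp only [← hR, ← hAdef, ← hCdef, sub_eq_add_neg, ← neg_smul, S.set.quad_add, S.set.quad_smul,
      map_add, map_smul, LinearMap.add_apply, LinearMap.smul_apply, smul_eq_mul, aa, cc, ac, ca, ac',
      c'a, cc', c'c, show Q A = 0 from Pe.qA, show Q C = 0 from Pe.qC,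
      show Q (R c') = 0 from S.sing hc', mul_zero, add_zero]
    module
  have hlow : ∀ Y q v₁, Pe.Rep Y 1 q 0 1 v₁ 0 → Y ∈ K → ∃ s t, Y = h s t := by
    intro Y q v₁ hY hYK
    have e : Y = S.set.siegel A ((-q) • C - v₁ • E) Pe.qA (hzA _ _) :=
      Pe.rep_ext hY (Pe.rep_lower _ _ (hzA _ _)) rfl (neg_neg q).symm rfl rfl rfl rfl
    rw [e] at hYK
    obtain ⟨hv, hb⟩ := hcoef _ _ (hzA _ _) hYK
    refine ⟨⟨-q + v₁ * lam, hb⟩, ⟨-v₁, F₀.neg_mem hv⟩, ?_⟩
    refine Pe.rep_ext hY (hrep _ _) rfl ?_ rfl rfl ?_ rfl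
    · push_cast; ring
    · simp
  -- translations
  have htr : ∀ Y v₁ v₂, Pe.Rep Y 1 0 0 1 v₁ v₂ → Y ∈ K → v₁ = 0 ∧ v₂ = 0 := by
    intro Y v₁ v₂ hY hYK
    have key : ∀ Y' w, Pe.Rep Y' 1 0 0 1 w 0 → Y' ∈ K → w = 0 := by
      intro Y' w hY' hY'K
      have e : Y' = S.set.siegel A ((0 : F) • C - w • E) Pe.qA (hzA _ _) :=
        Pe.rep_ext hY' (Pe.rep_lower _ _ (hzA _ _)) rfl neg_zero.symm rfl rfl rfl rfl
      rw [e] at hY'K
      obtain ⟨hw, hb⟩ := hcoef _ _ (hzA _ _) hY'K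
      by_contra hw0
      rw [zero_add] at hb
      refine hlam ?_
      rw [show lam = w * lam / w by field_simp]
      exact F₀.div_mem hb hw
    have h1 := hrep 1 0
    have h2 : Pe.Rep (h (-1) 0) 1 1 0 1 0 0 := by simpa using hrep (-1) 0
    have hinvrep : Pe.Rep Y⁻¹ 1 0 0 1 (-v₁) (-v₂) := by
      have hR' : ∀ x, Y x = _ := hY.2
      refine ⟨by ring, fun x => ?_⟩
      refine Y.injective ?_
      rw [show Y (Y⁻¹ x) = x from Y.apply_symm_apply x, hY.2]
      simp only [map_add, map_sub, map_smul, LinearMap.add_apply, LinearMap.sub_apply,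
        LinearMap.smul_apply, aa, cc, ac, ca, Pe.AE, Pe.CE, Pe.UE, Pe.WE, Pe.UW, Pe.AU, Pe.CW, Pe.AW,
        Pe.CU, show pB Q E E = 0 by rw [S.set.pB_self, Pe.qE, mul_zero],
        show pB Q U U = 0 by rw [S.set.pB_self, Pe.qU, mul_zero],
        show pB Q W W = 0 by rw [S.set.pB_self, Pe.qW, mul_zero],
        S.set.pB_comm E A, S.set.pB_comm E C, S.set.pB_comm E U, S.set.pB_comm E W, S.set.pB_comm W U,
        S.set.pB_comm U A, S.set.pB_comm W C, S.set.pB_comm W A, S.set.pB_comm U C,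
        smul_eq_mul, mul_zero, add_zero, sub_zero, zero_mul, zero_smul, sub_self, one_mul, mul_one]
      module
    have h3 := Pe.rep_mul (Pe.rep_mul (Pe.rep_mul h1 hY) h2) hinvrep
    have h4 : h 1 0 * Y * h (-1) 0 * Y⁻¹ ∈ K :=
      K.mul_mem (K.mul_mem (K.mul_mem (hK0 _ _) hYK) (hK0 _ _)) (K.inv_mem hYK)
    have hv2 : v₂ = 0 := by
      have h5 : Pe.Rep (h 1 0 * Y * h (-1) 0 * Y⁻¹) 1 0 0 1 (-v₂) 0 := by
        convert h3 using 1 <;> simp <;> ring
      exact neg_eq_zero.1 (key _ _ h5 h4)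
    subst hv2
    exact ⟨key _ _ hY hYK, rfl⟩
  -- the group
  let hhom : Multiplicative (F₀ × F₀) →* ((ι → F) ≃ₗ[F] (ι → F)) :=
    MonoidHom.mk' (fun x => h x.toAdd.1 x.toAdd.2) fun x y => by
      refine Pe.rep_ext (hrep _ _) (Pe.rep_mul (hrep x.toAdd.1 x.toAdd.2) (hrep y.toAdd.1 y.toAdd.2))
        ?_ ?_ ?_ ?_ ?_ ?_ <;> simp <;> ring
  set Xu := S.set.siegel U (α • W) hQU hz
  have hXrep : Pe.Rep Xu 1 0 α 1 0 0 := Pe.rep_upper α hz
  let G : Subgroup ((ι → F) ≃ₗ[F] (ι → F)) := hhom.range ⊔ Subgroup.zpowers Xu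
  have hGK : G ≤ K := sup_le (by rintro _ ⟨x, rfl⟩; exact hK0 _ _) (Subgroup.zpowers_le.2 hX)
  have hGN : G ≤ Pe.group := sup_le (by rintro _ ⟨x, rfl⟩; exact ⟨_, _, _, _, _, _, hrep _ _⟩)
    (Subgroup.zpowers_le.2 ⟨_, _, _, _, _, _, hXrep⟩)
  -- the stabiliser of the line is the pencil
  have hstab : ∀ Y ∈ K, ∀ p q s v₁ v₂, Pe.Rep Y p q 0 s v₁ v₂ → ∃ s t, Y = h s t := by
    intro Y hYK p q s v₁ v₂ hY
    have hps : p * s = 1 := by simpa using hY.1
    have hp : p ≠ 0 := left_ne_zero_of_mul_eq_one hps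
    have hconj : ∀ β v : F, ∀ N ∈ K, Pe.Rep N 1 (-β) 0 1 v 0 →
        p * v + p * p * β * v₂ ∈ F₀ ∧ p * p * β + (p * v + p * p * β * v₂) * lam ∈ F₀ := by
      intro β v N hNK hN
      have hK' : Y * N * Y⁻¹ ∈ K := K.mul_mem (K.mul_mem hYK hNK) (K.inv_mem hYK)
      set N' := S.set.siegel A ((p * p * β) • C - (p * v + p * p * β * v₂) • E) Pe.qA (hzA _ _)
      have e : Y * N = N' * Y := by
        refine Pe.rep_ext (Pe.rep_mul hY hN) (Pe.rep_mul (Pe.rep_lower _ _ (hzA _ _)) hY) ?_ ?_ ?_ ?_ ?_ ?_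
        · ring
        · linear_combination (p * β) * hps
        · ring
        · ring
        · ring
        · ring
      rw [e, mul_inv_cancel_right] at hK'
      exact hcoef _ _ (hzA _ _) hK'
    obtain ⟨k0, k1⟩ := hconj _ _ _ (hK0 1 0) (hrep 1 0)
    obtain ⟨n0, n1⟩ := hconj _ _ _ (hK0 0 1) (hrep 0 1)
    simp only [ZeroMemClass.coe_zero, OneMemClass.coe_one, zero_mul, add_zero, zero_add, one_mul,
      neg_zero, mul_zero, mul_neg, mul_one] at k0 k1 n0 n1
    set k := p * p * v₂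
    set n := -p + p * p * lam * v₂
    have hpn : p = k * lam - n := by simp only [k, n]; ring
    obtain ⟨m, hm, hpm⟩ : ∃ m ∈ F₀, p * p = m - k * lam := ⟨_, k1, by ring⟩
    have hk : k = 0 := by
      by_contra hk
      refine S.no_quadratic hr hr3 hcard hlam (m := (m - n * n) / (k * k))
        (n := (k * n + k * n - k) / (k * k)) (F₀.div_mem (F₀.sub_mem hm (F₀.mul_mem n0 n0)) (F₀.mul_mem k0 k0))
        (F₀.div_mem (F₀.sub_mem (F₀.add_mem (F₀.mul_mem k0 n0) (F₀.mul_mem k0 n0)) k0)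
          (F₀.mul_mem k0 k0)) ?_
      rw [hpn] at hpm
      field_simp
      linear_combination hpm
    have hp1 : p = 1 := by
      by_contra hne
      refine hlam ?_
      have hpF : p ∈ F₀ := by rw [hpn, hk]; simpa using F₀.neg_mem n0
      have h2 : (p * p - p) * lam ∈ F₀ := by
        convert n1 using 1
        rw [hpn, hk]
        ring
      have h3 : p * p - p ≠ 0 := by
        rw [← mul_sub_one]
        exact mul_ne_zero hp (sub_ne_zero.2 hne)
      rw [show lam = (p * p - p) * lam / (p * p - p) by field_simp]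
      exact F₀.div_mem h2 (F₀.sub_mem (F₀.mul_mem hpF hpF) hpF)
    have hv2 : v₂ = 0 := by simpa [k, hp1] using hk
    rw [hp1, one_mul] at hps
    subst hp1 hps hv2
    exact hlow Y q v₁ hY hYK
  haveI : Finite ((ι → F) ≃ₗ[F] (ι → F)) :=
    Finite.of_injective (fun g => (g : (ι → F) → (ι → F))) DFunLike.coe_injective
  let H : Subgroup G := hhom.range.subgroupOf G
  haveI : IsMulCommutative H := by
    refine ⟨⟨fun X Y => ?_⟩⟩
    obtain ⟨x, hx⟩ : ((X : G) : (ι → F) ≃ₗ[F] (ι → F)) ∈ hhom.range := X.2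
    obtain ⟨y, hy⟩ : ((Y : G) : (ι → F) ≃ₗ[F] (ι → F)) ∈ hhom.range := Y.2
    refine Subtype.ext (Subtype.ext ?_)
    show ((X : G) : (ι → F) ≃ₗ[F] (ι → F)) * (Y : G) = (Y : G) * (X : G)
    rw [← hx, ← hy, ← map_mul, ← map_mul, mul_comm]
  have hAt : ∀ x, pB Q (hhom x A) C = 0 := fun x => (Pe.rep_at (hrep _ _)).2
  have hne1 : ∀ s t : F₀, (s, t) ≠ 0 → -((s : F) + t * lam) ≠ 0 := by
    intro s t hst e
    rw [neg_eq_zero] at e
    by_cases ht : t = 0
    · subst ht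
      exact hst (by simp [show s = 0 from Subtype.ext (by simpa using e)])
    · refine hlam ?_
      have ht' : (t : F) ≠ 0 := fun e' => ht (Subtype.ext e')
      rw [show lam = -(s : F) / t by field_simp; linear_combination e]
      exact F₀.div_mem (F₀.neg_mem s.2) t.2
  have hinj : Function.Injective hhom := by
    rw [injective_iff_map_eq_one]
    intro x hx
    by_contra hx0
    have h1 : Pe.Rep (hhom x) 1 (-((x.toAdd.1 : F) + x.toAdd.2 * lam)) 0 1 (-(x.toAdd.2 : F)) 0 :=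
      hrep _ _
    rw [hx] at h1
    have h2 := (h1.2 W).symm
    simp only [LinearEquiv.coe_one, id_eq] at h2
    have h3 := congrArg (fun v => pB Q v U) h2
    simp only [map_add, map_sub, map_smul, LinearMap.add_apply, LinearMap.sub_apply, LinearMap.smul_apply,
      hAU, hCU, Pe.CW, hAW, S.set.pB_comm W U, Pe.UW, S.set.pB_comm W C, S.set.pB_comm W A, Pe.WE,
      show pB Q W W = 0 by rw [S.set.pB_self, Pe.qW, mul_zero], S.set.pB_comm E U, Pe.UE,
      show pB Q U U = 0 by rw [S.set.pB_self, Pe.qU, mul_zero], smul_eq_mul, mul_zero,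
      mul_one, add_zero, zero_add, sub_zero, zero_mul, sub_self] at h3
    exact hne1 x.toAdd.1 x.toAdd.2 (fun e => hx0 (toAdd_eq_zero.1 e)) h3
  have hHfrob : Cfsg.IsFrobeniusComplement H := by
    refine ⟨fun e => ?_, fun e => ?_, fun x hx => (Subgroup.eq_bot_iff_forall _).2 ?_⟩
    · have h1 : (⟨hhom (Multiplicative.ofAdd (1, 0)), Subgroup.mem_sup_left ⟨_, rfl⟩⟩ : G) ∈ H := ⟨_, rfl⟩
      rw [e, Subgroup.mem_bot] at h1
      have h2 := hinj ((congrArg Subtype.val h1).trans (map_one hhom).symm)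
      simpa using congrArg (fun z => ((Multiplicative.toAdd z).1 : F)) h2
    · have h1 : (⟨Xu, Subgroup.mem_sup_right (Subgroup.mem_zpowers _)⟩ : G) ∈ H := e ▸ Subgroup.mem_top _
      obtain ⟨y, hy⟩ := h1
      replace hy : hhom y = Xu := hy
      have h2 := hAt y
      rw [hy, (Pe.rep_at hXrep).2] at h2
      exact hα h2
    · rintro z ⟨hz, hzx⟩
      replace hzx : x⁻¹ * z * x ∈ H := Basics.mem_conj_smul.1 hzx
      by_contra hz1
      obtain ⟨y, hy⟩ : ((z : G) : (ι → F) ≃ₗ[F] (ι → F)) ∈ hhom.range := hz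
      obtain ⟨y', hy'⟩ : ((x⁻¹ * z * x : G) : (ι → F) ≃ₗ[F] (ι → F)) ∈ hhom.range := hzx
      obtain ⟨p, q, r, s, v₁, v₂, hxr⟩ := hGN x.2
      have e : hhom y * (x : (ι → F) ≃ₗ[F] (ι → F)) = (x : (ι → F) ≃ₗ[F] (ι → F)) * hhom y' := by
        rw [hy, hy']
        simp only [Subgroup.coe_mul, InvMemClass.coe_inv]
        group
      have h1 := Pe.rep_at (Pe.rep_mul (hrep y.toAdd.1 y.toAdd.2) hxr)
      have h2 := Pe.rep_at (Pe.rep_mul hxr (hrep y'.toAdd.1 y'.toAdd.2))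
      have h3 : -((y.toAdd.1 : F) + y.toAdd.2 * lam) * r = 0 := by
        have h4 := congrArg (fun Y : (ι → F) ≃ₗ[F] (ι → F) => pB Q (Y A) U) e
        simp only [hhom, MonoidHom.mk'_apply] at h4
        rw [h1.1, h2.1] at h4
        linear_combination h4
      have hy0 : (y.toAdd.1, y.toAdd.2) ≠ 0 := fun e0 => hz1 (Subtype.ext (by
        rw [← hy, show y = 1 from toAdd_eq_zero.1 e0, map_one]; rfl))
      have hr0 : r = 0 := (mul_eq_zero.1 h3).resolve_left (hne1 _ _ hy0)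
      subst hr0
      obtain ⟨s', t', hst⟩ := hstab _ (hGK x.2) _ _ _ _ _ hxr
      exact hx ⟨Multiplicative.ofAdd (s', t'), hst.symm⟩
  haveI := isCyclic_of_malnormal H hHfrob
  -- the pencil is not cyclic
  have hcyc : IsCyclic (Multiplicative (F₀ × F₀)) := by
    let f : Multiplicative (F₀ × F₀) →* G :=
      hhom.codRestrict G fun x => Subgroup.mem_sup_left ⟨x, rfl⟩
    let f' : Multiplicative (F₀ × F₀) →* H := f.codRestrict H fun x => ⟨x, rfl⟩
    exact isCyclic_of_injective f' fun x y e => hinj (congrArg Subtype.val (congrArg Subtype.val e))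
  obtain ⟨g₀, hg⟩ := hcyc.exists_generator
  obtain ⟨g, rfl⟩ : ∃ g, Multiplicative.ofAdd g = g₀ := ⟨g₀.toAdd, rfl⟩
  obtain ⟨k, hk⟩ := Subgroup.mem_zpowers_iff.1 (hg (Multiplicative.ofAdd (1, 0)))
  obtain ⟨l, hl⟩ := Subgroup.mem_zpowers_iff.1 (hg (Multiplicative.ofAdd (0, 1)))
  have hk' := congrArg Multiplicative.toAdd hk
  have hl' := congrArg Multiplicative.toAdd hl
  simp only [toAdd_zpow, toAdd_ofAdd, Prod.ext_iff, Prod.smul_fst, Prod.smul_snd, zsmul_eq_mul, Prod.fst_mul, Prod.snd_mul, Prod.fst_intCast,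
    Prod.snd_intCast] at hk' hl'
  have h1 : (1 : F₀) = 0 := by
    calc (1 : F₀) = ((k : F₀) * g.1) * ((l : F₀) * g.2) := by rw [hk'.1, hl'.2, mul_one]
      _ = ((k : F₀) * g.2) * ((l : F₀) * g.1) := by ring
      _ = 0 := by rw [hk'.2, zero_mul]
  exact one_ne_zero h1

end ORat

end Cfsg.Agent.QMax
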