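import Cfsg.Agent.Lib.TransvMax.OrthRatPencil

/-!
An irrational root element gives an irrational Siegel transformation at a rational centre.
-/

set_option autoImplicit false

namespace Cfsg.Agent.QMax

open scoped Matrix MatrixGroups
open Cfsg.Agent Cfsg.Agent.TransvMax

variable {ι : Type} [Fintype ι] [DecidableEq ι] {F : Type*} [Field F]
  {Q : QuadraticForm F (ι → F)} {F₀ : Subfield F} {P : GL ι F}

namespace ORat

variable (S : ORat Q F₀ P)

include S

theorem perp_of_span {k : ℕ} {t : Fin k → ι → F₀} {a : ι → F₀} (h : ∀ i, pB S.q₀ (t i) a = 0)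
    {x : ι → F} (hx : x ∈ Submodule.span F (Set.range fun i => ratEmb F₀ P (t i))) :
    pB Q x (ratEmb F₀ P a) = 0 := by
  induction hx using Submodule.span_induction with
  | mem x hx => obtain ⟨i, rfl⟩ := hx; exact S.perp (h i)
  | zero => simp
  | add x y _ _ hx hy => rw [map_add, LinearMap.add_apply, hx, hy, add_zero]
  | smul c x _ hx => rw [map_smul, LinearMap.smul_apply, hx, smul_zero]

variable {K : Subgroup ((ι → F) ≃ₗ[F] (ι → F))} [Finite F]

/-- An irrational root element whose plane lies in the span of four rational vectors. -/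
theorem irrCentre_of_span (hrat : S.RatIn K) {u v : ι → F} (hu : Q u = 0) (hv : Q v = 0)
    (hz : pB Q v u = 0) (hX : S.set.siegel u v hu hz ∈ K)
    (hirr : ¬ ∀ y, ∃ y', S.set.siegel u v hu hz (ratEmb F₀ P y) = ratEmb F₀ P y')
    (t : Fin 4 → ι → F₀) (hut : u ∈ Submodule.span F (Set.range fun i => ratEmb F₀ P (t i)))
    (hvt : v ∈ Submodule.span F (Set.range fun i => ratEmb F₀ P (t i))) : S.IrrCentre K := by
  set R := ratEmb F₀ P with hR
  by_contra hfail
  refine hirr fun y => ?_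
  obtain ⟨a, ha, ha', han⟩ := S.exists_out (Fin.cons y t : Fin 5 → ι → F₀) t (by omega) (by omega)
  have hay : pB S.q₀ y a = 0 := by rw [S.pB₀_comm]; simpa using ha' 0
  have hat : ∀ i, pB S.q₀ (t i) a = 0 := fun i => by
    rw [S.pB₀_comm]; simpa using ha' i.succ
  have ha0 : a ≠ 0 := fun e => han (e ▸ Submodule.zero_mem _)
  obtain ⟨φ, hφa, hφt⟩ := Submodule.exists_dual_map_eq_bot_of_notMem han inferInstance
  obtain ⟨y₀, hy₀⟩ := S.exists_rep φ
  have hty₀ : ∀ i, pB S.q₀ (t i) y₀ = 0 := fun i => by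
    rw [← hy₀, ← Submodule.mem_bot F₀, ← hφt]
    exact Submodule.mem_map_of_mem (Submodule.subset_span ⟨i, rfl⟩)
  set X := S.set.siegel u v hu hz
  have hAu : pB Q (R a) u = 0 := by rw [S.set.pB_comm]; exact S.perp_of_span hat hut
  have hAv : pB Q (R a) v = 0 := by rw [S.set.pB_comm]; exact S.perp_of_span hat hvt
  have eA : X (R a) = R a := by
    rw [S.set.siegel_apply, siegelHom_apply, hAu, hAv]
    simp
  have hy : pB Q (R y) (R a) = 0 := S.perp hay
  have hXy : pB Q (X (R y)) (R a) = 0 := by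
    rw [← eA, S.set.pB_of_mem (S.set.siegel_mem_oGroup _ _), hy]
  have h1 := K.mul_mem (K.mul_mem hX (hrat a y (S.sing ha) hy)) (K.inv_mem hX)
  rw [S.set.siegel_conj (S.set.siegel_mem_oGroup _ _), S.set.siegel_congr eA rfl (hu' := S.sing ha)
    (hw' := hXy)] at h1
  obtain ⟨y', ξ, he⟩ : ∃ y' ξ, X (R y) = R y' + ξ • R a := by
    by_contra hc
    push Not at hc
    exact hfail ⟨a, _, S.sing ha, hXy, ha0, h1, hc⟩
  have hD : X (R y) - R y ∈ Submodule.span F (Set.range fun i => R (t i)) := by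
    rw [S.set.siegel_apply, siegelHom_apply, hv]
    have : R y + pB Q (R y) u • v - pB Q (R y) v • u - (0 * pB Q (R y) u) • u - R y =
        pB Q (R y) u • v - pB Q (R y) v • u := by module
    rw [this]
    exact Submodule.sub_mem _ (Submodule.smul_mem _ _ hvt) (Submodule.smul_mem _ _ hut)
  have h2 := S.perp_of_span hty₀ hD
  rw [he, map_sub, map_add, map_smul, LinearMap.sub_apply, LinearMap.add_apply, LinearMap.smul_apply,
    S.coe_pB a, ← hy₀, smul_eq_mul] at h2
  have hφ0 : (φ a : F) ≠ 0 := fun e => hφa (Subtype.ext e)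
  have hξ : ξ ∈ F₀ := by
    rw [show ξ = (pB Q (R y) (R y₀) - pB Q (R y') (R y₀)) / (φ a : F) by
      field_simp; linear_combination h2]
    exact F₀.div_mem (F₀.sub_mem (S.pB_rat _ _) (S.pB_rat _ _)) (φ a).2
  exact ⟨y' + (⟨ξ, hξ⟩ : F₀) • a, by rw [he, hR, ratEmb_add, ratEmb_smul]⟩

omit [Finite F] in
/-- Over an extension of degree two every vector is a combination of two rational ones. -/
theorem exists_two_span [Fintype F] (hcard : Fintype.card F = Nat.card F₀ ^ 2) (x : ι → F) :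
    ∃ y z : ι → F₀, x ∈ Submodule.span F {ratEmb F₀ P y, ratEmb F₀ P z} := by
  classical
  haveI := Fintype.ofFinite F₀
  obtain ⟨ω, hω⟩ : ∃ ω : F, ω ∉ F₀ := by
    by_contra hc
    push Not at hc
    have h1 : Nat.card F₀ = Fintype.card F := by
      rw [← Nat.card_eq_fintype_card (α := F)]
      exact Nat.card_congr (Equiv.subtypeUnivEquiv hc)
    have h2 : 2 ≤ Nat.card F₀ := Finite.one_lt_card
    rw [h1, ← Nat.card_eq_fintype_card (α := F)] at hcard
    nlinarith [h1, h2, Nat.card_eq_fintype_card (α := F)]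
  have hinj : Function.Injective fun p : F₀ × F₀ => (p.1 : F) + p.2 * ω := by
    intro p p' h
    by_cases h2 : p.2 = p'.2
    · exact Prod.ext (Subtype.ext (by simpa [h2] using h)) h2
    · refine absurd ?_ hω
      have h3 : ((p.2 : F) - p'.2) ≠ 0 := sub_ne_zero.2 fun e => h2 (Subtype.ext e)
      rw [show ω = ((p'.1 : F) - p.1) / (p.2 - p'.2) by field_simp; linear_combination h]
      exact F₀.div_mem (F₀.sub_mem p'.1.2 p.1.2) (F₀.sub_mem p.2.2 p'.2.2)
  have hsurj : Function.Surjective fun p : F₀ × F₀ => (p.1 : F) + p.2 * ω :=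
    ((Nat.bijective_iff_injective_and_card _).2 ⟨hinj, by
      rw [Nat.card_prod, Nat.card_eq_fintype_card (α := F), hcard, pow_two]⟩).2
  choose d hd using fun i => hsurj ((((P⁻¹ : GL ι F) : Matrix ι ι F) *ᵥ x) i)
  refine ⟨fun i => (d i).1, fun i => (d i).2, Submodule.mem_span_pair.2 ⟨1, ω, ?_⟩⟩
  rw [one_smul, ratEmb, ratEmb, ← Matrix.mulVec_smul, ← Matrix.mulVec_add]
  conv_rhs => rw [← mulVec_inv_mulVec P x]
  congr 1
  funext i
  rw [Pi.add_apply, Pi.smul_apply, smul_eq_mul, mul_comm, ← hd i]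

/-- Either the plane lies in the span of four rational vectors or a pencil has irrational ratio. -/
theorem span_or_pencil {u v : ι → F} (hv : Q v = 0) (hu : Q u = 0) (hz : pB Q v u = 0)
    (hli : LinearIndependent F ![u, v]) :
    (∃ t : Fin 4 → ι → F₀, u ∈ Submodule.span F (Set.range fun i => ratEmb F₀ P (t i)) ∧
      v ∈ Submodule.span F (Set.range fun i => ratEmb F₀ P (t i))) ∨
    ∃ a c c' : ι → F₀, S.q₀ a = 0 ∧ S.q₀ c = 0 ∧ S.q₀ c' = 0 ∧ pB S.q₀ a c = 0 ∧
      pB S.q₀ a c' = 0 ∧ pB S.q₀ c c' = 0 ∧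
      pB Q (ratEmb F₀ P a) u * pB Q (ratEmb F₀ P c) v -
          pB Q (ratEmb F₀ P a) v * pB Q (ratEmb F₀ P c) u ≠ 0 ∧
      (pB Q (ratEmb F₀ P a) u * pB Q (ratEmb F₀ P c') v -
          pB Q (ratEmb F₀ P a) v * pB Q (ratEmb F₀ P c') u) /
        (pB Q (ratEmb F₀ P a) u * pB Q (ratEmb F₀ P c) v -
          pB Q (ratEmb F₀ P a) v * pB Q (ratEmb F₀ P c) u) ∉ F₀ := by
  refine or_iff_not_imp_right.2 fun hno => ?_
  push Not at hno
  set R := ratEmb F₀ P with hR
  let m : (ι → F₀) → (ι → F) := fun a => pB Q (R a) u • v - pB Q (R a) v • u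
  have hmv : ∀ a x : ι → F₀, pB Q (m a) (R x) =
      pB Q (R a) u * pB Q (R x) v - pB Q (R a) v * pB Q (R x) u := fun a x => by
    simp [m, S.set.pB_comm u (R x), S.set.pB_comm v (R x)]
  have hlow : ∀ a, S.q₀ a = 0 → a ≠ 0 →
      ∃ y, m a ∈ Submodule.span F {R y, R a} := by
    intro a ha ha0
    have hma : pB Q (m a) (R a) = 0 := by rw [hmv]; ring
    by_cases hall : ∀ c, S.q₀ c = 0 → pB S.q₀ c a = 0 → pB Q (m a) (R c) = 0
    · obtain ⟨y, ξ, hy⟩ := S.rep_of_values ha ha0 hma fun c hc hca => by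
        rw [hall c hc hca]; exact F₀.zero_mem
      exact ⟨y, Submodule.mem_span_pair.2 ⟨1, ξ, by rw [hy, one_smul]⟩⟩
    push Not at hall
    obtain ⟨c₀, hc₀, hc₀a, hf₀⟩ := hall
    set κ := pB Q (m a) (R c₀) with hκ
    have hz' : pB Q (κ⁻¹ • m a) (R a) = 0 := by rw [map_smul, LinearMap.smul_apply, hma, smul_zero]
    have hac₀ : pB S.q₀ a c₀ = 0 := by rw [S.pB₀_comm]; exact hc₀a
    have hbase : ∀ c, S.q₀ c = 0 → pB S.q₀ c a = 0 → ∀ b, S.q₀ b = 0 → pB S.q₀ b a = 0 →
        pB Q (m a) (R b) ≠ 0 → pB S.q₀ b c = 0 →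
        pB Q (m a) (R c) / pB Q (m a) (R b) ∈ F₀ := by
      intro c hc hca b hb hba hb0 hbc
      rw [hmv, hmv]
      rw [hmv] at hb0
      exact hno a b c ha hb hc (by rw [S.pB₀_comm]; exact hba) (by rw [S.pB₀_comm]; exact hca) hbc hb0
    obtain ⟨y, ξ, hy⟩ := S.rep_of_values ha ha0 hz' (fun c hc hca => by
      show pB Q (κ⁻¹ • m a) (R c) ∈ F₀
      rw [map_smul, LinearMap.smul_apply, smul_eq_mul, inv_mul_eq_div]
      by_cases hcs : c ∈ Submodule.span F₀ (Set.range ![c₀, a])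
      · obtain ⟨p, q, rfl⟩ := Submodule.mem_span_pair.1 (show c ∈ Submodule.span F₀ {c₀, a} by
          rwa [show ({c₀, a} : Set (ι → F₀)) = Set.range ![c₀, a] by
            simp [Set.range_comp, Set.pair_comm]])
        rw [hR, ratEmb_add, ratEmb_smul, ratEmb_smul, ← hR, map_add, map_smul, map_smul, hma, ← hκ,
          smul_zero, add_zero, smul_eq_mul, mul_div_assoc, div_self hf₀, mul_one]
        exact p.2
      have hc₀n : c₀ ∉ Submodule.span F₀ {a} := fun h => hf₀ (by
        obtain ⟨t, rfl⟩ := Submodule.mem_span_singleton.1 h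
        rw [hκ, hR, ratEmb_smul, map_smul, ← hR, hma, smul_zero])
      have hli3 : LinearIndependent F₀ ![c, c₀, a] :=
        linearIndependent_finCons.2 ⟨S.set₀.sing_indep_pair ha0 hc₀n, hcs⟩
      obtain ⟨d, hd, hd', hdn⟩ := S.exists_out ![c, c₀, a] ![c, c₀, a] (by omega) (by omega)
      have hdc : pB S.q₀ d c = 0 := hd' 0
      have hdc₀ : pB S.q₀ d c₀ = 0 := hd' 1
      have hda : pB S.q₀ d a = 0 := hd' 2
      have hc₀d : pB S.q₀ c₀ d = 0 := by rw [S.pB₀_comm]; exact hdc₀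
      by_cases hfd : pB Q (m a) (R d) = 0
      · obtain ⟨z, hz, hz'⟩ := S.exists_sing (linearIndependent_finCons.2 ⟨hli3, hdn⟩ :
          LinearIndependent F₀ ![d, c, c₀, a]) (by omega) ![-pB S.q₀ c c₀, 0, 0, 0]
        have hzd : pB S.q₀ z d = -pB S.q₀ c c₀ := hz' 0
        have hzc : pB S.q₀ z c = 0 := hz' 1
        have hzc₀ : pB S.q₀ z c₀ = 0 := hz' 2
        have hza : pB S.q₀ z a = 0 := hz' 3
        have e1 : pB Q (m a) (R z) / κ ∈ F₀ :=
          hbase z hz hza c₀ hc₀ hc₀a hf₀ (by rw [S.pB₀_comm]; exact hzc₀)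
        have e2 : pB Q (m a) (R (c + z)) / pB Q (m a) (R (c₀ + d)) ∈ F₀ := by
          refine hbase _ ?_ ?_ _ ?_ ?_ ?_ ?_
          · rw [S.set₀.quad_add, hc, hz, S.pB₀_comm, hzc]; simp
          · rw [map_add, LinearMap.add_apply, hca, hza, add_zero]
          · rw [S.set₀.quad_add, hc₀, hd, hc₀d]; simp
          · rw [map_add, LinearMap.add_apply, hc₀a, hda, add_zero]
          · rw [hR, ratEmb_add, map_add, ← hR, hfd, add_zero]; exact hf₀
          · simp only [map_add, LinearMap.add_apply, S.pB₀_comm c₀ c, S.pB₀_comm c₀ z, hzc₀, hdc,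
              S.pB₀_comm d z, hzd]
            ring
        rw [hR, ratEmb_add, ratEmb_add, map_add, map_add, ← hR, hfd, add_zero, add_div] at e2
        convert F₀.sub_mem e2 e1 using 1
        rw [← hκ]
        ring
      · have e1 : pB Q (m a) (R d) / κ ∈ F₀ := hbase d hd hda c₀ hc₀ hc₀a hf₀ hc₀d
        have e2 : pB Q (m a) (R c) / pB Q (m a) (R d) ∈ F₀ := hbase c hc hca d hd hda hfd hdc
        have h := F₀.mul_mem e2 e1
        rwa [div_mul_div_cancel₀ hfd] at h)
    refine ⟨y, Submodule.mem_span_pair.2 ⟨κ, κ * ξ, ?_⟩⟩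
    rw [← smul_inv_smul₀ hf₀ (m a), hy, smul_add, smul_smul]
  obtain ⟨a₁, ha₁, hne⟩ : ∃ a, S.q₀ a = 0 ∧ m a ≠ 0 := by
    by_contra hc
    push Not at hc
    refine (hli.ne_zero 0 : u ≠ 0) (S.eq_of_forall_rat fun x => ?_)
    have hall : ∀ a, S.q₀ a = 0 → pB Q (R a) u = 0 := fun a ha =>
      (LinearIndependent.pair_iff.1 hli (-pB Q (R a) v) (pB Q (R a) u) (by
        have e := hc a ha
        simp only [m] at e
        linear_combination (norm := module) e)).2
    rw [map_zero]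
    exact S.sing_induction (motive := fun x => pB Q (R x) u = 0) hall (fun b c hb hc => by
      rw [hR, ratEmb_add, map_add, LinearMap.add_apply, ← hR, hb, hc, add_zero]) x
  have hm0 : m 0 = 0 := by simp [m, hR, ratEmb_zero]
  obtain ⟨a₂, ha₂, hne₂⟩ : ∃ a, S.q₀ a = 0 ∧ pB Q (R a) (m a₁) ≠ 0 := by
    by_contra hc
    push Not at hc
    refine hne (S.eq_of_forall_rat fun x => ?_)
    rw [map_zero]
    exact S.sing_induction (motive := fun x => pB Q (R x) (m a₁) = 0) hc (fun b c hb hc => by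
      rw [hR, ratEmb_add, map_add, LinearMap.add_apply, ← hR, hb, hc, add_zero]) x
  obtain ⟨y₁, hy₁⟩ := hlow a₁ ha₁ (fun e => hne (e ▸ hm0))
  obtain ⟨y₂, hy₂⟩ := hlow a₂ ha₂ (fun e => hne₂ (by
    rw [e, hR, ratEmb_zero, map_zero, LinearMap.zero_apply]))
  set δ := pB Q (R a₁) u * pB Q (R a₂) v - pB Q (R a₁) v * pB Q (R a₂) u with hδ
  have hδ0 : δ ≠ 0 := by rwa [hδ, ← hmv, S.set.pB_comm]
  refine ⟨![y₁, a₁, y₂, a₂], ?_⟩
  set Sp := Submodule.span F (Set.range fun i => R (![y₁, a₁, y₂, a₂] i))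
  have h₁ : m a₁ ∈ Sp := Submodule.span_le.2 (by
    rintro _ (rfl | rfl)
    · exact Submodule.subset_span ⟨0, rfl⟩
    · exact Submodule.subset_span ⟨1, rfl⟩) hy₁
  have h₂ : m a₂ ∈ Sp := Submodule.span_le.2 (by
    rintro _ (rfl | rfl)
    · exact Submodule.subset_span ⟨2, rfl⟩
    · exact Submodule.subset_span ⟨3, rfl⟩) hy₂
  constructor
  · rw [← inv_smul_smul₀ hδ0 u, show δ • u = pB Q (R a₂) u • m a₁ - pB Q (R a₁) u • m a₂ by
      simp only [m, δ]; module]
    exact Submodule.smul_mem _ _ (Submodule.sub_mem _ (Submodule.smul_mem _ _ h₁) (Submodule.smul_mem _ _ h₂))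
  · rw [← inv_smul_smul₀ hδ0 v, show δ • v = pB Q (R a₂) v • m a₁ - pB Q (R a₁) v • m a₂ by
      simp only [m, δ]; module]
    exact Submodule.smul_mem _ _ (Submodule.sub_mem _ (Submodule.smul_mem _ _ h₁) (Submodule.smul_mem _ _ h₂))

/-- An irrational root element gives an irrational transformation at a rational centre. -/
theorem irrCentre_of_root [Fintype F] {r : ℕ} (hr : r.Prime)
    (hcard : Fintype.card F = Nat.card F₀ ^ r) (hrat : S.RatIn K) {u v : ι → F} (hu : Q u = 0)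
    (hv : Q v = 0) (hz : pB Q v u = 0) (hli : LinearIndependent F ![u, v])
    (hX : S.set.siegel u v hu hz ∈ K)
    (hirr : ¬ ∀ y, ∃ y', S.set.siegel u v hu hz (ratEmb F₀ P y) = ratEmb F₀ P y') : S.IrrCentre K := by
  rcases Nat.lt_or_ge r 3 with hr3 | hr3
  · have h2 : r = 2 := by have := hr.two_le; omega
    subst h2
    obtain ⟨y₁, z₁, h₁⟩ := S.exists_two_span hcard u
    obtain ⟨y₂, z₂, h₂⟩ := S.exists_two_span hcard v
    refine S.irrCentre_of_span hrat hu hv hz hX hirr ![y₁, z₁, y₂, z₂] ?_ ?_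
    · refine Submodule.span_le.2 ?_ h₁
      rintro _ (rfl | rfl)
      · exact Submodule.subset_span ⟨0, rfl⟩
      · exact Submodule.subset_span ⟨1, rfl⟩
    · refine Submodule.span_le.2 ?_ h₂
      rintro _ (rfl | rfl)
      · exact Submodule.subset_span ⟨2, rfl⟩
      · exact Submodule.subset_span ⟨3, rfl⟩
  rcases S.span_or_pencil hv hu hz hli with ⟨t, hut, hvt⟩ | ⟨a, c, c', ha, hc, hc', hac, hac', hcc', hη, hlam⟩
  · exact S.irrCentre_of_span hrat hu hv hz hX hirr t hut hvt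
  set R := ratEmb F₀ P with hR
  set η := pB Q (R a) u * pB Q (R c) v - pB Q (R a) v * pB Q (R c) u with hηdef
  set U := (pB Q (R c) v / η) • u - (pB Q (R c) u / η) • v with hU
  set W := (pB Q (R a) u / η) • v - (pB Q (R a) v / η) • u with hW
  have huu : pB Q u u = 0 := by rw [S.set.pB_self, hu, mul_zero]
  have hvv : pB Q v v = 0 := by rw [S.set.pB_self, hv, mul_zero]
  have huv : pB Q u v = 0 := by rw [S.set.pB_comm, hz]
  have hUW : ∀ (p q p' q' : F), pB Q (p • u - q • v) (p' • v - q' • u) = 0 := by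
    intro p q p' q'
    simp only [map_sub, map_smul, LinearMap.sub_apply, LinearMap.smul_apply, huu, hvv, huv, hz,
      smul_zero, sub_zero]
  have hQ : ∀ (p q : F), Q (p • u - q • v) = 0 := by
    intro p q
    rw [sub_eq_add_neg, ← neg_smul, S.set.quad_add, S.set.quad_smul, S.set.quad_smul, hu, hv]
    simp only [map_smul, LinearMap.smul_apply, huv, smul_zero, mul_zero, add_zero]
  have hQW : Q W = 0 := by
    rw [hW, show (pB Q (R a) u / η) • v - (pB Q (R a) v / η) • u =
      (-(pB Q (R a) v / η)) • u - (-(pB Q (R a) u / η)) • v by module]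
    exact hQ _ _
  have hz' : pB Q (η • W) U = 0 := by
    rw [map_smul, LinearMap.smul_apply, S.set.pB_comm, hU, hW, hUW, smul_zero]
  have hX' : S.set.siegel U (η • W) (hQ _ _) hz' ∈ K := by
    convert hX using 1
    refine LinearEquiv.ext fun x => ?_
    simp only [S.set.siegel_apply, siegelHom_apply, S.set.quad_smul, hQW, hv, mul_zero, zero_mul,
      zero_smul, sub_zero]
    simp only [map_smul, hU, hW, map_sub, smul_eq_mul]
    match_scalars <;> field_simp <;> rw [hηdef] <;> ring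
  refine S.irrCentre_of_pencil hr hr3 hcard hrat ha hc hc' hac hac' hcc' (hQ _ _) hQW (hUW _ _ _ _)
    ?_ ?_ ?_ ?_ ?_ hη hz' hX'
  · simp only [← hR, map_sub, map_smul, smul_eq_mul, hU]
    field_simp
    rw [hηdef]; ring
  · simp only [← hR, map_sub, map_smul, smul_eq_mul, hW]
    field_simp
    rw [hηdef]
  · simp only [← hR, map_sub, map_smul, smul_eq_mul, hW]
    field_simp
    ring
  · simp only [← hR, map_sub, map_smul, smul_eq_mul, hU]
    field_simp
    ring
  · convert hlam using 1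
    simp only [← hR, map_sub, map_smul, smul_eq_mul, hW]
    field_simp

end ORat

end Cfsg.Agent.QMax
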