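import Cfsg.Agent.Lib.TransvMax.OrthRatBasic

/-!
From one irrational Siegel transformation at a rational singular centre to all Siegel transformations.
-/

set_option autoImplicit false

namespace Cfsg.Agent.QMax

open scoped Matrix MatrixGroups
open Cfsg.Agent Cfsg.Agent.TransvMax

variable {ι : Type} [Fintype ι] [DecidableEq ι] {F : Type*} [Field F]
  {Q : QuadraticForm F (ι → F)} {F₀ : Subfield F} {P : GL ι F}

namespace ORat

variable (S : ORat Q F₀ P)

include S

/-- The rational Siegel transformations lie in a group. -/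
def RatIn (K : Subgroup ((ι → F) ≃ₗ[F] (ι → F))) : Prop :=
  ∀ (a z : ι → F₀) (h1 : Q (ratEmb F₀ P a) = 0) (h2 : pB Q (ratEmb F₀ P z) (ratEmb F₀ P a) = 0),
    S.set.siegel _ _ h1 h2 ∈ K

/-- An irrational Siegel transformation at a rational centre. -/
def IrrCentre (K : Subgroup ((ι → F) ≃ₗ[F] (ι → F))) : Prop :=
  ∃ (a : ι → F₀) (z : ι → F) (h1 : Q (ratEmb F₀ P a) = 0) (h2 : pB Q z (ratEmb F₀ P a) = 0),
    a ≠ 0 ∧ S.set.siegel _ _ h1 h2 ∈ K ∧
      ∀ (y : ι → F₀) (ξ : F), z ≠ ratEmb F₀ P y + ξ • ratEmb F₀ P a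

/-- Orthogonal singular pairs. -/
def OPair (a b : ι → F₀) : Prop := S.q₀ a = 0 ∧ S.q₀ b = 0 ∧ pB S.q₀ a b = 0

theorem OPair.symm {a b : ι → F₀} (h : S.OPair a b) : S.OPair b a :=
  ⟨h.2.1, h.1, by rw [S.pB₀_comm]; exact h.2.2⟩

/-- Membership of a long root element with a given coefficient. -/
def Short (K : Subgroup ((ι → F) ≃ₗ[F] (ι → F))) (s : F) (a b : ι → F₀) : Prop :=
  ∀ (h1 : Q (ratEmb F₀ P a) = 0) (h2 : pB Q (s • ratEmb F₀ P b) (ratEmb F₀ P a) = 0),
    S.set.siegel _ _ h1 h2 ∈ K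

variable {K : Subgroup ((ι → F) ≃ₗ[F] (ι → F))}

theorem short_rat (hrat : S.RatIn K) {a b : ι → F₀} {s : F} (hs : s ∈ F₀) : S.Short K s a b :=
  fun h1 h2 => by
    have e : ratEmb F₀ P ((⟨s, hs⟩ : F₀) • b) = s • ratEmb F₀ P b := ratEmb_smul F₀ P _ _
    rw [S.set.siegel_congr rfl e.symm (hu' := h1) (hw' := by rw [e]; exact h2)]
    exact hrat _ _ _ _

theorem short_swap {a b : ι → F₀} (hab : S.OPair a b) {s : F} (h : S.Short K s a b) :
    S.Short K (-s) b a := by
  intro hb hz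
  have hBA : pB Q (ratEmb F₀ P a) (ratEmb F₀ P b) = 0 := S.perp hab.2.2
  have hz' : pB Q (s • ratEmb F₀ P b) (ratEmb F₀ P a) = 0 := by
    rw [map_smul, LinearMap.smul_apply, S.perp hab.symm.2.2, smul_zero]
  convert h (S.sing hab.1) hz' using 1
  refine LinearEquiv.ext fun x => ?_
  simp only [S.set.siegel_apply, siegelHom_apply, S.set.quad_smul, S.sing hab.1, S.sing hab.2.1,
    map_smul, smul_eq_mul]
  module

/-- The commutator of two root elements. -/
theorem short_comm {a b d q : ι → F₀} (hab : S.OPair a b) (hqd : S.OPair q d)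
    (haq : pB S.q₀ a q = 0) (had : pB S.q₀ a d = 0) (hbd : pB S.q₀ b d = 0)
    (hbq : pB S.q₀ b q = 1) {x y : F} (hx : S.Short K x a b) (hy : S.Short K y q d) :
    S.Short K (x * y) a d := by
  intro ha hz
  set A := ratEmb F₀ P a
  set B := ratEmb F₀ P b
  set D := ratEmb F₀ P d
  set W := ratEmb F₀ P q
  have aq : pB Q A W = 0 := S.perp haq
  have ad : pB Q A D = 0 := S.perp had
  have bd : pB Q B D = 0 := S.perp hbd
  have bq : pB Q B W = 1 := S.val_one hbq
  have hz1 : pB Q (x • B) A = 0 := by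
    rw [map_smul, LinearMap.smul_apply, S.perp hab.symm.2.2, smul_zero]
  have hz2 : pB Q (y • D) W = 0 := by
    rw [map_smul, LinearMap.smul_apply, S.perp hqd.symm.2.2, smul_zero]
  set H := S.set.siegel W (y • D) (S.sing hqd.1) hz2
  have hX := hx ha hz1
  have hH : H ∈ K := hy (S.sing hqd.1) hz2
  have h1 := K.mul_mem (K.mul_mem (K.mul_mem hH hX) (K.inv_mem hH)) (K.inv_mem hX)
  rw [S.set.siegel_conj (S.set.siegel_mem_oGroup _ _)] at h1
  have eA : H A = A := by
    rw [S.set.siegel_apply, siegelHom_apply, aq, map_smul, ad]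
    simp
  have eB : H (x • B) = x • B + (x * y) • D := by
    rw [S.set.siegel_apply, siegelHom_apply]
    simp only [map_smul, LinearMap.smul_apply, bq, bd, S.set.quad_smul,
      show Q D = 0 from S.sing hqd.2.1, smul_eq_mul]
    module
  have hw : pB Q (x • B + (x * y) • D) A = 0 := by
    rw [map_add, LinearMap.add_apply, hz1, hz, add_zero]
  rw [S.set.siegel_congr eA eB (hu' := ha) (hw' := hw)] at h1
  convert h1 using 1
  rw [eq_mul_inv_iff_mul_eq, S.set.siegel_mul ha hz hz1]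
  exact S.set.siegel_congr rfl (add_comm _ _)

variable [Finite F]

/-- Replacing the second member of a pair. -/
theorem short_move (hrat : S.RatIn K) {a b d : ι → F₀} (hab : S.OPair a b)
    (hli : LinearIndependent F₀ ![d, b, a]) (hd : S.q₀ d = 0) (had : pB S.q₀ a d = 0)
    (hbd : pB S.q₀ b d = 0) {x : F} (hx : S.Short K x a b) : S.Short K x a d := by
  obtain ⟨q, hq, hq'⟩ := S.exists_sing hli (by omega) ![0, 1, 0]
  have hqd : pB S.q₀ q d = 0 := hq' 0
  have hbq : pB S.q₀ b q = 1 := by rw [S.pB₀_comm]; exact hq' 1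
  have haq : pB S.q₀ a q = 0 := by rw [S.pB₀_comm]; exact hq' 2
  have h := S.short_comm hab ⟨hq, hd, hqd⟩ haq had hbd hbq hx (S.short_rat hrat F₀.one_mem)
  rwa [mul_one] at h

/-- A coefficient found at one pair is found at all pairs. -/
theorem short_all (hrat : S.RatIn K) {a b : ι → F₀} (hab : S.OPair a b)
    (hli : LinearIndependent F₀ ![b, a]) {c d : ι → F₀} (hcd : S.OPair c d)
    (hlcd : LinearIndependent F₀ ![d, c]) {x : F} (hx : S.Short K x a b) : S.Short K x c d := by
  obtain ⟨e, he, he', hen⟩ := S.exists_out ![a, b, c, d] ![a, b, c, d] (by omega) (by omega)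
  obtain ⟨e₂, he₂, he₂', he₂n⟩ :=
    S.exists_out ![a, b, c, d, e] ![a, b, c, d, e] (by omega) (by omega)
  have ea : pB S.q₀ e a = 0 := he' 0
  have eb : pB S.q₀ e b = 0 := he' 1
  have ec : pB S.q₀ e c = 0 := he' 2
  have ed : pB S.q₀ e d = 0 := he' 3
  have e₂a : pB S.q₀ e₂ a = 0 := he₂' 0
  have e₂c : pB S.q₀ e₂ c = 0 := he₂' 2
  have e₂e : pB S.q₀ e₂ e = 0 := he₂' 4
  have ha0 : a ≠ 0 := hli.ne_zero 1
  have hc0 : c ≠ 0 := hlcd.ne_zero 1
  have mem : ∀ i, ![a, b, c, d] i ∈ Submodule.span F₀ (Set.range ![a, b, c, d]) := fun i =>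
    Submodule.subset_span ⟨i, rfl⟩
  have mem₂ : ∀ i, ![a, b, c, d, e] i ∈ Submodule.span F₀ (Set.range ![a, b, c, d, e]) := fun i =>
    Submodule.subset_span ⟨i, rfl⟩
  have le_span : ∀ {j : ℕ} (w : Fin j → ι → F₀) {M : Submodule F₀ (ι → F₀)},
      (∀ i, w i ∈ M) → Submodule.span F₀ (Set.range w) ≤ M := fun w M h =>
    Submodule.span_le.2 (Set.range_subset_iff.2 h)
  have he0 : e ≠ 0 := fun h => hen (h ▸ Submodule.zero_mem _)
  have hli1 : ∀ {v : ι → F₀}, v ≠ 0 → LinearIndependent F₀ ![v] := fun h => by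
    simp [linearIndependent_unique_iff, h]
  -- `(a, b)` to `(a, e)` to `(e, a)` to `(e, e₂)` to `(e, c)` to `(c, e)` to `(c, d)`
  have h1 := S.short_move hrat hab (linearIndependent_finCons.2 ⟨hli, fun h => hen
    (le_span _ (fun i => by fin_cases i <;> [exact mem 1; exact mem 0]) h)⟩) he
    (by rw [S.pB₀_comm, ea]) (by rw [S.pB₀_comm, eb]) hx
  have hae : S.OPair a e := ⟨hab.1, he, by rw [S.pB₀_comm, ea]⟩
  have h2 := S.short_swap hae h1
  have hlea : LinearIndependent F₀ ![e, a] := linearIndependent_finCons.2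
    ⟨hli1 ha0, fun h => hen (le_span _ (fun i => by fin_cases i; exact mem 0) h)⟩
  have hlae : LinearIndependent F₀ ![a, e] := LinearIndependent.pair_symm_iff.1 hlea
  have h3 := S.short_move hrat hae.symm (linearIndependent_finCons.2 ⟨hlae, fun h => he₂n
    (le_span _ (fun i => by fin_cases i <;> [exact mem₂ 0; exact mem₂ 4]) h)⟩) he₂
    (by rw [S.pB₀_comm, e₂e]) (by rw [S.pB₀_comm, e₂a]) h2
  have hlee₂ : LinearIndependent F₀ ![e₂, e] := linearIndependent_finCons.2
    ⟨hli1 he0, fun h => he₂n (le_span _ (fun i => by fin_cases i; exact mem₂ 4) h)⟩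
  have hlce : LinearIndependent F₀ ![c, e] := LinearIndependent.pair_symm_iff.1
    (linearIndependent_finCons.2 ⟨hli1 hc0,
      fun h => hen (le_span _ (fun i => by fin_cases i; exact mem 2) h)⟩)
  have hcne : c ∉ Submodule.span F₀ (Set.range ![e₂, e]) := fun h => by
    obtain ⟨u, v, huv⟩ := Submodule.mem_span_pair.1 (show c ∈ Submodule.span F₀ {e₂, e} by
      rwa [show ({e₂, e} : Set (ι → F₀)) = Set.range ![e₂, e] by
        simp [Set.range_comp, Set.pair_comm]])
    rcases eq_or_ne u 0 with rfl | hu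
    · rw [zero_smul, zero_add] at huv
      have := LinearIndependent.pair_iff.1 hlce (1 : F₀) (-v)
        (by rw [← huv]; module)
      exact one_ne_zero this.1
    · refine he₂n ?_
      rw [show e₂ = u⁻¹ • (c - v • e) by rw [← huv, add_sub_cancel_right, inv_smul_smul₀ hu]]
      exact Submodule.smul_mem _ _ (Submodule.sub_mem _ (mem₂ 2) (Submodule.smul_mem _ _ (mem₂ 4)))
  have h4 := S.short_move hrat ⟨he, he₂, by rw [S.pB₀_comm, e₂e]⟩
    (linearIndependent_finCons.2 ⟨hlee₂, hcne⟩) hcd.1 ec e₂c h3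
  have h5 := S.short_swap ⟨he, hcd.1, ec⟩ h4
  have hlec : LinearIndependent F₀ ![e, c] := LinearIndependent.pair_symm_iff.1 hlce
  have hdn : d ∉ Submodule.span F₀ (Set.range ![e, c]) := fun h => by
    obtain ⟨u, v, huv⟩ := Submodule.mem_span_pair.1 (show d ∈ Submodule.span F₀ {e, c} by
      rwa [show ({e, c} : Set (ι → F₀)) = Set.range ![e, c] by
        simp [Set.range_comp, Set.pair_comm]])
    rcases eq_or_ne u 0 with rfl | hu
    · rw [zero_smul, zero_add] at huv
      exact (linearIndependent_finCons.1 hlcd).2 (by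
        rw [← huv]; exact Submodule.smul_mem _ _ (Submodule.subset_span ⟨0, rfl⟩))
    · refine hen ?_
      rw [show e = u⁻¹ • (d - v • c) by rw [← huv, add_sub_cancel_right, inv_smul_smul₀ hu]]
      exact Submodule.smul_mem _ _ (Submodule.sub_mem _ (mem 3) (Submodule.smul_mem _ _ (mem 2)))
  have h6 := S.short_move hrat ⟨hcd.1, he, by rw [S.pB₀_comm, ec]⟩
    (linearIndependent_finCons.2 ⟨hlec, hdn⟩) hcd.2.1 hcd.2.2 ed h5
  simpa using h6

/-- A root element with an irrational coefficient. -/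
theorem exists_short_irrational (hrat : S.RatIn K) (hI : S.IrrCentre K) :
    ∃ (s : F) (a f : ι → F₀), s ∉ F₀ ∧ S.OPair a f ∧ LinearIndependent F₀ ![f, a] ∧
      S.Short K s a f := by
  obtain ⟨a, z, ha, hza, ha0, hzK, hirr⟩ := hI
  have hqa : S.q₀ a = 0 := Subtype.ext (by rw [← S.coe_q₀, ha]; rfl)
  obtain ⟨c, hc, hca, hs⟩ : ∃ c, S.q₀ c = 0 ∧ pB S.q₀ c a = 0 ∧
      pB Q z (ratEmb F₀ P c) ∉ F₀ := by
    by_contra hcon
    push Not at hcon
    obtain ⟨y, ξ, hy⟩ := S.rep_of_values hqa ha0 hza hcon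
    exact hirr y ξ hy
  have hlca : LinearIndependent F₀ ![c, a] := S.set₀.sing_indep_pair ha0 fun h => hs (by
    obtain ⟨t, rfl⟩ := Submodule.mem_span_singleton.1 h
    rw [ratEmb_smul, map_smul, hza, smul_zero]
    exact F₀.zero_mem)
  obtain ⟨d, hd, hda, hdc, hlid⟩ := S.exists_third hlca
  obtain ⟨e, he, he'⟩ := S.exists_sing hlid (by omega) ![1, 0, 0]
  have hde : pB S.q₀ d e = 1 := by rw [S.pB₀_comm]; exact he' 0
  have hce : pB S.q₀ c e = 0 := by rw [S.pB₀_comm]; exact he' 1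
  have hae : pB S.q₀ a e = 0 := by rw [S.pB₀_comm]; exact he' 2
  obtain ⟨f, hf, hf', hfn⟩ := S.exists_out ![a, c, d, e] ![a, c, d, e] (by omega) (by omega)
  refine ⟨_, a, f, hs, ⟨hqa, hf, by rw [S.pB₀_comm]; exact hf' 0⟩,
    S.set₀.sing_indep_pair ha0 fun h => hfn (Submodule.span_mono (by
      rintro _ rfl; exact ⟨0, rfl⟩) h), fun h1 h2 => ?_⟩
  set R := ratEmb F₀ P with hR
  have step : ∀ (u w : ι → F₀) (hu : S.q₀ u = 0) (hw : pB S.q₀ w u = 0), pB S.q₀ a u = 0 →
      pB S.q₀ a w = 0 → ∀ (x : ι → F) (hx : pB Q x (R a) = 0),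
      S.set.siegel (R a) x ha hx ∈ K →
      ∀ x' : ι → F, x' = S.set.siegel (R u) (R w) (S.sing hu) (S.perp hw) x - x →
      ∃ hx' : pB Q x' (R a) = 0, S.set.siegel (R a) x' ha hx' ∈ K := by
    intro u w hu hw hau haw x hx hxK x' hx'
    set H := S.set.siegel (R u) (R w) (S.sing hu) (S.perp hw)
    have hH : H ∈ K := hrat _ _ _ _
    have eA : H (R a) = R a := by
      rw [S.set.siegel_apply, siegelHom_apply, S.perp hau, S.perp haw]
      simp
    have h0 : pB Q x' (R a) = 0 := by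
      rw [hx', map_sub, LinearMap.sub_apply, hx, sub_zero, ← eA,
        S.set.pB_of_mem (S.set.siegel_mem_oGroup _ _), hx]
    have h3 := K.mul_mem (K.mul_mem (K.mul_mem hH hxK) (K.inv_mem hH)) (K.inv_mem hxK)
    rw [S.set.siegel_conj (S.set.siegel_mem_oGroup _ _)] at h3
    refine ⟨h0, ?_⟩
    have hw' : pB Q (x' + x) (R a) = 0 := by rw [map_add, LinearMap.add_apply, h0, hx, add_zero]
    rw [S.set.siegel_congr eA (show H x = x' + x by rw [hx', sub_add_cancel]) (hu' := ha) (hw' := hw'),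
      ← S.set.siegel_mul ha h0 hx, mul_inv_cancel_right] at h3
    exact h3
  have ad : pB S.q₀ a d = 0 := by rw [S.pB₀_comm]; exact hda
  have ac : pB S.q₀ a c = 0 := by rw [S.pB₀_comm]; exact hca
  obtain ⟨hδ, hδK⟩ := step c d hc (by rw [hdc]) ac ad z hza hzK
    (pB Q z (R c) • R d - pB Q z (R d) • R c) (by
      rw [S.set.siegel_apply, siegelHom_apply, S.sing hd]; module)
  obtain ⟨hfin, hfK⟩ := step e f he (hf' 3) hae (by rw [S.pB₀_comm]; exact hf' 0) _ hδ hδK
    (pB Q z (R c) • R f) (by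
      rw [S.set.siegel_apply, siegelHom_apply, S.sing hf]
      simp only [map_sub, map_smul, LinearMap.sub_apply, LinearMap.smul_apply, hR, S.val_one hde,
        S.perp hce, S.perp (show pB S.q₀ d f = 0 by rw [S.pB₀_comm]; exact hf' 2),
        S.perp (show pB S.q₀ c f = 0 by rw [S.pB₀_comm]; exact hf' 1), smul_eq_mul, mul_zero, sub_zero,
        mul_one]
      module)
  exact hfK

/-- A group containing the rational Siegel transformations and an irrational one at a rational centre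
contains all of them. -/
theorem all_siegel [Fintype F] {r : ℕ} (hr : r.Prime) (hcard : Fintype.card F = Nat.card F₀ ^ r)
    (hrat : S.RatIn K) (hI : S.IrrCentre K) (u w : ι → F) (hu : Q u = 0) (hw : pB Q w u = 0) :
    S.set.siegel u w hu hw ∈ K := by
  obtain ⟨s, a, f, hs, haf, hli, hsK⟩ := S.exists_short_irrational hrat hI
  set R := ratEmb F₀ P with hR
  let T : Set F := {x | ∀ a b, S.OPair a b → LinearIndependent F₀ ![b, a] → S.Short K x a b}
  have hTs : s ∈ T := fun c d hcd hl => S.short_all hrat haf hli hcd hl hsK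
  have hT0 : ∀ x ∈ F₀, x ∈ T := fun x hx a b _ _ => S.short_rat hrat hx
  have hTadd : ∀ x ∈ T, ∀ y ∈ T, x + y ∈ T := by
    intro x hx y hy a b hab hl ha' hz
    have o : ∀ t : F, pB Q (t • R b) (R a) = 0 := fun t => by
      rw [map_smul, LinearMap.smul_apply, S.perp hab.symm.2.2, smul_zero]
    have h := K.mul_mem (hx a b hab hl ha' (o x)) (hy a b hab hl ha' (o y))
    rw [S.set.siegel_mul] at h
    convert h using 2
    rw [add_smul]
  have hTmul : ∀ x ∈ T, ∀ y ∈ T, x * y ∈ T := by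
    intro x hx y hy a b hab hl
    obtain ⟨e, he, hea, heb, hl3⟩ := S.exists_third hl
    have hle : LinearIndependent F₀ ![e, a] := S.set₀.sing_indep_pair (hl.ne_zero 1) fun h =>
      (linearIndependent_finCons.1 hl3).2 (Submodule.span_mono (by rintro _ rfl; exact ⟨1, rfl⟩) h)
    obtain ⟨q, hq, hq'⟩ := S.exists_sing hl3 (by omega) ![1, 0, 0]
    have hqe : pB S.q₀ q e = 1 := hq' 0
    have hqb : pB S.q₀ q b = 0 := hq' 1
    have hq0 : q ≠ 0 := fun e0 => by
      rw [e0, map_zero, LinearMap.zero_apply] at hqe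
      exact zero_ne_one hqe
    have hlq : LinearIndependent F₀ ![b, q] := S.set₀.sing_indep_pair hq0 fun h => by
      obtain ⟨t, ht⟩ := Submodule.mem_span_singleton.1 h
      have h1 := congrArg (fun v => pB S.q₀ v e) ht
      simp only [map_smul, LinearMap.smul_apply, hqe, S.pB₀_comm b e, heb, smul_eq_mul, mul_one] at h1
      rw [h1, zero_smul] at ht
      exact hl.ne_zero 0 ht.symm
    exact S.short_comm ⟨hab.1, he, by rw [S.pB₀_comm, hea]⟩ ⟨hq, hab.2.1, hqb⟩
      (by rw [S.pB₀_comm]; exact hq' 2) hab.2.2 heb (by rw [S.pB₀_comm, hqe])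
      (hx a e ⟨hab.1, he, by rw [S.pB₀_comm, hea]⟩ hle) (hy q b ⟨hq, hab.2.1, hqb⟩ hlq)
  have hT : ∀ x, x ∈ T := eq_univ_of_prime_degree F₀ hr hcard hT0 hTadd hTmul hTs hs
  -- every transformation at a rational centre
  have hcentre : ∀ a : ι → F₀, S.q₀ a = 0 → a ≠ 0 → ∀ (z : ι → F) (h1 : Q (R a) = 0)
      (h2 : pB Q z (R a) = 0), S.set.siegel (R a) z h1 h2 ∈ K := by
    intro a ha ha0 z h1 h2
    let Z : Set (ι → F) := {z | ∃ h : pB Q z (R a) = 0, S.set.siegel (R a) z h1 h ∈ K}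
    have hZadd : ∀ x ∈ Z, ∀ y ∈ Z, x + y ∈ Z := by
      rintro x ⟨hx, mx⟩ y ⟨hy, my⟩
      refine ⟨by rw [map_add, LinearMap.add_apply, hx, hy, add_zero], ?_⟩
      have := K.mul_mem mx my
      rwa [S.set.siegel_mul] at this
    have hZline : ∀ t : F, t • R a ∈ Z := by
      intro t
      have h0 : pB Q (t • R a) (R a) = 0 := by
        rw [map_smul, LinearMap.smul_apply, S.set.pB_self, h1, mul_zero, smul_zero]
      refine ⟨h0, ?_⟩
      convert K.one_mem
      refine LinearEquiv.ext fun x => ?_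
      rw [S.set.siegel_apply, siegelHom_apply, map_smul, S.set.quad_smul, h1, smul_eq_mul,
        LinearEquiv.coe_one, id_eq]
      module
    have hZrat : ∀ y, pB S.q₀ y a = 0 → ∀ t : F, t • R y ∈ Z := by
      refine fun y hy => S.perp_induction (motive := fun y => ∀ t : F, t • R y ∈ Z) ha
        (fun c hc hca t => ?_) (fun b c hb hc t => ?_) y hy
      · by_cases hs : c ∈ Submodule.span F₀ {a}
        · obtain ⟨k, rfl⟩ := Submodule.mem_span_singleton.1 hs
          rw [hR, ratEmb_smul, smul_smul]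
          exact hZline _
        have hzc : pB Q (t • R c) (R a) = 0 := by
          rw [map_smul, LinearMap.smul_apply, S.perp hca, smul_zero]
        exact ⟨hzc, hT t a c ⟨ha, hc, by rw [S.pB₀_comm, hca]⟩ (S.set₀.sing_indep_pair ha0 hs) h1 hzc⟩
      · rw [hR, ratEmb_add, smul_add]
        exact hZadd _ (hb t) _ (hc t)
    obtain ⟨p, hp, hp'⟩ := S.exists_sing (v := ![a]) (by simp [linearIndependent_unique_iff, ha0])
      (by omega) ![1]
    have hpa : pB S.q₀ p a = 1 := hp' 0
    set lam := ((P⁻¹ : GL ι F) : Matrix ι ι F) *ᵥ z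
    let e : ι → ι → F₀ := fun j => Pi.single j 1
    have hze : z = ∑ j, lam j • R (e j) := by
      conv_lhs => rw [← mulVec_inv_mulVec P z, pi_eq_sum_univ' (((P⁻¹ : GL ι F) : Matrix ι ι F) *ᵥ z),
        Matrix.mulVec_sum]
      refine Finset.sum_congr rfl fun j _ => ?_
      rw [Matrix.mulVec_smul, hR, ratEmb_single]
    have hzsum : z = ∑ j, lam j • R (e j + (-pB S.q₀ (e j) a) • p) := by
      have h0 : ∑ j, lam j * pB Q (R (e j)) (R a) = 0 := by
        rw [← h2, hze, map_sum, LinearMap.sum_apply]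
        exact Finset.sum_congr rfl fun j _ => by rw [map_smul, LinearMap.smul_apply, smul_eq_mul]
      have h3 : ∀ j, lam j • R (e j + (-pB S.q₀ (e j) a) • p) =
          lam j • R (e j) - (lam j * pB Q (R (e j)) (R a)) • R p := fun j => by
        rw [hR, ratEmb_add, ratEmb_smul, S.coe_pB]
        push_cast
        module
      simp only [h3, Finset.sum_sub_distrib, ← Finset.sum_smul, h0, zero_smul, sub_zero]
      exact hze
    have hmem : z ∈ Z := by
      rw [hzsum]
      refine Finset.sum_induction _ (· ∈ Z) (fun x y hx hy => hZadd x hx y hy) ?_ fun j _ => hZrat _ ?_ _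
      · simpa using hZline 0
      · rw [map_add, LinearMap.add_apply, map_smul, LinearMap.smul_apply, hpa, smul_eq_mul, mul_one,
          add_neg_cancel]
    exact hmem.2
  obtain ⟨b, hb, hb'⟩ := S.exists_sing (v := ![a])
    (by simpa [linearIndependent_unique_iff] using hli.ne_zero 1) (by omega) ![1]
  have hba : pB S.q₀ b a = 1 := hb' 0
  have hab1 : pB Q (R a) (R b) ≠ 0 := by
    rw [hR, S.set.pB_comm, S.val_one hba]
    exact one_ne_zero
  have hb0 : b ≠ 0 := fun e => by
    rw [e, map_zero, LinearMap.zero_apply] at hba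
    exact zero_ne_one hba
  have h := siegel_mem_of_pair S.set (K := K.map glOf) (S.sing haf.1) (S.sing hb) hab1
    (fun w hw => ⟨_, hcentre a haf.1 (hli.ne_zero 1) w _ hw, rfl⟩)
    (fun w hw => ⟨_, hcentre b hb hb0 w _ hw, rfl⟩) u w hu hw
  obtain ⟨x, hx, hxe⟩ := h
  rwa [show x = S.set.siegel u w hu hw from LinearEquiv.ext fun v => by
    rw [← glOf_mulVec x v, hxe, glOf_mulVec]] at hx

end ORat

end Cfsg.Agent.QMax
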