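import Cfsg.Agent.Lib.TransvMax.OrthRatRoot

/-!
The subfield subgroup of the derived orthogonal group is maximal.
-/

set_option autoImplicit false

namespace Cfsg.Agent.QMax

open scoped Matrix MatrixGroups
open Cfsg.Agent Cfsg.Agent.TransvMax

variable {ι : Type} [Fintype ι] [DecidableEq ι] {F : Type*} [Field F]
  {Q : QuadraticForm F (ι → F)} {F₀ : Subfield F} {P : GL ι F}

namespace ORat

variable (S : ORat Q F₀ P)

include S

variable [Finite F]

/-- The image plane of a rational root element has two independent rational vectors. -/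
theorem exists_rational_pair {u v : ι → F} (hv : Q v = 0) (hu : Q u = 0)
    (hz : pB Q v u = 0) (hli : LinearIndependent F ![u, v])
    (h : ∀ y, ∃ y', S.set.siegel u v hu hz (ratEmb F₀ P y) = ratEmb F₀ P y') :
    ∃ y₁ y₂ : ι → F₀, LinearIndependent F ![ratEmb F₀ P y₁, ratEmb F₀ P y₂] ∧
      ratEmb F₀ P y₁ ∈ Submodule.span F {u, v} ∧ ratEmb F₀ P y₂ ∈ Submodule.span F {u, v} := by
  set R := ratEmb F₀ P with hR
  obtain ⟨x₁, x₂, hd⟩ : ∃ x₁ x₂ : ι → F₀,
      pB Q (R x₁) u * pB Q (R x₂) v - pB Q (R x₁) v * pB Q (R x₂) u ≠ 0 := by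
    by_contra hc
    push Not at hc
    obtain ⟨x₁, hx₁⟩ : ∃ x₁, pB Q (R x₁) u ≠ 0 := by
      by_contra hc'
      push Not at hc'
      exact (hli.ne_zero 0 : u ≠ 0) (S.eq_of_forall_rat fun x => by rw [map_zero]; exact hc' x)
    have he : pB Q (R x₁) u • v - pB Q (R x₁) v • u = 0 := S.eq_of_forall_rat fun x => by
      rw [map_sub, map_smul, map_smul, map_zero, smul_eq_mul, smul_eq_mul]
      exact hc x₁ x
    exact hx₁ (LinearIndependent.pair_iff.1 hli (-pB Q (R x₁) v) (pB Q (R x₁) u)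
      (by linear_combination (norm := module) he)).2
  have hD : ∀ x, ∃ y, R y = pB Q (R x) u • v - pB Q (R x) v • u := by
    intro x
    obtain ⟨x', hx'⟩ := h x
    refine ⟨x' + (-1 : F₀) • x, ?_⟩
    rw [S.set.siegel_apply, siegelHom_apply, hv] at hx'
    rw [hR, ratEmb_add, ratEmb_smul, ← hR, ← hx']
    push_cast
    module
  obtain ⟨y₁, hy₁⟩ := hD x₁
  obtain ⟨y₂, hy₂⟩ := hD x₂
  refine ⟨y₁, y₂, LinearIndependent.pair_iff.2 fun s t hst => ?_, ?_, ?_⟩
  · rw [hy₁, hy₂] at hst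
    obtain ⟨h1, h2⟩ := LinearIndependent.pair_iff.1 hli
      (-(s * pB Q (R x₁) v + t * pB Q (R x₂) v)) (s * pB Q (R x₁) u + t * pB Q (R x₂) u)
      (by linear_combination (norm := module) hst)
    constructor
    · exact (mul_eq_zero.1 (show s * (pB Q (R x₁) u * pB Q (R x₂) v - pB Q (R x₁) v * pB Q (R x₂) u) = 0
        by linear_combination pB Q (R x₂) v * h2 + pB Q (R x₂) u * h1)).resolve_right hd
    · exact (mul_eq_zero.1 (show t * (pB Q (R x₁) u * pB Q (R x₂) v - pB Q (R x₁) v * pB Q (R x₂) u) = 0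
        by linear_combination -pB Q (R x₁) v * h2 - pB Q (R x₁) u * h1)).resolve_right hd
  · rw [hy₁]
    exact Submodule.sub_mem _ (Submodule.smul_mem _ _ (Submodule.subset_span (by simp)))
      (Submodule.smul_mem _ _ (Submodule.subset_span (by simp)))
  · rw [hy₂]
    exact Submodule.sub_mem _ (Submodule.smul_mem _ _ (Submodule.subset_span (by simp)))
      (Submodule.smul_mem _ _ (Submodule.subset_span (by simp)))

/-- If all images of rational root elements are rational, the map is rational up to a scalar. -/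
theorem rational_of_roots {g : (ι → F) ≃ₗ[F] (ι → F)} (hg : g ∈ FormsLib.oGroup Q)
    (hroot : ∀ a c : ι → F₀, S.OPair a c → LinearIndependent F₀ ![c, a] →
      ∀ (h1 : Q (g (ratEmb F₀ P a)) = 0) (h2 : pB Q (g (ratEmb F₀ P c)) (g (ratEmb F₀ P a)) = 0),
        ∀ y, ∃ y', S.set.siegel _ _ h1 h2 (ratEmb F₀ P y) = ratEmb F₀ P y') :
    ∃ κ : F, κ ≠ 0 ∧ ∀ y, ∃ y', κ • g (ratEmb F₀ P y) = ratEmb F₀ P y' := by
  set R := ratEmb F₀ P with hR
  have hRli : ∀ {k : ℕ} {v : Fin k → ι → F₀}, LinearIndependent F₀ v →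
      LinearIndependent F fun i => g (R (v i)) := fun hv =>
    (S.indep_pairing hv).map' (g : (ι → F) →ₗ[F] (ι → F)) g.ker
  have hpair : ∀ a c : ι → F₀, S.OPair a c → LinearIndependent F₀ ![c, a] →
      ∃ y₁ y₂ : ι → F₀, LinearIndependent F ![R y₁, R y₂] ∧
        R y₁ ∈ Submodule.span F {g (R a), g (R c)} ∧ R y₂ ∈ Submodule.span F {g (R a), g (R c)} := by
    intro a c hac hli
    have h1 : Q (g (R a)) = 0 := by rw [hg, hR, S.sing hac.1]
    have h2 : pB Q (g (R c)) (g (R a)) = 0 := by rw [S.set.pB_of_mem hg, hR, S.perp hac.symm.2.2]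
    have hli' : LinearIndependent F ![g (R a), g (R c)] := by
      convert hRli (LinearIndependent.pair_symm_iff.1 hli) using 1
      funext i; fin_cases i <;> rfl
    exact S.exists_rational_pair (by rw [hg, hR, S.sing hac.2.1]) h1 h2 hli' (hroot a c hac hli h1 h2)
  -- singular rational points go to rational points
  have hpt : ∀ a, S.q₀ a = 0 → a ≠ 0 → ∃ κ : F, κ ≠ 0 ∧ ∃ y', κ • g (R a) = R y' := by
    intro a ha ha0
    obtain ⟨c, hc, hc', hcn⟩ := S.exists_out ![a] ![a] (by omega) (by omega)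
    have hca : pB S.q₀ c a = 0 := hc' 0
    have hli : LinearIndependent F₀ ![c, a] := S.set₀.sing_indep_pair ha0 (by simpa using hcn)
    obtain ⟨d, hd, hda, hdc, hli3⟩ := S.exists_third hli
    have hlda : LinearIndependent F₀ ![d, a] := S.set₀.sing_indep_pair ha0 fun h =>
      (linearIndependent_finCons.1 hli3).2 (Submodule.span_mono (by rintro _ rfl; exact ⟨1, rfl⟩) h)
    obtain ⟨y₁, y₂, hy, h₁, h₂⟩ := hpair a c ⟨ha, hc, by rw [S.pB₀_comm]; exact hca⟩ hli
    obtain ⟨y₃, y₄, hy', h₃, h₄⟩ := hpair a d ⟨ha, hd, by rw [S.pB₀_comm]; exact hda⟩ hlda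
    set A := g (R a)
    set C := g (R c)
    set D := g (R d)
    have hli' : LinearIndependent F ![D, C, A] := by
      convert hRli hli3 using 1
      funext i; fin_cases i <;> rfl
    obtain ⟨p₁, q₁, e₁⟩ := Submodule.mem_span_pair.1 h₁
    obtain ⟨p₂, q₂, e₂⟩ := Submodule.mem_span_pair.1 h₂
    obtain ⟨p₃, q₃, e₃⟩ := Submodule.mem_span_pair.1 h₃
    obtain ⟨p₄, q₄, e₄⟩ := Submodule.mem_span_pair.1 h₄
    have hdep : ¬ LinearIndependent F₀ ![y₁, y₂, y₃, y₄] := by
      intro hl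
      have h4 : LinearIndependent F fun i => R (![y₁, y₂, y₃, y₄] i) := S.indep_pairing hl
      have hle : Submodule.span F (Set.range fun i => R (![y₁, y₂, y₃, y₄] i)) ≤
          Submodule.span F (Set.range ![D, C, A]) := by
        rw [Submodule.span_le]
        rintro _ ⟨i, rfl⟩
        fin_cases i
        · refine Submodule.span_mono ?_ h₁
          rintro _ (rfl | rfl)
          · exact ⟨2, rfl⟩
          · exact ⟨1, rfl⟩
        · refine Submodule.span_mono ?_ h₂
          rintro _ (rfl | rfl)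
          · exact ⟨2, rfl⟩
          · exact ⟨1, rfl⟩
        · refine Submodule.span_mono ?_ h₃
          rintro _ (rfl | rfl)
          · exact ⟨2, rfl⟩
          · exact ⟨0, rfl⟩
        · refine Submodule.span_mono ?_ h₄
          rintro _ (rfl | rfl)
          · exact ⟨2, rfl⟩
          · exact ⟨0, rfl⟩
      have h5 := Submodule.finrank_mono hle
      rw [finrank_span_eq_card h4, finrank_span_eq_card hli', Fintype.card_fin, Fintype.card_fin] at h5
      omega
    obtain ⟨k, hk, i₀, hi₀⟩ := Fintype.not_linearIndependent_iff.1 hdep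
    rw [Fin.sum_univ_four] at hk
    simp only [Matrix.cons_val_zero, Matrix.cons_val_one, Matrix.cons_val] at hk
    have hk' : (k 0 : F) • R y₁ + (k 1 : F) • R y₂ + (k 2 : F) • R y₃ + (k 3 : F) • R y₄ = 0 := by
      have := congrArg R hk
      simpa only [hR, ratEmb_add, ratEmb_smul, ratEmb_zero] using this
    -- the common vector
    have hz : (k 0 : F) • R y₁ + (k 1 : F) • R y₂ = ((k 0 : F) * p₁ + (k 1 : F) * p₂) • A := by
      have e : (((k 0 : F) * p₁ + k 1 * p₂ + k 2 * p₃ + k 3 * p₄)) • A + ((k 0 : F) * q₁ + k 1 * q₂) • C +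
          ((k 2 : F) * q₃ + k 3 * q₄) • D = 0 := by
        rw [← hk', ← e₁, ← e₂, ← e₃, ← e₄]; module
      have h0 := Fintype.linearIndependent_iff.1 hli'
        ![(k 2 : F) * q₃ + k 3 * q₄, (k 0 : F) * q₁ + k 1 * q₂,
          (k 0 : F) * p₁ + k 1 * p₂ + k 2 * p₃ + k 3 * p₄] (by
          simp only [Fin.sum_univ_three, Matrix.cons_val_zero, Matrix.cons_val_one, Matrix.cons_val]
          linear_combination (norm := module) e) 1
      simp only [Matrix.cons_val_one, Matrix.cons_val_zero] at h0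
      rw [← e₁, ← e₂]
      linear_combination (norm := module) (congrArg (fun t : F => t • C) h0)
    refine ⟨(k 0 : F) * p₁ + (k 1 : F) * p₂, fun h0 => ?_, k 0 • y₁ + k 1 • y₂, ?_⟩
    · rw [h0, zero_smul] at hz
      obtain ⟨h01, h02⟩ := LinearIndependent.pair_iff.1 hy _ _ hz
      rw [h01, h02, zero_smul, zero_smul, zero_add, zero_add] at hk'
      obtain ⟨h03, h04⟩ := LinearIndependent.pair_iff.1 hy' _ _ hk'
      fin_cases i₀
      · exact hi₀ (Subtype.ext h01)
      · exact hi₀ (Subtype.ext h02)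
      · exact hi₀ (Subtype.ext h03)
      · exact hi₀ (Subtype.ext h04)
    · rw [hR, ratEmb_add, ratEmb_smul, ratEmb_smul, ← hR, hz]
  -- the scalars agree
  have key : ∀ a c, S.OPair a c → LinearIndependent F₀ ![c, a] → ∀ κ : F, κ ≠ 0 →
      (∃ y', κ • g (R a) = R y') → ∃ y', κ • g (R c) = R y' := by
    intro a c hac hli κ hκ ⟨ya, hya⟩
    obtain ⟨l, hl, yc, hyc⟩ := hpt c hac.2.1 (hli.ne_zero 0)
    have hsum : a + c ≠ 0 := fun e => one_ne_zero
      (LinearIndependent.pair_iff.1 hli 1 1 (by rw [one_smul, one_smul, add_comm]; exact e)).1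
    obtain ⟨m, hm, ys, hys⟩ := hpt (a + c)
      (by rw [S.set₀.quad_add, hac.1, hac.2.1, hac.2.2, add_zero, add_zero]) hsum
    have hlg : LinearIndependent F ![g (R c), g (R a)] := by
      convert hRli hli using 1
      funext i; fin_cases i <;> rfl
    have hyli : LinearIndependent F₀ ![yc, ya] := by
      refine LinearIndependent.pair_iff.2 fun s t hst => ?_
      have h1 := congrArg R hst
      simp only [hR, ratEmb_add, ratEmb_smul, ratEmb_zero] at h1
      rw [← hR, ← hyc, ← hya, smul_smul, smul_smul] at h1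
      obtain ⟨h2, h3⟩ := LinearIndependent.pair_iff.1 hlg _ _ h1
      exact ⟨Subtype.ext ((mul_eq_zero.1 h2).resolve_right hl),
        Subtype.ext ((mul_eq_zero.1 h3).resolve_right hκ)⟩
    obtain ⟨p₁, hp₁⟩ := S.set₀.exists_values hyli ![1, 0]
    obtain ⟨p₂, hp₂⟩ := S.set₀.exists_values hyli ![0, 1]
    have hs : (m / l) • R yc + (m / κ) • R ya = R ys := by
      rw [← hys, ← hyc, ← hya, hR, ratEmb_add, ← hR, map_add, smul_smul, smul_smul,
        div_mul_cancel₀ _ hl, div_mul_cancel₀ _ hκ, smul_add, add_comm]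
    have e1 := congrArg (pB Q (R p₁)) hs
    have e2 := congrArg (pB Q (R p₂)) hs
    simp only [map_add, map_smul, hR, S.val_one (show pB S.q₀ p₁ yc = 1 from hp₁ 0),
      S.perp (show pB S.q₀ p₁ ya = 0 from hp₁ 1), S.perp (show pB S.q₀ p₂ yc = 0 from hp₂ 0),
      S.val_one (show pB S.q₀ p₂ ya = 1 from hp₂ 1), smul_eq_mul, mul_one, mul_zero, add_zero,
      zero_add] at e1 e2
    have hq : κ / l ∈ F₀ := by
      rw [show κ / l = (m / l) / (m / κ) by field_simp]
      rw [e1, e2]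
      exact F₀.div_mem (S.pB_rat _ _) (S.pB_rat _ _)
    refine ⟨(⟨_, hq⟩ : F₀) • yc, ?_⟩
    rw [hR, ratEmb_smul, ← hR, ← hyc, smul_smul]
    congr 1
    exact (div_mul_cancel₀ _ hl).symm
  obtain ⟨a₀, ha₀, -, ha₀n⟩ := S.exists_out (k := 0) (j := 0) ![] ![] (by omega) (by omega)
  have ha₀0 : a₀ ≠ 0 := fun e => ha₀n (e ▸ Submodule.zero_mem _)
  obtain ⟨κ, hκ, hκa⟩ := hpt a₀ ha₀ ha₀0
  refine ⟨κ, hκ, S.sing_induction (fun a ha => ?_) fun u v ⟨u', hu⟩ ⟨v', hv⟩ => ⟨u' + v', by
    rw [hR, ratEmb_add, ratEmb_add, map_add, smul_add, ← hR, hu, hv]⟩⟩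
  rcases eq_or_ne a 0 with rfl | ha0
  · exact ⟨0, by rw [hR, ratEmb_zero, map_zero, smul_zero]⟩
  obtain ⟨d, hd, hd', hdn⟩ := S.exists_out ![a₀, a] ![a₀, a] (by omega) (by omega)
  have li1 : LinearIndependent F₀ ![d, a₀] := S.set₀.sing_indep_pair ha₀0 fun h =>
    hdn (Submodule.span_mono (by rintro _ rfl; exact ⟨0, rfl⟩) h)
  have li2 : LinearIndependent F₀ ![d, a] := S.set₀.sing_indep_pair ha0 fun h =>
    hdn (Submodule.span_mono (by rintro _ rfl; exact ⟨1, rfl⟩) h)
  exact key d a ⟨hd, ha, hd' 1⟩ (LinearIndependent.pair_symm_iff.1 li2) κ hκ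
    (key a₀ d ⟨ha₀, hd, by rw [S.pB₀_comm]; exact hd' 0⟩ li1 κ hκ hκa)

/-- The subfield subgroup of the derived orthogonal group is maximal. -/
theorem subfield_maximal [Fintype F] {r : ℕ} (hr : r.Prime) (hcard : Fintype.card F = Nat.card F₀ ^ r) :
    Cfsg.Geo.IsMaximalIn (Cfsg.Geo.omegaGL ⇑Q)
      (Cfsg.Geo.subfieldSubgroup F₀ P ⊓ Cfsg.Geo.omegaGL ⇑Q) := by
  classical
  set R := ratEmb F₀ P with hR
  refine maximal_in_omegaGL S.set _ inf_le_right ?_ ?_
  · -- an irrational Siegel transformation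
    obtain ⟨lam, hlam⟩ : ∃ lam : F, lam ∉ F₀ := by
      by_contra hc
      push Not at hc
      have h1 : Nat.card F₀ = Fintype.card F := by
        rw [← Nat.card_eq_fintype_card (α := F)]
        exact Nat.card_congr (Equiv.subtypeUnivEquiv hc)
      have h2 : 1 < Fintype.card F := Fintype.one_lt_card
      rw [h1] at hcard
      nlinarith [Nat.pow_le_pow_right (Nat.one_le_of_lt h2) hr.two_le]
    obtain ⟨a, ha, -, han⟩ := S.exists_out (k := 0) (j := 0) ![] ![] (by omega) (by omega)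
    have ha0 : a ≠ 0 := fun e => han (e ▸ Submodule.zero_mem _)
    obtain ⟨c, hc, hc', hcn⟩ := S.exists_out ![a] ![a] (by omega) (by omega)
    have hca : pB S.q₀ c a = 0 := hc' 0
    have hli : LinearIndependent F₀ ![c, a] := S.set₀.sing_indep_pair ha0 (by simpa using hcn)
    obtain ⟨p, hp⟩ := S.set₀.exists_values hli ![0, 1]
    obtain ⟨p', hp'⟩ := S.set₀.exists_values hli ![1, 0]
    have hz : pB Q (lam • R c) (R a) = 0 := by
      rw [map_smul, LinearMap.smul_apply, hR, S.perp hca, smul_zero]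
    refine ⟨_, glOf_siegel_mem_omega S.set (S.sing ha) hz, fun hmem => ?_⟩
    obtain ⟨κ, hκne, hκ⟩ := (mem_subfieldSubgroup_iff F₀ P _).1 hmem.1
    obtain ⟨y₁, hy₁⟩ := hκ a
    obtain ⟨y₂, hy₂⟩ := hκ p
    rw [glOf_mulVec, S.set.siegel_apply, siegelHom_apply] at hy₁ hy₂
    simp only [← hR, map_smul, smul_eq_mul, S.set.quad_smul, show Q (R c) = 0 from S.sing hc,
      show pB Q (R a) (R c) = 0 from S.perp (by rw [S.pB₀_comm]; exact hca),
      show pB Q (R a) (R a) = 0 by rw [hR, S.set.pB_self, S.sing ha, mul_zero],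
      show pB Q (R p) (R a) = 1 from S.val_one (hp 1), show pB Q (R p) (R c) = 0 from S.perp (hp 0),
      mul_zero, zero_mul, smul_zero, zero_smul, add_zero, sub_zero, one_smul, mul_one] at hy₁ hy₂
    have hκF : κ ∈ F₀ := S.mem_of_smul ha0 hy₁
    refine hlam ?_
    have h3 := congrArg (pB Q (ratEmb F₀ P p')) hy₂
    simp only [hR, smul_add, map_add, map_smul, S.val_one (show pB S.q₀ p' c = 1 from hp' 0),
      smul_eq_mul, mul_one] at h3
    rw [show lam = (pB Q (ratEmb F₀ P p') (ratEmb F₀ P y₂) -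
      κ * pB Q (ratEmb F₀ P p') (ratEmb F₀ P p)) / κ by field_simp; linear_combination h3]
    exact F₀.div_mem (F₀.sub_mem (S.pB_rat _ _) (F₀.mul_mem hκF (S.pB_rat _ _))) hκF
  intro M hHM hM ⟨g, hgM, hg⟩ u w hu hw
  obtain ⟨K, hK⟩ : ∃ K, K = M.comap (glOf (ι := ι) (F := F)) := ⟨_, rfl⟩
  have hrat : S.RatIn K := by
    intro a z h1 h2
    rw [hK, Subgroup.mem_comap]
    refine hHM ⟨(mem_subfieldSubgroup_iff F₀ P _).2 ⟨1, one_ne_zero, fun y =>
      ⟨y + pB S.q₀ y a • z - pB S.q₀ y z • a - (S.q₀ z * pB S.q₀ y a) • a, ?_⟩⟩,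
      glOf_siegel_mem_omega S.set h1 h2⟩
    rw [one_smul, glOf_mulVec]
    exact S.siegel_rat h1 h2
  obtain ⟨l, rfl⟩ : ∃ l, glOf l = g := ⟨linOf g, glOf_linOf g⟩
  have hlK : l ∈ K := by rw [hK]; exact hgM
  have hlO : l ∈ FormsLib.oGroup Q := fun v => by
    have := omegaGL_iso S.set (hM hgM) v
    simpa [glToMat] using this
  suffices hI : S.IrrCentre K by
    have h := S.all_siegel hr hcard hrat hI u w hu hw
    rwa [hK] at h
  by_contra hI
  refine hg ⟨(mem_subfieldSubgroup_iff F₀ P _).2 ?_, hM hgM⟩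
  obtain ⟨κ, hκ, h⟩ := S.rational_of_roots hlO fun a c hac hli h1 h2 => by
    by_contra hirr
    refine hI (S.irrCentre_of_root hr hcard hrat h1 (by rw [hlO, S.sing hac.2.1]) h2 ?_ ?_ hirr)
    · refine LinearIndependent.pair_iff.2 fun s t hst => ?_
      rw [← map_smul, ← map_smul, ← map_add, LinearEquiv.map_eq_zero_iff] at hst
      have h4 := S.indep_pairing hli
      have h5 := Fintype.linearIndependent_iff.1 h4 ![t, s] (by
        simpa [Fin.sum_univ_two, add_comm] using hst)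
      exact ⟨h5 1, h5 0⟩
    · have hz : pB Q (ratEmb F₀ P c) (ratEmb F₀ P a) = 0 := S.perp hac.symm.2.2
      have := K.mul_mem (K.mul_mem hlK (hrat a c (S.sing hac.1) hz)) (K.inv_mem hlK)
      rwa [S.set.siegel_conj hlO] at this
  exact ⟨κ, hκ, fun y => by
    obtain ⟨y', hy'⟩ := h y
    exact ⟨y', by rw [glOf_mulVec]; exact hy'⟩⟩

end ORat

end Cfsg.Agent.QMax
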