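import Cfsg.Agent.Lib.TransvMax.OrthPerp

/-!
The stabiliser of a non-degenerate subspace is maximal in the derived orthogonal group.
-/

set_option autoImplicit false

namespace Cfsg.Agent.TransvMax

open scoped Matrix MatrixGroups commutatorElement
open Cfsg.Agent

variable {ι : Type} [Fintype ι] [DecidableEq ι] {F : Type*} [Field F]
  {Q : QuadraticForm F (ι → F)} {S : OSetting Q} {W U : Submodule F (ι → F)}

namespace ODec

variable (D : ODec S W U)

include D

theorem polar_add_left {a b z : ι → F} (ha : a ∈ W) (hz : z ∈ U) :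
    pB Q (a + b) z = pB Q b z := by
  rw [map_add, LinearMap.add_apply, D.orth a ha z hz, zero_add]

theorem exists_val {a b : ι → F} (ha : a ∈ U) (hb : b ∈ U) (ha0 : a ≠ 0)
    (hli : b ∉ Submodule.span F {a}) : ∃ z ∈ U, pB Q z a = 0 ∧ pB Q z b = 1 := by
  obtain ⟨x, hx⟩ := S.exists_values (v := ![b, a])
    (linearIndependent_finCons.2 ⟨by simp [linearIndependent_unique_iff, ha0], by simpa using hli⟩) ![1, 0]
  obtain ⟨w, hw, z, hz, rfl⟩ := D.decomp x
  exact ⟨z, hz, (D.polar_add_left hw ha).symm.trans (hx 1), (D.polar_add_left hw hb).symm.trans (hx 0)⟩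

theorem mem_stab_iff {g : (ι → F) ≃ₗ[F] (ι → F)} (hg : g ∈ FormsLib.oGroup Q) :
    glOf g ∈ Cfsg.Geo.subspaceStabilizer W ↔ ∀ x ∈ U, g x ∈ U := by
  have hiff : glOf g ∈ Cfsg.Geo.subspaceStabilizer W ↔ ∀ x, (x ∈ W ↔ g x ∈ W) := by
    refine ⟨fun h x => ?_, fun h => ?_⟩
    · have := h x
      simpa [glToMat] using this
    · intro x
      simpa [glToMat] using h x
  rw [hiff]
  constructor
  · intro h x hx
    refine D.swap.mem_W fun b hb => ?_
    have hb' : g.symm b ∈ W := (h _).2 (by rwa [LinearEquiv.apply_symm_apply])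
    rw [← LinearEquiv.apply_symm_apply g b, pB_of_mem S hg, D.orth' hb' hx]
  · intro h x
    have hmap : U.map (g : (ι → F) →ₗ[F] (ι → F)) = U := by
      refine Submodule.eq_of_le_of_finrank_eq ?_ (g.finrank_map_eq U)
      rintro _ ⟨y, hy, rfl⟩
      exact h y hy
    constructor
    · intro hx
      refine D.mem_W fun b hb => ?_
      obtain ⟨b', hb', rfl⟩ := hmap.ge hb
      rw [LinearEquiv.coe_coe, pB_of_mem S hg, D.orth x hx b' hb']
    · intro hx
      refine D.mem_W fun b hb => ?_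
      rw [← pB_of_mem S hg, D.orth (g x) hx _ (h b hb)]

variable [Finite F]

theorem sing_le {Y : Submodule F (ι → F)} (hU : 7 ≤ Module.finrank F U)
    (h : ∀ u ∈ U, Q u = 0 → u ∈ Y) : U ≤ Y := by
  intro x hx
  rcases eq_or_ne x 0 with rfl | hx0
  · exact Y.zero_mem
  obtain ⟨u, hu, hQu, hux⟩ := D.exists_values_in (v := ![x]) (fun i => by fin_cases i; exact hx)
    (by simp [linearIndependent_unique_iff, hx0]) (by omega) ![1] 0
  have hux' : pB Q u x = 1 := hux 0
  have h1 : x - Q x • u ∈ Y := h _ (U.sub_mem hx (U.smul_mem _ hu)) (by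
    rw [sub_eq_add_neg, ← neg_smul, S.quad_add, S.quad_smul, hQu, map_smul, smul_eq_mul, S.pB_comm x u,
      hux']
    ring)
  simpa using Y.add_mem h1 (Y.smul_mem (Q x) (h u hu hQu))

/-- An element moving the member sends some singular plane of it outside both members. -/
theorem exists_plane (hU : 7 ≤ Module.finrank F U) {g : (ι → F) ≃ₗ[F] (ι → F)}
    (hg : g ∈ FormsLib.oGroup Q)
    (hgU : ¬ ∀ x ∈ U, g x ∈ U) (hgW : ¬ ∀ x ∈ U, g x ∈ W) :
    ∃ u ∈ U, ∃ w ∈ U, Q u = 0 ∧ Q w = 0 ∧ pB Q w u = 0 ∧ (∀ α β : F, α • u + β • w = 0 → α = 0 ∧ β = 0) ∧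
      (g u ∉ U ∨ g w ∉ U) ∧ (g u ∉ W ∨ g w ∉ W) := by
  have hind : ∀ u w : ι → F, u ≠ 0 → w ∉ Submodule.span F {u} →
      ∀ α β : F, α • u + β • w = 0 → α = 0 ∧ β = 0 := by
    intro u w hu hw α β h
    rcases eq_or_ne β 0 with rfl | hβ
    · rw [zero_smul, add_zero, smul_eq_zero] at h
      exact ⟨h.resolve_right hu, rfl⟩
    · refine absurd (Submodule.mem_span_singleton.2 ⟨-α / β, ?_⟩) hw
      refine smul_right_injective _ hβ ?_
      show β • (-α / β) • u = β • w
      rw [smul_smul, mul_div_cancel₀ _ hβ, neg_smul, neg_eq_iff_add_eq_zero, h]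
  by_cases hc : ∃ u ∈ U, Q u = 0 ∧ g u ∉ U ∧ g u ∉ W
  · obtain ⟨u, hu, hQu, h1, h2⟩ := hc
    have hu0 : u ≠ 0 := fun e => h1 (by rw [e, map_zero]; exact U.zero_mem)
    obtain ⟨w, hw, hQw, hwu, hws⟩ := D.exists_sing_out ![u] (Submodule.span F {u}) (by omega)
      (by rw [finrank_span_singleton hu0]; omega)
    exact ⟨u, hu, w, hw, hQu, hQw, hwu 0, hind u w hu0 hws, Or.inl h1, Or.inl h2⟩
  push Not at hc
  obtain ⟨u, hu, hQu, huU⟩ : ∃ u ∈ U, Q u = 0 ∧ g u ∉ U := by
    by_contra h'
    push Not at h'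
    exact hgU (D.sing_le hU (Y := U.comap (g : (ι → F) →ₗ[F] (ι → F))) h')
  obtain ⟨w, hw, hQw, hwW⟩ : ∃ w ∈ U, Q w = 0 ∧ g w ∉ W := by
    by_contra h'
    push Not at h'
    exact hgW (D.sing_le hU (Y := W.comap (g : (ι → F) →ₗ[F] (ι → F))) h')
  have huW := hc u hu hQu huU
  have hwU : g w ∈ U := not_not.1 fun h => hwW (hc w hw hQw h)
  have hu0 : u ≠ 0 := fun e => huU (by rw [e, map_zero]; exact U.zero_mem)
  refine ⟨u, hu, w, hw, hQu, hQw, ?_, hind u w hu0 ?_, Or.inl huU, Or.inr hwW⟩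
  · rw [← pB_of_mem S hg, D.orth' huW hwU]
  · intro h
    obtain ⟨c, rfl⟩ := Submodule.mem_span_singleton.1 h
    exact hwW (by rw [map_smul]; exact W.smul_mem c huW)

end ODec

section Siegel

variable (S)
include S

theorem siegel_congr {u w u' w' : ι → F} {hu : Q u = 0} {hw : pB Q w u = 0} {hu' : Q u' = 0}
    {hw' : pB Q w' u' = 0} (e1 : u = u') (e2 : w = w') :
    S.siegel u w hu hw = S.siegel u' w' hu' hw' := by
  subst e1 e2; rfl

theorem siegel_mul {u w w' : ι → F} (hu : Q u = 0) (hw : pB Q w u = 0) (hw' : pB Q w' u = 0) :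
    S.siegel u w hu hw * S.siegel u w' hu hw' =
      S.siegel u (w + w') hu (by rw [map_add, LinearMap.add_apply, hw, hw', add_zero]) :=
  LinearEquiv.ext fun x => S.siegelHom_siegelHom hu hw hw' x

theorem siegel_inv {u w : ι → F} (hu : Q u = 0) (hw : pB Q w u = 0) :
    (S.siegel u w hu hw)⁻¹ = S.siegel u (-w) hu (by rw [map_neg, LinearMap.neg_apply, hw, neg_zero]) := by
  refine inv_eq_of_mul_eq_one_right (LinearEquiv.ext fun x => ?_)
  rw [siegel_mul S, S.siegel_apply, add_neg_cancel, S.siegelHom_zero]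
  rfl

theorem siegel_smul {u w : ι → F} (c : F) (hu : Q u = 0) (hw : pB Q w u = 0)
    (h1 : Q (c • u) = 0) (h2 : pB Q w (c • u) = 0) (h3 : pB Q (c • w) u = 0) :
    S.siegel (c • u) w h1 h2 = S.siegel u (c • w) hu h3 := by
  refine LinearEquiv.ext fun x => ?_
  simp only [S.siegel_apply, siegelHom_apply, map_smul, S.quad_smul, smul_eq_mul, smul_smul]
  module

end Siegel

namespace ODec

variable [Finite F] (D : ODec S W U) {K : Subgroup (GL ι F)}
  (hH : Cfsg.Geo.subspaceStabilizer W ⊓ Cfsg.Geo.omegaGL ⇑Q ≤ K)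

include D hH

theorem siegel_mem_K {u w : ι → F} (hu : u ∈ U) (hw : w ∈ U) (hQu : Q u = 0) (hwu : pB Q w u = 0) :
    glOf (S.siegel u w hQu hwu) ∈ K := by
  refine hH ⟨(D.mem_stab_iff (siegel_mem_oGroup S hQu hwu)).2 fun x hx => ?_,
    glOf_siegel_mem_omega S hQu hwu⟩
  rw [S.siegel_apply, siegelHom_apply]
  exact U.sub_mem (U.sub_mem (U.add_mem hx (U.smul_mem _ hw)) (U.smul_mem _ hu)) (U.smul_mem _ hu)

theorem mem_K_of_fix {h : (ι → F) ≃ₗ[F] (ι → F)} (ho : h ∈ FormsLib.oGroup Q)
    (hΩ : glOf h ∈ Cfsg.Geo.omegaGL ⇑Q) (hW : ∀ x ∈ W, h x = x) : glOf h ∈ K := by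
  refine hH ⟨(D.mem_stab_iff ho).2 fun x hx => D.swap.mem_W fun b hb => ?_, hΩ⟩
  rw [← hW b hb, pB_of_mem S ho, D.orth' hb hx]

/-- Some transformation in the overgroup mixes the two members. -/
theorem exists_cross (hU : 7 ≤ Module.finrank F U) {g : (ι → F) ≃ₗ[F] (ι → F)}
    (hg : g ∈ FormsLib.oGroup Q) (hgK : glOf g ∈ K)
    (hgU : ¬ ∀ x ∈ U, g x ∈ U) (hgW : ¬ ∀ x ∈ U, g x ∈ W) :
    ∃ u ∈ U, ∃ e ∈ W, ∃ (hQu : Q u = 0) (heu : pB Q e u = 0),
      u ≠ 0 ∧ e ≠ 0 ∧ glOf (S.siegel u e hQu heu) ∈ K := by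
  obtain ⟨u, hu, w, hw, hQu, hQw, hwu, hind, hPU, hPW⟩ := D.exists_plane hU hg hgU hgW
  set a := g u with hadef
  set c := g w with hcdef
  have hQa : Q a = 0 := by rw [hadef, hg u, hQu]
  have hQc : Q c = 0 := by rw [hcdef, hg w, hQw]
  have hca : pB Q c a = 0 := by rw [hadef, hcdef, pB_of_mem S hg, hwu]
  have hT : glOf (S.siegel a c hQa hca) ∈ K := by
    have h1 := K.mul_mem (K.mul_mem hgK (D.siegel_mem_K hH hu hw hQu hwu)) (K.inv_mem hgK)
    rwa [← map_inv, ← map_mul, ← map_mul, siegel_conj S hg] at h1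
  have hind' : ∀ α β : F, α • a + β • c = 0 → α = 0 ∧ β = 0 := fun α β h => hind α β (g.injective (by
    rw [map_add, map_smul, map_smul, map_zero]; exact h))
  obtain ⟨aW, haW, aU, haU, ea⟩ := D.decomp a
  obtain ⟨cW, hcW, cU, hcU, ec⟩ := D.decomp c
  have hX : Module.finrank F (Submodule.span F (Set.range ![aU, cU])) ≤ 2 := by
    refine (finrank_range_le_card ![aU, cU]).trans ?_
    simp
  obtain ⟨v, hv, hQv, hvp, hvX⟩ := D.exists_sing_out ![aU, cU] (Submodule.span F (Set.range ![aU, cU]))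
    (by omega) (by omega)
  have hv0 : v ≠ 0 := fun e => hvX (by rw [e]; exact Submodule.zero_mem _)
  have hval : ∀ z ∈ U, pB Q z a = pB Q z aU ∧ pB Q z c = pB Q z cU := fun z hz => by
    rw [← ea, ← ec, map_add, map_add, D.orth' haW hz, D.orth' hcW hz, zero_add, zero_add]
    exact ⟨rfl, rfl⟩
  have hex : ∀ b ∈ U, b ∈ Submodule.span F (Set.range ![aU, cU]) → b ≠ 0 →
      ∃ z ∈ U, pB Q z v = 0 ∧ pB Q z b = 1 := fun b hb hbX hb0 =>
    D.exists_val hv hb hv0 fun h => by
      obtain ⟨k, rfl⟩ := Submodule.mem_span_singleton.1 h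
      refine hvX ?_
      have hk : k ≠ 0 := fun e => hb0 (by rw [e, zero_smul])
      simpa [smul_smul, inv_mul_cancel₀ hk] using Submodule.smul_mem _ k⁻¹ hbX
  have haX : aU ∈ Submodule.span F (Set.range ![aU, cU]) := Submodule.subset_span ⟨0, rfl⟩
  have hcX : cU ∈ Submodule.span F (Set.range ![aU, cU]) := Submodule.subset_span ⟨1, rfl⟩
  obtain ⟨z, hz, hzv, hze⟩ : ∃ z ∈ U, pB Q z v = 0 ∧ pB Q z aU • cW ≠ pB Q z cU • aW := by
    by_contra hn
    push Not at hn
    rcases eq_or_ne aU 0 with h0 | h0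
    · have hcU0 : cU ≠ 0 := fun e => by
        rcases hPW with h | h
        · exact h (by rw [← ea, h0, add_zero]; exact haW)
        · exact h (by rw [← ec, e, add_zero]; exact hcW)
      obtain ⟨z, hz, hzv, hz1⟩ := hex cU hcU hcX hcU0
      have h1 := hn z hz hzv
      rw [h0, map_zero, zero_smul, hz1, one_smul] at h1
      exact one_ne_zero (hind' 1 0 (by simp [← ea, h0, ← h1])).1
    · obtain ⟨z, hz, hzv, hz1⟩ := hex aU haU haX h0
      have h1 := hn z hz hzv
      rw [hz1, one_smul] at h1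
      set β := pB Q z cU
      have haW0 : aW ≠ 0 := fun e => by
        rcases hPU with h | h
        · exact h (by rw [← ea, e, zero_add]; exact haU)
        · exact h (by rw [← ec, h1, e, smul_zero, zero_add]; exact hcU)
      have hd : cU - β • aU ≠ 0 := fun e => one_ne_zero (hind' (-β) 1 (by
        rw [← ea, ← ec, h1, sub_eq_zero.1 e]; module)).2
      obtain ⟨z', hz', hz'v, hz'1⟩ := hex _ (U.sub_mem hcU (U.smul_mem _ haU))
        (Submodule.sub_mem _ hcX (Submodule.smul_mem _ _ haX)) hd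
      have h2 := hn z' hz' hz'v
      rw [h1, smul_smul] at h2
      have h3 := smul_left_injective F haW0 h2
      rw [map_sub, map_smul, smul_eq_mul, ← h3] at hz'1
      exact one_ne_zero (by rw [← hz'1]; ring)
  set T := S.siegel a c hQa hca
  have hTv : T v = v := by
    rw [S.siegel_apply, siegelHom_apply, (hval v hv).1, (hval v hv).2, show pB Q v aU = 0 from hvp 0,
      show pB Q v cU = 0 from hvp 1]
    simp
  set eW := pB Q z aU • cW - pB Q z cU • aW with heW
  set eU := pB Q z aU • cU - pB Q z cU • aU with heU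
  have hTz : T z + -z = eW + eU := by
    rw [S.siegel_apply, siegelHom_apply, (hval z hz).1, (hval z hz).2, hQc, heW, heU, ← ea, ← ec]
    module
  have heW' : eW ∈ W := W.sub_mem (W.smul_mem _ hcW) (W.smul_mem _ haW)
  have heU' : eU ∈ U := U.sub_mem (U.smul_mem _ hcU) (U.smul_mem _ haU)
  have hev : pB Q eW v = 0 := D.orth eW heW' v hv
  have heUv : pB Q eU v = 0 := by
    rw [heU, map_sub, map_smul, map_smul, LinearMap.sub_apply, LinearMap.smul_apply,
      LinearMap.smul_apply, S.pB_comm aU, S.pB_comm cU, show pB Q v aU = 0 from hvp 0,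
      show pB Q v cU = 0 from hvp 1]
    simp
  refine ⟨v, hv, eW, heW', hQv, hev, hv0, sub_ne_zero.2 hze, ?_⟩
  have hs := D.siegel_mem_K hH hv hz hQv hzv
  have h2 := K.mul_mem (K.mul_mem (K.mul_mem (K.mul_mem hT hs) (K.inv_mem hT)) (K.inv_mem hs))
    (K.inv_mem (D.siegel_mem_K hH hv heU' hQv heUv))
  rwa [← map_inv, ← map_inv, ← map_inv, ← map_mul, ← map_mul, ← map_mul, ← map_mul,
    siegel_conj S (siegel_mem_oGroup S hQa hca), siegel_inv S, siegel_inv S,
    siegel_congr S hTv rfl (hu' := hQv) (hw' := by rw [← hTv, pB_of_mem S (siegel_mem_oGroup S hQa hca), hzv]),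
    siegel_mul S, siegel_mul S,
    siegel_congr S rfl (show T z + -z + -eU = eW by rw [hTz, add_neg_cancel_right]) (hu' := hQv) (hw' := hev)] at h2

/-- One mixing transformation at a centre gives all of them. -/
theorem cross_span (hU : 7 ≤ Module.finrank F U)
    (hex : ¬ (Nat.card F = 3 ∧ Module.finrank F W = 2 ∧ ∃ z ∈ W, z ≠ 0 ∧ Q z = 0))
    {u e : ι → F} (hu : u ∈ U) (hu0 : u ≠ 0) (he : e ∈ W) (he0 : e ≠ 0) (hQu : Q u = 0)
    (heu : pB Q e u = 0) (hK : glOf (S.siegel u e hQu heu) ∈ K) :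
    ∀ w ∈ W, ∀ hwu : pB Q w u = 0, glOf (S.siegel u w hQu hwu) ∈ K := by
  let A : AddSubgroup (ι → F) :=
    { carrier := {w | w ∈ W ∧ ∀ hwu : pB Q w u = 0, glOf (S.siegel u w hQu hwu) ∈ K}
      zero_mem' := ⟨W.zero_mem, fun _ => by
        rw [show S.siegel u 0 hQu (by simp) = 1 from LinearEquiv.ext fun x => S.siegelHom_zero u x,
          map_one]
        exact K.one_mem⟩
      add_mem' := fun {a b} ha hb => ⟨W.add_mem ha.1 hb.1, fun _ => by
        rw [← siegel_mul S hQu (D.orth a ha.1 u hu) (D.orth b hb.1 u hu), map_mul]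
        exact K.mul_mem (ha.2 _) (hb.2 _)⟩
      neg_mem' := fun {a} ha => ⟨W.neg_mem ha.1, fun _ => by
        rw [← siegel_inv S hQu (D.orth a ha.1 u hu), map_inv]
        exact K.inv_mem (ha.2 _)⟩ }
  have hA : ∀ w, w ∈ A ↔ w ∈ W ∧ ∀ hwu : pB Q w u = 0, glOf (S.siegel u w hQu hwu) ∈ K :=
    fun w => Iff.rfl
  have heA : e ∈ A := (hA e).2 ⟨he, fun _ => hK⟩
  obtain ⟨u', hu', hQu', hu'u⟩ := D.exists_values_in (v := ![u]) (fun i => by fin_cases i; exact hu)
    (by simp [linearIndependent_unique_iff, hu0]) (by omega) ![1] 0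
  have huu' : pB Q u u' = 1 := by rw [S.pB_comm]; exact hu'u 0
  have hsq : ∀ t : F, ∀ w ∈ A, (t * t) • w ∈ A := by
    intro t w hw
    rcases eq_or_ne t 0 with rfl | ht
    · rw [mul_zero, zero_smul]; exact A.zero_mem
    obtain ⟨h, hΩ, ho, hhu, hfix⟩ := exists_torus_sq S hQu hQu' huu' ht
    have hW : ∀ x ∈ W, h x = x := fun x hx => hfix x (D.orth x hx u hu) (D.orth x hx u' hu')
    have hh := D.mem_K_of_fix hH ho hΩ hW
    refine (hA _).2 ⟨W.smul_mem _ hw.1, fun hwu => ?_⟩
    have h2 := K.mul_mem (K.mul_mem hh (hw.2 (D.orth w hw.1 u hu))) (K.inv_mem hh)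
    rwa [← map_inv, ← map_mul, ← map_mul, siegel_conj S ho,
      siegel_congr S hhu (hW w hw.1) (hu' := by rw [S.quad_smul, hQu, mul_zero])
        (hw' := by rw [map_smul, D.orth w hw.1 u hu, smul_zero]),
      siegel_smul S (t * t) hQu (D.orth w hw.1 u hu) _ _ hwu] at h2
  let M : Submodule F (ι → F) :=
    { A with
      smul_mem' := fun c w hw => by
        obtain ⟨s, t, hst⟩ := S.exists_binary (one_ne_zero (α := F)) (one_ne_zero (α := F)) c
        rw [← hst, one_mul, one_mul, add_smul]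
        exact A.add_mem (hsq s w hw) (hsq t w hw) }
  have hM : ∀ w, w ∈ M ↔ w ∈ A := fun w => Iff.rfl
  have hrefl : ∀ w ∈ M, ∀ p ∈ W, ∀ hp : Q p ≠ 0, pB Q w p ≠ 0 → p ∈ M := by
    intro w hw p hpW hp hwp
    have hwW : w ∈ W := ((hM w).1 hw).1
    obtain ⟨p', hp', hQp', hp'u⟩ := D.exists_values_in (v := ![u]) (fun i => by fin_cases i; exact hu)
      (by simp [linearIndependent_unique_iff, hu0]) (by omega) ![0] (Q p)
    have hp'0 : Q p' ≠ 0 := by rwa [hQp']
    set h := FormsLib.refl Q p' hp'0 * FormsLib.refl Q p hp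
    have ho : h ∈ FormsLib.oGroup Q := mul_mem (FormsLib.refl_mem Q _) (FormsLib.refl_mem Q _)
    have hfu : h u = u := by
      rw [LinearEquiv.mul_apply, FormsLib.refl_fix Q hp (D.orth' hpW hu),
        FormsLib.refl_fix Q hp'0 (by rw [← QuadraticMap.polarBilin_apply_apply, S.pB_comm]; exact hp'u 0)]
    have hfW : ∀ x ∈ W, h x = FormsLib.refl Q p hp x := fun x hx => by
      rw [LinearEquiv.mul_apply, FormsLib.refl_fix Q hp'0 (D.orth _ ?_ p' hp')]
      rw [FormsLib.refl_apply]
      exact W.sub_mem hx (W.smul_mem _ hpW)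
    have hhK : glOf h ∈ K := by
      refine hH ⟨(D.mem_stab_iff ho).2 fun x hx => D.swap.mem_W fun b hb => ?_,
        refl_pair_mem_omega S hp hp'0 hQp'.symm⟩
      have hb' : FormsLib.refl Q p hp b ∈ W := by
        rw [FormsLib.refl_apply]; exact W.sub_mem hb (W.smul_mem _ hpW)
      have e1 : h (FormsLib.refl Q p hp b) = b := by
        rw [hfW _ hb', ← LinearEquiv.mul_apply, FormsLib.refl_mul_self]
        rfl
      rw [← e1, pB_of_mem S ho, D.orth' hb' hx]
    have h2 := K.mul_mem (K.mul_mem hhK (((hM w).1 hw).2 (D.orth w hwW u hu))) (K.inv_mem hhK)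
    have hrw : FormsLib.refl Q p hp w ∈ W := by
      rw [FormsLib.refl_apply]; exact W.sub_mem hwW (W.smul_mem _ hpW)
    rw [← map_inv, ← map_mul, ← map_mul, siegel_conj S ho,
      siegel_congr S hfu (hfW w hwW) (hu' := hQu) (hw' := D.orth _ hrw u hu)] at h2
    have h3 : FormsLib.refl Q p hp w ∈ M := (hM _).2 ((hA _).2 ⟨hrw, fun _ => h2⟩)
    rw [FormsLib.refl_apply] at h3
    have h4 := M.sub_mem hw h3
    rw [sub_sub_cancel] at h4
    have hc : (Q p)⁻¹ * QuadraticMap.polar Q w p ≠ 0 := mul_ne_zero (inv_ne_zero hp) hwp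
    have h5 := M.smul_mem ((Q p)⁻¹ * QuadraticMap.polar Q w p)⁻¹ h4
    rwa [smul_smul, inv_mul_cancel₀ hc, one_smul] at h5
  obtain ⟨a, haW, hQa, hea⟩ := D.swap.exists_aniso_ne he he0
  have ha : a ∈ M := hrefl e ((hM e).2 heA) a haW hQa hea
  suffices hWM : W ≤ M from fun w hw => ((hM w).1 (hWM hw)).2
  have hz : ∀ s : F, s ≠ 0 → ∀ z ∈ W, pB Q z a = 0 → Q z + s * s * Q a ≠ 0 → z ∈ M := by
    intro s hs z hz hza hne
    have h1 := hrefl a ha (z + s • a) (W.add_mem hz (W.smul_mem _ haW)) (by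
      rw [S.quad_add, S.quad_smul, map_smul, smul_eq_mul, hza, mul_zero, add_zero]; exact hne) (by
      rw [map_add, map_smul, smul_eq_mul, S.pB_comm a z, hza, zero_add, S.pB_self]
      exact mul_ne_zero hs (mul_ne_zero S.two_ne hQa))
    simpa using M.sub_mem h1 (M.smul_mem s ha)
  have hperp : ∀ x ∈ W, pB Q x a = 0 → x ∈ M := by
    intro x hxW hxa
    by_cases hx : Q x + Q a = 0
    · have hQx : Q x ≠ 0 := fun e => hQa (by rw [e, zero_add] at hx; exact hx)
      by_cases hy : ∃ y ∈ W, pB Q y a = 0 ∧ pB Q y x = 0 ∧ Q y ≠ 0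
      · obtain ⟨y, hyW, hya, hyx, hQy⟩ := hy
        have h1 : ∀ ε : F, ε * ε = 1 → x + ε • y ∈ M := fun ε hε => hz 1 one_ne_zero _
          (W.add_mem hxW (W.smul_mem _ hyW))
          (by rw [map_add, map_smul, LinearMap.add_apply, LinearMap.smul_apply, hxa, hya, smul_zero,
            add_zero])
          (by
            rw [S.quad_add, S.quad_smul, map_smul, smul_eq_mul, S.pB_comm x y, hyx, hε, mul_zero,
              add_zero, one_mul, one_mul, one_mul]
            exact fun e => hQy (by linear_combination e - hx))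
        have h2 := M.smul_mem (2 : F)⁻¹ (M.add_mem (h1 1 (one_mul 1)) (h1 (-1) (by ring)))
        convert h2 using 1
        have := S.two_ne
        match_scalars <;> field_simp <;> ring
      · push Not at hy
        by_cases hs : ∃ s : F, s ≠ 0 ∧ s * s ≠ 1
        · obtain ⟨s, hs0, hs1⟩ := hs
          refine hz s hs0 x hxW hxa fun e => ?_
          have : (s * s - 1) * Q a = 0 := by linear_combination e - hx
          exact (mul_eq_zero.1 this).elim (fun h => hs1 (sub_eq_zero.1 h)) hQa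
        · push Not at hs
          refine absurd ⟨?_, ?_, a + x, W.add_mem haW hxW, ?_, ?_⟩ hex
          · haveI := Fintype.ofFinite F
            classical
            have h1 : (Finset.univ : Finset F) ⊆ {0, 1, -1} := fun s _ => by
              rcases eq_or_ne s 0 with rfl | h0
              · simp
              · rcases mul_self_eq_one_iff.1 (hs s h0) with rfl | rfl <;> simp
            have h2 : ({0, 1, -1} : Finset F).card = 3 := by
              rw [Finset.card_insert_of_notMem (by simp), Finset.card_insert_of_notMem (by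
                simp only [Finset.mem_singleton]
                intro h
                exact S.two_ne (by linear_combination h)), Finset.card_singleton]
            rw [Nat.card_eq_fintype_card, ← Finset.card_univ,
              le_antisymm ((Finset.card_le_card h1).trans h2.le)
                (h2.symm.le.trans (Finset.card_le_univ _))]
          · have hax : ∀ r : F, r • a ≠ x := fun r er => by
              have h1 : pB Q x a = r * (2 * Q a) := by
                rw [← er, map_smul, LinearMap.smul_apply, S.pB_self, smul_eq_mul]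
              rw [hxa] at h1
              rcases mul_eq_zero.1 h1.symm with h | h
              · exact hQx (by rw [← er, h, zero_smul, QuadraticMap.map_zero])
              · exact mul_ne_zero S.two_ne hQa h
            have hli : LinearIndependent F ![a, x] :=
              (LinearIndependent.pair_iff' fun e => hQa (by rw [e, QuadraticMap.map_zero])).2 hax
            have hspan : W = Submodule.span F (Set.range ![a, x]) := by
              refine le_antisymm (fun y hy' => ?_) (Submodule.span_le.2 ?_)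
              · set α := pB Q y a / (2 * Q a) with hα
                set β := pB Q y x / (2 * Q x) with hβ
                set y' := y - α • a - β • x with hy'def
                have h2a := mul_ne_zero S.two_ne hQa
                have h2x := mul_ne_zero S.two_ne hQx
                have hy'W : y' ∈ W := W.sub_mem (W.sub_mem hy' (W.smul_mem _ haW)) (W.smul_mem _ hxW)
                have e1 : pB Q y' a = 0 := by
                  rw [hy'def, map_sub, map_sub, map_smul, map_smul, LinearMap.sub_apply,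
                    LinearMap.sub_apply, LinearMap.smul_apply, LinearMap.smul_apply, hxa, S.pB_self,
                    smul_eq_mul, smul_eq_mul, mul_zero, sub_zero, hα, div_mul_cancel₀ _ h2a, sub_self]
                have e2 : pB Q y' x = 0 := by
                  rw [hy'def, map_sub, map_sub, map_smul, map_smul, LinearMap.sub_apply,
                    LinearMap.sub_apply, LinearMap.smul_apply, LinearMap.smul_apply, S.pB_comm a x, hxa,
                    S.pB_self, smul_eq_mul, smul_eq_mul, mul_zero, sub_zero, hβ, div_mul_cancel₀ _ h2x,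
                    sub_self]
                by_cases hy0 : y' = 0
                · have : y = α • a + β • x := by rw [← sub_eq_zero, ← sub_sub, ← hy'def, hy0]
                  rw [this]
                  exact Submodule.add_mem _ (Submodule.smul_mem _ _ (Submodule.subset_span ⟨0, rfl⟩))
                    (Submodule.smul_mem _ _ (Submodule.subset_span ⟨1, rfl⟩))
                · exfalso
                  obtain ⟨c, hcW, hcy⟩ := D.swap.exists_ne hy'W hy0
                  set γ := pB Q c a / (2 * Q a) with hγ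
                  set δ := pB Q c x / (2 * Q x) with hδ
                  set c' := c - γ • a - δ • x with hc'def
                  have hc'W : c' ∈ W :=
                    W.sub_mem (W.sub_mem hcW (W.smul_mem _ haW)) (W.smul_mem _ hxW)
                  have f1 : pB Q c' a = 0 := by
                    rw [hc'def, map_sub, map_sub, map_smul, map_smul, LinearMap.sub_apply,
                      LinearMap.sub_apply, LinearMap.smul_apply, LinearMap.smul_apply, hxa, S.pB_self,
                      smul_eq_mul, smul_eq_mul, mul_zero, sub_zero, hγ, div_mul_cancel₀ _ h2a, sub_self]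
                  have f2 : pB Q c' x = 0 := by
                    rw [hc'def, map_sub, map_sub, map_smul, map_smul, LinearMap.sub_apply,
                      LinearMap.sub_apply, LinearMap.smul_apply, LinearMap.smul_apply, S.pB_comm a x, hxa,
                      S.pB_self, smul_eq_mul, smul_eq_mul, mul_zero, sub_zero, hδ,
                      div_mul_cancel₀ _ h2x, sub_self]
                  have f3 : ∀ z, pB Q z a = 0 → pB Q z x = 0 → pB Q c' z = pB Q c z :=
                    fun z z1 z2 => by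
                      rw [hc'def, map_sub, map_sub, map_smul, map_smul, LinearMap.sub_apply,
                        LinearMap.sub_apply, LinearMap.smul_apply, LinearMap.smul_apply, S.pB_comm a z,
                        S.pB_comm x z, z1, z2]
                      simp
                  have g1 := hy c' hc'W f1 f2
                  have g2 := hy y' hy'W e1 e2
                  have g3 := hy (c' + y') (W.add_mem hc'W hy'W)
                    (by rw [map_add, LinearMap.add_apply, f1, e1, add_zero])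
                    (by rw [map_add, LinearMap.add_apply, f2, e2, add_zero])
                  rw [S.quad_add, g1, g2, f3 y' e1 e2, zero_add, zero_add] at g3
                  exact hcy g3
              · rintro _ ⟨i, rfl⟩
                fin_cases i
                · exact haW
                · exact hxW
            rw [hspan, finrank_span_eq_card hli, Fintype.card_fin]
          · intro e0
            have h1 : pB Q (a + x) a = 2 * Q a := by
              rw [map_add, LinearMap.add_apply, hxa, add_zero, S.pB_self]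
            rw [e0] at h1
            exact mul_ne_zero S.two_ne hQa (by simpa using h1.symm)
          · rw [S.quad_add, S.pB_comm a x, hxa]
            linear_combination hx
    · exact hz 1 one_ne_zero x hxW hxa (by rwa [one_mul, one_mul])
  intro w hw
  set r := pB Q w a / (2 * Q a) with hr
  have h1 := hperp (w - r • a) (W.sub_mem hw (W.smul_mem _ haW)) (by
    rw [map_sub, map_smul, LinearMap.sub_apply, LinearMap.smul_apply, S.pB_self, smul_eq_mul, hr,
      div_mul_cancel₀ _ (mul_ne_zero S.two_ne hQa), sub_self])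
  simpa using M.add_mem h1 (M.smul_mem r ha)

/-- Moving singular vectors inside the member. -/
theorem exists_map_in (hU : 7 ≤ Module.finrank F U) {x y : ι → F} (hx : x ∈ U) (hy : y ∈ U)
    (hx0 : x ≠ 0) (hy0 : y ≠ 0) (hQx : Q x = 0) (hQy : Q y = 0) :
    ∃ h ∈ FormsLib.oGroup Q, glOf h ∈ K ∧ h x = y ∧ ∀ z ∈ W, h z = z := by
  have step : ∀ a ∈ U, ∀ b ∈ U, Q a = 0 → Q b = 0 → LinearIndependent F ![a, b] →
      ∃ h ∈ FormsLib.oGroup Q, glOf h ∈ K ∧ h a = b ∧ ∀ z ∈ W, h z = z := by
    intro a ha b hb hQa hQb hli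
    obtain ⟨u, hu, hQu, huv⟩ := D.exists_values_in (v := ![a, b])
      (fun i => by fin_cases i <;> assumption) hli (by omega) ![1, 1] 0
    have hau : pB Q a u = 1 := by rw [S.pB_comm]; exact huv 0
    have hbu : pB Q b u = 1 := by rw [S.pB_comm]; exact huv 1
    have hw : pB Q (b - a) u = 0 := by rw [map_sub, LinearMap.sub_apply, hau, hbu, sub_self]
    refine ⟨_, siegel_mem_oGroup S hQu hw, D.siegel_mem_K hH hu (U.sub_mem hb ha) hQu hw, ?_,
      fun z hz => D.siegel_fix hu (U.sub_mem hb ha) hQu hw hz⟩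
    have h2 := S.quad_add a (b - a)
    rw [add_sub_cancel] at h2
    rw [S.siegel_apply, siegelHom_apply, hau, one_smul, mul_one, sub_sub, ← add_smul,
      show pB Q a (b - a) + Q (b - a) = 0 by linear_combination hQb - hQa - h2, zero_smul, sub_zero,
      add_sub_cancel]
  obtain ⟨z, hz, hQz, -, hzX⟩ := D.exists_sing_out (k := 0) ![] (Submodule.span F (Set.range ![x, y]))
    (by omega) (by
      have : Module.finrank F (Submodule.span F (Set.range ![x, y])) ≤ 2 :=
        (finrank_range_le_card ![x, y]).trans (by simp)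
      omega)
  have hzne : ∀ v ∈ ({x, y} : Set (ι → F)), v ≠ 0 → LinearIndependent F ![v, z] := fun v hv hv0 =>
    (LinearIndependent.pair_iff' hv0).2 fun c e => hzX (e ▸ Submodule.smul_mem _ c
      (Submodule.subset_span (by rcases hv with rfl | rfl; exacts [⟨0, rfl⟩, ⟨1, rfl⟩])))
  obtain ⟨h₁, o₁, k₁, e₁, f₁⟩ := step x hx z hz hQx hQz (hzne x (Or.inl rfl) hx0)
  obtain ⟨h₂, o₂, k₂, e₂, f₂⟩ := step z hz y hy hQz hQy
    (LinearIndependent.pair_symm_iff.1 (hzne y (Or.inr rfl) hy0))
  exact ⟨h₂ * h₁, mul_mem o₂ o₁, by rw [map_mul]; exact K.mul_mem k₂ k₁,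
    by rw [LinearEquiv.mul_apply, e₁, e₂], fun z hz => by rw [LinearEquiv.mul_apply, f₁ z hz, f₂ z hz]⟩

/-- A proper overgroup contains every Siegel transformation. -/
theorem siegel_mem_of_over (hU : 7 ≤ Module.finrank F U) (hW0 : W ≠ ⊥)
    (hex : ¬ (Nat.card F = 3 ∧ Module.finrank F W = 2 ∧ ∃ z ∈ W, z ≠ 0 ∧ Q z = 0))
    {g : (ι → F) ≃ₗ[F] (ι → F)} (hg : g ∈ FormsLib.oGroup Q) (hgK : glOf g ∈ K)
    (hgU : ¬ ∀ x ∈ U, g x ∈ U) (hgW : ¬ ∀ x ∈ U, g x ∈ W) :
    ∀ u w (hu : Q u = 0) (hw : pB Q w u = 0), glOf (S.siegel u w hu hw) ∈ K := by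
  obtain ⟨u₀, hu₀, e, he, hQu₀, heu, hu₀0, he0, hK⟩ := D.exists_cross hH hU hg hgK hgU hgW
  have hspan := D.cross_span hH hU hex hu₀ hu₀0 he he0 hQu₀ heu hK
  let Good : (ι → F) → Prop := fun a => ∀ (ha : Q a = 0) (w : ι → F) (hw : pB Q w a = 0),
    glOf (S.siegel a w ha hw) ∈ K
  have hGU : ∀ a ∈ U, a ≠ 0 → Good a := by
    intro a ha ha0 hQa w hw
    obtain ⟨w₁, hw₁, w₂, hw₂, rfl⟩ := D.decomp w
    have h1 : pB Q w₁ a = 0 := D.orth w₁ hw₁ a ha
    have h2 : pB Q w₂ a = 0 := by rwa [map_add, LinearMap.add_apply, h1, zero_add] at hw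
    rw [← siegel_mul S hQa h1 h2, map_mul]
    refine K.mul_mem ?_ (D.siegel_mem_K hH ha hw₂ hQa h2)
    obtain ⟨h, ho, hhK, hha, hfix⟩ := D.exists_map_in hH hU hu₀ ha hu₀0 ha0 hQu₀ hQa
    have h3 := K.mul_mem (K.mul_mem hhK (hspan w₁ hw₁ (D.orth w₁ hw₁ u₀ hu₀))) (K.inv_mem hhK)
    rwa [← map_inv, ← map_mul, ← map_mul, siegel_conj S ho,
      siegel_congr S hha (hfix w₁ hw₁) (hu' := hQa) (hw' := h1)] at h3
  have hconj : ∀ (h : (ι → F) ≃ₗ[F] (ι → F)), h ∈ FormsLib.oGroup Q → glOf h ∈ K → ∀ a,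
      Good a → Good (h a) := by
    intro h ho hhK a hG hQa w hw
    have h1 : pB Q (h.symm w) a = 0 := by
      rw [← pB_of_mem S ho, LinearEquiv.apply_symm_apply, hw]
    have h2 := K.mul_mem (K.mul_mem hhK (hG (by rw [← ho a]; exact hQa) _ h1)) (K.inv_mem hhK)
    rwa [← map_inv, ← map_mul, ← map_mul, siegel_conj S ho,
      siegel_congr S rfl (h.apply_symm_apply w) (hu' := hQa) (hw' := hw)] at h2
  have hGgen : ∀ a, Q a = 0 → ∀ b c, b ∈ W → c ∈ U → b + c = a → c ≠ 0 → Good a := by
    intro a hQa b c hb hc hbc hc0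
    obtain ⟨x, hx, hQx, -, hxX⟩ := D.exists_sing_out (k := 0) ![] (Submodule.span F {c}) (by omega)
      (by rw [finrank_span_singleton hc0]; omega)
    have hx0 : x ≠ 0 := fun e => hxX (by rw [e]; exact Submodule.zero_mem _)
    obtain ⟨v, hv, hQv, hvv⟩ := D.exists_values_in (v := ![x, c])
      (fun i => by fin_cases i <;> assumption)
      (sing_indep_pair S hc0 hxX) (by omega) ![1, 1] 0
    have hxv : pB Q x v = 1 := by rw [S.pB_comm]; exact hvv 0
    have hav : pB Q a v = 1 := by
      rw [← hbc, D.polar_add_left hb hv, S.pB_comm]; exact hvv 1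
    have hw : pB Q (a - x) v = 0 := by rw [map_sub, LinearMap.sub_apply, hxv, hav, sub_self]
    have hv0 : v ≠ 0 := fun e => one_ne_zero (by rw [← hxv, e, map_zero])
    have h1 := hconj _ (siegel_mem_oGroup S hQv hw) (hGU v hv hv0 hQv _ hw) x (hGU x hx hx0)
    convert h1 using 1
    have h2 := S.quad_add x (a - x)
    rw [add_sub_cancel] at h2
    rw [S.siegel_apply, siegelHom_apply, hxv, one_smul, mul_one, sub_sub, ← add_smul,
      show pB Q x (a - x) + Q (a - x) = 0 by linear_combination hQa - hQx - h2, zero_smul, sub_zero,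
      add_sub_cancel]
  intro a w hQa hw
  suffices Good a from this hQa w hw
  rcases eq_or_ne a 0 with rfl | ha0
  · intro _ w' _
    rw [show S.siegel 0 w' _ _ = 1 from LinearEquiv.ext fun x => by
      rw [S.siegel_apply, siegelHom_apply]; simp, map_one]
    exact K.one_mem
  obtain ⟨b, hb, c, hc, hbc⟩ := D.decomp a
  by_cases hc0 : c = 0
  · have haW : a ∈ W := by rw [← hbc, hc0, add_zero]; exact hb
    obtain ⟨d, hd, hda⟩ := D.swap.exists_ne haW ha0
    rw [S.pB_comm] at hda
    have hdu : pB Q d u₀ = 0 := D.orth d hd u₀ hu₀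
    set k := S.siegel u₀ d hQu₀ hdu
    have hka : k a = a + (-pB Q a d) • u₀ := by
      rw [S.siegel_apply, siegelHom_apply, D.orth a haW u₀ hu₀]; module
    have h1 := hGgen (k a) (by rw [siegel_mem_oGroup S hQu₀ hdu a]; exact hQa) a _ haW
      (U.smul_mem _ hu₀) hka.symm (smul_ne_zero (neg_ne_zero.2 hda) hu₀0)
    have h2 := hconj k⁻¹ (inv_mem (siegel_mem_oGroup S hQu₀ hdu))
      (by rw [map_inv]; exact K.inv_mem (hspan d hd hdu)) _ h1
    rwa [← LinearEquiv.mul_apply, inv_mul_cancel] at h2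
  · exact hGgen a hQa b c hb hc hbc hc0

omit hH in
/-- The stabiliser of a non-degenerate subspace is maximal. -/
theorem stab_maximal (hU : 7 ≤ Module.finrank F U) (hW0 : W ≠ ⊥)
    (hex : ¬ (Nat.card F = 3 ∧ Module.finrank F W = 2 ∧ ∃ z ∈ W, z ≠ 0 ∧ Q z = 0))
    (hni : ∀ g ∈ FormsLib.oGroup Q, ¬ ∀ x ∈ U, g x ∈ W) :
    Cfsg.Geo.IsMaximalIn (Cfsg.Geo.omegaGL ⇑Q)
      (Cfsg.Geo.subspaceStabilizer W ⊓ Cfsg.Geo.omegaGL ⇑Q) := by
  refine maximal_in_omegaGL S _ inf_le_right ?_ fun K hH hK ⟨g, hgK, hg⟩ => ?_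
  · obtain ⟨u, hu, hQu, -, hu0⟩ := D.exists_sing_out (k := 0) ![] ⊥ (by omega)
      (by rw [finrank_bot]; omega)
    rw [Submodule.mem_bot] at hu0
    obtain ⟨w, hw, hw0⟩ := (Submodule.ne_bot_iff W).1 hW0
    obtain ⟨x, hx, hxw⟩ := D.swap.exists_ne hw hw0
    have hwu := D.orth w hw u hu
    refine ⟨_, glOf_siegel_mem_omega S hQu hwu, fun h => hu0 ?_⟩
    obtain ⟨z, hz, hzu⟩ : ∃ z ∈ U, pB Q z u = 1 := by
      obtain ⟨z, hz, -, hzu⟩ := D.exists_values_in (v := ![u]) (fun i => by fin_cases i; exact hu)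
        (by simp [linearIndependent_unique_iff, hu0]) (by omega) ![1] 0
      exact ⟨z, hz, hzu 0⟩
    have h1 := (D.mem_stab_iff (siegel_mem_oGroup S hQu hwu)).1 h.1 z hz
    rw [S.siegel_apply, siegelHom_apply, hzu, D.orth' hw hz, one_smul] at h1
    have h2 : z + w - (0 : F) • u - (Q w * 1) • u - z + (Q w * 1) • u ∈ U :=
      U.add_mem (U.sub_mem h1 hz) (U.smul_mem _ hu)
    exact absurd (D.eq_zero hw (by convert h2 using 1; module)) hw0
  · have hgo := omegaGL_iso S (hK hgK)
    refine D.siegel_mem_of_over hH hU hW0 hex hgo (by rw [glOf_linOf]; exact hgK) (fun h => hg ?_)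
      (hni _ hgo)
    exact ⟨by rw [← glOf_linOf g]; exact (D.mem_stab_iff hgo).2 h, hK hgK⟩

end ODec

/-- A non-degenerate subspace and its orthogonal complement. -/
theorem exists_ODec (S : OSetting Q) (W : Submodule F (ι → F))
    (hW : ∀ w ∈ W, w ≠ 0 → ∃ x ∈ W, pB Q x w ≠ 0) : ∃ U, ODec S W U := by
  refine ⟨LinearMap.BilinForm.orthogonal (pB Q) W, ?_, fun a ha b hb => hb a ha⟩
  have hdis : W ⊓ LinearMap.BilinForm.orthogonal (pB Q) W = ⊥ := by
    rw [eq_bot_iff]
    intro w hw
    by_contra h0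
    obtain ⟨x, hx, hxw⟩ := hW w hw.1 h0
    exact hxw (hw.2 x hx)
  refine ⟨disjoint_iff.2 hdis, codisjoint_iff.2 (Submodule.eq_top_of_finrank_eq ?_)⟩
  have h1 := Submodule.finrank_sup_add_finrank_inf_eq W (LinearMap.BilinForm.orthogonal (pB Q) W)
  rw [hdis, finrank_bot] at h1
  rw [LinearMap.BilinForm.finrank_orthogonal S.nondeg] at h1
  have h2 := Submodule.finrank_le W
  omega

/-- Both members have the same stabiliser in the derived orthogonal group. -/
theorem ODec.stab_swap [Finite F] (D : ODec S W U) :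
    Cfsg.Geo.subspaceStabilizer W ⊓ Cfsg.Geo.omegaGL ⇑Q =
      Cfsg.Geo.subspaceStabilizer U ⊓ Cfsg.Geo.omegaGL ⇑Q := by
  have key : ∀ {A B : Submodule F (ι → F)}, ODec S A B →
      Cfsg.Geo.subspaceStabilizer A ⊓ Cfsg.Geo.omegaGL ⇑Q ≤
        Cfsg.Geo.subspaceStabilizer B ⊓ Cfsg.Geo.omegaGL ⇑Q := by
    intro A B D g hg
    have ho := omegaGL_iso S hg.2
    obtain ⟨h1, h2⟩ := hg
    refine ⟨?_, h2⟩
    rw [← glOf_linOf g] at h1 ⊢
    refine (D.swap.mem_stab_iff ho).2 fun x hx => D.mem_W fun b hb => ?_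
    have hB := (D.mem_stab_iff ho).1 h1
    have hmap : B.map (linOf g : (ι → F) →ₗ[F] (ι → F)) = B := by
      refine Submodule.eq_of_le_of_finrank_eq ?_ ((linOf g).finrank_map_eq B)
      rintro _ ⟨y, hy, rfl⟩
      exact hB y hy
    obtain ⟨b', hb', rfl⟩ := hmap.ge hb
    rw [LinearEquiv.coe_coe, pB_of_mem S ho, D.orth x hx b' hb']
  exact le_antisymm (key D) (key D.swap)

end Cfsg.Agent.TransvMax
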