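import Cfsg.Agent.S1774
import Cfsg.Agent.Lib.TransvMax.Basic
import Cfsg.Prelude.Def_GeometricClasses

/-!
Groups of symplectic type of index sixteen over their centre in dimension four, and the elements normalising them.
-/

set_option autoImplicit false
set_option linter.unusedSectionVars false

namespace Cfsg.Agent.Pauli

open Cfsg.Agent Module
open scoped Matrix commutatorElement

variable {F : Type*} [Field F] {ι : Type} [Fintype ι] [DecidableEq ι] {R : Subgroup (GL ι F)}

local notation "M" => Matrix ι ι F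

/-- A group of matrices whose elements commute or anticommute, with sixteen cosets of scalars. -/
structure IsPauli (R : Subgroup (GL ι F)) : Prop where
  two : (2 : F) ≠ 0
  card : Fintype.card ι = 4
  index : Nat.card (R ⧸ Subgroup.center R) = 16
  scalar : ∀ r ∈ R, (∀ s ∈ R, r * s = s * r) → ∃ c : F, (r : M) = c • 1
  anti : ∀ r ∈ R, ∀ s ∈ R, r * s = s * r ∨ (r : M) * s = -((s : M) * r)

theorem isPauli_of [Finite (GL ι F)] (h2 : (2 : F) ≠ 0) (hn : Fintype.card ι = 4) (hs : Cfsg.Geo.IsSymplecticTypeGroup 2 R)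
    (hi : Cfsg.Geo.ActsAbsolutelyIrreducibly (Cfsg.Geo.matrixSet R))
    (hQ : Nat.card R = 16 * Nat.card (Subgroup.center R)) : IsPauli R := by
  have hscal : ∀ r ∈ R, (∀ s ∈ R, r * s = s * r) → ∃ c : F, (r : M) = c • 1 := fun r _ hc => hi.2 r (by
    rintro _ ⟨s, hs', rfl⟩
    exact congrArg Units.val (hc s hs'))
  refine ⟨h2, hn, ?_, hscal, fun r hr s hs' => ?_⟩
  · have h := Subgroup.card_eq_card_quotient_mul_card_subgroup (Subgroup.center R)
    rw [hQ] at h
    exact (Nat.mul_right_cancel Nat.card_pos h).symm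
  have h4 : ∀ q : R, q ^ 4 = 1 := fun q => by
    have := Monoid.pow_exponent_eq_one q
    rwa [hs.exponent_eq, Nat.gcd_self] at this
  obtain ⟨hc, hc2⟩ := S1774.comm_central (Q := R) ⟨hs.pGroup, hs.cyclic_of_characteristic⟩ h4 ⟨r, hr⟩ ⟨s, hs'⟩
  obtain ⟨c, hcs⟩ := hscal (⁅(⟨r, hr⟩ : R), ⟨s, hs'⟩⁆ : R) (SetLike.coe_mem _) (fun t ht =>
    (congrArg Subtype.val (Subgroup.mem_center_iff.1 hc ⟨t, ht⟩)).symm)
  have hcval : ((r * s * r⁻¹ * s⁻¹ : GL ι F) : M) = c • 1 := hcs
  have h1 : (r : M) * s = c • ((s : M) * r) := by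
    have h := congrArg (fun X : M => X * ((s * r : GL ι F) : M)) hcval
    rw [← Units.val_mul, show r * s * r⁻¹ * s⁻¹ * (s * r) = r * s by group, Units.val_mul, smul_mul_assoc, one_mul,
      Units.val_mul] at h
    exact h
  have h3 : c * c = 1 := by
    have h := congrArg (fun q : R => ((q : GL ι F) : M)) hc2
    simp only [Subgroup.coe_mul, Units.val_mul, Subgroup.coe_one, Units.val_one] at h
    rw [hcs] at h
    simp only [smul_mul_assoc, one_mul, smul_smul] at h
    haveI : Nonempty ι := Fintype.card_pos_iff.1 (by omega)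
    obtain ⟨i⟩ := ‹Nonempty ι›
    simpa using congrFun (congrFun h i) i
  rcases mul_self_eq_one_iff.1 h3 with rfl | rfl
  · exact Or.inl (Units.ext (by rw [Units.val_mul, Units.val_mul, h1, one_smul]))
  · exact Or.inr (by rw [h1, neg_one_smul])

/-- The representative of a coset. -/
noncomputable def rep (k : R ⧸ Subgroup.center R) : GL ι F := ((Quotient.out k : R) : GL ι F)

theorem rep_mem (k : R ⧸ Subgroup.center R) : rep k ∈ R := SetLike.coe_mem _

theorem mk_rep (k : R ⧸ Subgroup.center R) : QuotientGroup.mk (⟨rep k, rep_mem k⟩ : R) = k :=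
  Quotient.out_eq' k

theorem trace_sandwich (A B : M) :
    LinearMap.trace F M (LinearMap.mulLeft F A ∘ₗ LinearMap.mulRight F B) = Matrix.trace A * Matrix.trace B := by
  rw [LinearMap.trace_eq_matrix_trace F (Matrix.stdBasis F ι ι), Matrix.trace, Matrix.trace, Matrix.trace,
    Finset.sum_mul_sum, Fintype.sum_prod_type]
  refine Finset.sum_congr rfl fun i _ => Finset.sum_congr rfl fun j _ => ?_
  rw [Matrix.diag_apply, Matrix.diag_apply, Matrix.diag_apply, LinearMap.toMatrix_apply, Matrix.stdBasis_eq_single,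
    LinearMap.comp_apply, LinearMap.mulLeft_apply, LinearMap.mulRight_apply]
  simp [Matrix.stdBasis, Matrix.mul_apply, Matrix.single_apply, ite_and]

theorem iterate_eq_pow {α : Type*} (f : α → α) (n : ℕ) (a : α) :
    ((show Function.End α from f) ^ n) a = f^[n] a := by
  induction n with
  | zero => rfl
  | succ n ih =>
    rw [pow_succ', Function.iterate_succ_apply', ← ih]
    rfl

namespace IsPauli

variable (h : IsPauli R)
include h

theorem finiteQ : Finite (R ⧸ Subgroup.center R) := Nat.finite_of_card_ne_zero (by rw [h.index]; norm_num)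

theorem nonempty : Nonempty ι := Fintype.card_pos_iff.1 (by rw [h.card]; norm_num)

theorem four : (4 : F) ≠ 0 := by
  rw [show (4 : F) = 2 * 2 by norm_num]
  exact mul_ne_zero h.two h.two

theorem mk_eq_iff {r s : GL ι F} (hr : r ∈ R) (hs : s ∈ R) :
    (QuotientGroup.mk (⟨r, hr⟩ : R) : R ⧸ Subgroup.center R) = QuotientGroup.mk ⟨s, hs⟩ ↔
      ∃ c : F, (s : M) = c • (r : M) := by
  rw [QuotientGroup.eq, Subgroup.mem_center_iff]
  constructor
  · intro hz
    obtain ⟨c, hc⟩ := h.scalar (r⁻¹ * s) (mul_mem (inv_mem hr) hs) (fun t ht =>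
      (congrArg Subtype.val (hz ⟨t, ht⟩)).symm)
    refine ⟨c, ?_⟩
    have := congrArg (fun X : M => (r : M) * X) hc
    simpa only [← Units.val_mul, mul_inv_cancel_left, mul_smul_comm, mul_one] using this
  · rintro ⟨c, hc⟩ ⟨t, ht⟩
    have hz : ((r⁻¹ * s : GL ι F) : M) = c • 1 := by
      rw [Units.val_mul, hc, mul_smul_comm, ← Units.val_mul, inv_mul_cancel, Units.val_one]
    refine Subtype.ext (Units.ext ?_)
    show (t : M) * ((r⁻¹ * s : GL ι F) : M) = ((r⁻¹ * s : GL ι F) : M) * (t : M)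
    rw [hz, mul_smul_comm, mul_one, smul_mul_assoc, one_mul]

theorem exists_anti {r : GL ι F} (hr : r ∈ R) (hns : ∀ c : F, (r : M) ≠ c • 1) :
    ∃ s ∈ R, (r : M) * s = -((s : M) * r) := by
  by_contra hno
  push Not at hno
  obtain ⟨c, hc⟩ := h.scalar r hr fun s hs => (h.anti r hr s hs).resolve_right (hno s hs)
  exact hns c hc

theorem trace_eq_zero {r : GL ι F} (hr : r ∈ R) (hns : ∀ c : F, (r : M) ≠ c • 1) : Matrix.trace (r : M) = 0 := by
  obtain ⟨s, -, hs⟩ := h.exists_anti hr hns
  have h1 : Matrix.trace ((r : M) * (s : M) * ((s⁻¹ : GL ι F) : M)) = Matrix.trace (r : M) := by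
    rw [Units.mul_inv_cancel_right]
  rw [hs, neg_mul, Matrix.trace_neg, Matrix.trace_mul_comm, ← mul_assoc, Units.inv_mul, one_mul] at h1
  exact (mul_eq_zero.1 (show (2 : F) * Matrix.trace (r : M) = 0 by linear_combination -h1)).resolve_left h.two

theorem trace_coef (k l : R ⧸ Subgroup.center R) [Decidable (k = l)] :
    Matrix.trace (((rep k)⁻¹ : GL ι F) * (rep l : GL ι F) : M) = if k = l then 4 else 0 := by
  split_ifs with hkl
  · rw [hkl, Units.inv_mul, Matrix.trace_one, h.card, Nat.cast_ofNat]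
  · rw [← Units.val_mul]
    refine h.trace_eq_zero (mul_mem (inv_mem (rep_mem k)) (rep_mem l)) fun c hc => hkl ?_
    rw [← mk_rep k, ← mk_rep l, h.mk_eq_iff]
    refine ⟨c, ?_⟩
    have := congrArg (fun X : M => (rep k : M) * X) hc
    simpa only [← Units.val_mul, mul_inv_cancel_left, mul_smul_comm, mul_one] using this

theorem exists_basis : ∃ b : Basis (R ⧸ Subgroup.center R) F M, (∀ k, b k = (rep k : M)) ∧
    ∀ X k, b.repr X k = Matrix.trace (((rep k)⁻¹ : GL ι F) * X : M) / 4 := by
  classical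
  haveI := h.finiteQ
  haveI := Fintype.ofFinite (R ⧸ Subgroup.center R)
  haveI : Nonempty (R ⧸ Subgroup.center R) := ⟨1⟩
  let coef : (R ⧸ Subgroup.center R) → M →ₗ[F] F := fun k =>
    { toFun := fun X => Matrix.trace (((rep k)⁻¹ : GL ι F) * X : M) / 4
      map_add' := fun X Y => by rw [mul_add, Matrix.trace_add, add_div]
      map_smul' := fun c X => by rw [mul_smul_comm, Matrix.trace_smul, smul_eq_mul, mul_div_assoc]; rfl }
  have hc : ∀ k l, coef k (rep l : M) = if k = l then 1 else 0 := fun k l => by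
    show Matrix.trace (((rep k)⁻¹ : GL ι F) * (rep l : GL ι F) : M) / 4 = _
    rw [h.trace_coef]
    split_ifs <;> simp [h.four]
  have hli : LinearIndependent F fun k : R ⧸ Subgroup.center R => (rep k : M) := Fintype.linearIndependent_iff.2 fun g hg k => by
    have h1 := congrArg (coef k) hg
    simp only [map_sum, map_smul, hc, smul_eq_mul, mul_ite, mul_one, mul_zero, Finset.sum_ite_eq,
      Finset.mem_univ, if_true, map_zero] at h1
    exact h1
  let b := basisOfLinearIndependentOfCardEqFinrank hli (by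
    rw [Module.finrank_matrix, Module.finrank_self, h.card, ← Nat.card_eq_fintype_card, h.index])
  have hb : ∀ k, b k = (rep k : M) := fun k => by simp [b]
  refine ⟨b, hb, fun X k => ?_⟩
  have : b.coord k = coef k := b.ext fun l => by
    rw [Basis.coord_apply, Basis.repr_self, hb, hc, Finsupp.single_apply]
    simp only [eq_comm (a := l)]
  exact LinearMap.congr_fun this X

theorem exists_scalar_of_commute {x : GL ι F} (hx : ∀ k : R ⧸ Subgroup.center R, (x : M) * (rep k : M) = (rep k : M) * x) :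
    ∃ c : F, (x : M) = c • 1 := by
  obtain ⟨b, hb, -⟩ := h.exists_basis
  have hall : LinearMap.mulLeft F (x : M) = LinearMap.mulRight F (x : M) := b.ext fun k => by
    simp only [LinearMap.mulLeft_apply, LinearMap.mulRight_apply, hb, hx]
  have hcom : Pairwise fun i j => Commute (Matrix.single i j (1 : F)) (x : M) := fun i j _ =>
    (LinearMap.congr_fun hall (Matrix.single i j 1)).symm
  obtain ⟨c, hc⟩ := Matrix.mem_range_scalar_of_commute_single hcom
  exact ⟨c, by rw [← hc, Matrix.scalar_apply, Matrix.smul_one_eq_diagonal]⟩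

end IsPauli

variable {x : GL ι F}

theorem conj_mem (hx : x ∈ Cfsg.Geo.subgroupNormalizer R) {r : GL ι F} (hr : r ∈ R) : x * r * x⁻¹ ∈ R :=
  (Subgroup.mem_normalizer_iff.1 hx r).1 hr

/-- The action on the cosets. -/
noncomputable def perm (hx : x ∈ Cfsg.Geo.subgroupNormalizer R) (k : R ⧸ Subgroup.center R) :
    R ⧸ Subgroup.center R := QuotientGroup.mk ⟨x * rep k * x⁻¹, conj_mem hx (rep_mem k)⟩

namespace IsPauli

variable (h : IsPauli R)
include h

theorem perm_mk (hx : x ∈ Cfsg.Geo.subgroupNormalizer R) {r : GL ι F} (hr : r ∈ R) :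
    perm hx (QuotientGroup.mk ⟨r, hr⟩) = QuotientGroup.mk ⟨x * r * x⁻¹, conj_mem hx hr⟩ := by
  obtain ⟨c, hc⟩ := (h.mk_eq_iff (rep_mem _) hr).1 (mk_rep (QuotientGroup.mk (⟨r, hr⟩ : R)))
  rw [perm, h.mk_eq_iff]
  exact ⟨c, by simp only [Units.val_mul, hc, mul_smul_comm, smul_mul_assoc]⟩

theorem perm_iterate (hx : x ∈ Cfsg.Geo.subgroupNormalizer R) (n : ℕ) {r : GL ι F} (hr : r ∈ R) :
    ∃ hm, (perm hx)^[n] (QuotientGroup.mk ⟨r, hr⟩) = QuotientGroup.mk ⟨x ^ n * r * (x ^ n)⁻¹, hm⟩ := by
  induction n with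
  | zero => exact ⟨by simpa using hr, by simp⟩
  | succ n ih =>
    obtain ⟨hm, hn⟩ := ih
    refine ⟨?_, ?_⟩
    · have := conj_mem hx hm
      rwa [show x ^ (n + 1) * r * (x ^ (n + 1))⁻¹ = x * (x ^ n * r * (x ^ n)⁻¹) * x⁻¹ by
        rw [pow_succ']; group]
    · rw [Function.iterate_succ_apply', hn, h.perm_mk hx hm]
      congr 1
      exact Subtype.ext (by simp only; rw [pow_succ']; group)

theorem perm_pow (hx : x ∈ Cfsg.Geo.subgroupNormalizer R) {n : ℕ} {c : F} (hn : ((x ^ n : GL ι F) : M) = c • 1)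
    (k : R ⧸ Subgroup.center R) : (perm hx)^[n] k = k := by
  obtain ⟨hm, hk⟩ := h.perm_iterate hx n (rep_mem k)
  rw [mk_rep] at hk
  conv_rhs => rw [← mk_rep k]
  rw [hk, h.mk_eq_iff]
  refine ⟨1, ?_⟩
  rw [one_smul]
  refine congrArg Units.val (?_ : rep k = x ^ n * rep k * (x ^ n)⁻¹)
  rw [eq_mul_inv_iff_mul_eq]
  refine Units.ext ?_
  rw [Units.val_mul, Units.val_mul, hn, mul_smul_comm, mul_one, smul_mul_assoc, one_mul]

theorem commute_of_fixed (hx : x ∈ Cfsg.Geo.subgroupNormalizer R) {n : ℕ} (hodd : Odd n) {c : F}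
    (hn : ((x ^ n : GL ι F) : M) = c • 1) {k : R ⧸ Subgroup.center R} (hk : perm hx k = k) :
    (x : M) * (rep k : M) = (rep k : M) * x := by
  conv_rhs at hk => rw [← mk_rep k]
  obtain ⟨d, hd⟩ := (h.mk_eq_iff _ _).1 hk.symm
  set r := rep k with hr
  have hxr : (x : M) * r = d • ((r : M) * x) := by
    have h1 := congrArg (fun X : M => X * (x : M)) hd
    simpa only [Units.val_mul, Units.inv_mul_cancel_right, smul_mul_assoc] using h1
  have hpow : ∀ m : ℕ, ((x ^ m : GL ι F) : M) * r = d ^ m • ((r : M) * ((x ^ m : GL ι F) : M)) := by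
    intro m
    induction m with
    | zero => simp
    | succ m ih =>
      rw [pow_succ, Units.val_mul, mul_assoc, hxr, mul_smul_comm, ← mul_assoc, ih, smul_mul_assoc, smul_smul,
        ← pow_succ', mul_assoc]
  have hdn : d ^ n = 1 := by
    have h1 := hpow n
    rw [hn, smul_mul_assoc, one_mul, mul_smul_comm, mul_one, smul_smul] at h1
    have hc0 : c ≠ 0 := fun e => by
      haveI := h.nonempty
      rw [e, zero_smul] at hn
      exact (x ^ n).ne_zero hn
    have hr0 : (r : M) ≠ 0 := by haveI := h.nonempty; exact r.ne_zero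
    have h2 := smul_left_injective F hr0 h1
    exact mul_right_cancel₀ hc0 (by rw [one_mul]; exact h2.symm)
  have hd2 : d * d = 1 := by
    haveI := h.nonempty
    -- the square of a representative commutes with everything
    obtain ⟨e, he⟩ := h.scalar (r * r) (mul_mem (rep_mem k) (rep_mem k)) fun s hs => by
      refine Units.ext ?_
      rcases h.anti r (rep_mem k) s hs with e | e
      · rw [mul_assoc, e, ← mul_assoc, e, mul_assoc]
      · simp only [Units.val_mul]
        rw [mul_assoc, e, mul_neg, ← mul_assoc, e, neg_mul, neg_neg, mul_assoc]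
    have h1 : (x : M) * ((r : M) * r) = (d * d) • (((r : M) * r) * x) := by
      rw [← mul_assoc, hxr, smul_mul_assoc, mul_assoc, hxr, mul_smul_comm, smul_smul, mul_assoc]
    rw [← Units.val_mul r r, he, mul_smul_comm, mul_one, smul_mul_assoc, one_mul, smul_smul] at h1
    have he0 : e ≠ 0 := fun e0 => by
      rw [e0, zero_smul] at he
      exact (r * r).ne_zero he
    exact mul_right_cancel₀ he0 (by rw [one_mul]; exact (smul_left_injective F x.ne_zero h1).symm)
  obtain ⟨m, rfl⟩ := hodd
  rw [pow_add, pow_mul, pow_two, hd2, one_pow, one_mul, pow_one] at hdn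
  rw [hxr, hdn, one_smul]

theorem fixed_of_commute (hx : x ∈ Cfsg.Geo.subgroupNormalizer R) {r : GL ι F} (hr : r ∈ R) (hc : x * r = r * x) :
    perm hx (QuotientGroup.mk ⟨r, hr⟩) = QuotientGroup.mk ⟨r, hr⟩ := by
  rw [h.perm_mk hx hr]
  congr 1
  exact Subtype.ext (show x * r * x⁻¹ = r by rw [hc, mul_inv_cancel_right])

theorem trace_mul_trace (hx : x ∈ Cfsg.Geo.subgroupNormalizer R) {n : ℕ} (hodd : Odd n) {c : F}
    (hn : ((x ^ n : GL ι F) : M) = c • 1) :
    Matrix.trace (x : M) * Matrix.trace ((x⁻¹ : GL ι F) : M) = (Nat.card {k // perm hx k = k} : F) := by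
  classical
  haveI := h.finiteQ
  haveI := Fintype.ofFinite (R ⧸ Subgroup.center R)
  obtain ⟨b, hb, hrepr⟩ := h.exists_basis
  let T : Module.End F M := LinearMap.mulLeft F (x : M) ∘ₗ LinearMap.mulRight F ((x⁻¹ : GL ι F) : M)
  have hT1 : LinearMap.trace F M T = Matrix.trace (x : M) * Matrix.trace ((x⁻¹ : GL ι F) : M) := trace_sandwich _ _
  rw [← hT1, LinearMap.trace_eq_matrix_trace F b, Matrix.trace, Nat.card_eq_fintype_card,
    Fintype.card_subtype, ← Finset.sum_boole]
  refine Finset.sum_congr rfl fun k _ => ?_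
  rw [Matrix.diag_apply, LinearMap.toMatrix_apply, hb, hrepr]
  have hTk : T (rep k : M) = ((x * rep k * x⁻¹ : GL ι F) : M) := by
    simp [T, mul_assoc]
  rw [hTk]
  split_ifs with hk
  · have h1 : ((x * rep k * x⁻¹ : GL ι F) : M) = (rep k : M) := by
      rw [Units.val_mul, Units.val_mul, h.commute_of_fixed hx hodd hn hk, Units.mul_inv_cancel_right]
    rw [h1, Units.inv_mul, Matrix.trace_one, h.card, Nat.cast_ofNat, div_self h.four]
  · rw [div_eq_zero_iff]
    left
    rw [← Units.val_mul]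
    refine h.trace_eq_zero (mul_mem (inv_mem (rep_mem k)) (conj_mem hx (rep_mem k))) fun e he => hk ?_
    conv_rhs => rw [← mk_rep k]
    rw [perm, eq_comm, h.mk_eq_iff]
    refine ⟨e, ?_⟩
    have := congrArg (fun X : M => (rep k : M) * X) he
    simpa only [← Units.val_mul, mul_inv_cancel_left, mul_smul_comm, mul_one] using this

theorem card_fixed_dvd (hx : x ∈ Cfsg.Geo.subgroupNormalizer R) : Nat.card {k // perm hx k = k} ∣ 16 := by
  haveI := h.finiteQ
  have hm : ∀ k l : R ⧸ Subgroup.center R, perm hx (k * l) = perm hx k * perm hx l := fun k l => by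
    rw [← mk_rep k, ← mk_rep l, ← QuotientGroup.mk_mul, ← QuotientGroup.mk'_apply]
    show perm hx (QuotientGroup.mk (⟨rep k * rep l, mul_mem (rep_mem k) (rep_mem l)⟩ : R)) = _
    rw [h.perm_mk hx, h.perm_mk hx, h.perm_mk hx, ← QuotientGroup.mk_mul]
    congr 1
    exact Subtype.ext (show x * (rep k * rep l) * x⁻¹ = x * rep k * x⁻¹ * (x * rep l * x⁻¹) by group)
  let f : (R ⧸ Subgroup.center R) →* (R ⧸ Subgroup.center R) := MonoidHom.mk' (perm hx) hm
  rw [← h.index]
  exact Subgroup.card_subgroup_dvd_card (f.eqLocus (MonoidHom.id _))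

theorem card_fixed_modEq (hx : x ∈ Cfsg.Geo.subgroupNormalizer R) {r : ℕ} [Fact r.Prime] {c : F}
    (hr : ((x ^ r : GL ι F) : M) = c • 1) : 16 ≡ Nat.card {k // perm hx k = k} [MOD r] := by
  classical
  haveI := h.finiteQ
  haveI := Fintype.ofFinite (R ⧸ Subgroup.center R)
  have := Equiv.Perm.card_fixedPoints_modEq (f := (perm hx : Function.End (R ⧸ Subgroup.center R))) (p := r) (n := 1) (by
    rw [pow_one]
    funext k
    exact (iterate_eq_pow (perm hx) r k).trans (h.perm_pow hx hr k))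
  rw [← Nat.card_eq_fintype_card, h.index, ← Nat.card_eq_fintype_card] at this
  exact this

end IsPauli

end Cfsg.Agent.Pauli
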