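import Cfsg.Agent.Lib.TransvMax.PauliFour

/-!
Five anticommuting involutions in a group of symplectic type, and what normalises the group.
-/

set_option autoImplicit false
set_option linter.unusedSectionVars false

namespace Cfsg.Agent.Pauli

open Cfsg.Agent Module
open scoped Matrix

variable {F : Type*} [Field F] {ι : Type} [Fintype ι] [DecidableEq ι] {R : Subgroup (GL ι F)} {x : GL ι F}

local notation "M" => Matrix ι ι F

namespace IsPauli

variable (h : IsPauli R)
include h

/-- Elements of odd prime order normalising the group. -/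
theorem fixed_cases (hx : x ∈ Cfsg.Geo.subgroupNormalizer R) (hns : ∀ c : F, (x : M) ≠ c • 1) {r : ℕ} [Fact r.Prime]
    (hr2 : r ≠ 2) {c : F} (hr : ((x ^ r : GL ι F) : M) = c • 1) :
    (r = 3 ∧ (Nat.card {k // perm hx k = k} = 1 ∨ Nat.card {k // perm hx k = k} = 4)) ∨
      (r = 5 ∧ Nat.card {k // perm hx k = k} = 1) := by
  classical
  haveI := h.finiteQ
  haveI := Fintype.ofFinite (R ⧸ Subgroup.center R)
  have hrp := (Fact.out : r.Prime)
  have hodd := hrp.odd_of_ne_two hr2
  have hd := h.card_fixed_dvd hx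
  have hm := h.card_fixed_modEq hx hr
  set C := Nat.card {k // perm hx k = k} with hC
  have hle : C ≤ 16 := Nat.le_of_dvd (by norm_num) hd
  have h16 : C ≠ 16 := fun e => by
    have hall : ∀ k, perm hx k = k := by
      by_contra hno
      push Not at hno
      obtain ⟨k, hk⟩ := hno
      have := Fintype.card_subtype_lt (p := fun k => perm hx k = k) hk
      rw [← Nat.card_eq_fintype_card, ← Nat.card_eq_fintype_card, h.index, ← hC, e] at this
      exact lt_irrefl _ this
    obtain ⟨d, hd⟩ := h.exists_scalar_of_commute fun k => h.commute_of_fixed hx hodd hr (hall k)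
    exact hns d hd
  have hpos : 0 < C := Nat.pos_of_ne_zero fun e => by rw [e] at hd; simp at hd
  have hdv : r ∣ 16 - C := (Nat.modEq_iff_dvd' hle).1 hm.symm
  have hr16 : r ≤ 16 - C := Nat.le_of_dvd (by omega) hdv
  by_cases h72 : r = 7 ∧ C = 2
  · exfalso
    obtain ⟨rfl, hC2⟩ := h72
    -- a fixed coset of an element that is not scalar
    have hone : perm hx 1 = 1 := by
      show perm hx (QuotientGroup.mk (⟨1, one_mem R⟩ : R)) = _
      rw [h.perm_mk hx]
      congr 1
      exact Subtype.ext (by simp)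
    obtain ⟨⟨v, hv⟩, hv1⟩ : ∃ v : {k // perm hx k = k}, v.1 ≠ 1 := by
      by_contra hno
      push Not at hno
      have : Nat.card {k // perm hx k = k} ≤ Nat.card Unit := Nat.card_le_card_of_injective (fun _ => ())
        fun a b _ => Subtype.ext ((hno a).trans (hno b).symm)
      rw [← hC, hC2, Nat.card_unique] at this
      omega
    have hvns : ∀ e : F, (rep v : M) ≠ e • 1 := fun e he => hv1 (by
      show v = QuotientGroup.mk (⟨1, one_mem R⟩ : R)
      rw [← mk_rep v, eq_comm, h.mk_eq_iff]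
      exact ⟨e, by rw [he, Units.val_one]⟩)
    obtain ⟨s, hs, hsv⟩ := h.exists_anti (rep_mem v) hvns
    let Cm := {k : R ⧸ Subgroup.center R // (rep k : M) * rep v = rep v * rep k}
    have hcomm : ∀ {t : GL ι F} (ht : t ∈ R), ((rep (QuotientGroup.mk ⟨t, ht⟩ : R ⧸ Subgroup.center R) : M) * rep v =
        rep v * rep (QuotientGroup.mk ⟨t, ht⟩ : R ⧸ Subgroup.center R)) ↔ (t : M) * rep v = rep v * t := fun {t} ht => by
      obtain ⟨d, hd⟩ := (h.mk_eq_iff (rep_mem _) ht).1 (mk_rep (QuotientGroup.mk (⟨t, ht⟩ : R)))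
      have hd0 : d ≠ 0 := fun e => by haveI := h.nonempty; rw [e, zero_smul] at hd; exact t.ne_zero hd
      rw [hd, smul_mul_assoc, mul_smul_comm]
      exact ⟨fun e => by rw [e], fun e => smul_right_injective _ hd0 e⟩
    let S : R ⧸ Subgroup.center R := QuotientGroup.mk ⟨s, hs⟩
    have hswap : ∀ k : R ⧸ Subgroup.center R,
        (rep (k * S) : M) * rep v = rep v * rep (k * S) ↔ ¬ ((rep k : M) * rep v = rep v * rep k) := by
      intro k
      have hk : k * S = QuotientGroup.mk (⟨rep k * s, mul_mem (rep_mem k) hs⟩ : R) := by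
        conv_lhs => rw [← mk_rep k]
        rw [← QuotientGroup.mk_mul]
        rfl
      rw [hk, hcomm, Units.val_mul]
      have hs0 : IsUnit (s : M) := s.isUnit
      have e1 : (s : M) * rep v = -((rep v : M) * s) := by rw [hsv, neg_neg]
      rw [mul_assoc, e1, mul_neg, ← mul_assoc, ← mul_assoc]
      rcases h.anti _ (rep_mem k) _ (rep_mem v) with e | e
      · have e' : (rep k : M) * rep v = rep v * rep k := congrArg Units.val e
        rw [e']
        refine iff_of_false (fun e2 => ?_) (not_not.2 rfl)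
        haveI := h.nonempty
        refine (rep v * rep k * s).ne_zero (smul_right_injective M h.two ?_)
        simp only [Units.val_mul, smul_zero, two_smul]
        linear_combination (norm := abel) (-(1 : ℤ)) • e2
      · refine iff_of_true (by rw [e, neg_mul, neg_neg]) fun e2 => ?_
        haveI := h.nonempty
        refine (rep v * rep k).ne_zero (smul_right_injective M h.two ?_)
        simp only [Units.val_mul, smul_zero, two_smul]
        linear_combination (norm := abel) e - e2
    have h8 : Nat.card Cm = 8 := by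
      have h1 := Fintype.card_congr (Equiv.subtypeEquiv (Equiv.mulRight S) (p := fun k : R ⧸ Subgroup.center R => ¬ ((rep k : M) * rep v = rep v * rep k))
        (q := fun k : R ⧸ Subgroup.center R => (rep k : M) * rep v = rep v * rep k) fun k => (hswap k).symm)
      rw [Fintype.card_subtype_compl, ← Nat.card_eq_fintype_card (α := R ⧸ Subgroup.center R), h.index] at h1
      simp only [Cm]
      rw [Nat.card_eq_fintype_card]
      omega
    have hmap : ∀ k : R ⧸ Subgroup.center R, (rep k : M) * rep v = rep v * rep k →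
        (rep (perm hx k) : M) * rep v = rep v * rep (perm hx k) := fun k hk => by
      rw [perm, hcomm]
      have hxv := h.commute_of_fixed hx hodd hr hv
      have hxv' : ((x⁻¹ : GL ι F) : M) * rep v = rep v * ((x⁻¹ : GL ι F) : M) := by
        rw [← Units.val_mul, ← Units.val_mul]
        exact congrArg Units.val (Commute.inv_left (show x * rep v = rep v * x from Units.ext hxv)).eq
      simp only [Units.val_mul]
      rw [mul_assoc, hxv', ← mul_assoc, mul_assoc (x : M), hk, ← mul_assoc, hxv, mul_assoc, mul_assoc, mul_assoc]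
    haveI : Finite Cm := inferInstance
    haveI := Fintype.ofFinite Cm
    let f : Function.End Cm := fun k => ⟨perm hx k.1, hmap _ k.2⟩
    have hval : ∀ (n : ℕ) (k : Cm), ((f^[n]) k).1 = (perm hx)^[n] k.1 := by
      intro n
      induction n with
      | zero => intro k; rfl
      | succ n ih => intro k; rw [Function.iterate_succ_apply', Function.iterate_succ_apply', ← ih]
    have h2 := Equiv.Perm.card_fixedPoints_modEq (f := f) (p := 7) (n := 1) (by
      rw [pow_one]
      funext k
      refine (iterate_eq_pow f 7 k).trans (Subtype.ext ?_)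
      rw [hval]
      exact h.perm_pow hx hr k.1)
    rw [← Nat.card_eq_fintype_card, ← Nat.card_eq_fintype_card, h8] at h2
    have hfix : Nat.card (Function.fixedPoints f) ≤ 2 := hC2 ▸ Nat.card_le_card_of_injective
      (fun k : Function.fixedPoints f => (⟨k.1.1, congrArg Subtype.val k.2⟩ : {k // perm hx k = k}))
      (fun a b e => Subtype.ext (Subtype.ext (congrArg (fun z : {k // perm hx k = k} => z.1) e)))
    have hfix1 : 2 ≤ Nat.card (Function.fixedPoints f) := by
      haveI := Fintype.ofFinite (Function.fixedPoints f)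
      rw [Nat.card_eq_fintype_card]
      refine Fintype.one_lt_card_iff.2 ⟨⟨⟨1, ?_⟩, Subtype.ext hone⟩, ⟨⟨v, ?_⟩, Subtype.ext hv⟩, fun e => hv1
        (congrArg (fun k : Function.fixedPoints f => k.1.1) e).symm⟩
      · show (rep (QuotientGroup.mk (⟨1, one_mem R⟩ : R)) : M) * rep v = _
        exact (hcomm (one_mem R)).2 (by rw [Units.val_one, one_mul, mul_one])
      · rfl
    rw [Nat.ModEq] at h2
    omega
  have hC' : C = 1 ∨ C = 2 ∨ C = 4 ∨ C = 8 := by
    have h1 : C ∈ Nat.divisors 16 := Nat.mem_divisors.2 ⟨hd, by norm_num⟩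
    have h' : Nat.divisors 16 = {1, 2, 4, 8, 16} := by decide
    rw [h'] at h1
    simp only [Finset.mem_insert, Finset.mem_singleton] at h1
    omega
  have hr15 : r ≤ 15 := by omega
  have h2 := hrp.two_le
  rcases hC' with e | e | e | e <;> rw [e] at hdv h72 ⊢ <;> interval_cases r <;>
    first | omega | exact absurd hrp (by norm_num)

/-- No transvection normalises the group. -/
theorem false_of_transvection (hx : x ∈ Cfsg.Geo.subgroupNormalizer R) {r : ℕ} [Fact r.Prime] [CharP F r] (hr2 : r ≠ 2)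
    (u φ : ι → F) (hN : (x : M) = 1 + Matrix.vecMulVec u φ) (hnil : Matrix.vecMulVec u φ * Matrix.vecMulVec u φ = 0)
    (hne : Matrix.vecMulVec u φ ≠ 0) : False := by
  classical
  haveI := h.finiteQ
  haveI := Fintype.ofFinite (R ⧸ Subgroup.center R)
  haveI := h.nonempty
  set N := Matrix.vecMulVec u φ with hNdef
  have hxinv : ((x⁻¹ : GL ι F) : M) = 1 - N := by
    refine (Units.inv_eq_of_mul_eq_one_right ?_)
    rw [hN, add_mul, one_mul, mul_sub, mul_one, hnil, sub_zero, sub_add_cancel]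
  have hpow : ∀ k : ℕ, ((x ^ k : GL ι F) : M) = 1 + (k : F) • N := by
    intro k
    induction k with
    | zero => simp
    | succ k ih =>
      rw [pow_succ, Units.val_mul, ih, hN, add_mul, one_mul, smul_mul_assoc, mul_add, mul_one, hnil, add_zero,
        Nat.cast_succ, add_smul, one_smul]
      abel
  have hxr : ((x ^ r : GL ι F) : M) = (1 : F) • 1 := by rw [hpow, CharP.cast_eq_zero, zero_smul, add_zero, one_smul]
  have hodd := (Fact.out : r.Prime).odd_of_ne_two hr2
  have hns : ∀ c : F, (x : M) ≠ c • 1 := fun c hc => by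
    have e : N = (c - 1) • 1 := by rw [sub_smul, one_smul, ← hc, hN, add_sub_cancel_left]
    have h0 := hnil
    rw [e, smul_mul_assoc, one_mul, smul_smul] at h0
    obtain ⟨i⟩ := ‹Nonempty ι›
    have h1 : (c - 1) * (c - 1) = 0 := by simpa using congrFun (congrFun h0 i) i
    rw [mul_self_eq_zero.1 h1, zero_smul] at e
    exact hne e
  have hC : Nat.card {k // perm hx k = k} ≤ 8 := by
    rcases h.fixed_cases hx hns hr2 hxr with ⟨-, e | e⟩ | ⟨-, e⟩ <;> omega
  set π := perm hx with hπ
  have hpi : ∀ k, π^[r] k = k := h.perm_pow hx hxr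
  obtain ⟨k₁, hk₁⟩ : ∃ k, π k ≠ k := by
    by_contra hno
    push Not at hno
    have : Nat.card {k // π k = k} = 16 := by
      rw [← h.index]; exact Nat.card_congr (Equiv.subtypeUnivEquiv hno)
    omega
  obtain ⟨k₂, hmv₂, hk₂, hk₂'⟩ : ∃ k₂, π k₂ ≠ k₂ ∧ k₁ ≠ k₂ ∧ π k₁ ≠ k₂ ∧ π (π k₁) ≠ k₂ := by
    by_contra hno
    push Not at hno
    have hsub : (Finset.univ : Finset (R ⧸ Subgroup.center R)) ⊆
        (Finset.univ.filter fun k => π k = k) ∪ {k₁, π k₁, π (π k₁)} := fun k _ => by
      simp only [Finset.mem_union, Finset.mem_filter, Finset.mem_univ, true_and, Finset.mem_insert, Finset.mem_singleton]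
      by_contra hk
      push Not at hk
      exact hk.2.2.2 (hno k hk.1 hk.2.1.symm hk.2.2.1.symm).symm
    have h1 := (Finset.card_le_card hsub).trans (Finset.card_union_le _ _)
    rw [Finset.card_univ, ← Nat.card_eq_fintype_card, h.index, ← Fintype.card_subtype, ← Nat.card_eq_fintype_card] at h1
    have h3 := Finset.card_le_three (a := k₁) (b := π k₁) (c := π (π k₁))
    omega
  -- the second difference of the conjugation
  let T : M → M := fun X => (x : M) * X * ((x⁻¹ : GL ι F) : M)
  let D : R ⧸ Subgroup.center R → M := fun k => T (T (rep k)) - (2 : F) • T (rep k) + (rep k : M)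
  have hD : ∀ k, ∃ t : F, D k = t • N := fun k => by
    refine ⟨-2 * ((φ ᵥ* (rep k : M)) ⬝ᵥ u), ?_⟩
    have e : N * (rep k : M) * N = ((φ ᵥ* (rep k : M)) ⬝ᵥ u) • N := by
      rw [hNdef, Matrix.vecMulVec_mul, Matrix.vecMulVec_mul_vecMulVec]
      simp [Matrix.vecMulVec_smul]
    rw [neg_mul, neg_smul, ← smul_smul, ← e]
    have h2 : ∀ X : M, (1 + N) * X * (1 - N) = X + N * X - X * N - N * X * N := fun X => by noncomm_ring
    simp only [D, T, hxinv, hN, h2]
    have n1 : ∀ X : M, N * (N * X) = 0 := fun X => by rw [← mul_assoc, hnil, zero_mul]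
    have n2 : ∀ X : M, X * N * N = 0 := fun X => by rw [mul_assoc, hnil, mul_zero]
    simp only [mul_add, add_mul, mul_sub, sub_mul, mul_assoc, hnil, n1, mul_zero, zero_mul, two_smul]
    abel
  have hzero : ∀ (l : R ⧸ Subgroup.center R) {t : GL ι F} (ht : t ∈ R), QuotientGroup.mk (⟨t, ht⟩ : R) ≠ l →
      Matrix.trace (((rep l)⁻¹ : GL ι F) * (t : M) : M) = 0 := fun l t ht hne => by
    rw [← Units.val_mul]
    refine h.trace_eq_zero (mul_mem (inv_mem (rep_mem l)) ht) fun e he => hne ?_
    conv_rhs => rw [← mk_rep l]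
    rw [eq_comm, h.mk_eq_iff]
    refine ⟨e, ?_⟩
    have := congrArg (fun X : M => (rep l : M) * X) he
    simpa only [← Units.val_mul, mul_inv_cancel_left, mul_smul_comm, mul_one] using this
  have hcoef : ∀ k l, π k ≠ l → π (π k) ≠ l →
      Matrix.trace (((rep l)⁻¹ : GL ι F) * D k : M) = if l = k then 4 else 0 := fun k l h1 h2 => by
    simp only [D, mul_add, mul_sub, mul_smul_comm, Matrix.trace_add, Matrix.trace_sub, Matrix.trace_smul, smul_eq_mul]
    rw [h.trace_coef, show T (rep k : M) = ((x * rep k * x⁻¹ : GL ι F) : M) from rfl,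
      show T ((x * rep k * x⁻¹ : GL ι F) : M) = ((x * (x * rep k * x⁻¹) * x⁻¹ : GL ι F) : M) from rfl,
      hzero l (conj_mem hx (rep_mem k)) h1, hzero l (conj_mem hx (conj_mem hx (rep_mem k)))
        (by rw [← h.perm_mk hx (conj_mem hx (rep_mem k))]; exact h2), mul_zero, sub_zero, zero_add]
  obtain ⟨α, hα⟩ := hD k₁
  obtain ⟨β, hβ⟩ := hD k₂
  have h31 : π (π k₁) ≠ k₁ := fun e => hk₁ (by
    obtain ⟨m, hm⟩ := hodd
    have h1 := hpi k₁
    rw [hm, Function.iterate_add_apply, Function.iterate_mul] at h1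
    have hfix : Function.IsFixedPt (π^[2]) (π k₁) := by
      show π (π (π k₁)) = π k₁
      rw [e]
    rw [Function.iterate_one, (hfix.iterate m).eq] at h1
    exact h1)
  have e11 := hcoef k₁ k₁ hk₁ h31
  rw [hα, if_pos rfl, mul_smul_comm, Matrix.trace_smul, smul_eq_mul] at e11
  have e12 := hcoef k₁ k₂ hk₂'.1 hk₂'.2
  rw [hα, if_neg hk₂.symm, mul_smul_comm, Matrix.trace_smul, smul_eq_mul] at e12
  have hα0 : α ≠ 0 := fun e => by rw [e, zero_mul] at e11; exact h.four e11.symm
  have ht0 := (mul_eq_zero.1 e12).resolve_left hα0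
  have h3 : π k₂ ≠ k₂ ∧ π (π k₂) ≠ k₂ := by
    have hmv : π k₂ ≠ k₂ := hmv₂
    refine ⟨hmv, fun e => hmv ?_⟩
    obtain ⟨m, hm⟩ := hodd
    have h1 := hpi k₂
    rw [hm, Function.iterate_add_apply, Function.iterate_mul] at h1
    have hfix : Function.IsFixedPt (π^[2]) (π k₂) := by
      show π (π (π k₂)) = π k₂
      rw [e]
    rw [Function.iterate_one, (hfix.iterate m).eq] at h1
    exact h1
  have e22 := hcoef k₂ k₂ h3.1 h3.2
  rw [hβ, if_pos rfl, mul_smul_comm, Matrix.trace_smul, smul_eq_mul, ht0, mul_zero] at e22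
  exact h.four e22.symm

end IsPauli

/-- Five pairwise anticommuting involutions. -/
structure IsGamma (R : Subgroup (GL ι F)) (a : Fin 5 → GL ι F) : Prop where
  mem : ∀ i, a i ∈ R
  sq : ∀ i, a i * a i = 1
  anti : ∀ i j, i ≠ j → (a i : M) * a j = -((a j : M) * a i)

/-- `-1` or `1`. -/
def sg (p : Bool) : F := if p then -1 else 1

theorem sg_mul (p q : Bool) : (sg p : F) * sg q = sg (xor p q) := by cases p <;> cases q <;> simp [sg]

theorem sg_inj (h2 : (2 : F) ≠ 0) {p q : Bool} (e : (sg p : F) = sg q) : p = q := by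
  cases p <;> cases q <;> simp [sg] at e ⊢
  all_goals exact h2 (by first | linear_combination e | linear_combination -e)

/-- `t` or `1`. -/
def pw (b : Bool) (t : GL ι F) : GL ι F := if b then t else 1

/-- Products of the first four. -/
def word (a : Fin 5 → GL ι F) (e : Fin 4 → Bool) : GL ι F :=
  pw (e 0) (a 0) * pw (e 1) (a 1) * pw (e 2) (a 2) * pw (e 3) (a 3)

/-- How products of the first four commute with the five. -/
def pat (e : Fin 4 → Bool) (k : Fin 5) : Bool :=
  xor (xor (xor (e 0 && decide (k ≠ 0)) (e 1 && decide (k ≠ 1))) (e 2 && decide (k ≠ 2))) (e 3 && decide (k ≠ 3))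

/-- The sign of the square of a product. -/
def sqb (e : Fin 4 → Bool) : Bool :=
  xor (xor (e 1 && e 0) (e 2 && xor (e 0) (e 1))) (e 3 && xor (xor (e 0) (e 1)) (e 2))

theorem pat_inj : ∀ e e' : Fin 4 → Bool, (∀ k : Fin 4, pat e k.castSucc = pat e' k.castSucc) → e = e' := by decide

theorem sqb_cases : ∀ e : Fin 4 → Bool, sqb e = false →
    e = (fun _ => false) ∨ ∃ k : Fin 5, ∀ j : Fin 4, pat e j.castSucc = decide (k ≠ j.castSucc) := by decide

theorem step_comm {X Y A : M} {p q : Bool} (h1 : X * A = (sg p : F) • (A * X)) (h2 : Y * A = (sg q : F) • (A * Y)) :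
    X * Y * A = (sg (xor p q) : F) • (A * (X * Y)) := by
  rw [mul_assoc, h2, mul_smul_comm, ← mul_assoc, h1, smul_mul_assoc, smul_smul, sg_mul, Bool.xor_comm q p, mul_assoc]

theorem step_sq {X Y : M} {p q c : Bool} (hX : X * X = (sg p : F) • 1) (hY : Y * Y = (sg q : F) • 1)
    (hc : X * Y = (sg c : F) • (Y * X)) : X * Y * (X * Y) = (sg (xor (xor p q) c) : F) • 1 := by
  have hc' : Y * X = (sg c : F) • (X * Y) := by
    rw [hc, smul_smul, sg_mul, Bool.xor_self]
    simp [sg]
  calc X * Y * (X * Y) = X * (Y * X) * Y := by simp only [mul_assoc]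
    _ = (sg c : F) • (X * X * (Y * Y)) := by rw [hc', mul_smul_comm, smul_mul_assoc]; simp only [mul_assoc]
    _ = _ := by rw [hX, hY, mul_smul_comm, mul_one, smul_smul, smul_smul, sg_mul, sg_mul]; congr 2; cases p <;> cases q <;> cases c <;> rfl

variable {a : Fin 5 → GL ι F}

namespace IsGamma

variable (ha : IsGamma R a)
include ha

theorem pw_comm (b : Bool) (j k : Fin 5) :
    (pw b (a j) : M) * a k = (sg (b && decide (k ≠ j)) : F) • ((a k : M) * pw b (a j)) := by
  cases b
  · simp [pw, sg]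
  · rcases eq_or_ne k j with rfl | hk
    · simp [pw, sg]
    · simp [pw, sg, hk, ha.anti j k hk.symm]

theorem word_comm (e : Fin 4 → Bool) (k : Fin 5) :
    (word a e : M) * a k = (sg (pat e k) : F) • ((a k : M) * word a e) := by
  simp only [word, Units.val_mul]
  exact step_comm (step_comm (step_comm (ha.pw_comm _ 0 k) (ha.pw_comm _ 1 k)) (ha.pw_comm _ 2 k)) (ha.pw_comm _ 3 k)

theorem pw_sq (b : Bool) (j : Fin 5) : (pw b (a j) : M) * pw b (a j) = (sg false : F) • 1 := by
  rw [← Units.val_mul]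
  cases b <;> simp [pw, sg, ha.sq]

theorem word_sq (e : Fin 4 → Bool) : (word a e : M) * word a e = (sg (sqb e) : F) • 1 := by
  have hx : ∀ (b : Bool) (j : Fin 5) (X : M) (p : Bool), X * (a j : M) = (sg p : F) • ((a j : M) * X) →
      X * (pw b (a j) : M) = (sg (b && p) : F) • ((pw b (a j) : M) * X) := fun b j X p hX => by
    cases b
    · simp [pw, sg]
    · simpa [pw] using hX
  have c1 := hx (e 1) 1 _ _ (ha.pw_comm (e 0) 0 1)
  have s1 := step_sq (ha.pw_sq (e 0) 0) (ha.pw_sq (e 1) 1) c1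
  have c2 := hx (e 2) 2 _ _ (step_comm (ha.pw_comm (e 0) 0 2) (ha.pw_comm (e 1) 1 2))
  have s2 := step_sq s1 (ha.pw_sq (e 2) 2) c2
  have c3 := hx (e 3) 3 _ _ (step_comm (step_comm (ha.pw_comm (e 0) 0 3) (ha.pw_comm (e 1) 1 3)) (ha.pw_comm (e 2) 2 3))
  have s3 := step_sq s2 (ha.pw_sq (e 3) 3) c3
  simp only [word, Units.val_mul]
  rw [s3]
  congr 2
  simp [sqb]

theorem word_mem (e : Fin 4 → Bool) : word a e ∈ R := by
  have h1 : ∀ (b : Bool) (j : Fin 5), pw b (a j) ∈ R := fun b j => by
    cases b <;> simp [pw, ha.mem, one_mem]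
  exact mul_mem (mul_mem (mul_mem (h1 _ _) (h1 _ _)) (h1 _ _)) (h1 _ _)

theorem eq_of_pat (h : IsPauli R) {e e' : Fin 4 → Bool} {c : F} (hc : (word a e' : M) = c • (word a e : M)) :
    e' = e := by
  refine pat_inj _ _ fun k => sg_inj h.two ?_
  have h1 := ha.word_comm e' k.castSucc
  rw [hc, smul_mul_assoc, mul_smul_comm, ha.word_comm, smul_smul, smul_smul] at h1
  haveI := h.nonempty
  have hc0 : c ≠ 0 := fun e0 => by rw [e0, zero_smul] at hc; exact (word a e').ne_zero hc
  have h2 := smul_left_injective F (show (a k.castSucc : M) * (word a e : M) ≠ 0 by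
    rw [← Units.val_mul]; exact Units.ne_zero _) h1
  exact mul_left_cancel₀ hc0 (by linear_combination -h2)

theorem exists_word (h : IsPauli R) {r : GL ι F} (hr : r ∈ R) :
    ∃ (e : Fin 4 → Bool) (c : F), (r : M) = c • (word a e : M) := by
  haveI := h.finiteQ
  haveI := Fintype.ofFinite (R ⧸ Subgroup.center R)
  let f : (Fin 4 → Bool) → R ⧸ Subgroup.center R := fun e => QuotientGroup.mk ⟨word a e, ha.word_mem e⟩
  have hf : Function.Bijective f := (Fintype.bijective_iff_injective_and_card f).2 ⟨fun e e' he => by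
    obtain ⟨c, hc⟩ := (h.mk_eq_iff _ _).1 he
    exact (ha.eq_of_pat h hc).symm, by rw [← Nat.card_eq_fintype_card (α := R ⧸ Subgroup.center R), h.index]; simp⟩
  obtain ⟨e, he⟩ := hf.2 (QuotientGroup.mk ⟨r, hr⟩)
  exact ⟨e, (h.mk_eq_iff _ _).1 he⟩

/-- Involutions are proportional to one of the five when the only scalars are the signs. -/
theorem exists_of_involution (h : IsPauli R) (hpm : ∀ z ∈ R, ∀ c : F, (z : M) = c • 1 → c * c = 1) {r : GL ι F}
    (hr : r ∈ R) (hr2 : r * r = 1) (hns : ∀ c : F, (r : M) ≠ c • 1) : ∃ (k : Fin 5) (c : F), (r : M) = c • (a k : M) := by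
  obtain ⟨e, c, hc⟩ := ha.exists_word h hr
  have hz : ((r * (word a e)⁻¹ : GL ι F) : M) = c • 1 := by
    rw [Units.val_mul, hc, smul_mul_assoc, Units.mul_inv]
  have hcc := hpm _ (mul_mem hr (inv_mem (ha.word_mem e))) c hz
  have hsq : sqb e = false := sg_inj h.two (by
    haveI := h.nonempty
    have h1 : (r : M) * r = 1 := by rw [← Units.val_mul, hr2, Units.val_one]
    rw [hc, smul_mul_assoc, mul_smul_comm, smul_smul, hcc, one_smul, ha.word_sq] at h1
    refine smul_left_injective F (one_ne_zero (α := M)) ?_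
    simpa [sg] using h1)
  rcases sqb_cases e hsq with rfl | ⟨k, hk⟩
  · exact absurd (by simpa [word, pw] using hc) (hns c)
  obtain ⟨e', c', hc'⟩ := ha.exists_word h (ha.mem k)
  have hc'0 : c' ≠ 0 := fun e0 => by haveI := h.nonempty; rw [e0, zero_smul] at hc'; exact (a k).ne_zero hc'
  have he : e' = e := pat_inj _ _ fun j => sg_inj h.two (by
    rw [hk]
    haveI := h.nonempty
    refine smul_left_injective F (show (a j.castSucc : M) * (word a e' : M) ≠ 0 by
      rw [← Units.val_mul]; exact Units.ne_zero _) ?_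
    show (sg (pat e' j.castSucc) : F) • ((a j.castSucc : M) * word a e') = (sg _ : F) • ((a j.castSucc : M) * word a e')
    refine smul_right_injective M hc'0 ?_
    show c' • _ = c' • _
    rw [← ha.word_comm, ← smul_mul_assoc, ← hc', smul_comm, ← mul_smul_comm, ← hc']
    rcases eq_or_ne k j.castSucc with rfl | hkj
    · simp [sg]
    · simp [sg, hkj, ha.anti k _ hkj])
  subst he
  exact ⟨k, c * c'⁻¹, by rw [hc', smul_smul, inv_mul_cancel_right₀ hc'0, hc]⟩

/-- An element sending the five into the group normalises it. -/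
theorem mem_normalizer [Finite (GL ι F)] (h : IsPauli R) (hx : ∀ k, x * a k * x⁻¹ ∈ R) :
    x ∈ Cfsg.Geo.subgroupNormalizer R := by
  have hinto : ∀ r ∈ R, x * r * x⁻¹ ∈ R := fun r hr => by
    obtain ⟨e, c, hc⟩ := ha.exists_word h hr
    set z := r * (word a e)⁻¹ with hzdef
    have hz : (z : M) = c • 1 := by rw [hzdef, Units.val_mul, hc, smul_mul_assoc, Units.mul_inv]
    have hxz : x * z = z * x := Units.ext (by
      show (x : M) * (z : M) = (z : M) * (x : M)
      rw [hz, mul_smul_comm, mul_one, smul_mul_assoc, one_mul])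
    have hw : x * word a e * x⁻¹ ∈ R := by
      have h1 : ∀ (b : Bool) (j : Fin 5), x * pw b (a j) * x⁻¹ ∈ R := fun b j => by
        cases b <;> simp [pw, hx, one_mem]
      have : x * word a e * x⁻¹ = x * pw (e 0) (a 0) * x⁻¹ * (x * pw (e 1) (a 1) * x⁻¹) *
          (x * pw (e 2) (a 2) * x⁻¹) * (x * pw (e 3) (a 3) * x⁻¹) := by simp only [word]; group
      rw [this]
      exact mul_mem (mul_mem (mul_mem (h1 _ _) (h1 _ _)) (h1 _ _)) (h1 _ _)
    have e1 : x * r * x⁻¹ = z * (x * word a e * x⁻¹) := by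
      conv_lhs => rw [show r = z * word a e by rw [hzdef, inv_mul_cancel_right]]
      simp only [← mul_assoc, hxz]
    rw [e1]
    exact mul_mem (mul_mem hr (inv_mem (ha.word_mem e))) hw
  refine Subgroup.mem_normalizer_iff.2 fun r => ⟨hinto r, fun hr => ?_⟩
  let f : R → R := fun s => ⟨x * s.1 * x⁻¹, hinto _ s.2⟩
  have hf : Function.Injective f := fun s t e => Subtype.ext (by
    have e' := congrArg Subtype.val e
    exact mul_left_cancel (mul_right_cancel e'))
  obtain ⟨s, hs⟩ := (Finite.injective_iff_surjective.1 hf) ⟨x * r * x⁻¹, hr⟩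
  rw [← mul_left_cancel (mul_right_cancel (congrArg Subtype.val hs))]
  exact s.2

/-- The difference of two of the five. -/
theorem diff_comm (i j k : Fin 5) (hij : i ≠ j) :
    ((a i : M) - a j) * a k = -((a (Equiv.swap i j k) : M) * ((a i : M) - a j)) := by
  have hsq : ∀ l, (a l : M) * a l = 1 := fun l => by rw [← Units.val_mul, ha.sq, Units.val_one]
  rcases eq_or_ne k i with rfl | hki
  · rw [Equiv.swap_apply_left, sub_mul, mul_sub, hsq, hsq]
    abel
  rcases eq_or_ne k j with rfl | hkj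
  · rw [Equiv.swap_apply_right, sub_mul, mul_sub, hsq, hsq]
    abel
  rw [Equiv.swap_apply_of_ne_of_ne hki hkj, sub_mul, mul_sub, ha.anti i k hki.symm, ha.anti j k hkj.symm]
  abel

theorem diff_sq (i j : Fin 5) (hij : i ≠ j) : ((a i : M) - a j) * ((a i : M) - a j) = (2 : F) • 1 := by
  have hsq : ∀ l, (a l : M) * a l = 1 := fun l => by rw [← Units.val_mul, ha.sq, Units.val_one]
  rw [sub_mul, mul_sub, mul_sub, hsq, hsq, ha.anti i j hij, two_smul]
  abel

/-- A cycle of length five. -/
theorem exists_five [Finite (GL ι F)] (h : IsPauli R) :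
    ∃ g : GL ι F, (4 : F) • (4 : F) • (1 : M) = ((4 : F) • (g : M)) *
        (((a 3 : M) - a 4) * ((a 2 : M) - a 3) * ((a 1 : M) - a 2) * ((a 0 : M) - a 1)) ∧
      (4 : F) • (g : M) = ((a 0 : M) - a 1) * ((a 1 : M) - a 2) * ((a 2 : M) - a 3) * ((a 3 : M) - a 4) ∧
      g ^ 16 ∈ Cfsg.Geo.subgroupNormalizer R ∧ (g ^ 16) ^ 5 = 1 ∧ g ^ 16 ≠ 1 ∧ ((g ^ 16 : GL ι F) : M).det = 1 := by
  haveI := h.nonempty
  set w : Fin 5 → Fin 5 → M := fun i j => (a i : M) - a j with hw
  set G := w 0 1 * w 1 2 * w 2 3 * w 3 4 with hG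
  set G' := w 3 4 * w 2 3 * w 1 2 * w 0 1 with hG'
  have hGG : G * G' = (4 : F) • (4 : F) • (1 : M) := by
    have e : G * G' = w 0 1 * (w 1 2 * (w 2 3 * (w 3 4 * w 3 4) * w 2 3) * w 1 2) * w 0 1 := by
      simp only [hG, hG', mul_assoc]
    rw [e]
    simp only [hw, ha.diff_sq _ _ (by decide : (3 : Fin 5) ≠ 4), mul_smul_comm, mul_one, smul_mul_assoc,
      ha.diff_sq _ _ (by decide : (2 : Fin 5) ≠ 3), ha.diff_sq _ _ (by decide : (1 : Fin 5) ≠ 2),
      ha.diff_sq _ _ (by decide : (0 : Fin 5) ≠ 1), smul_smul]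
    norm_num
  have h44 : ((4 : F)⁻¹ • G) * ((4 : F)⁻¹ • G') = 1 := by
    rw [smul_mul_assoc, mul_smul_comm, hGG, smul_smul, smul_smul, smul_smul]
    rw [show (4 : F)⁻¹ * (4 : F)⁻¹ * 4 * 4 = 1 by field_simp [h.four], one_smul]
  let g : GL ι F := ⟨(4 : F)⁻¹ • G, (4 : F)⁻¹ • G', h44, mul_eq_one_comm.1 h44⟩
  have hg4 : (4 : F) • (g : M) = G := by
    show (4 : F) • ((4 : F)⁻¹ • G) = G
    rw [smul_inv_smul₀ h.four]
  let σ : Equiv.Perm (Fin 5) := Equiv.swap 0 1 * Equiv.swap 1 2 * Equiv.swap 2 3 * Equiv.swap 3 4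
  have hga : ∀ k, g * a k = a (σ k) * g := fun k => by
    refine Units.ext (smul_right_injective M h.four ?_)
    show (4 : F) • ((g : M) * a k) = (4 : F) • ((a (σ k) : M) * g)
    rw [← smul_mul_assoc, ← mul_smul_comm, hg4]
    have hstep : ∀ (i j : Fin 5), i ≠ j → ∀ (k : Fin 5) (X : M),
        X * w i j * (a k : M) = -(X * (a (Equiv.swap i j k) : M) * w i j) := fun i j hij k X => by
      rw [mul_assoc, hw, ha.diff_comm i j k hij, mul_neg, ← mul_assoc]
    rw [hG, hstep 3 4 (by decide), hstep 2 3 (by decide), hstep 1 2 (by decide), hw,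
      ha.diff_comm 0 1 _ (by decide)]
    simp only [neg_mul, neg_neg, mul_assoc]
    rfl
  have hpow : ∀ (n : ℕ) k, g ^ n * a k = a ((σ ^ n) k) * g ^ n := by
    intro n
    induction n with
    | zero => intro k; simp
    | succ n ih =>
      intro k
      rw [pow_succ, mul_assoc, hga, ← mul_assoc, ih, mul_assoc, ← pow_succ, ← Equiv.Perm.mul_apply, ← pow_succ]
  have hσ5 : σ ^ 5 = 1 := by decide
  have h5 : ∀ r ∈ R, g ^ 5 * r = r * g ^ 5 := fun r hr => by
    obtain ⟨e, c, hc⟩ := ha.exists_word h hr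
    have hk : ∀ k, Commute (g ^ 5) (a k) := fun k => by
      have := hpow 5 k
      rwa [hσ5, Equiv.Perm.one_apply] at this
    have hb : ∀ (b : Bool) (j : Fin 5), Commute (g ^ 5) (pw b (a j)) := fun b j => by
      cases b <;> simp [pw, hk]
    have hwc : Commute (g ^ 5) (word a e) := (((hb _ _).mul_right (hb _ _)).mul_right (hb _ _)).mul_right (hb _ _)
    refine Units.ext ?_
    rw [Units.val_mul, Units.val_mul, hc, mul_smul_comm, smul_mul_assoc, ← Units.val_mul, hwc.eq, Units.val_mul]
  obtain ⟨c, hc⟩ : ∃ c : F, ((g ^ 5 : GL ι F) : M) = c • 1 := by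
    obtain ⟨b, hb, -⟩ := h.exists_basis
    exact h.exists_scalar_of_commute fun k => by
      rw [← Units.val_mul, ← Units.val_mul, h5 _ (rep_mem k)]
  have hdet2 : (g : M).det * (g : M).det = 1 := by
    have hd : ∀ i j : Fin 5, i ≠ j → (w i j).det * (w i j).det = 2 ^ 4 := fun i j hij => by
      rw [← Matrix.det_mul, hw, ha.diff_sq i j hij, Matrix.det_smul, Matrix.det_one, mul_one, h.card]
    have e := congrArg Matrix.det hg4
    rw [Matrix.det_smul, h.card, hG, Matrix.det_mul, Matrix.det_mul, Matrix.det_mul] at e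
    refine mul_left_cancel₀ (pow_ne_zero 2 (pow_ne_zero 4 h.four)) ?_
    rw [mul_one]
    linear_combination ((4 : F) ^ 4 * (g : M).det +
      (w 0 1).det * (w 1 2).det * (w 2 3).det * (w 3 4).det) * e +
      ((w 1 2).det * (w 2 3).det * (w 3 4).det) ^ 2 * hd 0 1 (by decide) +
      2 ^ 4 * ((w 2 3).det * (w 3 4).det) ^ 2 * hd 1 2 (by decide) +
      2 ^ 8 * ((w 3 4).det) ^ 2 * hd 2 3 (by decide) + 2 ^ 12 * hd 3 4 (by decide)
  have hd16 : (g : M).det ^ 16 = 1 := by
    rw [show (16 : ℕ) = 2 * 8 from rfl, pow_mul, pow_two, hdet2, one_pow]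
  have hc16 : c ^ 16 = 1 := by
    have e := congrArg Matrix.det hc
    rw [Units.val_pow_eq_pow_val, Matrix.det_pow] at e
    have e' : (c • (1 : M)).det = c ^ 4 := by rw [Matrix.det_smul, Matrix.det_one, mul_one, h.card]
    rw [e'] at e
    rw [show (16 : ℕ) = 4 * 4 from rfl, pow_mul, ← e, ← pow_mul, mul_comm 5 4, show 4 * 5 = 2 * 10 from rfl, pow_mul,
      pow_two, hdet2, one_pow]
  refine ⟨g, ?_, hg4, ha.mem_normalizer h fun k => ?_, ?_, fun e1 => ?_, ?_⟩
  · rw [hg4]; exact hGG.symm
  · rw [hpow, mul_inv_cancel_right]; exact ha.mem _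
  · refine Units.ext ?_
    rw [← pow_mul, mul_comm, pow_mul, Units.val_pow_eq_pow_val, hc, smul_pow, hc16, one_pow, one_smul, Units.val_one]
  · have e := hpow 16 0
    rw [e1, one_mul, mul_one, show (σ ^ 16) 0 = 1 by
      rw [show (16 : ℕ) = 5 * 3 + 1 from rfl, pow_succ, pow_mul, hσ5, one_pow, one_mul]; decide] at e
    have h1 := ha.anti 0 1 (by decide)
    rw [← e, ← Units.val_mul, ha.sq, Units.val_one] at h1
    have h0 : (2 : F) • (1 : M) = 0 := by rw [two_smul]; exact eq_neg_iff_add_eq_zero.1 h1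
    rcases smul_eq_zero.1 h0 with e0 | e0
    · exact h.two e0
    · exact one_ne_zero e0
  · rw [Units.val_pow_eq_pow_val, Matrix.det_pow, hd16]

/-- A scalar of square minus one twists nothing: the fixed cosets of an element of order three. -/
theorem exists_fixed_involution (h : IsPauli R) (hpm : ∀ z ∈ R, ∀ c : F, (z : M) = c • 1 → c * c = 1)
    (hx : x ∈ Cfsg.Geo.subgroupNormalizer R) {c : F} (hx3 : ((x ^ 3 : GL ι F) : M) = c • 1) :
    Nat.card {k // perm hx k = k} ≠ 1 := by
  classical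
  haveI := h.finiteQ
  haveI := h.nonempty
  let q : Fin 5 → R ⧸ Subgroup.center R := fun i => QuotientGroup.mk ⟨a i, ha.mem i⟩
  have hq : Function.Injective q := fun i j e => by
    by_contra hij
    obtain ⟨d, hd⟩ := (h.mk_eq_iff _ _).1 e
    have h1 := ha.anti i j hij
    rw [hd, mul_smul_comm, smul_mul_assoc, ← smul_neg] at h1
    have hd0 : d ≠ 0 := fun e0 => by rw [e0, zero_smul] at hd; exact (a j).ne_zero hd
    have h2 := smul_right_injective M hd0 h1
    rw [← Units.val_mul, ha.sq, Units.val_one] at h2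
    have h0 : (2 : F) • (1 : M) = 0 := by rw [two_smul]; exact eq_neg_iff_add_eq_zero.1 h2
    rcases smul_eq_zero.1 h0 with e0 | e0
    · exact h.two e0
    · exact one_ne_zero e0
  have hnsc : ∀ i, ∀ d : F, (a i : M) ≠ d • 1 := fun i d hd => by
    obtain ⟨j, hij⟩ : ∃ j, i ≠ j := exists_ne i |>.imp fun j hj => hj.symm
    have h1 := ha.anti i j hij
    rw [hd, smul_mul_assoc, one_mul, mul_smul_comm, mul_one] at h1
    have h0 : (2 * d) • (a j : M) = 0 := by rw [mul_smul, two_smul]; exact eq_neg_iff_add_eq_zero.1 h1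
    rcases smul_eq_zero.1 h0 with e0 | e0
    · exact (a i).ne_zero (by rw [hd, (mul_eq_zero.1 e0).resolve_left h.two, zero_smul])
    · exact (a j).ne_zero e0
  have hmaps : ∀ i, ∃ j, perm hx (q i) = q j := fun i => by
    obtain ⟨j, d, hd⟩ := ha.exists_of_involution h hpm (conj_mem hx (ha.mem i)) (by
      rw [show x * a i * x⁻¹ * (x * a i * x⁻¹) = x * (a i * a i) * x⁻¹ by group, ha.sq, mul_one, mul_inv_cancel])
      fun e he => hnsc i e (by
        have h1 := congrArg (fun X : M => ((x⁻¹ : GL ι F) : M) * X * (x : M)) he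
        simp only [mul_smul_comm, mul_one, smul_mul_assoc, Units.inv_mul, ← Units.val_mul] at h1
        rw [show x⁻¹ * (x * a i * x⁻¹) * x = a i by group] at h1
        rw [h1, inv_mul_cancel, Units.val_one])
    refine ⟨j, ?_⟩
    rw [h.perm_mk hx (ha.mem i), eq_comm, h.mk_eq_iff]
    exact ⟨d, hd⟩
  choose f hf using hmaps
  have hf3 : ∀ i, f^[3] i = i := fun i => hq (by
    have hit : ∀ n i, q (f^[n] i) = (perm hx)^[n] (q i) := by
      intro n
      induction n with
      | zero => intro i; rfl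
      | succ n ih => intro i; rw [Function.iterate_succ_apply', Function.iterate_succ_apply', ← ih, hf]
    rw [hit, h.perm_pow hx hx3])
  haveI : Fact (Nat.Prime 3) := ⟨Nat.prime_three⟩
  let π : Equiv.Perm (Fin 5) := ⟨f, f^[2], fun i => hf3 i, fun i => hf3 i⟩
  obtain ⟨i, hi⟩ := Equiv.Perm.exists_fixed_point_of_prime (p := 3) (n := 1) (by decide : ¬ 3 ∣ Fintype.card (Fin 5))
    (σ := π) (Equiv.ext fun i => by
      rw [pow_one, ← Equiv.Perm.iterate_eq_pow]
      exact hf3 i)
  intro hone
  have h1 : perm hx 1 = 1 := by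
    show perm hx (QuotientGroup.mk (⟨1, one_mem R⟩ : R)) = _
    rw [h.perm_mk hx]
    congr 1
    exact Subtype.ext (by simp)
  obtain ⟨hs, -⟩ := Nat.card_eq_one_iff_unique.1 hone
  have hi' : perm hx (q i) = q i := by rw [hf, show f i = i from hi]
  have e : QuotientGroup.mk (⟨1, one_mem R⟩ : R) = q i :=
    congrArg Subtype.val (Subsingleton.elim (⟨1, h1⟩ : {k // perm hx k = k}) ⟨q i, hi'⟩)
  obtain ⟨d, hd⟩ := (h.mk_eq_iff _ _).1 e
  exact hnsc i d (by rw [hd, Units.val_one])

end IsGamma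

end Cfsg.Agent.Pauli
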