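import Cfsg.Agent.Lib.TransvMax.PauliTools

/-!
Groups of symplectic type with a central element of order four: generators and their normalisers.
-/

set_option autoImplicit false
set_option linter.unusedSectionVars false

namespace Cfsg.Agent.Pauli

open Cfsg.Agent Module
open scoped Matrix

variable {F : Type*} [Field F] {ι : Type} [Fintype ι] [DecidableEq ι] {R : Subgroup (GL ι F)}

local notation "M" => Matrix ι ι F

/-- Two commuting pairs of anticommuting involutions and a square root of minus one. -/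
structure IsRich (R : Subgroup (GL ι F)) (i : GL ι F) (c : F) (A B C D : GL ι F) : Prop where
  iv : (i : M) = c • 1
  sqc : c * c = -1
  mi : i ∈ R
  mA : A ∈ R
  mB : B ∈ R
  mC : C ∈ R
  mD : D ∈ R
  sA : (A : M) * A = 1
  sB : (B : M) * B = 1
  sC : (C : M) * C = 1
  sD : (D : M) * D = 1
  ab : (B : M) * A = -((A : M) * B)
  cd : (D : M) * C = -((C : M) * D)
  ca : (C : M) * A = (A : M) * C
  cb : (C : M) * B = (B : M) * C
  da : (D : M) * A = (A : M) * D
  db : (D : M) * B = (B : M) * D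

/-- A scalar multiple of a normalising element normalises. -/
theorem mem_normalizer_smul {x y : GL ι F} (hy : y ∈ Cfsg.Geo.subgroupNormalizer R) {c : F}
    (hxy : (x : M) = c • (y : M)) : x ∈ Cfsg.Geo.subgroupNormalizer R := by
  have hz : ∀ w : GL ι F, (x * y⁻¹) * w = w * (x * y⁻¹) := fun w => Units.ext (by
    have h1 : ((x * y⁻¹ : GL ι F) : M) = c • 1 := by rw [Units.val_mul, hxy, smul_mul_assoc, Units.mul_inv]
    rw [Units.val_mul _ w, Units.val_mul w, h1, smul_mul_assoc, one_mul, mul_smul_comm, mul_one])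
  refine Subgroup.mem_normalizer_iff.2 fun r => ?_
  have he : x * r * x⁻¹ = y * r * y⁻¹ := by
    calc x * r * x⁻¹ = (x * y⁻¹) * (y * r * y⁻¹) * (x * y⁻¹)⁻¹ := by group
      _ = y * r * y⁻¹ := by rw [hz, mul_inv_cancel_right]
  rw [he]
  exact Subgroup.mem_normalizer_iff.1 hy r

namespace IsPauli

variable (h : IsPauli R)
include h

theorem sq_scalar {r : GL ι F} (hr : r ∈ R) : ∃ e : F, e ≠ 0 ∧ (r : M) * r = e • 1 := by
  obtain ⟨e, he⟩ := h.scalar (r * r) (mul_mem hr hr) fun s hs => by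
    refine Units.ext ?_
    rcases h.anti r hr s hs with e | e
    · rw [mul_assoc, e, ← mul_assoc, e, mul_assoc]
    · simp only [Units.val_mul]
      rw [mul_assoc, e, mul_neg, ← mul_assoc, e, neg_mul, neg_neg, mul_assoc]
  haveI := h.nonempty
  exact ⟨e, fun e0 => (r * r).ne_zero (by rw [he, e0, zero_smul]), by rw [← Units.val_mul, he]⟩

/-- Two commuting pairs of anticommuting elements. -/
theorem exists_pairs : ∃ a ∈ R, ∃ b ∈ R, ∃ c ∈ R, ∃ d ∈ R, (b : M) * a = -((a : M) * b) ∧
    (d : M) * c = -((c : M) * d) ∧ (c : M) * a = (a : M) * c ∧ (c : M) * b = (b : M) * c ∧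
    (d : M) * a = (a : M) * d ∧ (d : M) * b = (b : M) * d := by
  classical
  haveI := h.nonempty
  haveI := h.finiteQ
  haveI := Fintype.ofFinite (R ⧸ Subgroup.center R)
  obtain ⟨k, hk⟩ : ∃ k : R ⧸ Subgroup.center R, k ≠ 1 := by
    haveI : Nontrivial (R ⧸ Subgroup.center R) := Finite.one_lt_card_iff_nontrivial.1 (by rw [h.index]; norm_num)
    exact exists_ne 1
  have hone : (QuotientGroup.mk (⟨1, one_mem R⟩ : R) : R ⧸ Subgroup.center R) = 1 := rfl
  set a := rep k
  have ha : a ∈ R := rep_mem k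
  obtain ⟨b, hb, hab⟩ := h.exists_anti ha fun c hc => hk (by
    rw [← mk_rep k, ← hone, eq_comm, h.mk_eq_iff]
    exact ⟨c, by rw [Units.val_one]; exact hc⟩)
  have hba : (b : M) * a = -((a : M) * b) := by rw [hab, neg_neg]
  have hpw : ∀ q p : Bool, pw q a * pw p b ∈ R := fun q p => by
    cases q <;> cases p <;> simp [pw, ha, hb, mul_mem]
  have hsg : ∀ z ∈ R, ∀ w ∈ R, ∃ p : Bool, (z : M) * w = (sg p : F) • ((w : M) * z) := fun z hz w hw => by
    rcases h.anti z hz w hw with e | e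
    · exact ⟨false, by rw [← Units.val_mul, e, Units.val_mul]; simp [sg]⟩
    · exact ⟨true, by rw [e]; simp [sg]⟩
  have fix2 : ∀ t ∈ R, ∃ q p : Bool,
      ((pw q a * pw p b * t : GL ι F) : M) * a = (a : M) * ((pw q a * pw p b * t : GL ι F) : M) ∧
      ((pw q a * pw p b * t : GL ι F) : M) * b = (b : M) * ((pw q a * pw p b * t : GL ι F) : M) := fun t ht => by
    obtain ⟨p, hp⟩ := hsg t ht a ha
    obtain ⟨q, hq⟩ := hsg t ht b hb
    refine ⟨q, p, ?_, ?_⟩
    · have h1 : (pw q a : M) * a = (sg false : F) • ((a : M) * pw q a) := by cases q <;> simp [pw, sg]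
      have h2 : (pw p b : M) * a = (sg p : F) • ((a : M) * pw p b) := by cases p <;> simp [pw, sg, hba]
      have h3 := step_comm (step_comm h1 h2) hp
      simpa [sg, Units.val_mul] using h3
    · have h1 : (pw q a : M) * b = (sg q : F) • ((b : M) * pw q a) := by cases q <;> simp [pw, sg, hab]
      have h2 : (pw p b : M) * b = (sg false : F) • ((b : M) * pw p b) := by cases p <;> simp [pw, sg]
      have h3 := step_comm (step_comm h1 h2) hq
      simpa [sg, Units.val_mul] using h3
  obtain ⟨t, ht⟩ : ∃ t : R ⧸ Subgroup.center R, ∀ q p : Bool, t ≠ QuotientGroup.mk (⟨pw q a * pw p b, hpw q p⟩ : R) := by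
    by_contra hall
    push Not at hall
    choose q p hqp using hall
    have := Nat.card_le_card_of_injective (fun t => (q t, p t)) fun t t' e => by
      simp only [Prod.mk.injEq] at e
      rw [hqp t, hqp t']
      simp only [e.1, e.2]
    rw [h.index] at this
    simp at this
  obtain ⟨q, p, hca, hcb⟩ := fix2 (rep t) (rep_mem t)
  set c := pw q a * pw p b * rep t
  have hcR : c ∈ R := mul_mem (hpw q p) (rep_mem t)
  obtain ⟨d₀, hd₀, hcd₀⟩ := h.exists_anti hcR fun u hu => ht q p (by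
    conv_lhs => rw [← mk_rep t]
    rw [h.mk_eq_iff]
    obtain ⟨e, he0, he⟩ := h.sq_scalar (hpw q p)
    have hu0 : u ≠ 0 := fun e0 => c.ne_zero (by rw [hu, e0, zero_smul])
    refine ⟨e * u⁻¹, ?_⟩
    have h1 := congrArg (fun X : M => ((pw q a * pw p b : GL ι F) : M) * X) hu
    rw [show ((c : GL ι F) : M) = ((pw q a * pw p b : GL ι F) : M) * (rep t : M) from Units.val_mul _ _] at h1
    simp only [← mul_assoc] at h1
    rw [he, smul_mul_assoc, one_mul, mul_smul_comm, mul_one] at h1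
    rw [← inv_smul_eq_iff₀ hu0] at h1
    rw [← h1, smul_smul, mul_comm])
  obtain ⟨q', p', hda, hdb⟩ := fix2 d₀ hd₀
  refine ⟨a, ha, b, hb, c, hcR, _, mul_mem (hpw q' p') hd₀, hba, ?_, hca, hcb, hda, hdb⟩
  have h1 : (pw q' a : M) * c = (sg false : F) • ((c : M) * pw q' a) := by
    cases q' <;> simp [pw, sg, hca]
  have h2 : (pw p' b : M) * c = (sg false : F) • ((c : M) * pw p' b) := by
    cases p' <;> simp [pw, sg, hcb]
  have h3 := step_comm (step_comm h1 h2) (show (d₀ : M) * c = (sg true : F) • ((c : M) * d₀) by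
    rw [hcd₀]; simp [sg])
  simpa [sg, Units.val_mul] using h3

theorem exists_rich [Finite (GL ι F)] (hex : Monoid.exponent R = 4) (hZ : Nat.card (Subgroup.center R) = 4) :
    ∃ i c A B C D, IsRich R i c A B C D := by
  classical
  haveI := h.nonempty
  obtain ⟨z, hz, c, hzc, hc2⟩ : ∃ z ∈ R, ∃ c : F, (z : M) = c • 1 ∧ c * c = -1 := by
    have hsc : ∀ z : Subgroup.center R, ∃ c : F, ((z.1 : GL ι F) : M) = c • 1 ∧ c ^ 4 = 1 := fun z => by
      obtain ⟨c, hc⟩ := h.scalar (z.1 : GL ι F) z.1.2 fun s hs =>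
        (congrArg Subtype.val (Subgroup.mem_center_iff.1 z.2 ⟨s, hs⟩)).symm
      refine ⟨c, hc, ?_⟩
      have h4 : z.1 ^ 4 = 1 := hex ▸ Monoid.pow_exponent_eq_one z.1
      have h5 := congrArg (fun w : R => ((w : GL ι F) : M)) h4
      simp only [SubmonoidClass.coe_pow, Units.val_pow_eq_pow_val, OneMemClass.coe_one, Units.val_one, hc, smul_pow,
        one_pow] at h5
      obtain ⟨j⟩ := h.nonempty
      simpa using congrFun (congrFun h5 j) j
    choose c hc hc4 using hsc
    by_contra hno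
    push Not at hno
    have hinj : Function.Injective c := fun z w e => Subtype.ext (Subtype.ext (Units.ext (by rw [hc, hc, e])))
    have hpm : ∀ z, c z = 1 ∨ c z = -1 := fun z => by
      have e : (c z * c z - 1) * (c z * c z + 1) = 0 := by linear_combination hc4 z
      rcases mul_eq_zero.1 e with e | e
      · exact mul_self_eq_one_iff.1 (sub_eq_zero.1 e)
      · exact absurd (eq_neg_of_add_eq_zero_left e) (hno _ z.1.2 _ (hc z))
    have := Nat.card_le_card_of_injective (fun z => decide (c z = 1)) fun z w e => hinj (by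
      rcases hpm z with e1 | e1 <;> rcases hpm w with e2 | e2 <;> simp [e1, e2] at e ⊢
      all_goals first | exact e | exact e.symm)
    rw [hZ] at this
    simp at this
  obtain ⟨a, ha, b, hb, u, hu, v, hv, hba, hvu, hua, hub, hva, hvb⟩ := h.exists_pairs
  -- make the squares one
  have fixsq : ∀ r ∈ R, ∃ r' ∈ R, ∃ e : F, e ≠ 0 ∧ (r' : M) = e • (r : M) ∧ (r' : M) * r' = 1 := fun r hr => by
    obtain ⟨e, -, he⟩ := h.sq_scalar hr
    have h4 : (⟨r, hr⟩ : R) ^ 4 = 1 := hex ▸ Monoid.pow_exponent_eq_one _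
    have h5 := congrArg (fun w : R => ((w : GL ι F) : M)) h4
    simp only [SubmonoidClass.coe_pow, Units.val_pow_eq_pow_val, OneMemClass.coe_one, Units.val_one] at h5
    rw [show (4 : ℕ) = 2 * 2 from rfl, pow_mul, pow_two (r : M), he, smul_pow, one_pow, pow_two] at h5
    have he2 : e * e = 1 := by
      obtain ⟨j⟩ := h.nonempty
      simpa using congrFun (congrFun h5 j) j
    rcases mul_self_eq_one_iff.1 he2 with rfl | rfl
    · exact ⟨r, hr, 1, one_ne_zero, (one_smul _ _).symm, by rw [he, one_smul]⟩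
    · refine ⟨z * r, mul_mem hz hr, c, fun e0 => by rw [e0, mul_zero] at hc2; simp at hc2,
        by rw [Units.val_mul, hzc, smul_mul_assoc, one_mul], ?_⟩
      rw [Units.val_mul, hzc, smul_mul_assoc, one_mul, smul_mul_assoc, mul_smul_comm, smul_smul, hc2, he, smul_smul]
      norm_num
  obtain ⟨A, hA, eA, -, hAv, hA2⟩ := fixsq a ha
  obtain ⟨B, hB, eB, -, hBv, hB2⟩ := fixsq b hb
  obtain ⟨C, hC, eC, -, hCv, hC2⟩ := fixsq u hu
  obtain ⟨D, hD, eD, -, hDv, hD2⟩ := fixsq v hv
  refine ⟨z, c, A, B, C, D, hzc, hc2, hz, hA, hB, hC, hD, hA2, hB2, hC2, hD2, ?_, ?_, ?_, ?_, ?_, ?_⟩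
  all_goals simp only [hAv, hBv, hCv, hDv, smul_mul_assoc, mul_smul_comm, smul_smul, hba, hvu, hua, hub, hva, hvb,
    smul_neg] <;> module

end IsPauli

namespace IsRich

variable {i : GL ι F} {c : F} {A B C D : GL ι F} (hr : IsRich R i c A B C D)
include hr

theorem c_sq (X : M) : c • c • X = -X := by rw [smul_smul, hr.sqc, neg_one_smul]

theorem gamma : IsGamma R ![A, B, i * (A * B * C), i * (A * B * D), A * B * (C * D)] := by
  have a2' : ∀ X : M, (A : M) * ((A : M) * X) = X := fun X => by rw [← mul_assoc, hr.sA, one_mul]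
  have b2' : ∀ X : M, (B : M) * ((B : M) * X) = X := fun X => by rw [← mul_assoc, hr.sB, one_mul]
  have c2' : ∀ X : M, (C : M) * ((C : M) * X) = X := fun X => by rw [← mul_assoc, hr.sC, one_mul]
  have d2' : ∀ X : M, (D : M) * ((D : M) * X) = X := fun X => by rw [← mul_assoc, hr.sD, one_mul]
  have ab' : ∀ X : M, (B : M) * ((A : M) * X) = -((A : M) * ((B : M) * X)) := fun X => by
    rw [← mul_assoc, hr.ab, neg_mul, mul_assoc]
  have cd' : ∀ X : M, (D : M) * ((C : M) * X) = -((C : M) * ((D : M) * X)) := fun X => by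
    rw [← mul_assoc, hr.cd, neg_mul, mul_assoc]
  have ca' : ∀ X : M, (C : M) * ((A : M) * X) = (A : M) * ((C : M) * X) := fun X => by
    rw [← mul_assoc, hr.ca, mul_assoc]
  have cb' : ∀ X : M, (C : M) * ((B : M) * X) = (B : M) * ((C : M) * X) := fun X => by
    rw [← mul_assoc, hr.cb, mul_assoc]
  have da' : ∀ X : M, (D : M) * ((A : M) * X) = (A : M) * ((D : M) * X) := fun X => by
    rw [← mul_assoc, hr.da, mul_assoc]
  have db' : ∀ X : M, (D : M) * ((B : M) * X) = (B : M) * ((D : M) * X) := fun X => by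
    rw [← mul_assoc, hr.db, mul_assoc]
  refine ⟨fun l => ?_, fun l => Units.ext ?_, fun l m hlm => ?_⟩
  · fin_cases l
    · exact hr.mA
    · exact hr.mB
    · exact mul_mem hr.mi (mul_mem (mul_mem hr.mA hr.mB) hr.mC)
    · exact mul_mem hr.mi (mul_mem (mul_mem hr.mA hr.mB) hr.mD)
    · exact mul_mem (mul_mem hr.mA hr.mB) (mul_mem hr.mC hr.mD)
  · fin_cases l <;> simp [mul_assoc, hr.iv, hr.sA, hr.sB, hr.sC, hr.sD, a2', b2', c2', d2', hr.ab, ab', hr.cd, cd', hr.ca,
      ca', hr.cb, cb', hr.da, da', hr.db, db', hr.c_sq]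
  · fin_cases l <;> fin_cases m <;> first | exact absurd rfl hlm | simp [mul_assoc, hr.iv, hr.sA, hr.sB, hr.sC, hr.sD, a2',
      b2', c2', d2', hr.ab, ab', hr.cd, cd', hr.ca, ca', hr.cb, cb', hr.da, da', hr.db, db', hr.c_sq]

/-- An element sending the four generators into the group normalises it. -/
theorem mem_normalizer [Finite (GL ι F)] (h : IsPauli R) {x : GL ι F} (h1 : x * A * x⁻¹ ∈ R) (h2 : x * B * x⁻¹ ∈ R)
    (h3 : x * C * x⁻¹ ∈ R) (h4 : x * D * x⁻¹ ∈ R) : x ∈ Cfsg.Geo.subgroupNormalizer R := by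
  have hxi : x * i * x⁻¹ = i := by
    rw [mul_inv_eq_iff_eq_mul]
    refine Units.ext ?_
    rw [Units.val_mul, Units.val_mul, hr.iv, mul_smul_comm, mul_one, smul_mul_assoc, one_mul]
  refine hr.gamma.mem_normalizer h fun k => ?_
  fin_cases k
  · exact h1
  · exact h2
  · show x * (i * (A * B * C)) * x⁻¹ ∈ R
    rw [show x * (i * (A * B * C)) * x⁻¹ = x * i * x⁻¹ * ((x * A * x⁻¹) * (x * B * x⁻¹) * (x * C * x⁻¹)) by group, hxi]
    exact mul_mem hr.mi (mul_mem (mul_mem h1 h2) h3)
  · show x * (i * (A * B * D)) * x⁻¹ ∈ R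
    rw [show x * (i * (A * B * D)) * x⁻¹ = x * i * x⁻¹ * ((x * A * x⁻¹) * (x * B * x⁻¹) * (x * D * x⁻¹)) by group, hxi]
    exact mul_mem hr.mi (mul_mem (mul_mem h1 h2) h4)
  · show x * (A * B * (C * D)) * x⁻¹ ∈ R
    rw [show x * (A * B * (C * D)) * x⁻¹ = (x * A * x⁻¹) * (x * B * x⁻¹) * ((x * C * x⁻¹) * (x * D * x⁻¹)) by group]
    exact mul_mem (mul_mem h1 h2) (mul_mem h3 h4)

/-- An involution with trace two. -/
theorem exists_refl [Finite (GL ι F)] (h : IsPauli R) : ∃ y : GL ι F,
    (y : M) = (2 : F)⁻¹ • (1 + (A : M) + C - A * C) ∧ y * y = 1 ∧ Matrix.trace (y : M) = 2 ∧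
      y ∈ Cfsg.Geo.subgroupNormalizer R := by
  have h22 : (2 : F)⁻¹ * 2 = 1 := inv_mul_cancel₀ h.two
  set S : M := 1 + (A : M) + C - A * C with hS
  have a2' : ∀ X : M, (A : M) * ((A : M) * X) = X := fun X => by rw [← mul_assoc, hr.sA, one_mul]
  have c2' : ∀ X : M, (C : M) * ((C : M) * X) = X := fun X => by rw [← mul_assoc, hr.sC, one_mul]
  have ca' : ∀ X : M, (C : M) * ((A : M) * X) = (A : M) * ((C : M) * X) := fun X => by
    rw [← mul_assoc, hr.ca, mul_assoc]
  have hS2 : S * S = (4 : F) • 1 := by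
    simp only [hS, add_mul, mul_add, sub_mul, mul_sub, one_mul, mul_one, mul_assoc, hr.sA, hr.sC, hr.ca, a2', c2', ca']
    rw [show (4 : F) = 1 + 1 + 1 + 1 by norm_num, add_smul, add_smul, add_smul, one_smul]
    abel
  have hy2 : ((2 : F)⁻¹ • S) * ((2 : F)⁻¹ • S) = 1 := by
    rw [smul_mul_assoc, mul_smul_comm, hS2, smul_smul, smul_smul,
      show (2 : F)⁻¹ * (2 : F)⁻¹ * 4 = 1 by linear_combination ((2 : F)⁻¹ * 2 + 1) * h22, one_smul]
  let y : GL ι F := ⟨(2 : F)⁻¹ • S, (2 : F)⁻¹ • S, hy2, hy2⟩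
  have htr : Matrix.trace (y : M) = 2 := by
    have hne : ∀ {r s : GL ι F}, (s : M) * r = -((r : M) * s) → ∀ u : F, (r : M) ≠ u • 1 := fun {r s} e u hu => by
      haveI := h.nonempty
      rw [hu, mul_smul_comm, mul_one, smul_mul_assoc, one_mul] at e
      have h0 : (2 * u) • (s : M) = 0 := by rw [mul_smul, two_smul]; exact eq_neg_iff_add_eq_zero.1 e
      rcases smul_eq_zero.1 h0 with e0 | e0
      · exact r.ne_zero (by rw [hu, (mul_eq_zero.1 e0).resolve_left h.two, zero_smul])
      · exact s.ne_zero e0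
    have tAC : Matrix.trace ((A * C : GL ι F) : M) = 0 := h.trace_eq_zero (mul_mem hr.mA hr.mC) (hne (s := B) (by
      rw [Units.val_mul, ← mul_assoc, hr.ab, neg_mul, mul_assoc, ← hr.cb, ← mul_assoc]))
    show Matrix.trace ((2 : F)⁻¹ • S) = 2
    rw [Matrix.trace_smul, hS, Matrix.trace_sub, Matrix.trace_add, Matrix.trace_add, Matrix.trace_one, h.card,
      h.trace_eq_zero hr.mA (hne hr.ab), h.trace_eq_zero hr.mC (hne hr.cd), ← Units.val_mul, tAC, smul_eq_mul,
      add_zero, add_zero, sub_zero, Nat.cast_ofNat, show (4 : F) = 2 * 2 by norm_num, ← mul_assoc, h22, one_mul]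
  have conj : ∀ U V : GL ι F, S * U = ((V : M) : M) * S → y * U * y⁻¹ = V := fun U V e => by
    rw [mul_inv_eq_iff_eq_mul]
    exact Units.ext (show ((2 : F)⁻¹ • S) * (U : M) = (V : M) * ((2 : F)⁻¹ • S) by rw [smul_mul_assoc, e, mul_smul_comm])
  refine ⟨y, rfl, Units.ext hy2, htr, hr.mem_normalizer h ?_ ?_ ?_ ?_⟩
  · rw [conj A A (by simp only [hS, add_mul, mul_add, sub_mul, mul_sub, one_mul, mul_one, mul_assoc, hr.ca, ca'])]
    exact hr.mA
  · rw [conj B (B * C) (by
      have ab' : ∀ X : M, (B : M) * ((A : M) * X) = -((A : M) * ((B : M) * X)) := fun X => by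
        rw [← mul_assoc, hr.ab, neg_mul, mul_assoc]
      simp only [hS, Units.val_mul, add_mul, mul_add, sub_mul, mul_sub, one_mul, mul_one, mul_assoc, hr.ca, ca', hr.cb, hr.ab,
        ab', c2', hr.sC, mul_neg, neg_mul]
      abel)]
    exact mul_mem hr.mB hr.mC
  · rw [conj C C (by simp only [hS, add_mul, mul_add, sub_mul, mul_sub, one_mul, mul_one, mul_assoc, hr.ca, ca'])]
    exact hr.mC
  · rw [conj D (D * A) (by
      have cd' : ∀ X : M, (D : M) * ((C : M) * X) = -((C : M) * ((D : M) * X)) := fun X => by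
        rw [← mul_assoc, hr.cd, neg_mul, mul_assoc]
      have da' : ∀ X : M, (D : M) * ((A : M) * X) = (A : M) * ((D : M) * X) := fun X => by
        rw [← mul_assoc, hr.da, mul_assoc]
      simp only [hS, Units.val_mul, add_mul, mul_add, sub_mul, mul_sub, one_mul, mul_one, mul_assoc, hr.ca, ca', hr.da, hr.cd,
        cd', da', a2', hr.sA, mul_neg, neg_mul]
      abel)]
    exact mul_mem hr.mD hr.mA

end IsRich

/-- An element of order three from two anticommuting square roots of minus one. -/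
theorem exists_three (h2 : (2 : F) ≠ 0) {I J : M} (hI : I * I = -1) (hJ : J * J = -1) (hJI : J * I = -(I * J)) :
    ∃ h : GL ι F, (h : M) = (2 : F)⁻¹ • (-1 + I + J + I * J) ∧ (h : M) * h + h + 1 = 0 ∧ h ^ 3 = 1 ∧
      (h : M) * I = I * J * h ∧ (h : M) * J = I * h ∧
      (∀ X : M, X * I = I * X → X * J = J * X → X * (h : M) = h * X) := by
  set S : M := -1 + I + J + I * J with hS
  have i2' : ∀ X : M, I * (I * X) = -X := fun X => by rw [← mul_assoc, hI, neg_mul, one_mul]
  have j2' : ∀ X : M, J * (J * X) = -X := fun X => by rw [← mul_assoc, hJ, neg_mul, one_mul]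
  have ji' : ∀ X : M, J * (I * X) = -(I * (J * X)) := fun X => by rw [← mul_assoc, hJI, neg_mul, mul_assoc]
  have e2 : S * S + (2 : F) • S + (4 : F) • (1 : M) = 0 := by
    simp only [hS, add_mul, mul_add, neg_mul, mul_neg, one_mul, mul_one, neg_neg, mul_assoc, hI, hJ, hJI, i2', j2', ji']
    rw [show (4 : F) = 1 + 1 + 1 + 1 by norm_num, two_smul, add_smul, add_smul, add_smul, one_smul]
    abel
  set v : M := (2 : F)⁻¹ • S with hv
  have h22 : (2 : F)⁻¹ * 2 = 1 := inv_mul_cancel₀ h2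
  have he : v * v + v + 1 = 0 := by
    have e3 := congrArg (fun X : M => ((2 : F)⁻¹ * (2 : F)⁻¹) • X) e2
    simp only [smul_add, smul_smul, smul_zero] at e3
    rw [show (2 : F)⁻¹ * (2 : F)⁻¹ * 2 = (2 : F)⁻¹ by rw [mul_assoc, h22, mul_one],
      show (2 : F)⁻¹ * (2 : F)⁻¹ * 4 = 1 by linear_combination ((2 : F)⁻¹ * 2 + 1) * h22, one_smul] at e3
    rw [hv, smul_mul_assoc, mul_smul_comm, smul_smul]
    exact e3
  have h3 : v * (v * v) = 1 := by
    have e : v * v = -v - 1 := by linear_combination (norm := abel) he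
    conv_lhs => rw [e]
    rw [mul_sub, mul_neg, mul_one, e]
    abel
  refine ⟨⟨v, v * v, h3, by rw [mul_assoc]; exact h3⟩, rfl, he, Units.ext ?_, ?_, ?_, fun X hXI hXJ => ?_⟩
  · show v ^ 3 = 1
    rw [pow_succ', pow_two]
    exact h3
  · show v * I = I * J * v
    rw [hv, smul_mul_assoc, mul_smul_comm]
    congr 1
    simp only [hS, add_mul, mul_add, neg_mul, mul_neg, one_mul, mul_one, neg_neg, mul_assoc, hI, hJ, hJI, i2', j2', ji']
    abel
  · show v * J = I * v
    rw [hv, smul_mul_assoc, mul_smul_comm]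
    congr 1
    simp only [hS, add_mul, mul_add, neg_mul, mul_neg, one_mul, mul_one, neg_neg, mul_assoc, hI, hJ, hJI, i2', j2', ji']
    abel
  · show X * v = v * X
    have hXK : X * (I * J) = I * J * X := by rw [← mul_assoc, hXI, mul_assoc, hXJ, mul_assoc]
    rw [hv, smul_mul_assoc, mul_smul_comm]
    congr 1
    simp only [hS, add_mul, mul_add, neg_mul, mul_neg, one_mul, mul_one, hXI, hXJ, hXK]

namespace IsRich

variable {i : GL ι F} {c : F} {A B C D : GL ι F} (hr : IsRich R i c A B C D)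
include hr

/-- Two normalising elements of order three, one without fixed vectors and one with. -/
theorem exists_threes [Finite (GL ι F)] (h : IsPauli R) (h3 : (3 : F) ≠ 0) : ∃ h₁ h₂ : GL ι F,
    h₁ ∈ Cfsg.Geo.subgroupNormalizer R ∧ (h₁ : M) * h₁ + h₁ + 1 = 0 ∧ h₁ ^ 3 = 1 ∧
      h₂ ∈ Cfsg.Geo.subgroupNormalizer R ∧ (h₂ : M) * h₂ + h₂ + 1 ≠ 0 ∧ h₂ ^ 3 = 1 ∧ h₂ ≠ 1 ∧
      (h₁ : M) = (2 : F)⁻¹ • (-1 + ((i * A : GL ι F) : M) + ((i * B : GL ι F) : M) +
        ((i * A : GL ι F) : M) * ((i * B : GL ι F) : M)) ∧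
      ∃ g : GL ι F, h₂ = h₁ * g ∧ (g : M) * g + g + 1 = 0 ∧
        (g : M) = (2 : F)⁻¹ • (-1 + ((i * C : GL ι F) : M) + ((i * D : GL ι F) : M) +
          ((i * C : GL ι F) : M) * ((i * D : GL ι F) : M)) := by
  haveI := h.nonempty
  have hsq : ∀ {U : GL ι F}, (U : M) * U = 1 → ((i * U : GL ι F) : M) * ((i * U : GL ι F) : M) = -1 := fun {U} e => by
    rw [Units.val_mul, hr.iv, smul_mul_assoc, one_mul, smul_mul_assoc, mul_smul_comm, hr.c_sq, e]
  have hneg : ∀ {U V : GL ι F}, (V : M) * U = -((U : M) * V) →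
      ((i * V : GL ι F) : M) * ((i * U : GL ι F) : M) = -(((i * U : GL ι F) : M) * ((i * V : GL ι F) : M)) :=
    fun {U V} e => by
      simp only [Units.val_mul, hr.iv, smul_mul_assoc, one_mul, mul_smul_comm, e, smul_neg]
  obtain ⟨f, fv, fe, f3, fI, fJ, fc⟩ := exists_three (ι := ι) h.two (hsq hr.sA) (hsq hr.sB) (hneg hr.ab)
  obtain ⟨g, gv, ge, g3, gI, gJ, gc⟩ := exists_three (ι := ι) h.two (hsq hr.sC) (hsq hr.sD) (hneg hr.cd)
  have hi0 : ∀ w : GL ι F, w * i = i * w := fun w => Units.ext (by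
    rw [Units.val_mul, Units.val_mul, hr.iv, mul_smul_comm, mul_one, smul_mul_assoc, one_mul])
  have hcom : ∀ {U V : GL ι F}, (U : M) * V = (V : M) * U → ((i * U : GL ι F) : M) * (V : M) = (V : M) * ((i * U : GL ι F) : M) :=
    fun {U V} e => by simp only [Units.val_mul, hr.iv, smul_mul_assoc, one_mul, mul_smul_comm, e]
  -- how they move the generators
  have move : ∀ {f : GL ι F} {P Q : GL ι F}, P ∈ R → Q ∈ R →
      (f : M) * ((i * P : GL ι F) : M) = ((i * P : GL ι F) : M) * ((i * Q : GL ι F) : M) * f →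
      (f : M) * ((i * Q : GL ι F) : M) = ((i * P : GL ι F) : M) * f → f * P * f⁻¹ ∈ R ∧ f * Q * f⁻¹ ∈ R := by
    intro f P Q hP hQ e1 e2
    have e1' : f * (i * P) * f⁻¹ = i * P * (i * Q) := by
      rw [mul_inv_eq_iff_eq_mul]
      exact Units.ext (by simpa [Units.val_mul] using e1)
    have e2' : f * (i * Q) * f⁻¹ = i * P := by
      rw [mul_inv_eq_iff_eq_mul]
      exact Units.ext (by simpa [Units.val_mul] using e2)
    constructor
    · have : f * P * f⁻¹ = i⁻¹ * (f * (i * P) * f⁻¹) := by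
        rw [← mul_assoc f i, hi0]; group
      rw [this, e1']
      exact mul_mem (inv_mem hr.mi) (mul_mem (mul_mem hr.mi hP) (mul_mem hr.mi hQ))
    · have : f * Q * f⁻¹ = i⁻¹ * (f * (i * Q) * f⁻¹) := by
        rw [← mul_assoc f i, hi0]; group
      rw [this, e2']
      exact mul_mem (inv_mem hr.mi) (mul_mem hr.mi hP)
  have keep : ∀ {f P : GL ι F}, P ∈ R → (P : M) * f = f * P → f * P * f⁻¹ ∈ R := fun {f P} hP e => by
    have : f * P = P * f := Units.ext (by rw [Units.val_mul, Units.val_mul, e])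
    rwa [this, mul_inv_cancel_right]
  obtain ⟨fA, fB⟩ := move hr.mA hr.mB fI fJ
  obtain ⟨gC, gD⟩ := move hr.mC hr.mD gI gJ
  have fCc := fc C (hcom hr.ca.symm).symm (hcom hr.cb.symm).symm
  have fDc := fc D (hcom hr.da.symm).symm (hcom hr.db.symm).symm
  have gAc := gc A (hcom hr.ca).symm (hcom hr.da).symm
  have gBc := gc B (hcom hr.cb).symm (hcom hr.db).symm
  have hf : f ∈ Cfsg.Geo.subgroupNormalizer R :=
    hr.mem_normalizer h fA fB (keep hr.mC fCc) (keep hr.mD fDc)
  have hg : g ∈ Cfsg.Geo.subgroupNormalizer R :=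
    hr.mem_normalizer h (keep hr.mA gAc) (keep hr.mB gBc) gC gD
  have hfg : (f : M) * g = g * f := by
    have h1 : (f : M) * ((i * C : GL ι F) : M) = ((i * C : GL ι F) : M) * f := by
      simp only [Units.val_mul, hr.iv, smul_mul_assoc, one_mul, mul_smul_comm, ← fCc]
    have h2 : (f : M) * ((i * D : GL ι F) : M) = ((i * D : GL ι F) : M) * f := by
      simp only [Units.val_mul, hr.iv, smul_mul_assoc, one_mul, mul_smul_comm, ← fDc]
    exact gc f h1 h2
  have hgC : (g : M) * C ≠ (C : M) * g := fun e => by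
    have e1 : g * (i * C) = i * C * g := Units.ext (by
      simp only [Units.val_mul, hr.iv, smul_mul_assoc, one_mul, mul_smul_comm, e])
    have e2 : i * C * g = i * C * (i * D) * g := by
      rw [← e1]; exact Units.ext (by simpa [Units.val_mul] using gI)
    have e3 : (1 : GL ι F) = i * D := mul_left_cancel (a := i * C) (by rw [mul_one]; exact mul_right_cancel e2)
    have e4 := hr.cd
    have e5 : (D : M) = -c • 1 := by
      have h6 : c • (D : M) = 1 := by
        rw [← Units.val_one, e3, Units.val_mul, hr.iv, smul_mul_assoc, one_mul]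
      have h7 := congrArg (fun X : M => c • X) h6
      simp only [hr.c_sq] at h7
      rw [neg_smul, ← h7, neg_neg]
    rw [e5, smul_mul_assoc, one_mul, mul_smul_comm, mul_one] at e4
    have h8 : (2 : F) • ((-c) • (C : M)) = 0 := by rw [two_smul]; exact eq_neg_iff_add_eq_zero.1 e4
    rcases smul_eq_zero.1 h8 with e0 | e0
    · exact h.two e0
    rcases smul_eq_zero.1 e0 with e0 | e0
    · exact zero_ne_one (α := F) (by linear_combination -(c * e0) - hr.sqc)
    · exact C.ne_zero e0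
  have hcomm : Commute f g := Units.ext (by rw [Units.val_mul, Units.val_mul, hfg])
  -- the product is neither quadratic nor trivial
  have key : ∀ {a b : F}, (g : M) * ((1 : M) + (2 : F) • (f : M)) = a • 1 + b • (f : M) → False := fun {a b} e => by
    have hinv : ((1 : M) + (2 : F) • (f : M)) * ((1 : M) + (2 : F) • (f : M)) = (-3 : F) • 1 := by
      have e' : (f : M) * f = -(f : M) - 1 := by linear_combination (norm := abel) fe
      simp only [add_mul, mul_add, one_mul, mul_one, smul_mul_assoc, mul_smul_comm, e', smul_sub, smul_neg]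
      rw [show (-3 : F) = 1 - 2 * 2 by norm_num, sub_smul, one_smul, mul_smul]
      module
    refine hgC ?_
    have hp : Commute (C : M) (((1 : M) + (2 : F) • (f : M))) := (Commute.one_right _).add_right (Commute.smul_right fCc _)
    have hq : Commute (C : M) (a • 1 + b • (f : M)) := ((Commute.one_right _).smul_right _).add_right (Commute.smul_right fCc _)
    have h9 := congrArg (fun X : M => (C : M) * (X * ((1 : M) + (2 : F) • (f : M)))) e
    have h10 : Commute (C : M) ((a • 1 + b • (f : M)) * ((1 : M) + (2 : F) • (f : M))) := hq.mul_right hp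
    rw [← e, mul_assoc, hinv, mul_smul_comm, mul_one] at h10
    have h11 := h10.eq
    rw [mul_smul_comm, smul_mul_assoc] at h11
    exact (smul_right_injective M (neg_ne_zero.2 h3) h11).symm
  refine ⟨f, f * g, hf, fe, f3, mul_mem hf hg, fun e => ?_, ?_, fun e => ?_, fv, g, rfl, ge, gv⟩
  · rw [Units.val_mul] at e
    have ef : (f : M) * f = -(f : M) - 1 := by linear_combination (norm := abel) fe
    have eg : (g : M) * g = -(g : M) - 1 := by linear_combination (norm := abel) ge
    refine key (a := -(2 : F)) (b := -1) ?_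
    rw [show (f : M) * g * (f * g) = f * f * (g * g) by
      rw [mul_assoc, ← mul_assoc (g : M), ← hfg, mul_assoc, ← mul_assoc (f : M) f], ef, eg] at e
    simp only [sub_mul, mul_sub, neg_mul, mul_neg, one_mul, mul_one, hfg] at e
    simp only [mul_add, mul_one, mul_smul_comm, two_smul, neg_smul, one_smul]
    linear_combination (norm := abel) e
  · rw [hcomm.mul_pow, f3, g3, one_mul]
  · have hg' : g = f * f := by
      have h1 : f * f * (f * g) = f * f := by rw [e, mul_one]
      rwa [← mul_assoc, mul_assoc f f f, show f * (f * f) = f ^ 3 by rw [pow_succ', pow_two], f3, one_mul] at h1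
    exact hgC (by rw [hg', Units.val_mul, mul_assoc, ← fCc, ← mul_assoc, ← fCc, mul_assoc])

end IsRich

end Cfsg.Agent.Pauli
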