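import Cfsg.Agent.Lib.Elusive.Semisimple
import Cfsg.Agent.Lib.Elusive.Linear
import Cfsg.Agent.Lib.TransvMax.PauliGamma

/-!
Cyclic subgroups of prime order up to conjugacy, and small tools for the groups in dimension four.
-/

set_option autoImplicit false

namespace Cfsg.Agent.Pauli

open Cfsg.Agent Module
open scoped Matrix

/-- If commuting elements of order `p` generate the same subgroup, all subgroups of order `p` are conjugate. -/
theorem exists_conj_zpowers {G : Type*} [Group G] [Finite G] {p : ℕ} [Fact p.Prime]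
    (H : ∀ x y : G, x ^ p = 1 → x ≠ 1 → y ^ p = 1 → Commute x y → y ∈ Subgroup.zpowers x) {x y : G}
    (hx : x ^ p = 1) (hx1 : x ≠ 1) (hy : y ^ p = 1) (hy1 : y ≠ 1) : ∃ g : G, g⁻¹ * x * g ∈ Subgroup.zpowers y := by
  have hpg : ∀ z : G, z ^ p = 1 → IsPGroup p (Subgroup.zpowers z) := fun z hz => by
    rintro ⟨w, hw⟩
    obtain ⟨k, rfl⟩ := Subgroup.mem_zpowers_iff.1 hw
    refine ⟨1, Subtype.ext ?_⟩
    show (z ^ k) ^ p ^ 1 = 1
    rw [pow_one, ← zpow_natCast, ← zpow_mul, mul_comm, zpow_mul, zpow_natCast, hz, one_zpow]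
  obtain ⟨P, hP⟩ := (hpg x hx).exists_le_sylow
  obtain ⟨Q, hQ⟩ := (hpg y hy).exists_le_sylow
  haveI : Nontrivial P := ⟨⟨⟨x, hP (Subgroup.mem_zpowers x)⟩, 1, fun e => hx1 (congrArg Subtype.val e)⟩⟩
  haveI := P.isPGroup'.center_nontrivial
  obtain ⟨z, hz⟩ := exists_prime_orderOf_dvd_card' (G := Subgroup.center P) p (by
    obtain ⟨n, hn⟩ := IsPGroup.iff_card.1 (P.isPGroup'.to_subgroup (Subgroup.center P))
    rw [hn]
    refine dvd_pow_self p fun h0 => ?_
    have h1 := (Finite.one_lt_card_iff_nontrivial (α := Subgroup.center P)).2 ‹_›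
    rw [hn, h0, pow_zero] at h1
    exact lt_irrefl _ h1)
  set w : G := ((z : P) : G) with hw
  have hwp : w ^ p = 1 := by
    have h1 := congrArg (fun v : Subgroup.center P => ((v : P) : G)) (hz ▸ pow_orderOf_eq_one z)
    simpa [hw] using h1
  have hw1 : w ≠ 1 := fun e => by
    have : z = 1 := Subtype.ext (Subtype.ext e)
    rw [this, orderOf_one] at hz
    exact (Fact.out : p.Prime).ne_one hz.symm
  have hcen : ∀ v ∈ (P : Subgroup G), Commute w v := fun v hv => by
    have := (Subgroup.mem_center_iff.1 z.2) ⟨v, hv⟩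
    exact (congrArg Subtype.val this).symm
  obtain ⟨g, hg⟩ := MulAction.exists_smul_eq G P Q
  have hy' : g⁻¹ * y * g ∈ (P : Subgroup G) := by
    have h1 : y ∈ ((g • P : Sylow p G) : Subgroup G) := by rw [hg]; exact hQ (Subgroup.mem_zpowers y)
    rw [Sylow.coe_subgroup_smul, Subgroup.mem_pointwise_smul_iff_inv_smul_mem] at h1
    simpa [MulAut.smul_def, MulAut.conj_apply] using h1
  have hyp : (g⁻¹ * y * g) ^ p = 1 := by
    have := conj_pow (a := g⁻¹) (b := y) (i := p)
    rw [inv_inv] at this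
    rw [this, hy, mul_one, inv_mul_cancel]
  have hy1' : g⁻¹ * y * g ≠ 1 := fun e => hy1 (by
    have h1 : g * (g⁻¹ * y * g) * g⁻¹ = g * 1 * g⁻¹ := by rw [e]
    simpa [mul_assoc] using h1)
  have hxP : x ∈ (P : Subgroup G) := hP (Subgroup.mem_zpowers x)
  -- both lie in the subgroup of the central element
  have hwy := H _ w hyp hy1' hwp (hcen _ hy').symm
  have hxw := H w x hwp hw1 hx (hcen x hxP)
  obtain ⟨i, hi⟩ := Subgroup.mem_zpowers_iff.1 hwy
  obtain ⟨j, hj⟩ := Subgroup.mem_zpowers_iff.1 hxw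
  refine ⟨g⁻¹, Subgroup.mem_zpowers_iff.2 ⟨i * j, ?_⟩⟩
  rw [← hj, ← hi, ← zpow_mul, inv_inv]
  have h1 := map_zpow (MulAut.conj g) (g⁻¹ * y * g) (i * j)
  simp only [MulAut.conj_apply] at h1
  rw [h1]
  congr 1
  group

/-- A conjugate inside a subgroup containing the cyclic group. -/
theorem exists_conj_of_zpowers {G : Type*} [Group G] {K H : Subgroup G} [Finite K] {p : ℕ} [Fact p.Prime]
    (hcomm : ∀ x ∈ K, ∀ y ∈ K, x ^ p = 1 → x ≠ 1 → y ^ p = 1 → Commute x y → y ∈ Subgroup.zpowers x) {x y : G}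
    (hx : x ∈ K) (hxp : x ^ p = 1) (hx1 : x ≠ 1) (hy : y ∈ K) (hyp : y ^ p = 1) (hy1 : y ≠ 1) (hyH : y ∈ H) :
    ∃ g ∈ K, g⁻¹ * x * g ∈ H := by
  obtain ⟨g, hg⟩ := exists_conj_zpowers (G := K) (p := p) (fun a b ha ha1 hb hab => by
    obtain ⟨k, hk⟩ := Subgroup.mem_zpowers_iff.1 (hcomm a a.2 b b.2 (congrArg Subtype.val ha)
      (fun e => ha1 (Subtype.ext e)) (congrArg Subtype.val hb) (hab.map K.subtype))
    exact Subgroup.mem_zpowers_iff.2 ⟨k, Subtype.ext hk⟩)
    (x := ⟨x, hx⟩) (y := ⟨y, hy⟩) (Subtype.ext hxp) (fun e => hx1 (congrArg Subtype.val e)) (Subtype.ext hyp)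
    (fun e => hy1 (congrArg Subtype.val e))
  obtain ⟨k, hk⟩ := Subgroup.mem_zpowers_iff.1 hg
  refine ⟨g, g.2, ?_⟩
  have h1 := congrArg Subtype.val hk
  simp only [Subgroup.coe_zpow, Subgroup.coe_mul, Subgroup.coe_inv] at h1
  rw [← h1]
  exact zpow_mem hyH k

variable {F : Type*} [Field F] [Fintype F] {p : ℕ} [Fact p.Prime] [CharP F p] {r : ℕ} [Fact r.Prime]

/-- A map of prime order without fixed points in the smallest possible dimension generates its centraliser torsion. -/
theorem exists_pow_eq {ι : Type} [Fintype ι] [DecidableEq ι] (hrp : r ≠ p)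
    (ho : orderOf (Fintype.card F : ZMod r) = Fintype.card ι) {x y : GL ι F} (hx : x ^ r = 1) (hx1 : x ≠ 1)
    (hy : y ^ r = 1) (hxy : Commute x y) : y ∈ Subgroup.zpowers x := by
  classical
  set T : Module.End F (ι → F) := Matrix.toLin' (x : Matrix ι ι F) with hTdef
  set U : Module.End F (ι → F) := Matrix.toLin' (y : Matrix ι ι F) with hUdef
  have hT : T ^ r = 1 := by
    rw [hTdef, ← Matrix.toLin'_pow, ← Units.val_pow_eq_pow_val, hx, Units.val_one, Matrix.toLin'_one]; rfl
  have hU : U ^ r = 1 := by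
    rw [hUdef, ← Matrix.toLin'_pow, ← Units.val_pow_eq_pow_val, hy, Units.val_one, Matrix.toLin'_one]; rfl
  have hTU : U * T = T * U := by
    rw [hTdef, hUdef, Module.End.mul_eq_comp, Module.End.mul_eq_comp, ← Matrix.toLin'_mul, ← Matrix.toLin'_mul,
      ← Units.val_mul, ← Units.val_mul, hxy.eq]
  have hrF := Elusive.natCast_prime_ne_zero (F := F) (p := p) hrp
  have hmod : ∀ S : Submodule F (ι → F), S.map T ≤ S →
      finrank F S % Fintype.card ι = finrank F ↥(S ⊓ Elusive.fixedSpace T) % Fintype.card ι := fun S hS => by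
    rw [← ho]; exact Elusive.finrank_mod_orderOf hT hrF hS
  have hfull : finrank F (ι → F) = Fintype.card ι := Module.finrank_fintype_fun_eq_card F
  have hT1 : T ≠ 1 := fun e => hx1 (Units.ext (Matrix.toLin'.injective (e.trans Matrix.toLin'_one.symm)))
  have hfix : Elusive.fixedSpace T = ⊥ := by
    have h := hmod ⊤ le_top
    rw [top_inf_eq, finrank_top, hfull, Nat.mod_self] at h
    have hle := Submodule.finrank_le (Elusive.fixedSpace T)
    rw [hfull] at hle
    rcases hle.eq_or_lt with e | e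
    · refine absurd (LinearMap.ext fun v => ?_) hT1
      exact Elusive.mem_fixedSpace.1
        ((Submodule.eq_top_of_finrank_eq (e.trans hfull.symm)).symm ▸ Submodule.mem_top : v ∈ Elusive.fixedSpace T)
    · exact Submodule.finrank_eq_zero.1 (by rw [Nat.mod_eq_of_lt e] at h; exact h.symm)
  have htop : ∀ S : Submodule F (ι → F), S.map T ≤ S → S ≠ ⊥ → S = ⊤ := fun S hS hne => by
    have h := hmod S hS
    rw [hfix, inf_bot_eq, finrank_bot, Nat.zero_mod] at h
    refine Submodule.eq_top_of_finrank_eq ?_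
    have h1 := Submodule.finrank_le S
    have h2 : finrank F S ≠ 0 := fun e => hne (Submodule.finrank_eq_zero.1 e)
    rw [hfull] at h1 ⊢
    exact le_antisymm h1 (Nat.le_of_dvd (Nat.pos_of_ne_zero h2) (Nat.dvd_of_mod_eq_zero h))
  set L := Algebra.adjoin F ({T} : Set (Module.End F (ι → F)))
  have hTL : T ∈ L := Algebra.subset_adjoin rfl
  have hcomm : ∀ l ∈ L, l * T = T * l := fun l hl => by
    refine Algebra.adjoin_induction ?_ ?_ ?_ ?_ hl
    · rintro _ rfl; rfl
    · intro c; exact Algebra.commutes c T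
    · intro a b _ _ ha hb; rw [add_mul, mul_add, ha, hb]
    · intro a b _ _ ha hb; rw [mul_assoc, hb, ← mul_assoc, ha, mul_assoc]
  have hinv : ∀ D : Module.End F (ι → F), D * T = T * D → (LinearMap.ker D).map T ≤ LinearMap.ker D := by
    rintro D hD _ ⟨v, hv, rfl⟩
    rw [LinearMap.mem_ker, ← Module.End.mul_apply, hD, Module.End.mul_apply, LinearMap.mem_ker.1 hv, map_zero]
  haveI : NoZeroDivisors L := ⟨fun {a b} hab => by
    by_contra hno
    push Not at hno
    obtain ⟨v, hv⟩ : ∃ v, (b : Module.End F (ι → F)) v ≠ 0 := by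
      by_contra hb
      push Not at hb
      exact hno.2 (Subtype.ext (LinearMap.ext hb))
    have hker : (b : Module.End F (ι → F)) v ∈ LinearMap.ker (a : Module.End F (ι → F)) :=
      LinearMap.congr_fun (congrArg Subtype.val hab) v
    have := htop _ (hinv _ (hcomm _ a.2)) (fun e => hv (by rw [e] at hker; exact hker))
    exact hno.1 (Subtype.ext (LinearMap.ker_eq_top.1 this))⟩
  haveI : Nontrivial L := ⟨⟨1, 0, fun e => by
    have h1 : (1 : Module.End F (ι → F)) = 0 := congrArg Subtype.val e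
    exact hT1 (by rw [← mul_one T, h1, mul_zero])⟩⟩
  letI : CommRing L := { (inferInstance : Ring L) with
    mul_comm := fun a b => Subtype.ext (by
      refine Algebra.adjoin_induction (p := fun l _ => l * (b : Module.End F (ι → F)) = b * l) ?_ ?_ ?_ ?_ a.2
      · rintro _ rfl; exact (hcomm _ b.2).symm
      · intro c; exact Algebra.commutes c _
      · intro a b' _ _ ha hb; rw [add_mul, mul_add, ha, hb]
      · intro a b' _ _ ha hb; rw [mul_assoc, hb, ← mul_assoc, ha, mul_assoc]) }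
  haveI : IsDomain L := NoZeroDivisors.to_isDomain L
  obtain ⟨v, hv⟩ : ∃ v : ι → F, v ≠ 0 := by
    by_contra hno
    push Not at hno
    exact hT1 (LinearMap.ext fun v => by rw [hno v, map_zero, map_zero])
  let ev : L →ₗ[F] (ι → F) := (LinearMap.applyₗ v).comp L.val.toLinearMap
  have hev : LinearMap.range ev = ⊤ := htop _ (by
      rintro _ ⟨_, ⟨l, rfl⟩, rfl⟩
      exact ⟨⟨T, hTL⟩ * l, rfl⟩) fun e => hv (by
    have h1 : v ∈ LinearMap.range ev := ⟨1, rfl⟩
    rw [e] at h1
    exact h1)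
  obtain ⟨l, hl⟩ : U v ∈ LinearMap.range ev := hev ▸ Submodule.mem_top
  have hUl : U = (l : Module.End F (ι → F)) := by
    have hker : v ∈ LinearMap.ker (U - (l : Module.End F (ι → F))) := by
      rw [LinearMap.mem_ker, LinearMap.sub_apply, sub_eq_zero]; exact hl.symm
    exact sub_eq_zero.1 (LinearMap.ker_eq_top.1 (htop _ (hinv _ (by rw [sub_mul, mul_sub, hTU, hcomm _ l.2]))
      (fun e => hv (by rw [e] at hker; exact hker))))
  have hprim : IsPrimitiveRoot (⟨T, hTL⟩ : L) r := by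
    have h1 : orderOf (⟨T, hTL⟩ : L) = r := orderOf_eq_prime (Subtype.ext (by rw [SubmonoidClass.coe_pow, hT]; rfl))
      fun e => hT1 (congrArg Subtype.val e)
    simpa [h1] using IsPrimitiveRoot.orderOf (⟨T, hTL⟩ : L)
  obtain ⟨i, -, hi⟩ := hprim.eq_pow_of_pow_eq_one (ξ := l) (Subtype.ext (by
    rw [SubmonoidClass.coe_pow, ← hUl, hU]; rfl))
  refine Subgroup.mem_zpowers_iff.2 ⟨(i : ℤ), ?_⟩
  rw [zpow_natCast]
  refine Units.ext (Matrix.toLin'.injective ?_)
  rw [Units.val_pow_eq_pow_val, Matrix.toLin'_pow, ← hTdef, ← hUdef, hUl]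
  exact congrArg Subtype.val hi

/-- A square root of five. -/
theorem exists_golden (hp2 : p ≠ 2) (h5 : p ≠ 5) (ho : orderOf (p : ZMod 5) ≠ 4) :
    ∃ t : F, t * t + t = 1 ∧ t ^ p = t := by
  haveI : Fact (Nat.Prime 5) := ⟨by norm_num⟩
  have hp5 : (p : ZMod 5) ≠ 0 := fun e => by
    rw [ZMod.natCast_eq_zero_iff] at e
    exact h5 ((Nat.prime_dvd_prime_iff_eq (by norm_num) Fact.out).1 e).symm
  have hsq : IsSquare (p : ZMod 5) := by
    have : ∀ z : ZMod 5, z ≠ 0 → ¬ IsSquare z → orderOf z = 4 := by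
      intro z hz hns
      have h2 : z ^ 2 ≠ 1 := fun e => by
        rcases sq_eq_one_iff.1 e with rfl | rfl
        · exact hns IsSquare.one
        · exact hns ⟨2, rfl⟩
      exact orderOf_eq_prime_pow (p := 2) (n := 1) (by simpa using h2) (by
        simpa using ZMod.pow_card_sub_one_eq_one hz)
    by_contra hns
    exact ho (this _ hp5 hns)
  haveI : Fact p.Prime := ‹_›
  obtain ⟨s, hs⟩ := (ZMod.exists_sq_eq_prime_iff_of_mod_four_eq_one (p := 5) (q := p) (by norm_num) hp2).1 hsq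
  have h2 : (2 : F) ≠ 0 := fun e => hp2 (by
    have : ((2 : ℕ) : F) = 0 := by exact_mod_cast e
    rw [CharP.cast_eq_zero_iff F p] at this
    exact (Nat.prime_dvd_prime_iff_eq Fact.out Nat.prime_two).1 this)
  set s' : F := ZMod.castHom dvd_rfl F s
  have hs' : s' * s' = 5 := by
    have := congrArg (ZMod.castHom dvd_rfl F) hs
    rw [map_mul, map_natCast] at this
    exact this.symm.trans (by norm_num)
  refine ⟨(s' - 1) / 2, ?_, ?_⟩
  · field_simp
    linear_combination hs'
  · have e : (s' - 1) / 2 = ZMod.castHom dvd_rfl F ((s - 1) / 2) := by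
      rw [map_div₀, map_sub, map_one, map_ofNat]
    rw [e, ← map_pow, ZMod.pow_card]

end Cfsg.Agent.Pauli
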