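import Cfsg.Agent.Lib.TransvMax.OrthBasic

/-!
Quadratic forms with non-degenerate polar form in any characteristic on a space of dimension at
least seven: Siegel transformations.
-/

set_option autoImplicit false

namespace Cfsg.Agent.QMax

open scoped Matrix MatrixGroups
open Cfsg.Agent Cfsg.Agent.TransvMax

variable {ι : Type} [Fintype ι] [DecidableEq ι] {F : Type*} [Field F]
  {Q : QuadraticForm F (ι → F)}

/-- Non-degenerate polar form, dimension at least seven. -/
structure QSetting (Q : QuadraticForm F (ι → F)) : Prop where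
  nondeg : (QuadraticMap.polarBilin Q).Nondegenerate
  dim : 7 ≤ Fintype.card ι

namespace QSetting

theorem pB_self (_S : QSetting Q) (x : ι → F) : pB Q x x = 2 * Q x := by
  rw [QuadraticMap.polarBilin_apply_apply, FormsLib.polar_self']

theorem pB_comm (_S : QSetting Q) (x y : ι → F) : pB Q x y = pB Q y x := by
  simp only [QuadraticMap.polarBilin_apply_apply, QuadraticMap.polar_comm Q x y]

theorem quad_add (_S : QSetting Q) (x y : ι → F) : Q (x + y) = Q x + Q y + pB Q x y := by
  rw [QuadraticMap.polarBilin_apply_apply, FormsLib.quad_add]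

theorem quad_smul (_S : QSetting Q) (c : F) (x : ι → F) : Q (c • x) = c * c * Q x := by
  rw [QuadraticMap.map_smul, smul_eq_mul]

theorem eq_of_forall (S : QSetting Q) {v w : ι → F} (h : ∀ x, pB Q x v = pB Q x w) : v = w := by
  rw [← sub_eq_zero]
  exact S.nondeg.2 _ fun x => by rw [map_sub, h x, sub_self]

theorem exists_values (S : QSetting Q) {k : ℕ} {v : Fin k → ι → F}
    (hv : LinearIndependent F v) (α : Fin k → F) : ∃ x, ∀ i, pB Q x (v i) = α i := by
  let L : (ι → F) →ₗ[F] (Fin k → F) := LinearMap.pi fun i => (pB Q).flip (v i)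
  have hL : LinearMap.range L = ⊤ := by
    by_contra hne
    obtain ⟨ψ, hψ0, hψ⟩ := Submodule.exists_le_ker_of_lt_top _ (lt_top_iff_ne_top.2 hne)
    have hsum : ∑ i, ψ (Pi.single i 1) • v i = 0 := by
      refine S.eq_of_forall fun x => ?_
      have h1 : ψ (L x) = 0 := hψ ⟨x, rfl⟩
      rw [pi_eq_sum_univ' (L x), map_sum] at h1
      rw [map_zero, ← h1, map_sum]
      refine Finset.sum_congr rfl fun i _ => ?_
      rw [map_smul, map_smul, smul_eq_mul, smul_eq_mul, mul_comm]
      rfl
    refine hψ0 (LinearMap.ext fun y => ?_)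
    rw [pi_eq_sum_univ' y, map_sum, LinearMap.zero_apply]
    refine Finset.sum_eq_zero fun i _ => ?_
    rw [map_smul, Fintype.linearIndependent_iff.1 hv _ hsum i, smul_zero]
  obtain ⟨x, hx⟩ := LinearMap.range_eq_top.1 hL α
  exact ⟨x, fun i => congrFun hx i⟩

/-- In characteristic two everything is a square. -/
theorem exists_sq [Finite F] (_S : QSetting Q) (h2 : (2 : F) = 0) (c : F) : ∃ t : F, t * t = c := by
  have hc : ringChar F = 2 := by
    by_contra h
    exact Ring.two_ne_zero h h2
  obtain ⟨t, ht⟩ := FiniteField.isSquare_of_char_two hc c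
  exact ⟨t, ht.symm⟩

/-- Binary forms with non-zero coefficients represent everything. -/
theorem exists_binary [Finite F] (S : QSetting Q) {a b : F} (ha : a ≠ 0) (hb : b ≠ 0) (c : F) :
    ∃ s t : F, a * (s * s) + b * (t * t) = c := by
  have := Fintype.ofFinite F
  by_cases h2 : (2 : F) = 0
  · obtain ⟨s, hs⟩ := S.exists_sq h2 (c / a)
    exact ⟨s, 0, by rw [hs, mul_zero, mul_zero, add_zero, mul_div_cancel₀ _ ha]⟩
  obtain ⟨s, t, h⟩ := FiniteField.exists_root_sum_quadratic
    (f := Polynomial.C a * Polynomial.X ^ 2)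
    (g := Polynomial.C b * Polynomial.X ^ 2 + Polynomial.C (-c))
    (by rw [Polynomial.degree_C_mul_X_pow 2 ha]; rfl)
    (by rw [Polynomial.degree_add_C (by rw [Polynomial.degree_C_mul_X_pow 2 hb]; decide),
          Polynomial.degree_C_mul_X_pow 2 hb]; rfl)
    (Nat.odd_iff.1 (Nat.odd_iff.mpr (FiniteField.odd_card_of_char_ne_two fun h =>
      h2 (by have := CharP.cast_eq_zero F (ringChar F); rw [h] at this; exact_mod_cast this))))
  refine ⟨s, t, ?_⟩
  simp only [Polynomial.eval_add, Polynomial.eval_mul, Polynomial.eval_C, Polynomial.eval_pow,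
    Polynomial.eval_X] at h
  linear_combination h

theorem siegelHom_siegelHom (S : QSetting Q) {u w w' : ι → F} (hu : Q u = 0)
    (hw : pB Q w u = 0) (hw' : pB Q w' u = 0) (x : ι → F) :
    siegelHom Q u w (siegelHom Q u w' x) = siegelHom Q u (w + w') x := by
  have huu : pB Q u u = 0 := by rw [S.pB_self, hu, mul_zero]
  have huw : pB Q u w = 0 := by rw [S.pB_comm, hw]
  simp only [siegelHom_apply, map_add, map_sub, map_smul, LinearMap.add_apply, LinearMap.sub_apply,
    LinearMap.smul_apply, smul_eq_mul, hw', huu, huw, S.quad_add, S.pB_comm w' w, mul_zero, add_zero,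
    sub_zero]
  module

theorem siegelHom_zero (_S : QSetting Q) (u x : ι → F) : siegelHom Q u 0 x = x := by
  simp [siegelHom_apply]

/-- The Siegel transformation as an automorphism. -/
noncomputable def siegel (S : QSetting Q) (u w : ι → F) (hu : Q u = 0) (hw : pB Q w u = 0) :
    (ι → F) ≃ₗ[F] (ι → F) :=
  LinearEquiv.ofLinearMap (siegelHom Q u w) (siegelHom Q u (-w))
    (LinearMap.ext fun x => by
      rw [LinearMap.comp_apply, S.siegelHom_siegelHom hu hw (by simpa using hw), add_neg_cancel,
        S.siegelHom_zero]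
      rfl)
    (LinearMap.ext fun x => by
      rw [LinearMap.comp_apply, S.siegelHom_siegelHom hu (by simpa using hw) hw, neg_add_cancel,
        S.siegelHom_zero]
      rfl)

theorem siegel_apply (S : QSetting Q) {u w : ι → F} (hu : Q u = 0) (hw : pB Q w u = 0)
    (x : ι → F) : S.siegel u w hu hw x = siegelHom Q u w x := rfl

theorem siegel_quad (S : QSetting Q) {u w : ι → F} (hu : Q u = 0) (hw : pB Q w u = 0)
    (x : ι → F) : Q (S.siegel u w hu hw x) = Q x := by
  rw [S.siegel_apply, siegelHom_apply, sub_sub, ← add_smul, sub_eq_add_neg, ← neg_smul, S.quad_add,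
    S.quad_add, S.quad_smul, S.quad_smul, map_smul, map_smul, map_add, LinearMap.add_apply,
    map_smul, LinearMap.smul_apply, hu, hw]
  simp only [smul_eq_mul]
  ring

theorem siegel_congr (S : QSetting Q) {u w u' w' : ι → F} {hu : Q u = 0} {hw : pB Q w u = 0}
    {hu' : Q u' = 0} {hw' : pB Q w' u' = 0} (e1 : u = u') (e2 : w = w') :
    S.siegel u w hu hw = S.siegel u' w' hu' hw' := by
  subst e1 e2; rfl

theorem siegel_mul (S : QSetting Q) {u w w' : ι → F} (hu : Q u = 0) (hw : pB Q w u = 0)
    (hw' : pB Q w' u = 0) :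
    S.siegel u w hu hw * S.siegel u w' hu hw' =
      S.siegel u (w + w') hu (by rw [map_add, LinearMap.add_apply, hw, hw', add_zero]) :=
  LinearEquiv.ext fun x => S.siegelHom_siegelHom hu hw hw' x

theorem siegel_inv (S : QSetting Q) {u w : ι → F} (hu : Q u = 0) (hw : pB Q w u = 0) :
    (S.siegel u w hu hw)⁻¹ = S.siegel u (-w) hu (by rw [map_neg, LinearMap.neg_apply, hw, neg_zero]) := by
  refine inv_eq_of_mul_eq_one_right (LinearEquiv.ext fun x => ?_)
  rw [S.siegel_mul, S.siegel_apply, add_neg_cancel, S.siegelHom_zero]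
  rfl

theorem siegel_smul (S : QSetting Q) {u w : ι → F} (c : F) (hu : Q u = 0)
    (h1 : Q (c • u) = 0) (h2 : pB Q w (c • u) = 0) (h3 : pB Q (c • w) u = 0) :
    S.siegel (c • u) w h1 h2 = S.siegel u (c • w) hu h3 := by
  refine LinearEquiv.ext fun x => ?_
  simp only [S.siegel_apply, siegelHom_apply, map_smul, S.quad_smul, smul_eq_mul, smul_smul]
  module

theorem siegel_mem_oGroup (S : QSetting Q) {u w : ι → F} (hu : Q u = 0) (hw : pB Q w u = 0) :
    S.siegel u w hu hw ∈ FormsLib.oGroup Q := fun v => S.siegel_quad hu hw v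

theorem pB_of_mem (_S : QSetting Q) {g : (ι → F) ≃ₗ[F] (ι → F)} (hg : g ∈ FormsLib.oGroup Q)
    (x y : ι → F) : pB Q (g x) (g y) = pB Q x y := by
  simp only [QuadraticMap.polarBilin_apply_apply, FormsLib.polar_of_mem hg]

theorem siegel_conj (S : QSetting Q) {g : (ι → F) ≃ₗ[F] (ι → F)} (hg : g ∈ FormsLib.oGroup Q)
    {u w : ι → F} (hu : Q u = 0) (hw : pB Q w u = 0) :
    g * S.siegel u w hu hw * g⁻¹ =
      S.siegel (g u) (g w) (by rw [hg u, hu]) (by rw [S.pB_of_mem hg, hw]) := by
  refine LinearEquiv.ext fun x => ?_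
  simp only [LinearEquiv.mul_apply, S.siegel_apply, siegelHom_apply, map_sub, map_add, map_smul]
  rw [show (g⁻¹ : (ι → F) ≃ₗ[F] (ι → F)) = g.symm from rfl, LinearEquiv.apply_symm_apply, hg w]
  have e : ∀ z, pB Q (g.symm x) z = pB Q x (g z) := fun z => by
    rw [← S.pB_of_mem hg, LinearEquiv.apply_symm_apply]
  rw [e, e]

/-- A Siegel transformation moves one vector to another of equal norm. -/
theorem siegel_map (S : QSetting Q) {x y u : ι → F} (hu : Q u = 0) (hxu : pB Q x u = 1)
    (h : Q x = Q y) (hw : pB Q (y - x) u = 0) : S.siegel u (y - x) hu hw x = y := by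
  have h2 := S.quad_add x (y - x)
  rw [add_sub_cancel] at h2
  rw [S.siegel_apply, siegelHom_apply, hxu, one_smul, mul_one, sub_sub, ← add_smul,
    show pB Q x (y - x) + Q (y - x) = 0 by linear_combination -h2 - h, zero_smul, sub_zero,
    add_sub_cancel]

end QSetting

end Cfsg.Agent.QMax
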