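import Cfsg.Agent.Lib.TransvMax.QuadSubspace

/-!
Two isometric orthogonal halves of even dimension contain a totally singular half; stabilisers of
hyperbolic planes over two or three elements.
-/

set_option autoImplicit false

namespace Cfsg.Agent.QMax

open scoped Matrix MatrixGroups
open Cfsg.Agent Cfsg.Agent.TransvMax

variable {ι : Type} [Fintype ι] [DecidableEq ι] {F : Type*} [Field F] [Finite F]
  {Q : QuadraticForm F (ι → F)} {S : QSetting Q} {W U : Submodule F (ι → F)}

/-- Isometric orthogonal members of equal even dimension give a plus type space. -/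
theorem ODec.exists_singular_half (D : ODec S W U) {g : (ι → F) ≃ₗ[F] (ι → F)}
    (hg : g ∈ FormsLib.oGroup Q) (hgW : ∀ x ∈ W, g x ∈ U) {r : ℕ}
    (hr : Module.finrank F W = r + r) :
    ∃ X : Submodule F (ι → F), (∀ x ∈ X, Q x = 0) ∧ Module.finrank F X = r + r := by
  by_cases h2 : (2 : F) = 0
  · refine ⟨W.map ((g : (ι → F) →ₗ[F] (ι → F)) + LinearMap.id), ?_, ?_⟩
    · rintro _ ⟨x, hx, rfl⟩
      show Q (g x + x) = 0
      rw [S.quad_add, hg, D.orth' hx (hgW x hx), add_zero, ← two_mul, h2, zero_mul]
    · rw [← hr, ← LinearMap.range_domRestrict W]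
      refine LinearMap.finrank_range_of_inj fun x y h => ?_
      have hxy : g (x.1 - y.1) + (x.1 - y.1) = 0 := by
        have h' : g x.1 + x.1 = g y.1 + y.1 := h
        rw [map_sub]
        linear_combination (norm := module) h'
      have h3 : (x.1 - y.1) ∈ U := by
        rw [← neg_eq_of_add_eq_zero_right hxy]
        exact U.neg_mem (hgW _ (W.sub_mem x.2 y.2))
      exact Subtype.ext (sub_eq_zero.1 (D.eq_zero (W.sub_mem x.2 y.2) h3))
  haveI : Invertible (2 : F) := invertibleOfNonzero h2
  obtain ⟨b, hb⟩ := LinearMap.BilinForm.exists_orthogonal_basis (B := (pB Q).restrict W)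
    ⟨fun x y => S.pB_comm x.1 y.1⟩
  let e : Fin r ⊕ Fin r ≃ Fin (Module.finrank F W) := finSumFinEquiv.trans (finCongr hr.symm)
  let a : Fin r ⊕ Fin r → ι → F := fun i => (b (e i) : ι → F)
  have haW : ∀ i, a i ∈ W := fun i => (b (e i)).2
  have horth : ∀ i j, i ≠ j → pB Q (a i) (a j) = 0 := fun i j hij => hb fun h => hij (e.injective h)
  have haQ : ∀ i, Q (a i) ≠ 0 := by
    intro i h0
    obtain ⟨c, hc, hci⟩ := D.swap.exists_ne (haW i)
      (fun h => b.ne_zero (e i) (Subtype.ext h))
    have hsum : c = ∑ k, b.repr ⟨c, hc⟩ k • (b k : ι → F) := by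
      have h5 := congrArg Subtype.val (b.sum_repr ⟨c, hc⟩)
      simp only [Submodule.coe_sum, Submodule.coe_smul] at h5
      exact h5.symm
    refine hci ?_
    rw [hsum, map_sum, LinearMap.sum_apply]
    refine Finset.sum_eq_zero fun k _ => ?_
    rcases eq_or_ne k (e i) with rfl | hki
    · rw [map_smul, LinearMap.smul_apply, S.pB_self]
      show _ • (2 * Q (a i)) = 0
      rw [h0, mul_zero, smul_zero]
    · rw [map_smul, LinearMap.smul_apply, show pB Q (b k : ι → F) (a i) = 0 from hb hki, smul_zero]
  have hga : ∀ i j, pB Q (a i) (g (a j)) = 0 := fun i j => D.orth _ (haW i) _ (hgW _ (haW j))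
  have hga' : ∀ i j, pB Q (g (a i)) (a j) = 0 := fun i j => D.orth' (haW j) (hgW _ (haW i))
  have hgg : ∀ i j, pB Q (g (a i)) (g (a j)) = pB Q (a i) (a j) := fun i j => S.pB_of_mem hg _ _
  choose s t hst using fun i : Fin r => S.exists_binary (haQ (.inl i)) (haQ (.inl i)) (-Q (a (.inr i)))
  let v : Fin r ⊕ Fin r → ι → F := Sum.elim
    (fun i => s i • a (.inl i) + t i • g (a (.inl i)) + a (.inr i))
    (fun i => (-t i) • a (.inl i) + s i • g (a (.inl i)) + g (a (.inr i)))
  have hll : ∀ i k, i ≠ k → pB Q (a (.inl i)) (a (.inl k)) = 0 := fun i k h => horth _ _ (by simpa)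
  have hrr : ∀ i k, i ≠ k → pB Q (a (.inr i)) (a (.inr k)) = 0 := fun i k h => horth _ _ (by simpa)
  have hlr : ∀ i k, pB Q (a (.inl i)) (a (.inr k)) = 0 := fun i k => horth _ _ Sum.inl_ne_inr
  have hrl : ∀ i k, pB Q (a (.inr i)) (a (.inl k)) = 0 := fun i k => horth _ _ Sum.inr_ne_inl
  have hQv : ∀ i, Q (v i) = 0 := by
    rintro (i | i) <;>
    · simp only [v, Sum.elim_inl, Sum.elim_inr, S.quad_add, S.quad_smul, hg _, map_add, map_smul,
        LinearMap.add_apply, LinearMap.smul_apply, smul_eq_mul, hga, hga', hgg, hlr, mul_zero, add_zero]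
      linear_combination hst i
  have hBv : ∀ i j, pB Q (v i) (v j) = 0 := by
    rintro (i | i) (k | k) <;> (
      simp only [v, Sum.elim_inl, Sum.elim_inr, map_add, map_smul, LinearMap.add_apply,
        LinearMap.smul_apply, smul_eq_mul, hga, hga', hgg, hlr, hrl, mul_zero, add_zero, zero_add]
      rcases eq_or_ne i k with rfl | h
      · simp only [S.pB_self]
        first | linear_combination 2 * hst i | ring
      · simp only [hll i k h, hrr i k h, mul_zero, add_zero])
  have hli : LinearIndependent F v := by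
    rw [Fintype.linearIndependent_iff]
    intro c hc
    have hc1 : ∀ k, c (.inl k) * (2 * Q (a (.inr k))) = 0 := by
      intro k
      have h := congrArg (fun z => pB Q z (a (.inr k))) hc
      simp only [map_sum, LinearMap.sum_apply, map_smul, LinearMap.smul_apply, smul_eq_mul, map_zero,
        LinearMap.zero_apply] at h
      rw [Fintype.sum_sum_type] at h
      simp only [v, Sum.elim_inl, Sum.elim_inr, map_add, map_smul, LinearMap.add_apply,
        LinearMap.smul_apply, smul_eq_mul, hga', hlr, mul_zero, zero_add, add_zero,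
        Finset.sum_const_zero] at h
      rw [Finset.sum_eq_single k (fun m _ hm => by rw [hrr m k hm, mul_zero])
        (fun hk => absurd (Finset.mem_univ k) hk), S.pB_self] at h
      exact h
    have hc2 : ∀ k, c (.inr k) * (2 * Q (a (.inr k))) = 0 := by
      intro k
      have h := congrArg (fun z => pB Q z (g (a (.inr k)))) hc
      simp only [map_sum, LinearMap.sum_apply, map_smul, LinearMap.smul_apply, smul_eq_mul, map_zero,
        LinearMap.zero_apply] at h
      rw [Fintype.sum_sum_type] at h
      simp only [v, Sum.elim_inl, Sum.elim_inr, map_add, map_smul, LinearMap.add_apply,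
        LinearMap.smul_apply, smul_eq_mul, hga, hgg, hlr, mul_zero, zero_add, add_zero,
        Finset.sum_const_zero] at h
      rw [Finset.sum_eq_single k (fun m _ hm => by rw [hrr m k hm, mul_zero])
        (fun hk => absurd (Finset.mem_univ k) hk), S.pB_self] at h
      exact h
    rintro (k | k)
    · exact (mul_eq_zero.1 (hc1 k)).resolve_right (mul_ne_zero h2 (haQ _))
    · exact (mul_eq_zero.1 (hc2 k)).resolve_right (mul_ne_zero h2 (haQ _))
  refine ⟨Submodule.span F (Set.range v), fun x hx => ?_, ?_⟩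
  · have hker : ∀ i, Submodule.span F (Set.range v) ≤ LinearMap.ker (pB Q (v i)) := fun i => by
      rw [Submodule.span_le]
      rintro _ ⟨k, rfl⟩
      exact hBv i k
    induction hx using Submodule.span_induction with
    | mem y hy => obtain ⟨i, rfl⟩ := hy; exact hQv i
    | zero => exact QuadraticMap.map_zero Q
    | add y z hy hz h1 h3 =>
      rw [S.quad_add, h1, h3, zero_add, zero_add]
      have : Submodule.span F (Set.range v) ≤ LinearMap.ker ((pB Q).flip z) := by
        rw [Submodule.span_le]
        rintro _ ⟨i, rfl⟩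
        exact hker i hz
      exact this hy
    | smul k y _ h1 => rw [S.quad_smul, h1, mul_zero]
  · rw [finrank_span_eq_card hli, Fintype.card_sum, Fintype.card_fin]

/-- Over two or three elements the stabiliser of a hyperbolic plane is not maximal. -/
theorem plane_not_maximal (S : QSetting Q) (hdim : 9 ≤ Fintype.card ι) (hq : Nat.card F ≤ 3)
    (W : Submodule F (ι → F)) (hW2 : Module.finrank F W = 2)
    (hnd : ∀ w ∈ W, w ≠ 0 → ∃ x ∈ W, pB Q x w ≠ 0) {e : ι → F} (he : e ∈ W) (he0 : e ≠ 0)
    (hQe : Q e = 0) :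
    ∃ K : Subgroup (GL ι F), Cfsg.Geo.subspaceStabilizer W ⊓ Cfsg.Geo.omegaGL ⇑Q < K ∧
      K < Cfsg.Geo.omegaGL ⇑Q := by
  obtain ⟨U, D⟩ := exists_ODec S W hnd
  obtain ⟨f₀, hf₀, hef₀⟩ := hnd e he he0
  obtain ⟨f, hf, hQf, hef⟩ : ∃ f ∈ W, Q f = 0 ∧ pB Q e f = 1 := by
    obtain ⟨f₁, hf₁, h1⟩ : ∃ f₁ ∈ W, pB Q e f₁ = 1 := ⟨(pB Q f₀ e)⁻¹ • f₀, W.smul_mem _ hf₀, by
      rw [S.pB_comm, map_smul, LinearMap.smul_apply, smul_eq_mul, inv_mul_cancel₀ hef₀]⟩
    refine ⟨f₁ - Q f₁ • e, W.sub_mem hf₁ (W.smul_mem _ he), ?_, ?_⟩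
    · rw [sub_eq_add_neg, ← neg_smul, S.quad_add, S.quad_smul, hQe, map_smul, smul_eq_mul,
        S.pB_comm f₁ e, h1]
      ring
    · rw [map_sub, map_smul, h1, S.pB_self, hQe, mul_zero, smul_zero, sub_zero]
  have hee : pB Q e e = 0 := by rw [S.pB_self, hQe, mul_zero]
  have hfe : pB Q f e = 1 := by rw [S.pB_comm, hef]
  have hff : pB Q f f = 0 := by rw [S.pB_self, hQf, mul_zero]
  have hli : LinearIndependent F ![e, f] := (LinearIndependent.pair_iff' he0).2 fun c h => by
    rw [← h, map_smul, hee, smul_zero] at hef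
    exact zero_ne_one hef
  have hspan : Submodule.span F (Set.range ![e, f]) = W := by
    refine Submodule.eq_of_le_of_finrank_eq (Submodule.span_le.2 ?_)
      (by rw [finrank_span_eq_card hli, Fintype.card_fin, hW2])
    rintro _ ⟨i, rfl⟩
    fin_cases i
    · exact he
    · exact hf
  set p := e + f with hpdef
  have hQp : Q p = 1 := by rw [hpdef, S.quad_add, hQe, hQf, hef]; ring
  have hp0 : p ≠ 0 := fun h => by simp [h] at hQp
  have hpW : p ∈ W := W.add_mem he hf
  have hinv : ∀ c : F, c ≠ 0 → c * c = 1 := by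
    intro c hc
    haveI := Fintype.ofFinite F
    have h1 := FiniteField.pow_card_sub_one_eq_one c hc
    rw [Nat.card_eq_fintype_card] at hq
    have h2 := Fintype.one_lt_card (α := F)
    obtain h3 | h3 : Fintype.card F = 2 ∨ Fintype.card F = 3 := by omega
    · rw [h3, show (2 : ℕ) - 1 = 1 from rfl, pow_one] at h1
      rw [h1, one_mul]
    · rw [h3, show (3 : ℕ) - 1 = 2 from rfl, pow_two] at h1
      exact h1
  obtain ⟨u, hu, hQu, -, hu0⟩ := D.exists_norm_out (k := 0) ![] ⊥
    (by have := D.finrank_add; omega) (by have := D.finrank_add; rw [finrank_bot]; omega) 0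
  rw [Submodule.mem_bot] at hu0
  have hstab : ∀ (g : (ι → F) ≃ₗ[F] (ι → F)) (X : Submodule F (ι → F)),
      glOf g ∈ Cfsg.Geo.subspaceStabilizer X ↔ ∀ x, (x ∈ X ↔ g x ∈ X) := fun g X => by
    refine ⟨fun h x => ?_, fun h x => ?_⟩
    · have := h x
      simpa [glToMat] using this
    · simpa [glToMat] using h x
  refine ⟨Cfsg.Geo.subspaceStabilizer (Submodule.span F {p}) ⊓ Cfsg.Geo.omegaGL ⇑Q, ?_, ?_⟩
  · refine lt_of_le_of_ne (fun g hg => ⟨?_, hg.2⟩) fun h => ?_
    · have ho := omegaGL_iso S hg.2
      have hgs := hg.1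
      rw [← glOf_linOf g] at hgs ⊢
      set L := linOf g
      have hLW := (hstab L W).1 hgs
      have hrep : ∀ x ∈ W, ∃ α β : F, x = α • e + β • f := fun x hx => by
        rw [← hspan, Submodule.mem_span_range_iff_exists_fun] at hx
        obtain ⟨c, hc⟩ := hx
        exact ⟨c 0, c 1, by rw [← hc, Fin.sum_univ_two]; rfl⟩
      obtain ⟨α, β, hαβ⟩ := hrep _ ((hLW e).1 he)
      obtain ⟨γ, δ, hγδ⟩ := hrep _ ((hLW f).1 hf)
      have h1 := ho e
      have h3 := ho f
      have h4 := S.pB_of_mem ho e f
      rw [hαβ, S.quad_add, S.quad_smul, S.quad_smul, hQe, hQf, map_smul, map_smul,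
        LinearMap.smul_apply, hef, smul_eq_mul, smul_eq_mul] at h1
      rw [hγδ, S.quad_add, S.quad_smul, S.quad_smul, hQe, hQf, map_smul, map_smul,
        LinearMap.smul_apply, hef, smul_eq_mul, smul_eq_mul] at h3
      rw [hαβ, hγδ, hef] at h4
      simp only [map_add, map_smul, LinearMap.add_apply, LinearMap.smul_apply, smul_eq_mul, hee, hfe,
        hff, hef] at h4
      obtain ⟨k, hk, hLp⟩ : ∃ k : F, k ≠ 0 ∧ L p = k • p := by
        have hpp : L p = (α + γ) • e + (β + δ) • f := by
          rw [hpdef, map_add, hαβ, hγδ]; module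
        rcases eq_or_ne β 0 with rfl | hβ
        · have hαδ : α * δ = 1 := by linear_combination h4
          have hα : α ≠ 0 := left_ne_zero_of_mul_eq_one hαδ
          have hγ : γ = 0 := (mul_eq_zero.1 (by linear_combination h3 : γ * δ = 0)).resolve_right
            (right_ne_zero_of_mul_eq_one hαδ)
          refine ⟨α, hα, ?_⟩
          have : δ = α := by linear_combination α * hαδ - δ * hinv α hα
          rw [hpp, hγ, this, hpdef]; module
        · have hα : α = 0 := (mul_eq_zero.1 (by linear_combination h1 : α * β = 0)).resolve_right hβ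
          have hβγ : β * γ = 1 := by rw [hα] at h4; linear_combination h4
          have hδ : δ = 0 := (mul_eq_zero.1 (by linear_combination h3 : γ * δ = 0)).resolve_left
            (right_ne_zero_of_mul_eq_one hβγ)
          refine ⟨β, hβ, ?_⟩
          have : γ = β := by linear_combination β * hβγ - γ * hinv β hβ
          rw [hpp, hα, hδ, this, hpdef]; module
      refine (hstab L _).2 fun x => ⟨fun hx => ?_, fun hx => ?_⟩
      · obtain ⟨c, rfl⟩ := Submodule.mem_span_singleton.1 hx
        rw [map_smul, hLp, smul_smul]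
        exact Submodule.smul_mem _ _ (Submodule.mem_span_singleton_self p)
      · obtain ⟨c, hc⟩ := Submodule.mem_span_singleton.1 hx
        refine Submodule.mem_span_singleton.2 ⟨c / k, L.injective ?_⟩
        rw [map_smul, hLp, smul_smul, div_mul_cancel₀ _ hk, hc]
    · have hw : pB Q (e - f) u = 0 := D.orth _ (W.sub_mem he hf) u hu
      set T := S.siegel u (e - f) hQu hw
      have hTp : T p = p := by
        rw [S.siegel_apply, siegelHom_apply, D.orth p hpW u hu]
        simp only [hpdef, map_add, map_sub, LinearMap.add_apply, hee, hfe, hff, hef]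
        module
      have hT : glOf T ∈ Cfsg.Geo.subspaceStabilizer (Submodule.span F {p}) ⊓
          Cfsg.Geo.omegaGL ⇑Q := by
        refine ⟨(hstab T _).2 fun x => ⟨fun hx => ?_, fun hx => ?_⟩, glOf_siegel_mem_omega S hQu hw⟩
        · obtain ⟨c, rfl⟩ := Submodule.mem_span_singleton.1 hx
          rw [map_smul, hTp]
          exact Submodule.smul_mem _ _ (Submodule.mem_span_singleton_self p)
        · obtain ⟨c, hc⟩ := Submodule.mem_span_singleton.1 hx
          exact Submodule.mem_span_singleton.2 ⟨c, T.injective (by rw [map_smul, hTp, hc])⟩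
      rw [← h] at hT
      have h1 := ((hstab T W).1 hT.1 e).1 he
      rw [S.siegel_apply, siegelHom_apply, D.orth e he u hu] at h1
      simp only [map_sub, hee, hef, zero_sub, zero_smul, add_zero, mul_zero, sub_zero, neg_smul,
        one_smul, sub_neg_eq_add] at h1
      exact hu0 (D.eq_zero (by simpa using W.sub_mem h1 he) hu)
  · refine lt_of_le_of_ne inf_le_right fun h => ?_
    have hw : pB Q e u = 0 := D.orth e he u hu
    have hT := glOf_siegel_mem_omega S hQu hw
    rw [← h] at hT
    have h1 := ((hstab _ _).1 hT.1 p).1 (Submodule.mem_span_singleton_self p)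
    rw [S.siegel_apply, siegelHom_apply, D.orth p hpW u hu] at h1
    simp only [hpdef, map_add, LinearMap.add_apply, hee, hfe, zero_add, zero_smul, add_zero, mul_zero,
      sub_zero, one_smul] at h1
    obtain ⟨c, hc⟩ := Submodule.mem_span_singleton.1 h1
    refine hu0 (D.eq_zero ?_ hu)
    have : u = e + f - c • (e + f) := by rw [hc]; module
    rw [this]
    exact W.sub_mem hpW (W.smul_mem c hpW)

end Cfsg.Agent.QMax
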