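import Cfsg.Agent.Lib.Forms.Alt
import Cfsg.Agent.Lib.Forms.Orth

/-!
Overgroups of an orthogonal group in characteristic two inside the symplectic group of its polar form.
-/

set_option autoImplicit false

namespace Cfsg.Agent.TransvMax

open Cfsg.Agent

variable {F V : Type*} [Field F] [AddCommGroup V] [Module F V] [FiniteDimensional F V]
  {B : LinearMap.BilinForm F V} {Q : QuadraticForm F V}

omit [FiniteDimensional F V] in
theorem quad_tau (hA : LinearMap.IsAlt B) (hpol : ∀ x y, QuadraticMap.polar Q x y = B x y)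
    (w : V) (c : F) (v : V) :
    Q (FormsLib.tau hA w c v) = Q v + B v w * B v w * (c * c * Q w + c) := by
  rw [FormsLib.tau_apply, FormsLib.quad_add, QuadraticMap.map_smul, hpol, map_smul, smul_eq_mul,
    smul_eq_mul]
  ring

omit [FiniteDimensional F V] in
theorem tau_mem_oGroup [CharP F 2] (hA : LinearMap.IsAlt B)
    (hpol : ∀ x y, QuadraticMap.polar Q x y = B x y) {w : V} {c : F} (h : c * Q w = 1) :
    FormsLib.tau hA w c ∈ FormsLib.oGroup Q := fun v => by
  rw [quad_tau hA hpol, mul_assoc c c, h, mul_one, CharTwo.add_self_eq_zero, mul_zero, add_zero]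

/-- A vector orthogonal to a few given vectors with non-zero quadratic value. -/
theorem exists_perp_nonsingular (hB : LinearMap.Nondegenerate B)
    (hA : LinearMap.IsAlt B) (hpol : ∀ x y, QuadraticMap.polar Q x y = B x y)
    {k : ℕ} (u : Fin k → V) (hk : 2 * k < Module.finrank F V) :
    ∃ p, (∀ i, B p (u i) = 0) ∧ Q p ≠ 0 := by
  by_contra hc
  push Not at hc
  let L : V →ₗ[F] (Fin k → F) := LinearMap.pi fun i => B.flip (u i)
  have hQ : ∀ p ∈ LinearMap.ker L, Q p = 0 := fun p hp => hc p fun i => congrFun hp i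
  have hiso : ∀ x ∈ LinearMap.ker L, ∀ y ∈ LinearMap.ker L, B x y = 0 := fun x hx y hy => by
    rw [← hpol, QuadraticMap.polar, hQ _ (Submodule.add_mem _ hx hy), hQ _ hx, hQ _ hy, sub_zero,
      sub_zero]
  have h1 : LinearMap.ker L ≤ B.orthogonal (LinearMap.ker L) := fun x hx y hy => hiso y hy x hx
  have h2 := Submodule.finrank_mono h1
  rw [LinearMap.BilinForm.finrank_orthogonal hB] at h2
  have h3 := LinearMap.finrank_range_add_finrank_ker L
  have h4 := Submodule.finrank_le (LinearMap.range L)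
  rw [Module.finrank_fintype_fun_eq_card, Fintype.card_fin] at h4
  omega

/-- The common setting: characteristic two, all elements are squares, dimension at least seven. -/
structure QuadSetting (B : LinearMap.BilinForm F V) (Q : QuadraticForm F V) : Prop where
  char : CharP F 2
  squares : ∀ a : F, ∃ b : F, b * b = a
  alt : LinearMap.IsAlt B
  nondeg : LinearMap.Nondegenerate B
  pol : ∀ x y, QuadraticMap.polar Q x y = B x y
  dim : 7 ≤ Module.finrank F V

/-- Adjust a vector along an orthogonal non-singular vector to get any quadratic value. -/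
theorem QuadSetting.exists_adjust (S : QuadSetting B Q) (z₀ u u' : V) (α : F) :
    ∃ z, B z u = B z₀ u ∧ B z u' = B z₀ u' ∧ Q z = α := by
  obtain ⟨p, hp, hp0⟩ := exists_perp_nonsingular S.nondeg S.alt S.pol ![u, u', z₀]
    (by have := S.dim; omega)
  obtain ⟨t, ht⟩ := S.squares ((α - Q z₀) / Q p)
  refine ⟨z₀ + t • p, ?_, ?_, ?_⟩
  · have h : B p u = 0 := hp 0
    simp [h]
  · have h : B p u' = 0 := hp 1
    simp [h]
  · have h : B p z₀ = 0 := hp 2
    rw [FormsLib.quad_add, QuadraticMap.map_smul, QuadraticMap.polar_smul_right,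
      QuadraticMap.polar_comm, S.pol, h, smul_eq_mul, smul_eq_mul, ht, mul_zero, add_zero,
      div_mul_cancel₀ _ hp0]
    ring

theorem QuadSetting.exists_pair_value (S : QuadSetting B Q) {u u' : V} (hu : u ≠ 0) (hu' : u' ≠ 0)
    (α : F) : ∃ z, B z u ≠ 0 ∧ B z u' ≠ 0 ∧ Q z = α := by
  obtain ⟨x, hx⟩ : ∃ x, B.flip u x ≠ 0 := by
    by_contra hc
    push Not at hc
    exact hu (S.nondeg.2 u hc)
  obtain ⟨y, hy⟩ : ∃ y, B.flip u' y ≠ 0 := by
    by_contra hc
    push Not at hc
    exact hu' (S.nondeg.2 u' hc)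
  obtain ⟨z₀, h1, h2⟩ := FormsLib.exists_ne_zero_pair hx hy
  obtain ⟨z, e1, e2, e3⟩ := S.exists_adjust z₀ u u' α
  exact ⟨z, e1 ▸ h1, e2 ▸ h2, e3⟩

/-- The orthogonal group is transitive on non-zero singular vectors. -/
theorem QuadSetting.exists_map_singular (S : QuadSetting B Q) {u u' : V} (hu : u ≠ 0) (hu' : u' ≠ 0)
    (h : Q u = 0) (h' : Q u' = 0) : ∃ g ∈ FormsLib.oGroup Q, g u = u' := by
  have := S.char
  have step : ∀ a b : V, Q a = 0 → Q b = 0 → B a b ≠ 0 → ∃ g ∈ FormsLib.oGroup Q, g a = b := by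
    intro a b ha hb hab
    refine ⟨FormsLib.tau S.alt (a + b) (B a b)⁻¹, tau_mem_oGroup S.alt S.pol ?_, ?_⟩
    · rw [FormsLib.quad_add, ha, hb, S.pol, zero_add, zero_add, inv_mul_cancel₀ hab]
    · rw [FormsLib.tau_apply, map_add, S.alt a, zero_add, inv_mul_cancel₀ hab, one_smul, ← add_assoc,
        ← two_smul F a, CharTwo.two_eq_zero, zero_smul, zero_add]
  obtain ⟨z, hz, hz', hzQ⟩ := S.exists_pair_value hu hu' 0
  obtain ⟨g, hg, hgu⟩ := step u z h hzQ (by
    rw [FormsLib.alt_swap S.alt z u]; exact neg_ne_zero.mpr hz)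
  obtain ⟨g', hg', hgz⟩ := step z u' hzQ h' hz'
  exact ⟨g' * g, mul_mem hg' hg, by rw [LinearEquiv.mul_apply, hgu, hgz]⟩

/-- A proper overgroup of the orthogonal group in the isometry group contains all transvections. -/
theorem QuadSetting.tauGroup_le_of_over (S : QuadSetting B Q) {K : Subgroup (V ≃ₗ[F] V)}
    (hOK : FormsLib.oGroup Q ≤ K) (hK : K ≤ FormsLib.isoGroup B) {g : V ≃ₗ[F] V} (hgK : g ∈ K)
    (hg : g ∉ FormsLib.oGroup Q) : FormsLib.tauGroup S.alt ≤ K := by
  have := S.char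
  let P : V → F → Prop := fun w c => FormsLib.tau S.alt w c ∈ K
  have hconj : ∀ (h : V ≃ₗ[F] V), h ∈ K → ∀ w c, P w c → P (h w) c := fun h hh w c hw => by
    show FormsLib.tau S.alt (h w) c ∈ K
    rw [← FormsLib.tau_conj S.alt (hK hh) w c]
    exact K.mul_mem (K.mul_mem hh hw) (K.inv_mem hh)
  have hPH : ∀ w c, c * Q w = 1 → P w c := fun w c h => hOK (tau_mem_oGroup S.alt S.pol h)
  obtain ⟨a, c, ha0, hc, hac, hPa⟩ : ∃ a c, a ≠ 0 ∧ c ≠ 0 ∧ c * Q a ≠ 1 ∧ P a c := by
    obtain ⟨h, hh, v, hv, hne⟩ : ∃ h ∈ K, ∃ v, Q v ≠ 0 ∧ Q (h v) ≠ Q v := by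
      obtain ⟨v, hv⟩ : ∃ v, Q (g v) ≠ Q v := by
        by_contra hcon
        push Not at hcon
        exact hg hcon
      by_cases h0 : Q v = 0
      · refine ⟨g⁻¹, K.inv_mem hgK, g v, by rwa [h0] at hv, ?_⟩
        show Q (g.symm (g v)) ≠ _
        rw [LinearEquiv.symm_apply_apply]
        exact hv.symm
      · exact ⟨g, hgK, v, h0, hv⟩
    refine ⟨h v, (Q v)⁻¹, fun e => hv ?_, inv_ne_zero hv, fun e => hne ?_, hconj h hh v _ (hPH v _ (inv_mul_cancel₀ hv))⟩
    · rw [(LinearEquiv.map_eq_zero_iff h).1 e, QuadraticMap.map_zero]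
    field_simp at e
    exact e
  obtain ⟨u, c', hu, hQu, hc', hPu⟩ : ∃ u c', u ≠ 0 ∧ Q u = 0 ∧ c' ≠ 0 ∧ P u c' := by
    by_cases ha : Q a = 0
    · exact ⟨a, c, ha0, ha, hc, hPa⟩
    · have hd : c * c * Q a + c ≠ 0 := fun e => hac <| by
        have h1 : c * (c * Q a + 1) = 0 := by linear_combination e
        exact CharTwo.add_eq_zero.mp ((mul_eq_zero.mp h1).resolve_left hc)
      obtain ⟨z₀, hz₀⟩ : ∃ z₀, B.flip a z₀ ≠ 0 := by
        by_contra hcon
        push Not at hcon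
        exact ha (by rw [S.nondeg.2 a hcon, QuadraticMap.map_zero])
      obtain ⟨w, hw, -, hwQ⟩ := S.exists_adjust ((B z₀ a)⁻¹ • z₀) a a (c * c * Q a + c)
      rw [map_smul, LinearMap.smul_apply, smul_eq_mul, inv_mul_cancel₀ (by exact hz₀)] at hw
      have hwne : w ≠ 0 := fun e => hd (by rw [← hwQ, e, QuadraticMap.map_zero])
      refine ⟨FormsLib.tau S.alt a c w, (Q w)⁻¹, (LinearEquiv.map_ne_zero_iff _).2 hwne, ?_, inv_ne_zero (by rwa [hwQ]),
        hconj _ hPa w _ (hPH w _ (inv_mul_cancel₀ (by rwa [hwQ])))⟩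
      rw [quad_tau S.alt S.pol, hw, hwQ, one_mul, one_mul, CharTwo.add_self_eq_zero]
  have hsing : ∀ w, w ≠ 0 → Q w = 0 → ∀ e, P w e := by
    intro w hw hQw e
    obtain ⟨s, hs⟩ := S.squares (e / c')
    by_cases hs0 : s = 0
    · have he : e = 0 := by
        rw [hs0, mul_zero] at hs
        exact (div_eq_zero_iff.mp hs.symm).resolve_right hc'
      show FormsLib.tau S.alt w e ∈ K
      rw [he, FormsLib.tau_zero]
      exact K.one_mem
    obtain ⟨h, hh, hhu⟩ := S.exists_map_singular hu (smul_ne_zero hs0 hw) hQu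
      (by rw [QuadraticMap.map_smul, hQw, smul_zero])
    have h1 := hconj h (hOK hh) u c' hPu
    rw [hhu] at h1
    show FormsLib.tau S.alt w e ∈ K
    have h2 : FormsLib.tau S.alt (s • w) c' ∈ K := h1
    rwa [FormsLib.tau_smul, hs, div_mul_cancel₀ _ hc'] at h2
  refine (Subgroup.closure_le _).2 ?_
  rintro _ ⟨b, e, rfl⟩
  by_cases hb : b = 0
  · have : FormsLib.tau S.alt b e = 1 := by ext v; simp [hb]
    rw [this]
    exact K.one_mem
  by_cases hQb : Q b = 0
  · exact hsing b hb hQb e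
  obtain ⟨s, hs, -, hQs⟩ := S.exists_pair_value hb hb 0
  have hs0 : s ≠ 0 := fun e => hs (by simp [e])
  have hbs : B b s ≠ 0 := by rw [FormsLib.alt_swap S.alt s b]; exact neg_ne_zero.mpr hs
  set c₁ := Q b / (B b s * B b s) with hc₁
  have hT : FormsLib.tau S.alt s c₁ ∈ K := hsing s hs0 hQs c₁
  have hb' : Q (FormsLib.tau S.alt s c₁ b) = 0 := by
    rw [quad_tau S.alt S.pol, hQs, mul_zero, zero_add, hc₁, mul_div_cancel₀ _ (mul_ne_zero hbs hbs),
      CharTwo.add_self_eq_zero]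
  have h1 := hconj _ (K.inv_mem hT) _ _ (hsing _ ((LinearEquiv.map_ne_zero_iff _).2 hb) hb' e)
  rwa [show (FormsLib.tau S.alt s c₁)⁻¹ = (FormsLib.tau S.alt s c₁).symm from rfl,
    LinearEquiv.symm_apply_apply] at h1

/-- The orthogonal group is a proper subgroup of the isometry group. -/
theorem QuadSetting.exists_not_mem (S : QuadSetting B Q) :
    ∃ g ∈ FormsLib.isoGroup B, g ∉ FormsLib.oGroup Q := by
  have := S.char
  obtain ⟨x, hx⟩ : ∃ x : V, x ≠ 0 := by
    have : Nontrivial V := Module.nontrivial_of_finrank_pos (R := F) (by have := S.dim; omega)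
    exact exists_ne 0
  obtain ⟨u, hu, -, hQu⟩ := S.exists_pair_value hx hx 0
  refine ⟨_, FormsLib.tau_mem S.alt u 1, fun h => ?_⟩
  have h1 := h x
  rw [quad_tau S.alt S.pol, hQu, FormsLib.alt_swap S.alt u x] at h1
  simp [hu] at h1

end Cfsg.Agent.TransvMax
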