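import Cfsg.Agent.Lib.TransvMax.QuadSingular

/-!
The stabiliser of two complementary totally singular halves of even dimension is maximal.
-/

set_option autoImplicit false

namespace Cfsg.Agent.QMax

open scoped Matrix MatrixGroups
open Cfsg.Agent Cfsg.Agent.TransvMax

variable {ι : Type} [Fintype ι] [DecidableEq ι] {F : Type*} [Field F]
  {Q : QuadraticForm F (ι → F)} (S : QSetting Q)

/-- Two complementary totally singular subspaces of the same dimension, at least six. -/
structure Halves (S : QSetting Q) (X Y : Submodule F (ι → F)) : Prop where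
  compl : IsCompl X Y
  singX : ∀ x ∈ X, Q x = 0
  singY : ∀ y ∈ Y, Q y = 0
  dimEq : Module.finrank F X = Module.finrank F Y
  six : 6 ≤ Module.finrank F X

namespace Halves

variable {S} {X Y : Submodule F (ι → F)} (P : Halves S X Y)
include P

theorem swap : Halves S Y X := ⟨P.compl.symm, P.singY, P.singX, P.dimEq.symm, P.dimEq ▸ P.six⟩

theorem decomp (x : ι → F) : ∃ a ∈ X, ∃ b ∈ Y, a + b = x :=
  Submodule.mem_sup.1 (P.compl.sup_eq_top.ge (Submodule.mem_top (x := x)))

theorem eq_zero {x : ι → F} (h1 : x ∈ X) (h2 : x ∈ Y) : x = 0 :=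
  Submodule.disjoint_def.1 P.compl.disjoint x h1 h2

theorem card_eq : Fintype.card ι = 2 * Module.finrank F X := by
  have h := Submodule.finrank_sup_add_finrank_inf_eq X Y
  rw [P.compl.sup_eq_top, P.compl.inf_eq_bot, finrank_top, finrank_bot,
    Module.finrank_fintype_fun_eq_card, ← P.dimEq] at h
  omega

/-- Values on independent vectors of one half realised in the other. -/
theorem exists_dual {k : ℕ} {v : Fin k → ι → F} (hv : ∀ i, v i ∈ X) (hli : LinearIndependent F v)
    (α : Fin k → F) : ∃ y ∈ Y, ∀ i, pB Q y (v i) = α i := by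
  obtain ⟨x, hx⟩ := S.exists_values hli α
  obtain ⟨a, ha, b, hb, rfl⟩ := P.decomp x
  refine ⟨b, hb, fun i => ?_⟩
  rw [← hx i, map_add, LinearMap.add_apply, isotropic_of_singular S P.singX ha (hv i), zero_add]

theorem exists_dual_perp {a b c : ι → F} (ha : a ∈ X) (hb : b ∈ X) (hc : c ∈ X)
    (hc' : c ∉ Submodule.span F ({a, b} : Set (ι → F))) :
    ∃ y ∈ Y, pB Q y a = 0 ∧ pB Q y b = 0 ∧ pB Q y c = 1 := by
  by_contra h
  push Not at h
  refine hc' (mem_of_perp S fun z hz => ?_)
  obtain ⟨x, hx, y, hy, rfl⟩ := P.decomp z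
  have h1 : ∀ v ∈ X, pB Q (x + y) v = pB Q y v := fun v hv => by
    rw [map_add, LinearMap.add_apply, isotropic_of_singular S P.singX hx hv, zero_add]
  rw [h1 c hc]
  by_contra h0
  have hya : pB Q y a = 0 := by
    rw [← h1 a ha, S.pB_comm]; exact hz a (Submodule.subset_span (Set.mem_insert _ _))
  have hyb : pB Q y b = 0 := by
    rw [← h1 b hb, S.pB_comm]
    exact hz b (Submodule.subset_span (Set.mem_insert_of_mem _ (Set.mem_singleton _)))
  exact h ((pB Q y c)⁻¹ • y) (Y.smul_mem _ hy)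
    (by rw [map_smul, LinearMap.smul_apply, hya, smul_zero])
    (by rw [map_smul, LinearMap.smul_apply, hyb, smul_zero])
    (by rw [map_smul, LinearMap.smul_apply, smul_eq_mul, inv_mul_cancel₀ h0])

variable [Finite F]

/-- Some long root element mixes two projections. -/
theorem exists_indep {g : (ι → F) ≃ₗ[F] (ι → F)}
    (hA : ¬ ∀ x ∈ X, g x ∈ Y) (hB : ¬ ∀ y ∈ Y, g y ∈ Y) :
    ∃ u ∈ X, ∃ w ∈ Y, pB Q w u = 0 ∧ ∀ α β : F, α • g u + β • g w ∈ Y → α = 0 ∧ β = 0 := by
  let p : (ι → F) →ₗ[F] (ι → F) :=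
    (Submodule.subtype X).comp ((X.projectionOnto Y P.compl).comp (g : (ι → F) →ₗ[F] (ι → F)))
  have hp : ∀ z, p z = 0 ↔ g z ∈ Y := fun z => by
    show ((X.projectionOnto Y P.compl) (g z) : ι → F) = 0 ↔ _
    rw [ZeroMemClass.coe_eq_zero, Submodule.projectionOnto_apply_eq_zero_iff]
  have htop : (⊤ : Submodule F (ι → F)) = X ⊔ Y := P.compl.sup_eq_top.symm
  by_contra hc
  push Not at hc
  have hdep : ∀ u ∈ X, ∀ w ∈ Y, pB Q w u = 0 → p u ≠ 0 → p w ∈ Submodule.span F {p u} := by
    intro u hu w hw hwu hpu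
    obtain ⟨α, β, hab, hne⟩ := hc u hu w hw hwu
    rw [← map_smul, ← map_smul, ← map_add, ← hp, map_add, map_smul, map_smul] at hab
    have hβ : β ≠ 0 := fun e => by
      rw [e, zero_smul, add_zero, smul_eq_zero] at hab
      exact hne (hab.resolve_right hpu) e
    refine Submodule.mem_span_singleton.2 ⟨-α / β, smul_right_injective _ hβ ?_⟩
    show β • (-α / β) • p u = β • p w
    rw [smul_smul, mul_div_cancel₀ _ hβ, neg_smul, neg_eq_iff_add_eq_zero, hab]
  have hdep' : ∀ u ∈ X, ∀ w ∈ Y, pB Q w u = 0 → p w ≠ 0 → p u ∈ Submodule.span F {p w} := by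
    intro u hu w hw hwu hpw
    rcases eq_or_ne (p u) 0 with h | h
    · rw [h]; exact Submodule.zero_mem _
    obtain ⟨c, hc'⟩ := Submodule.mem_span_singleton.1 (hdep u hu w hw hwu h)
    have hc0 : c ≠ 0 := fun e => hpw (by rw [← hc', e, zero_smul])
    refine Submodule.mem_span_singleton.2 ⟨c⁻¹, ?_⟩
    rw [← hc', smul_smul, inv_mul_cancel₀ hc0, one_smul]
  have hsmall : ∀ {A B : Submodule F (ι → F)} (u : ι → F),
      (∀ w ∈ B, pB Q w u = 0 → p w ∈ Submodule.span F {p u}) →
      A = B.map p → Module.finrank F A ≤ 2 := by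
    intro A B u h hA'
    subst hA'
    by_cases hex : ∃ w₀ ∈ B, pB Q w₀ u ≠ 0
    · obtain ⟨w₀, hw₀, hw₀u⟩ := hex
      refine (Submodule.finrank_mono (show B.map p ≤ Submodule.span F {p u} ⊔ Submodule.span F {p w₀} from ?_)).trans ?_
      · rintro _ ⟨w, hw, rfl⟩
        set c := pB Q w u / pB Q w₀ u
        have h1 := h (w - c • w₀) (B.sub_mem hw (B.smul_mem _ hw₀)) (by
          rw [map_sub, map_smul, LinearMap.sub_apply, LinearMap.smul_apply, smul_eq_mul,
            div_mul_cancel₀ _ hw₀u, sub_self])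
        rw [map_sub, map_smul] at h1
        have := Submodule.add_mem_sup h1 (Submodule.smul_mem _ c (Submodule.mem_span_singleton_self (p w₀)))
        simpa using this
      · have h1 := Submodule.finrank_add_le_finrank_add_finrank (Submodule.span F {p u}) (Submodule.span F {p w₀})
        have h2 : ∀ v : ι → F, Module.finrank F (Submodule.span F {v}) ≤ 1 := fun v => by
          refine (finrank_span_le_card {v}).trans ?_
          simp
        have := h2 (p u)
        have := h2 (p w₀)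
        omega
    · push Not at hex
      refine (Submodule.finrank_mono (show B.map p ≤ Submodule.span F {p u} from ?_)).trans ?_
      · rintro _ ⟨w, hw, rfl⟩; exact h w hw (hex w hw)
      · refine (finrank_span_le_card {p u}).trans ?_
        simp
  push Not at hA hB
  obtain ⟨u, hu, hgu⟩ := hA
  obtain ⟨w, hw, hgw⟩ := hB
  have hY2 : Module.finrank F (Y.map p) ≤ 2 :=
    hsmall u (fun v hv h => hdep u hu v hv h fun e => hgu ((hp u).1 e)) rfl
  have hX2 : Module.finrank F (X.map p) ≤ 2 :=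
    hsmall w (fun v hv h => hdep' v hv w hw (by rwa [S.pB_comm]) fun e => hgw ((hp w).1 e)) rfl
  have hXle : X ≤ X.map p ⊔ Y.map p := by
    rw [← Submodule.map_sup, ← htop]
    intro x hx
    refine ⟨g.symm x, Submodule.mem_top, ?_⟩
    show ((X.projectionOnto Y P.compl) (g (g.symm x)) : ι → F) = x
    rw [LinearEquiv.apply_symm_apply, Submodule.projectionOnto_apply_left P.compl ⟨x, hx⟩]
  have h1 := Submodule.finrank_mono hXle
  have h2 := Submodule.finrank_add_le_finrank_add_finrank (X.map p) (Y.map p)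
  have := P.six
  omega

omit [Finite F] in
theorem fix_pair {u w : ι → F} (hu : u ∈ X) (hw : w ∈ Y) (hwu : pB Q w u = 0) :
    (∀ x ∈ X, S.siegel u w (P.singX u hu) hwu x ∈ X) ∧
      ∀ y ∈ Y, S.siegel u w (P.singX u hu) hwu y ∈ Y := by
  refine ⟨fun x hx => ?_, fun y hy => ?_⟩
  · rw [S.siegel_apply, siegelHom_apply, isotropic_of_singular S P.singX hx hu, P.singY w hw, zero_smul,
      add_zero, zero_mul, zero_smul, sub_zero]
    exact X.sub_mem hx (X.smul_mem _ hu)
  · rw [S.siegel_apply, siegelHom_apply, isotropic_of_singular S P.singY hy hw, P.singY w hw, zero_smul,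
      sub_zero, zero_mul, zero_smul, sub_zero]
    exact Y.add_mem hy (Y.smul_mem _ hw)

/-- A root element with independent projections yields one inside a half. -/
theorem exists_inner {K : Subgroup (GL ι F)}
    (hlong : ∀ u ∈ X, ∀ w ∈ Y, ∀ (hQu : Q u = 0) (hwu : pB Q w u = 0), glOf (S.siegel u w hQu hwu) ∈ K)
    {g : (ι → F) ≃ₗ[F] (ι → F)} (hg : g ∈ FormsLib.oGroup Q) (hgK : glOf g ∈ K)
    (hA : ¬ ∀ x ∈ X, g x ∈ Y) (hB : ¬ ∀ y ∈ Y, g y ∈ Y) :
    ∃ v ∈ X, ∃ e ∈ X, ∃ (hQv : Q v = 0) (hev : pB Q e v = 0), e ∉ Submodule.span F {v} ∧ v ≠ 0 ∧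
      glOf (S.siegel v e hQv hev) ∈ K := by
  obtain ⟨u, hu, w, hw, hwu, hind⟩ := P.exists_indep hA hB
  set a := g u with hadef
  set c := g w with hcdef
  have hQa : Q a = 0 := by rw [hadef, hg u, P.singX u hu]
  have hQc : Q c = 0 := by rw [hcdef, hg w, P.singY w hw]
  have hca : pB Q c a = 0 := by rw [hadef, hcdef, S.pB_of_mem hg, hwu]
  have hT : glOf (S.siegel a c hQa hca) ∈ K := by
    have h1 := K.mul_mem (K.mul_mem hgK (hlong u hu w hw (P.singX u hu) hwu)) (K.inv_mem hgK)
    rwa [← map_inv, ← map_mul, ← map_mul, S.siegel_conj hg] at h1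
  obtain ⟨a0, ha0, a1, ha1, ea⟩ := P.decomp a
  obtain ⟨c0, hc0, c1, hc1, ec⟩ := P.decomp c
  obtain ⟨v, ⟨⟨hv, hv1⟩, hv2⟩, hvout⟩ : ∃ v ∈ X ⊓ LinearMap.ker ((pB Q).flip a1) ⊓ LinearMap.ker ((pB Q).flip c1),
      v ∉ Submodule.span F ({a0, c0} : Set (ι → F)) := by
    by_contra h
    push Not at h
    have h1 := Submodule.finrank_mono (fun x hx => h x hx : X ⊓ LinearMap.ker ((pB Q).flip a1) ⊓
      LinearMap.ker ((pB Q).flip c1) ≤ Submodule.span F ({a0, c0} : Set (ι → F)))
    have h2 : ∀ (M : Submodule F (ι → F)) (z : ι → F),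
        Module.finrank F M ≤ Module.finrank F ↥(M ⊓ LinearMap.ker ((pB Q).flip z)) + 1 := fun M z => by
      have e1 := Submodule.finrank_sup_add_finrank_inf_eq M (LinearMap.ker ((pB Q).flip z))
      have e2 := LinearMap.finrank_range_add_finrank_ker ((pB Q).flip z)
      have e3 := Submodule.finrank_le (LinearMap.range ((pB Q).flip z))
      rw [Module.finrank_self] at e3
      rw [Module.finrank_fintype_fun_eq_card] at e2
      have e4 := Submodule.finrank_le (M ⊔ LinearMap.ker ((pB Q).flip z))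
      rw [Module.finrank_fintype_fun_eq_card] at e4
      omega
    have h3 : Module.finrank F (Submodule.span F ({a0, c0} : Set (ι → F))) ≤ 2 := by
      classical
      refine (finrank_span_le_card _).trans ?_
      simpa using Finset.card_le_two (a := a0) (b := c0)
    have := h2 X a1
    have := h2 (X ⊓ LinearMap.ker ((pB Q).flip a1)) c1
    have := P.six
    omega
  have hva : pB Q v a = 0 := by
    rw [← ea, map_add, isotropic_of_singular S P.singX hv ha0, zero_add]; exact hv1
  have hvc : pB Q v c = 0 := by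
    rw [← ec, map_add, isotropic_of_singular S P.singX hv hc0, zero_add]; exact hv2
  have hv0 : v ≠ 0 := fun e => hvout (by rw [e]; exact Submodule.zero_mem _)
  have hc0' : c0 ∉ Submodule.span F {v} := fun h => by
    obtain ⟨k, hk⟩ := Submodule.mem_span_singleton.1 h
    rcases eq_or_ne k 0 with rfl | hk0
    · refine one_ne_zero (hind 0 1 ?_).2
      rw [zero_smul, zero_add, one_smul, ← ec, ← hk, zero_smul, zero_add]
      exact hc1
    · refine hvout ?_
      have h1 := Submodule.smul_mem (Submodule.span F ({a0, c0} : Set (ι → F))) k⁻¹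
        (Submodule.subset_span (Set.mem_insert_of_mem a0 (Set.mem_singleton c0)))
      have e : v = k⁻¹ • c0 := by rw [← hk, smul_smul, inv_mul_cancel₀ hk0, one_smul]
      rw [e]
      exact h1
  have ha0' : a0 ∉ Submodule.span F ({v, c0} : Set (ι → F)) := fun h => by
    obtain ⟨k, l, hkl⟩ := Submodule.mem_span_pair.1 h
    rcases eq_or_ne k 0 with rfl | hk0
    · refine one_ne_zero (hind 1 (-l) ?_).1
      rw [← ea, ← ec, ← hkl]
      convert Y.sub_mem ha1 (Y.smul_mem l hc1) using 1
      module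
    · refine hvout ?_
      have h1 : v = k⁻¹ • (a0 - l • c0) := by
        rw [← hkl, add_sub_cancel_right, smul_smul, inv_mul_cancel₀ hk0, one_smul]
      rw [h1]
      exact Submodule.smul_mem _ _ (Submodule.sub_mem _ (Submodule.subset_span (Set.mem_insert _ _))
        (Submodule.smul_mem _ _ (Submodule.subset_span (Set.mem_insert_of_mem a0 (Set.mem_singleton c0)))))
  obtain ⟨z, hz, hzv, hzc, hza⟩ := P.exists_dual_perp hv hc0 ha0 ha0'
  have hza' : pB Q z a = 1 := by
    rw [← ea, map_add, isotropic_of_singular S P.singY hz ha1, add_zero, hza]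
  have hzc' : pB Q z c = 0 := by
    rw [← ec, map_add, isotropic_of_singular S P.singY hz hc1, add_zero, hzc]
  set T := S.siegel a c hQa hca
  have hTo : T ∈ FormsLib.oGroup Q := S.siegel_mem_oGroup hQa hca
  have hTv : T v = v := by
    rw [S.siegel_apply, siegelHom_apply, hva, hvc]; simp
  have hTz : T z = z + c := by
    rw [S.siegel_apply, siegelHom_apply, hza', hzc', hQc]; simp
  have hQv : Q v = 0 := P.singX v hv
  have hc0v : pB Q c0 v = 0 := isotropic_of_singular S P.singX hc0 hv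
  have hc1v : pB Q c1 v = 0 := by rw [S.pB_comm]; exact hv2
  have hc1v' : pB Q (-c1) v = 0 := by rw [map_neg, LinearMap.neg_apply, hc1v, neg_zero]
  refine ⟨v, hv, c0, hc0, hQv, hc0v, hc0', hv0, ?_⟩
  have hs := hlong v hv z hz hQv hzv
  have h2 := K.mul_mem (K.mul_mem (K.mul_mem (K.mul_mem hT hs) (K.inv_mem hT)) (K.inv_mem hs))
    (hlong v hv (-c1) (Y.neg_mem hc1) hQv hc1v')
  have hzcv : pB Q (z + c) v = 0 := by
    rw [map_add, LinearMap.add_apply, hzv, S.pB_comm c v, hvc, add_zero]
  rwa [← map_inv, ← map_inv, ← map_mul, ← map_mul, ← map_mul, ← map_mul,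
    S.siegel_conj hTo, S.siegel_inv, S.siegel_congr hTv hTz (hu' := hQv) (hw' := hzcv),
    S.siegel_mul, S.siegel_mul,
    S.siegel_congr rfl (show z + c + -z + -c1 = c0 by rw [← ec]; abel) (hu' := hQv) (hw' := hc0v)] at h2

omit [Finite F] in
/-- One inner root element gives all inner ones. -/
theorem inner_all {K : Subgroup (GL ι F)}
    (hlong : ∀ u ∈ X, ∀ w ∈ Y, ∀ (hQu : Q u = 0) (hwu : pB Q w u = 0), glOf (S.siegel u w hQu hwu) ∈ K)
    {v e : ι → F} (hv : v ∈ X) (he : e ∈ X) (hv0 : v ≠ 0) (hev0 : e ∉ Submodule.span F {v})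
    (hQv : Q v = 0) (hev : pB Q e v = 0) (hK : glOf (S.siegel v e hQv hev) ∈ K) :
    ∀ u ∈ X, ∀ w ∈ X, ∀ (hQu : Q u = 0) (hwu : pB Q w u = 0), glOf (S.siegel u w hQu hwu) ∈ K := by
  have row : ∀ u ∈ X, u ≠ 0 → ∀ e' ∈ X, e' ∉ Submodule.span F {u} →
      ∀ (hQu : Q u = 0) (h : pB Q e' u = 0), glOf (S.siegel u e' hQu h) ∈ K →
      ∀ x ∈ X, ∀ hx : pB Q x u = 0, glOf (S.siegel u x hQu hx) ∈ K := by
    intro u hu hu0 e' he' heu hQu h hK' x hx
    let A : AddSubgroup (ι → F) :=
      { carrier := {w | w ∈ X ∧ ∀ hw : pB Q w u = 0, glOf (S.siegel u w hQu hw) ∈ K}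
        zero_mem' := ⟨X.zero_mem, fun _ => by
          rw [show S.siegel u 0 hQu (by simp) = 1 from LinearEquiv.ext fun x => S.siegelHom_zero u x,
            map_one]
          exact K.one_mem⟩
        add_mem' := fun {a b} ha hb => ⟨X.add_mem ha.1 hb.1, fun _ => by
          rw [← S.siegel_mul hQu (isotropic_of_singular S P.singX ha.1 hu)
            (isotropic_of_singular S P.singX hb.1 hu), map_mul]
          exact K.mul_mem (ha.2 _) (hb.2 _)⟩
        neg_mem' := fun {a} ha => ⟨X.neg_mem ha.1, fun _ => by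
          rw [← S.siegel_inv hQu (isotropic_of_singular S P.singX ha.1 hu), map_inv]
          exact K.inv_mem (ha.2 _)⟩ }
    have hA : ∀ w, w ∈ A ↔ w ∈ X ∧ ∀ hw : pB Q w u = 0, glOf (S.siegel u w hQu hw) ∈ K := fun w => Iff.rfl
    suffices x ∈ A from fun hxu => ((hA x).1 this).2 hxu
    have main : ∀ x ∈ X, e' ∉ Submodule.span F ({u, x} : Set (ι → F)) → x ∈ A := by
      intro x hx hnot
      obtain ⟨y, hy, hyu, hyx, hye⟩ := P.exists_dual_perp hu hx he' hnot
      have hey : pB Q e' y = 1 := by rw [S.pB_comm]; exact hye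
      have hQx := P.singX x hx
      set T := S.siegel x y hQx hyx
      have hT : glOf T ∈ K := hlong x hx y hy hQx hyx
      have hTu : T u = u := by
        rw [S.siegel_apply, siegelHom_apply, isotropic_of_singular S P.singX hu hx, S.pB_comm u y, hyu]
        simp
      have hTe : T e' = e' - x := by
        rw [S.siegel_apply, siegelHom_apply, isotropic_of_singular S P.singX he' hx, hey]
        simp
      have h2 := K.mul_mem (K.mul_mem hT hK') (K.inv_mem hT)
      have hw' : pB Q (e' - x) u = 0 := isotropic_of_singular S P.singX (X.sub_mem he' hx) hu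
      rw [← map_inv, ← map_mul, ← map_mul, S.siegel_conj (S.siegel_mem_oGroup hQx hyx),
        S.siegel_congr hTu hTe (hu' := hQu) (hw' := hw')] at h2
      have h3 : e' - x ∈ A := (hA _).2 ⟨X.sub_mem he' hx, fun _ => h2⟩
      have h4 : e' ∈ A := (hA _).2 ⟨he', fun _ => hK'⟩
      simpa using A.sub_mem h4 h3
    by_cases hnot : e' ∈ Submodule.span F ({u, x} : Set (ι → F))
    · obtain ⟨t, ht, htout⟩ := SetLike.not_le_iff_exists.1
        (show ¬ X ≤ Submodule.span F ({u, x} : Set (ι → F)) from fun h => by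
          classical
          have h1 := Submodule.finrank_mono h
          have h2 : Module.finrank F (Submodule.span F ({u, x} : Set (ι → F))) ≤ 2 := by
            refine (finrank_span_le_card _).trans ?_
            simpa using Finset.card_le_two (a := u) (b := x)
          have := P.six
          omega)
      have key : ∀ s, s ∈ X → s ∉ Submodule.span F ({u, e'} : Set (ι → F)) → s ∈ A := fun s hs hsout => by
        refine main s hs fun h => hsout ?_
        obtain ⟨k, l, hkl⟩ := Submodule.mem_span_pair.1 h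
        have hl : l ≠ 0 := fun e => heu (Submodule.mem_span_singleton.2 ⟨k, by rw [← hkl, e, zero_smul, add_zero]⟩)
        refine Submodule.mem_span_pair.2 ⟨-(k / l), l⁻¹, ?_⟩
        rw [← hkl, smul_add, smul_smul, smul_smul, inv_mul_cancel₀ hl, one_smul, ← add_assoc, ← add_smul,
          show -(k / l) + l⁻¹ * k = 0 by ring, zero_smul, zero_add]
      have hle : Submodule.span F ({u, e'} : Set (ι → F)) ≤ Submodule.span F ({u, x} : Set (ι → F)) := by
        rw [Submodule.span_le]
        rintro s (rfl | rfl)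
        · exact Submodule.subset_span (Set.mem_insert _ _)
        · exact hnot
      have hxm : x ∈ Submodule.span F ({u, x} : Set (ι → F)) :=
        Submodule.subset_span (Set.mem_insert_of_mem u (Set.mem_singleton x))
      have h1 := key t ht fun h => htout (hle h)
      have h2 := key (t + x) (X.add_mem ht hx) fun h => htout (by simpa using Submodule.sub_mem _ (hle h) hxm)
      simpa using A.sub_mem h2 h1
    · exact main x hx hnot
  have hrow := row v hv hv0 e he hev0 hQv hev hK
  have hgood : ∀ u ∈ X, u ∉ Submodule.span F {v} → ∀ w ∈ X, ∀ (hQu : Q u = 0) (hwu : pB Q w u = 0),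
      glOf (S.siegel u w hQu hwu) ∈ K := by
    intro u hu huv w hw hQu hwu
    have hu0 : u ≠ 0 := fun e => huv (by rw [e]; exact Submodule.zero_mem _)
    have hvu : pB Q (-v) u = 0 := isotropic_of_singular S P.singX (X.neg_mem hv) hu
    refine row u hu hu0 (-v) (X.neg_mem hv) (fun h => huv ?_) hQu hvu ?_ w hw hwu
    · obtain ⟨c, hc⟩ := Submodule.mem_span_singleton.1 h
      have hc0 : c ≠ 0 := fun e => hv0 (neg_eq_zero.1 (by rw [← hc, e, zero_smul]))
      exact Submodule.mem_span_singleton.2 ⟨-c⁻¹, by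
        rw [neg_smul, ← smul_neg, ← hc, smul_smul, inv_mul_cancel₀ hc0, one_smul]⟩
    · have h1 := hrow u hu (isotropic_of_singular S P.singX hu hv)
      have heq : S.siegel u (-v) hQu hvu = S.siegel v u hQv (isotropic_of_singular S P.singX hu hv) := by
        refine LinearEquiv.ext fun x => ?_
        simp only [S.siegel_apply, siegelHom_apply, map_neg, QuadraticMap.map_neg, hQv, hQu]
        module
      rwa [heq]
  intro u hu w hw hQu hwu
  by_cases huv : u ∈ Submodule.span F {v}
  · obtain ⟨c, rfl⟩ := Submodule.mem_span_singleton.1 huv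
    have h3 : pB Q (c • w) v = 0 := isotropic_of_singular S P.singX (X.smul_mem c hw) hv
    rw [S.siegel_smul c hQv hQu hwu h3]
    exact hrow _ (X.smul_mem c hw) h3
  · exact hgood u hu huv w hw hQu hwu

/-- An element of the derived group interchanging the halves, in even dimension. -/
theorem exists_swap {r : ℕ} (hr : Module.finrank F X = r + r) :
    ∃ h ∈ FormsLib.oGroup Q, glOf h ∈ Cfsg.Geo.omegaGL ⇑Q ∧ (∀ x ∈ X, h x ∈ Y) ∧ ∀ y ∈ Y, h y ∈ X := by
  classical
  let b := Module.finBasisOfFinrankEq F X hr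
  let e : Fin r ⊕ Fin r → ι → F := fun i => (b (finSumFinEquiv i) : ι → F)
  have heX : ∀ i, e i ∈ X := fun i => (b _).2
  have hli : LinearIndependent F e :=
    (b.linearIndependent.map' X.subtype X.ker_subtype).comp _ finSumFinEquiv.injective
  have hdual : ∀ i, ∃ y ∈ Y, ∀ j, pB Q y (e j) = if j = i then 1 else 0 := by
    intro i
    obtain ⟨y, hy, h⟩ := P.exists_dual (k := r + r) (v := fun k => e (finSumFinEquiv.symm k))
      (fun k => heX _) (hli.comp _ finSumFinEquiv.symm.injective)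
      (fun k => if finSumFinEquiv.symm k = i then 1 else 0)
    refine ⟨y, hy, fun j => ?_⟩
    simpa using h (finSumFinEquiv j)
  choose f hf hfe using hdual
  have hef : ∀ i j, pB Q (e i) (f j) = if i = j then 1 else 0 := fun i j => by rw [S.pB_comm, hfe]
  have hd : ∀ i, Q (e i - f i) = -1 := fun i => by
    rw [sub_eq_add_neg, S.quad_add, QuadraticMap.map_neg, P.singX _ (heX i), P.singY _ (hf i), map_neg,
      hef, if_pos rfl]
    ring
  have hd0 : ∀ i, Q (e i - f i) ≠ 0 := fun i => by rw [hd]; exact neg_ne_zero.2 one_ne_zero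
  let R : Fin r ⊕ Fin r → ((ι → F) ≃ₗ[F] (ι → F)) := fun i => FormsLib.refl Q _ (hd0 i)
  have hRe : ∀ i, R i (e i) = f i ∧ R i (f i) = e i := fun i => by
    have h1 : pB Q (e i) (e i - f i) = -1 := by
      rw [map_sub, isotropic_of_singular S P.singX (heX i) (heX i), hef, if_pos rfl, zero_sub]
    have h2 : pB Q (f i) (e i - f i) = 1 := by
      rw [map_sub, isotropic_of_singular S P.singY (hf i) (hf i), hfe, if_pos rfl, sub_zero]
    constructor <;> simp only [R, FormsLib.refl_apply, ← QuadraticMap.polarBilin_apply_apply, h1, h2, hd] <;>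
      rw [inv_neg, inv_one] <;> module
  have hRfix : ∀ i j, i ≠ j → R i (e j) = e j ∧ R i (f j) = f j := fun i j hij => by
    refine ⟨FormsLib.refl_fix Q _ ?_, FormsLib.refl_fix Q _ ?_⟩
    · rw [← QuadraticMap.polarBilin_apply_apply, map_sub, isotropic_of_singular S P.singX (heX j) (heX i),
        hef, if_neg (Ne.symm hij), sub_zero]
    · rw [← QuadraticMap.polarBilin_apply_apply, map_sub, isotropic_of_singular S P.singY (hf j) (hf i),
        hfe, if_neg hij, sub_zero]
  obtain ⟨h, ho, hΩ, hin, -⟩ : ∃ h ∈ FormsLib.oGroup Q, glOf h ∈ Cfsg.Geo.omegaGL ⇑Q ∧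
      (∀ j ∈ (Finset.univ : Finset (Fin r)),
        (h (e (.inl j)) = f (.inl j) ∧ h (f (.inl j)) = e (.inl j)) ∧
          (h (e (.inr j)) = f (.inr j) ∧ h (f (.inr j)) = e (.inr j))) ∧
      ∀ j ∉ (Finset.univ : Finset (Fin r)),
        (h (e (.inl j)) = e (.inl j) ∧ h (f (.inl j)) = f (.inl j)) ∧
          (h (e (.inr j)) = e (.inr j) ∧ h (f (.inr j)) = f (.inr j)) := by
    induction (Finset.univ : Finset (Fin r)) using Finset.induction_on with
    | empty => exact ⟨1, one_mem _, by rw [map_one]; exact one_mem _, by simp, by simp⟩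
    | insert i s hi ih =>
      obtain ⟨h, ho, hΩ, hin, hout⟩ := ih
      have hne : (Sum.inl i : Fin r ⊕ Fin r) ≠ .inr i := Sum.inl_ne_inr
      refine ⟨R (.inl i) * R (.inr i) * h,
        mul_mem (mul_mem (FormsLib.refl_mem Q _) (FormsLib.refl_mem Q _)) ho, ?_, fun j hj => ?_, fun j hj => ?_⟩
      · rw [map_mul]
        exact mul_mem (refl_pair_mem_omega S _ _ ((hd (.inr i)).trans (hd (.inl i)).symm)) hΩ
      · rcases Finset.mem_insert.1 hj with rfl | hj
        · obtain ⟨⟨h1, h2⟩, h3, h4⟩ := hout j hi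
          obtain ⟨l1, l2⟩ := hRfix (.inr j) (.inl j) hne.symm
          obtain ⟨r1, r2⟩ := hRfix (.inl j) (.inr j) hne
          simp only [LinearEquiv.mul_apply, h1, h2, h3, h4, l1, l2, r1, r2, (hRe (.inr j)).1,
            (hRe (.inr j)).2, (hRe (.inl j)).1, (hRe (.inl j)).2, and_self]
        · obtain ⟨⟨h1, h2⟩, h3, h4⟩ := hin j hj
          have hji : i ≠ j := fun e => hi (e ▸ hj)
          obtain ⟨a1, a2⟩ := hRfix (.inr i) (.inl j) Sum.inr_ne_inl
          obtain ⟨a3, a4⟩ := hRfix (.inl i) (.inl j) (by simpa using hji)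
          obtain ⟨a5, a6⟩ := hRfix (.inr i) (.inr j) (by simpa using hji)
          obtain ⟨a7, a8⟩ := hRfix (.inl i) (.inr j) Sum.inl_ne_inr
          simp only [LinearEquiv.mul_apply, h1, h2, h3, h4, a1, a2, a3, a4, a5, a6, a7, a8, and_self]
      · rw [Finset.mem_insert, not_or] at hj
        obtain ⟨⟨h1, h2⟩, h3, h4⟩ := hout j hj.2
        have hji : i ≠ j := fun e => hj.1 e.symm
        obtain ⟨a1, a2⟩ := hRfix (.inr i) (.inl j) Sum.inr_ne_inl
        obtain ⟨a3, a4⟩ := hRfix (.inl i) (.inl j) (by simpa using hji)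
        obtain ⟨a5, a6⟩ := hRfix (.inr i) (.inr j) (by simpa using hji)
        obtain ⟨a7, a8⟩ := hRfix (.inl i) (.inr j) Sum.inl_ne_inr
        simp only [LinearEquiv.mul_apply, h1, h2, h3, h4, a1, a2, a3, a4, a5, a6, a7, a8, and_self]
  have hall : ∀ i, h (e i) = f i ∧ h (f i) = e i := by
    rintro (j | j)
    · exact (hin j (Finset.mem_univ j)).1
    · exact (hin j (Finset.mem_univ j)).2
  have hspanX : Submodule.span F (Set.range e) = X := by
    refine Submodule.eq_of_le_of_finrank_eq (Submodule.span_le.2 (by rintro _ ⟨i, rfl⟩; exact heX i)) ?_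
    rw [finrank_span_eq_card hli, Fintype.card_sum, Fintype.card_fin, hr]
  have hXY : ∀ x ∈ X, h x ∈ Y := fun x hx => by
    rw [← hspanX] at hx
    have : Submodule.span F (Set.range e) ≤ Y.comap (h : (ι → F) →ₗ[F] (ι → F)) := by
      rw [Submodule.span_le]
      rintro _ ⟨i, rfl⟩
      show h (e i) ∈ Y
      rw [(hall i).1]
      exact hf i
    exact this hx
  refine ⟨h, ho, hΩ, hXY, fun y hy => ?_⟩
  have hlif : LinearIndependent F f := by
    rw [Fintype.linearIndependent_iff]
    intro c hc i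
    have h1 := congrArg (fun z => pB Q z (e i)) hc
    rcases i with i | i <;> simpa [map_sum, LinearMap.sum_apply, hfe] using h1
  have hspanY : Submodule.span F (Set.range f) = Y := by
    refine Submodule.eq_of_le_of_finrank_eq (Submodule.span_le.2 (by rintro _ ⟨i, rfl⟩; exact hf i)) ?_
    rw [finrank_span_eq_card hlif, Fintype.card_sum, Fintype.card_fin, ← P.dimEq, hr]
  rw [← hspanY] at hy
  have : Submodule.span F (Set.range f) ≤ X.comap (h : (ι → F) →ₗ[F] (ι → F)) := by
    rw [Submodule.span_le]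
    rintro _ ⟨i, rfl⟩
    show h (f i) ∈ X
    rw [(hall i).2]
    exact heX i
  exact this hy

/-- The stabiliser of the pair is maximal when the halves have even dimension. -/
theorem pair_maximal {r : ℕ} (hr : Module.finrank F X = r + r) {H : Subgroup (GL ι F)}
    (hH : ∀ g, g ∈ H ↔ g ∈ Cfsg.Geo.omegaGL ⇑Q ∧
      ((∀ x ∈ X, linOf g x ∈ X) ∧ (∀ y ∈ Y, linOf g y ∈ Y) ∨
        (∀ x ∈ X, linOf g x ∈ Y) ∧ (∀ y ∈ Y, linOf g y ∈ X))) :
    Cfsg.Geo.IsMaximalIn (Cfsg.Geo.omegaGL ⇑Q) H := by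
  have hlin : ∀ h : (ι → F) ≃ₗ[F] (ι → F), linOf (glOf h) = h :=
    fun h => LinearEquiv.ext fun x => by simp [linOf_apply]
  refine maximal_in_omegaGL S H (fun g hg => ((hH g).1 hg).1) ?_ fun K hHK hK ⟨g, hgK, hg⟩ => ?_
  · obtain ⟨a, ha, ha0⟩ := (Submodule.ne_bot_iff X).1 (fun e => by
      have := P.six; rw [e, finrank_bot] at this; omega)
    obtain ⟨w, hw, hwa⟩ := SetLike.not_le_iff_exists.1 (show ¬ X ≤ Submodule.span F {a} from fun h => by
      have := Submodule.finrank_mono h
      rw [finrank_span_singleton ha0] at this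
      have := P.six
      omega)
    have hQa := P.singX a ha
    have hwu := isotropic_of_singular S P.singX hw ha
    obtain ⟨y, hy, hya, hyw, -⟩ := P.swap.swap.exists_dual_perp (a := w) (b := w) hw hw ha (by
      rw [Set.pair_eq_singleton]
      intro h
      obtain ⟨c, hc⟩ := Submodule.mem_span_singleton.1 h
      have hc0 : c ≠ 0 := fun e => ha0 (by rw [← hc, e, zero_smul])
      exact hwa (Submodule.mem_span_singleton.2 ⟨c⁻¹, by rw [← hc, smul_smul, inv_mul_cancel₀ hc0, one_smul]⟩))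
    refine ⟨_, glOf_siegel_mem_omega S hQa hwu, fun h => ?_⟩
    have h1 := ((hH _).1 h).2
    rw [hlin] at h1
    have hTa : S.siegel a w hQa hwu a = a := by
      rw [S.siegel_apply, siegelHom_apply, isotropic_of_singular S P.singX ha ha,
        isotropic_of_singular S P.singX ha hw]
      simp
    rcases h1 with ⟨-, h2⟩ | ⟨h2, -⟩
    · obtain ⟨z, hz, hza, -, hzw⟩ := P.exists_dual_perp (a := a) (b := a) ha ha hw (by
        rw [Set.pair_eq_singleton]; exact hwa)
      have h3 := h2 z hz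
      rw [S.siegel_apply, siegelHom_apply, hza, hzw] at h3
      have h4 : -a ∈ Y := by
        have := Y.sub_mem h3 hz
        convert this using 1
        module
      exact ha0 (P.eq_zero ha (by simpa using Y.neg_mem h4))
    · exact ha0 (P.eq_zero ha (hTa ▸ h2 a ha))
  have hgo := omegaGL_iso S (hK hgK)
  have hgK' : glOf (linOf g) ∈ K := by rw [glOf_linOf]; exact hgK
  have hgH : ¬ ((∀ x ∈ X, linOf g x ∈ X) ∧ (∀ y ∈ Y, linOf g y ∈ Y) ∨
      (∀ x ∈ X, linOf g x ∈ Y) ∧ (∀ y ∈ Y, linOf g y ∈ X)) := fun h => hg ((hH g).2 ⟨hK hgK, h⟩)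
  have hlong : ∀ u ∈ X, ∀ w ∈ Y, ∀ (hQu : Q u = 0) (hwu : pB Q w u = 0),
      glOf (S.siegel u w hQu hwu) ∈ K := fun u hu w hw hQu hwu =>
    hHK ((hH _).2 ⟨glOf_siegel_mem_omega S hQu hwu, Or.inl (by rw [hlin]; exact P.fix_pair hu hw hwu)⟩)
  have hlong' : ∀ u ∈ Y, ∀ w ∈ X, ∀ (hQu : Q u = 0) (hwu : pB Q w u = 0),
      glOf (S.siegel u w hQu hwu) ∈ K := fun u hu w hw hQu hwu =>
    hHK ((hH _).2 ⟨glOf_siegel_mem_omega S hQu hwu, Or.inl (by
      rw [hlin]; exact ⟨(P.swap.fix_pair hu hw hwu).2, (P.swap.fix_pair hu hw hwu).1⟩)⟩)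
  obtain ⟨h, ho, hΩ, hXY, hYX⟩ := P.exists_swap hr
  have hhK : glOf h ∈ K := hHK ((hH _).2 ⟨hΩ, Or.inr (by rw [hlin]; exact ⟨hXY, hYX⟩)⟩)
  -- inner root elements of the first half
  have hin : ∀ u ∈ X, ∀ w ∈ X, ∀ (hQu : Q u = 0) (hwu : pB Q w u = 0),
      glOf (S.siegel u w hQu hwu) ∈ K := by
    by_cases hA : ∀ x ∈ X, linOf g x ∈ Y
    · have hB' : ¬ ∀ y ∈ Y, linOf g y ∈ X := fun hB' => hgH (Or.inr ⟨hA, hB'⟩)
      have hA' : ¬ ∀ x ∈ X, linOf g x ∈ X := fun hA' => by
        obtain ⟨a, ha, ha0⟩ := (Submodule.ne_bot_iff X).1 (fun e => by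
          have := P.six; rw [e, finrank_bot] at this; omega)
        exact ha0 ((linOf g).injective ((P.eq_zero (hA' a ha) (hA a ha)).trans (map_zero _).symm))
      obtain ⟨v, hv, e, he, hQv, hev, hevn, hv0, hK1⟩ :=
        P.swap.exists_inner hlong' hgo hgK' hB' hA'
      have h2 := P.swap.inner_all hlong' hv he hv0 hevn hQv hev hK1
      intro u hu w hw hQu hwu
      have h3 := K.mul_mem (K.mul_mem (K.inv_mem hhK)
        (h2 (h u) (hXY u hu) (h w) (hXY w hw) (by rw [ho u, hQu]) (by rw [S.pB_of_mem ho, hwu]))) hhK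
      rwa [← S.siegel_conj ho, map_mul, map_mul, map_inv, mul_assoc, mul_assoc, mul_assoc,
        inv_mul_cancel, mul_one, inv_mul_cancel_left] at h3
    by_cases hB : ∀ y ∈ Y, linOf g y ∈ Y
    · have hA' : ¬ ∀ x ∈ X, linOf g x ∈ X := fun hA' => hgH (Or.inl ⟨hA', hB⟩)
      have hB' : ¬ ∀ y ∈ Y, linOf g y ∈ X := fun hB' => by
        obtain ⟨a, ha, ha0⟩ := (Submodule.ne_bot_iff Y).1 (fun e => by
          have := P.swap.six; rw [e, finrank_bot] at this; omega)
        exact ha0 ((linOf g).injective ((P.eq_zero (hB' a ha) (hB a ha)).trans (map_zero _).symm))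
      obtain ⟨v, hv, e, he, hQv, hev, hevn, hv0, hK1⟩ :=
        P.swap.exists_inner hlong' hgo hgK' hB' hA'
      have h2 := P.swap.inner_all hlong' hv he hv0 hevn hQv hev hK1
      intro u hu w hw hQu hwu
      have h3 := K.mul_mem (K.mul_mem (K.inv_mem hhK)
        (h2 (h u) (hXY u hu) (h w) (hXY w hw) (by rw [ho u, hQu]) (by rw [S.pB_of_mem ho, hwu]))) hhK
      rwa [← S.siegel_conj ho, map_mul, map_mul, map_inv, mul_assoc, mul_assoc, mul_assoc,
        inv_mul_cancel, mul_one, inv_mul_cancel_left] at h3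
    obtain ⟨v, hv, e, he, hQv, hev, hevn, hv0, hK1⟩ := P.exists_inner hlong hgo hgK' hA hB
    exact P.inner_all hlong hv he hv0 hevn hQv hev hK1
  have hgoodX : ∀ u ∈ X, ∀ (hQu : Q u = 0) w (hwu : pB Q w u = 0), glOf (S.siegel u w hQu hwu) ∈ K := by
    intro u hu hQu w hwu
    obtain ⟨w0, hw0, w1, hw1, rfl⟩ := P.decomp w
    have h0 := isotropic_of_singular S P.singX hw0 hu
    have h1 : pB Q w1 u = 0 := by rwa [map_add, LinearMap.add_apply, h0, zero_add] at hwu
    rw [← S.siegel_mul hQu h0 h1, map_mul]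
    exact K.mul_mem (hin u hu w0 hw0 hQu h0) (hlong u hu w1 hw1 hQu h1)
  obtain ⟨a, ha, ha0⟩ := (Submodule.ne_bot_iff X).1 (fun e => by
    have := P.six; rw [e, finrank_bot] at this; omega)
  obtain ⟨y, hy, hya⟩ := P.exists_dual (v := ![a]) (fun i => by fin_cases i; exact ha)
    (by simp [linearIndependent_unique_iff, ha0]) ![1]
  have hby : y = h (h.symm y) := (h.apply_symm_apply y).symm
  have hy' : h.symm y ∈ X := by
    have hmap : X.map (h : (ι → F) →ₗ[F] (ι → F)) = Y := by
      refine Submodule.eq_of_le_of_finrank_eq ?_ (by rw [h.finrank_map_eq, P.dimEq])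
      rintro _ ⟨x, hx, rfl⟩
      exact hXY x hx
    obtain ⟨x, hx, hxy⟩ := hmap.ge hy
    rw [← hxy, LinearEquiv.coe_coe, LinearEquiv.symm_apply_apply]
    exact hx
  refine siegel_mem_of_pair S (P.singX a ha) (P.singY y hy)
    (by rw [S.pB_comm, show pB Q y a = 1 from hya 0]; exact one_ne_zero) (hgoodX a ha _) ?_
  intro w hw
  have hw' : pB Q (h.symm w) (h.symm y) = 0 := by
    rw [← S.pB_of_mem ho, h.apply_symm_apply, h.apply_symm_apply, hw]
  have h3 := K.mul_mem (K.mul_mem hhK (hgoodX _ hy' (P.singX _ hy') _ hw')) (K.inv_mem hhK)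
  rwa [← map_inv, ← map_mul, ← map_mul, S.siegel_conj ho,
    S.siegel_congr (h.apply_symm_apply y) (h.apply_symm_apply w) (hu' := P.singY y hy) (hw' := hw)] at h3

end Halves

end Cfsg.Agent.QMax
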