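import Cfsg.Agent.Lib.TransvMax.QuadBasic

/-!
Orthogonal splittings: vectors of prescribed norm and values inside one member, any characteristic.
-/

set_option autoImplicit false

namespace Cfsg.Agent.QMax

open scoped Matrix MatrixGroups
open Cfsg.Agent Cfsg.Agent.TransvMax

variable {ι : Type} [Fintype ι] [DecidableEq ι] {F : Type*} [Field F]
  {Q : QuadraticForm F (ι → F)}

/-- An orthogonal splitting of the space. -/
structure ODec (S : QSetting Q) (W U : Submodule F (ι → F)) : Prop where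
  compl : IsCompl W U
  orth : ∀ a ∈ W, ∀ b ∈ U, pB Q a b = 0

namespace ODec

variable {S : QSetting Q} {W U : Submodule F (ι → F)} (D : ODec S W U)

include D

theorem swap : ODec S U W :=
  ⟨D.compl.symm, fun a ha b hb => by rw [S.pB_comm]; exact D.orth b hb a ha⟩

theorem orth' {a : ι → F} (ha : a ∈ W) {b : ι → F} (hb : b ∈ U) : pB Q b a = 0 := by
  rw [S.pB_comm]; exact D.orth a ha b hb

theorem decomp (x : ι → F) : ∃ a ∈ W, ∃ b ∈ U, a + b = x :=
  Submodule.mem_sup.1 (D.compl.sup_eq_top.ge (Submodule.mem_top (x := x)))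

theorem eq_zero {x : ι → F} (hW : x ∈ W) (hU : x ∈ U) : x = 0 :=
  Submodule.disjoint_def.1 D.compl.disjoint x hW hU

theorem mem_W {x : ι → F} (h : ∀ b ∈ U, pB Q x b = 0) : x ∈ W := by
  obtain ⟨a, ha, b, hb, rfl⟩ := D.decomp x
  have hb0 : b = 0 := S.eq_of_forall fun z => by
    obtain ⟨a', ha', b', hb', rfl⟩ := D.decomp z
    have h1 := h b' hb'
    rw [map_add, LinearMap.add_apply, D.orth a ha b' hb', zero_add, S.pB_comm] at h1
    rw [map_zero, map_add, LinearMap.add_apply, D.orth a' ha' b hb, h1, add_zero]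
  rw [hb0, add_zero]
  exact ha

theorem exists_ne {b : ι → F} (hb : b ∈ U) (hb0 : b ≠ 0) : ∃ c ∈ U, pB Q c b ≠ 0 := by
  by_contra hc
  push Not at hc
  refine hb0 (D.eq_zero (D.mem_W fun c hcU => ?_) hb)
  rw [S.pB_comm]; exact hc c hcU

theorem finrank_add : Module.finrank F W + Module.finrank F U = Fintype.card ι := by
  have h := Submodule.finrank_sup_add_finrank_inf_eq W U
  rw [D.compl.sup_eq_top, D.compl.inf_eq_bot, finrank_top, finrank_bot,
    Module.finrank_fintype_fun_eq_card] at h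
  omega

theorem finrank_ker {k : ℕ} (v : Fin k → ι → F) :
    Module.finrank F U ≤
      Module.finrank F ↥(U ⊓ LinearMap.ker (LinearMap.pi fun i => (pB Q).flip (v i))) + k := by
  set L : (ι → F) →ₗ[F] (Fin k → F) := LinearMap.pi fun i => (pB Q).flip (v i)
  have h1 := Submodule.finrank_sup_add_finrank_inf_eq U (LinearMap.ker L)
  have h3 := LinearMap.finrank_range_add_finrank_ker L
  have h4 := Submodule.finrank_le (LinearMap.range L)
  have h5 := Submodule.finrank_le (U ⊔ LinearMap.ker L)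
  rw [Module.finrank_fintype_fun_eq_card, Fintype.card_fin] at h4
  rw [Module.finrank_fintype_fun_eq_card] at h3 h5
  omega

theorem exists_aniso {k : ℕ} (v : Fin k → ι → F) (hk : 2 * k < Module.finrank F U) :
    ∃ p ∈ U, (∀ i, pB Q p (v i) = 0) ∧ Q p ≠ 0 := by
  by_contra hc
  push Not at hc
  set M := U ⊓ LinearMap.ker (LinearMap.pi fun i => (pB Q).flip (v i))
  have hQ : ∀ p ∈ M, Q p = 0 := fun p hp => hc p hp.1 fun i => congrFun hp.2 i
  have hle : W ⊔ M ≤ LinearMap.BilinForm.orthogonal (pB Q) M := by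
    refine sup_le (fun x hx y hy => ?_) fun x hx y hy => ?_
    · exact D.orth' hx hy.1
    · show pB Q y x = 0
      have h := S.quad_add y x
      rw [hQ _ (M.add_mem hy hx), hQ _ hy, hQ _ hx] at h
      linear_combination -h
  have h1 := Submodule.finrank_mono hle
  rw [LinearMap.BilinForm.finrank_orthogonal S.nondeg, Module.finrank_fintype_fun_eq_card] at h1
  have h2 := Submodule.finrank_sup_add_finrank_inf_eq W M
  rw [disjoint_iff.1 (D.compl.disjoint.mono_right (inf_le_left : M ≤ U)), finrank_bot] at h2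
  have h3 : Module.finrank F U ≤ Module.finrank F ↥M + k := D.finrank_ker v
  have h4 := D.finrank_add
  omega

theorem add_left {a b z : ι → F} (ha : a ∈ W) (hz : z ∈ U) :
    pB Q (a + b) z = pB Q b z := by
  rw [map_add, LinearMap.add_apply, D.orth a ha z hz, zero_add]

/-- Values on independent vectors of one member, realised inside it. -/
theorem exists_vals {k : ℕ} {v : Fin k → ι → F} (hvU : ∀ i, v i ∈ U) (hv : LinearIndependent F v)
    (α : Fin k → F) : ∃ z ∈ U, ∀ i, pB Q z (v i) = α i := by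
  obtain ⟨x, hx⟩ := S.exists_values hv α
  obtain ⟨a, ha, z, hz, rfl⟩ := D.decomp x
  exact ⟨z, hz, fun i => (D.add_left ha (hvU i)).symm.trans (hx i)⟩

theorem exists_val {a b : ι → F} (ha : a ∈ U) (hb : b ∈ U) (ha0 : a ≠ 0)
    (hli : b ∉ Submodule.span F {a}) : ∃ z ∈ U, pB Q z a = 0 ∧ pB Q z b = 1 := by
  obtain ⟨z, hz, h⟩ := D.exists_vals (v := ![b, a]) (fun i => by fin_cases i <;> assumption)
    (linearIndependent_finCons.2 ⟨by simp [linearIndependent_unique_iff, ha0], by simpa using hli⟩) ![1, 0]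
  exact ⟨z, hz, h 1, h 0⟩

variable [Finite F]

/-- Prescribed values and norm inside one member. -/
theorem exists_values_in {k : ℕ} {v : Fin k → ι → F} (hvU : ∀ i, v i ∈ U)
    (hv : LinearIndependent F v) (hk : 2 * (k + 1) < Module.finrank F U) (α : Fin k → F) (γ : F) :
    ∃ x ∈ U, Q x = γ ∧ ∀ i, pB Q x (v i) = α i := by
  by_cases h2 : (2 : F) = 0
  · obtain ⟨x₀, hx₀, hx⟩ := D.exists_vals hvU hv α
    obtain ⟨p, hpU, hp, hQp⟩ := D.exists_aniso (Fin.cons x₀ v : Fin (k + 1) → ι → F) hk
    have hpx : pB Q p x₀ = 0 := by simpa using hp 0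
    obtain ⟨t, ht⟩ := S.exists_sq h2 ((γ - Q x₀) / Q p)
    refine ⟨x₀ + t • p, U.add_mem hx₀ (U.smul_mem _ hpU), ?_, fun i => ?_⟩
    · rw [S.quad_add, S.quad_smul, map_smul, smul_eq_mul, S.pB_comm x₀ p, hpx, mul_zero, add_zero,
        ht, div_mul_cancel₀ _ hQp, add_sub_cancel]
    · have h := hp i.succ
      simp only [Fin.cons_succ] at h
      rw [map_add, map_smul, LinearMap.add_apply, LinearMap.smul_apply, h, smul_zero, add_zero, hx]
  obtain ⟨p, hpU, hp, hQp⟩ := D.exists_aniso v (by omega)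
  obtain ⟨r, hrU, hr, hQr⟩ := D.exists_aniso (Fin.cons p v : Fin (k + 1) → ι → F) hk
  have hrp : pB Q r p = 0 := by simpa using hr 0
  have hrv : ∀ i, pB Q r (v i) = 0 := fun i => by simpa using hr i.succ
  have hspan : ∀ (z : ι → F) {m : ℕ} (w : Fin m → ι → F), (∀ i, pB Q z (w i) = 0) →
      Submodule.span F (Set.range w) ≤ LinearMap.ker (pB Q z) := fun z m w h => by
    rw [Submodule.span_le]
    rintro _ ⟨i, rfl⟩
    exact h i
  have hli : LinearIndependent F (Fin.cons r (Fin.cons p v) : Fin (k + 2) → ι → F) := by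
    refine linearIndependent_finCons.2 ⟨linearIndependent_finCons.2 ⟨hv, fun h => ?_⟩, fun h => ?_⟩
    · have h1 : pB Q p p = 0 := hspan p v hp h
      rw [S.pB_self] at h1
      exact mul_ne_zero h2 hQp h1
    · have h1 : pB Q r r = 0 := hspan r _ (fun i => by
        refine Fin.cases ?_ (fun j => ?_) i
        · simpa using hrp
        · simpa using hrv j) h
      rw [S.pB_self] at h1
      exact mul_ne_zero h2 hQr h1
  obtain ⟨x₀, hx₀, hx⟩ := D.exists_vals (v := (Fin.cons r (Fin.cons p v) : Fin (k + 2) → ι → F))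
    (fun i => Fin.cases (by simpa using hrU) (fun j => Fin.cases (by simpa using hpU)
      (fun l => by simpa using hvU l) j) i) hli (Fin.cons 0 (Fin.cons 0 α))
  have hx0r : pB Q x₀ r = 0 := by simpa using hx 0
  have hx0p : pB Q x₀ p = 0 := by simpa using hx (Fin.succ 0)
  have hx0v : ∀ i, pB Q x₀ (v i) = α i := fun i => by simpa using hx i.succ.succ
  obtain ⟨s, t, hst⟩ := S.exists_binary hQp hQr (γ - Q x₀)
  refine ⟨x₀ + (s • p + t • r), U.add_mem hx₀ (U.add_mem (U.smul_mem _ hpU) (U.smul_mem _ hrU)),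
    ?_, fun i => ?_⟩
  · simp only [S.quad_add, S.quad_smul, map_add, map_smul, LinearMap.smul_apply,
      smul_eq_mul, S.pB_comm p r, hrp, hx0p, hx0r, mul_zero, add_zero]
    linear_combination hst
  · simp only [map_add, map_smul, LinearMap.add_apply, LinearMap.smul_apply, hp i, hrv i, smul_zero,
      add_zero, hx0v]

/-- A vector of given norm orthogonal to a few vectors, outside a small subspace. -/
theorem exists_norm_out {k : ℕ} (v : Fin k → ι → F) (X : Submodule F (ι → F))
    (hk : 2 * (k + 1) < Module.finrank F U)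
    (hX : Module.finrank F X + k + 2 < Module.finrank F U) (γ : F) :
    ∃ x ∈ U, Q x = γ ∧ (∀ i, pB Q x (v i) = 0) ∧ x ∉ X := by
  obtain ⟨p, hpU, hp, hQp⟩ := D.exists_aniso v (by omega)
  by_cases h2 : (2 : F) = 0
  · obtain ⟨z, hzU, hz, hzX⟩ : ∃ z ∈ U, (∀ i, pB Q z ((Fin.cons p v : Fin (k + 1) → ι → F) i) = 0) ∧
        z ∉ X ⊔ Submodule.span F {p} := by
      by_contra hc
      push Not at hc
      have h1 := Submodule.finrank_mono (show U ⊓ LinearMap.ker (LinearMap.pi fun i =>
          (pB Q).flip ((Fin.cons p v : Fin (k + 1) → ι → F) i)) ≤ X ⊔ Submodule.span F {p} from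
        fun z hz => hc z hz.1 fun i => congrFun hz.2 i)
      have h3 := D.finrank_ker (Fin.cons p v : Fin (k + 1) → ι → F)
      have h4 := Submodule.finrank_add_le_finrank_add_finrank X (Submodule.span F {p})
      have h5 : Module.finrank F (Submodule.span F {p}) ≤ 1 := by
        exact (finrank_span_singleton (K := F) (fun e : p = 0 => hQp (by rw [e, QuadraticMap.map_zero]))).le
      omega
    have hzp : pB Q z p = 0 := by simpa using hz 0
    obtain ⟨t, ht⟩ := S.exists_sq h2 ((γ - Q z) / Q p)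
    refine ⟨z + t • p, U.add_mem hzU (U.smul_mem _ hpU), ?_, fun i => ?_, fun h => hzX ?_⟩
    · rw [S.quad_add, S.quad_smul, map_smul, smul_eq_mul, hzp, mul_zero, add_zero, ht,
        div_mul_cancel₀ _ hQp, add_sub_cancel]
    · have h := hz i.succ
      simp only [Fin.cons_succ] at h
      rw [map_add, map_smul, LinearMap.add_apply, LinearMap.smul_apply, h, hp i, smul_zero, add_zero]
    · rw [← add_sub_cancel_right z (t • p)]
      exact sub_mem (Submodule.mem_sup_left h)
        (Submodule.mem_sup_right (Submodule.smul_mem _ _ (Submodule.mem_span_singleton_self p)))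
  obtain ⟨r, hrU, hr, hQr⟩ := D.exists_aniso (Fin.cons p v : Fin (k + 1) → ι → F) hk
  have hrp : pB Q r p = 0 := by simpa using hr 0
  obtain ⟨z, hzU, hz, hzX⟩ : ∃ z ∈ U,
      (∀ i, pB Q z ((Fin.cons r (Fin.cons p v) : Fin (k + 2) → ι → F) i) = 0) ∧ z ∉ X := by
    by_contra hc
    push Not at hc
    have h1 := Submodule.finrank_mono (show U ⊓ LinearMap.ker (LinearMap.pi fun i =>
        (pB Q).flip ((Fin.cons r (Fin.cons p v) : Fin (k + 2) → ι → F) i)) ≤ X from
      fun z hz => hc z hz.1 fun i => congrFun hz.2 i)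
    have h2 := D.finrank_ker (Fin.cons r (Fin.cons p v) : Fin (k + 2) → ι → F)
    omega
  have hzp : pB Q z p = 0 := by simpa using hz (Fin.succ 0)
  have hzr : pB Q z r = 0 := by simpa using hz 0
  obtain ⟨s, t, hst⟩ := S.exists_binary hQp hQr (γ - Q z)
  have hgood : ∀ ε : F, ε * ε = 1 → z + ε • (s • p + t • r) ∈ U ∧
      Q (z + ε • (s • p + t • r)) = γ ∧ ∀ i, pB Q (z + ε • (s • p + t • r)) (v i) = 0 := by
    intro ε hε
    refine ⟨U.add_mem hzU (U.smul_mem _ (U.add_mem (U.smul_mem _ hpU) (U.smul_mem _ hrU))), ?_,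
      fun i => ?_⟩
    · simp only [S.quad_add, S.quad_smul, map_add, map_smul, LinearMap.smul_apply,
        smul_eq_mul, S.pB_comm p r, hzp, hzr, hrp, mul_zero, add_zero, hε]
      linear_combination hst
    · have h2 : pB Q r (v i) = 0 := by simpa using hr i.succ
      have h3 : pB Q z (v i) = 0 := by simpa using hz i.succ.succ
      simp only [map_add, map_smul, LinearMap.add_apply, LinearMap.smul_apply, hp i, h2, h3,
        smul_zero, add_zero]
  by_contra hc
  push Not at hc
  obtain ⟨a1, b1, c1⟩ := hgood 1 (one_mul 1)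
  obtain ⟨a2, b2, c2⟩ := hgood (-1) (by ring)
  refine hzX ?_
  have h3 := X.smul_mem (2 : F)⁻¹ (X.add_mem (hc _ a1 b1 c1) (hc _ a2 b2 c2))
  convert h3 using 1
  match_scalars <;> field_simp [h2] <;> ring

theorem siegel_fix {u w x : ι → F} (hu : u ∈ U) (hw : w ∈ U) (hQu : Q u = 0) (hwu : pB Q w u = 0)
    (hx : x ∈ W) : S.siegel u w hQu hwu x = x := by
  rw [S.siegel_apply, siegelHom_apply, D.orth x hx u hu, D.orth x hx w hw]
  simp

end ODec

namespace QSetting

/-- The whole space as the second member of a splitting. -/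
theorem topDec (S : QSetting Q) : ODec S ⊥ ⊤ :=
  ⟨isCompl_bot_top, fun a ha b _ => by
    rw [(Submodule.mem_bot F).1 ha, map_zero, LinearMap.zero_apply]⟩

theorem finrank_top_eq (_S : QSetting Q) :
    Module.finrank F (⊤ : Submodule F (ι → F)) = Fintype.card ι := by
  rw [finrank_top, Module.finrank_fintype_fun_eq_card]

theorem sing_indep_pair (_S : QSetting Q) {a b : ι → F} (ha : a ≠ 0) (hb : b ∉ Submodule.span F {a}) :
    LinearIndependent F ![b, a] :=
  linearIndependent_finCons.2 ⟨by simp [linearIndependent_unique_iff, ha], by simpa using hb⟩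

end QSetting

/-- A non-degenerate subspace and its orthogonal complement. -/
theorem exists_ODec (S : QSetting Q) (W : Submodule F (ι → F))
    (hW : ∀ w ∈ W, w ≠ 0 → ∃ x ∈ W, pB Q x w ≠ 0) : ∃ U, ODec S W U := by
  refine ⟨LinearMap.BilinForm.orthogonal (pB Q) W, ?_, fun a ha b hb => hb a ha⟩
  have hdis : W ⊓ LinearMap.BilinForm.orthogonal (pB Q) W = ⊥ := by
    rw [eq_bot_iff]
    intro w hw
    by_contra h0
    obtain ⟨x, hx, hxw⟩ := hW w hw.1 h0
    exact hxw (hw.2 x hx)
  refine ⟨disjoint_iff.2 hdis, codisjoint_iff.2 (Submodule.eq_top_of_finrank_eq ?_)⟩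
  have h1 := Submodule.finrank_sup_add_finrank_inf_eq W (LinearMap.BilinForm.orthogonal (pB Q) W)
  rw [hdis, finrank_bot] at h1
  rw [LinearMap.BilinForm.finrank_orthogonal S.nondeg] at h1
  have h2 := Submodule.finrank_le W
  omega

end Cfsg.Agent.QMax
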