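import Cfsg.Agent.Lib.TransvMax.QuadOmega
import Cfsg.Agent.Lib.TransvMax.Frame

/-!
Decompositions of orthogonal spaces with a canonical refinement are not maximal.
-/

set_option autoImplicit false

namespace Cfsg.Agent.QMax.Refine

open scoped Matrix MatrixGroups
open Cfsg.Agent Cfsg.Agent.TransvMax

variable {ι : Type} [Fintype ι] [DecidableEq ι] {F : Type*} [Field F]
  {Q : QuadraticForm F (ι → F)} {t r d : ℕ} {D : Fin t → Submodule F (ι → F)}

theorem quad_sum {κ : Type*} (s : Finset κ) (y : κ → ι → F)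
    (h : ∀ i ∈ s, ∀ j ∈ s, i ≠ j → QuadraticMap.polar Q (y i) (y j) = 0) :
    Q (∑ i ∈ s, y i) = ∑ i ∈ s, Q (y i) := by
  classical
  induction s using Finset.induction_on with
  | empty => simp
  | insert a s ha ih =>
    rw [Finset.sum_insert ha, Finset.sum_insert ha, FormsLib.quad_add,
      ih fun i hi j hj => h i (Finset.mem_insert_of_mem hi) j (Finset.mem_insert_of_mem hj)]
    have : QuadraticMap.polar Q (y a) (∑ i ∈ s, y i) = 0 := by
      rw [← QuadraticMap.polarBilin_apply_apply, map_sum]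
      exact Finset.sum_eq_zero fun i hi => by
        rw [QuadraticMap.polarBilin_apply_apply]
        exact h a (Finset.mem_insert_self a s) i (Finset.mem_insert_of_mem hi) (fun e => ha (e ▸ hi))
    rw [this, add_zero]

/-- Coordinates on all members transported from one of them. -/
theorem exists_coords_transport [Fintype F] (hD : Cfsg.Geo.IsOrthogonalMDecomposition ⇑Q (r * d) D)
    (qa : Fin r → (Fin d → F) → F) (i₀ : Fin t) (φ : (Fin r → Fin d → F) ≃ₗ[F] D i₀)
    (hφ : ∀ y, Q (φ y : ι → F) = ∑ a, qa a (y a)) :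
    ∃ c : (ι → F) ≃ₗ[F] (Fin t × Fin r → Fin d → F),
      (∀ i x, x ∈ D i ↔ ∀ p, p.1 ≠ i → c x p = 0) ∧ ∀ x, Q x = ∑ p, qa p.2 (c x p) := by
  classical
  choose e he using fun i => hD.isometric i₀ i
  let ψ : ∀ i, (Fin r → Fin d → F) ≃ₗ[F] D i := fun i => φ.trans (e i)
  have hψ : ∀ i y, Q (ψ i y : ι → F) = ∑ a, qa a (y a) := fun i y => by
    rw [← hφ]; exact he i (φ y)
  let Ψ : (Fin t × Fin r → Fin d → F) →ₗ[F] (ι → F) :=
    ∑ i, ((D i).subtype.comp (ψ i).toLinearMap).comp
      (LinearMap.funLeft F (Fin d → F) fun a : Fin r => (i, a))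
  have hΨ : ∀ y, Ψ y = ∑ i, (ψ i (fun a => y (i, a)) : ι → F) := fun y => by
    simp [Ψ, LinearMap.sum_apply]
    rfl
  have hsurj : Function.Surjective Ψ := by
    rw [← LinearMap.range_eq_top, eq_top_iff, ← hD.decomp.decomp.iSup_eq_top]
    refine iSup_le fun i x hx => ?_
    refine ⟨fun p => if p.1 = i then (ψ i).symm ⟨x, hx⟩ p.2 else 0, ?_⟩
    rw [hΨ, Finset.sum_eq_single i]
    · simp
    · intro j _ hj
      simp only [if_neg hj]
      rw [show (fun _ : Fin r => (0 : Fin d → F)) = 0 from rfl, map_zero]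
      rfl
    · simp
  have hfin : Module.finrank F (Fin t × Fin r → Fin d → F) = Module.finrank F (ι → F) := by
    obtain ⟨c0, -⟩ := FrameLib.exists_coords hD.decomp.decomp
    rw [c0.finrank_eq]
    simp [Module.finrank_pi_fintype, mul_assoc]
  have hinj : Function.Injective Ψ := (LinearMap.injective_iff_surjective_of_finrank_eq_finrank hfin).2 hsurj
  let c := (LinearEquiv.ofBijective Ψ ⟨hinj, hsurj⟩).symm
  have hc : ∀ x, x = ∑ i, (ψ i (fun a => c x (i, a)) : ι → F) := fun x => by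
    rw [← hΨ]
    exact ((LinearEquiv.ofBijective Ψ ⟨hinj, hsurj⟩).apply_symm_apply x).symm
  refine ⟨c, fun i x => ⟨fun hx p hp => ?_, fun h => ?_⟩, fun x => ?_⟩
  · have : c x = fun p => if p.1 = i then (ψ i).symm ⟨x, hx⟩ p.2 else 0 := by
      apply hinj
      rw [show Ψ (c x) = x from (LinearEquiv.ofBijective Ψ ⟨hinj, hsurj⟩).apply_symm_apply x, hΨ,
        Finset.sum_eq_single i]
      · simp
      · intro j _ hj
        simp only [if_neg hj]
        rw [show (fun _ : Fin r => (0 : Fin d → F)) = 0 from rfl, map_zero]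
        rfl
      · simp
    rw [this]
    exact if_neg hp
  · rw [hc x, Finset.sum_eq_single i]
    · exact (ψ i _).2
    · intro j _ hj
      rw [show (fun a => c x (j, a)) = 0 from funext fun a => h (j, a) hj, map_zero]
      rfl
    · simp
  · conv_lhs => rw [hc x]
    rw [quad_sum _ _ (fun i _ j _ hij => hD.decomp.orthogonal i j hij _ (ψ i _).2 _ (ψ j _).2),
      Fintype.sum_prod_type]
    exact Finset.sum_congr rfl fun i _ => hψ i _

/-- The property of lying in exactly one piece. -/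
def InPiece (c : (ι → F) ≃ₗ[F] (Fin t × Fin r → Fin d → F)) (x : ι → F) : Prop :=
  ∃ p, c x p ≠ 0 ∧ ∀ p', p' ≠ p → c x p' = 0

theorem sum_pair {κ M : Type*} [Fintype κ] [AddCommMonoid M] {f : κ → M} (T : Finset κ)
    (h : ∀ p, p ∉ T → f p = 0) : ∑ p, f p = ∑ p ∈ T, f p :=
  (Finset.sum_subset (Finset.subset_univ T) fun p _ hp => h p hp).symm

/-- The main criterion. -/
theorem not_maximal [Finite F] (S : QSetting Q) (ht : 4 ≤ t) (hr : 2 ≤ r) (hd : 1 ≤ d)
    (c : (ι → F) ≃ₗ[F] (Fin t × Fin r → Fin d → F))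
    (qa : Fin r → (Fin d → F) → F) (hqa : ∀ a, qa a 0 = 0)
    (hD : ∀ i x, x ∈ D i ↔ ∀ p, p.1 ≠ i → c x p = 0) (hQ : ∀ x, Q x = ∑ p, qa p.2 (c x p))
    (cond : F → Prop) (hcond : ∀ i x, x ∈ D i → (InPiece c x ↔ cond (Q x)))
    (s : ℕ) (hs3 : 3 ≤ s) (hs4 : s ≤ 4) (hst : s < t) (r₀ : F) (a₀ : Fin r) (z y : Fin d → F)
    (hy : y ≠ 0) (hzs : (s : F) * qa a₀ z ≠ 0) (hr0 : qa a₀ (r₀ • z) = (s : F) * qa a₀ z)
    (hB : qa a₀ (y + z) - qa a₀ y - qa a₀ z ≠ 0) :
    ∃ K : Subgroup (GL ι F), Cfsg.Geo.decompositionStabilizer D ⊓ Cfsg.Geo.omegaGL ⇑Q < K ∧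
      K < Cfsg.Geo.omegaGL ⇑Q := by
  classical
  let a₁ : Fin r := if a₀.val = 0 then ⟨1, by omega⟩ else ⟨0, by omega⟩
  have ha₁ : a₁ ≠ a₀ := by
    intro e
    have := congrArg Fin.val e
    simp only [a₁] at this
    split_ifs at this with h <;> simp at this <;> omega
  let T : Fin 4 → Fin t := fun k => ⟨k.val, by omega⟩
  have hT : Function.Injective T := fun a b e => Fin.ext (by simpa [T] using congrArg Fin.val e)
  have hone : ∀ g : GL ι F, g ∈ Cfsg.Geo.decompositionStabilizer D → g ∈ Cfsg.Geo.omegaGL ⇑Q →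
      ∀ x, InPiece c x → InPiece c ((g : Matrix ι ι F) *ᵥ x) := by
    rintro g ⟨π, hπ⟩ hgΩ x hx
    obtain ⟨p, hp, hp'⟩ := id hx
    have hxD : x ∈ D p.1 := (hD _ _).2 fun q hq => hp' q fun e => hq (by rw [e])
    have hgx : (g : Matrix ι ι F) *ᵥ x ∈ D (π p.1) := by
      rw [← hπ p.1]; exact ⟨x, hxD, Matrix.toLin'_apply ..⟩
    rw [hcond _ _ hgx]
    have hQg : Q ((g : Matrix ι ι F) *ᵥ x) = Q x := by
      rw [omegaGL_eq S] at hgΩ
      obtain ⟨h, hh, rfl⟩ := hgΩ
      rw [glOf_mulVec]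
      have : ⁅FormsLib.oGroup Q, FormsLib.oGroup Q⁆ ≤ FormsLib.oGroup Q :=
        Subgroup.commutator_le.2 fun a ha b hb =>
          mul_mem (mul_mem (mul_mem ha hb) (inv_mem ha)) (inv_mem hb)
      exact this hh x
    rw [hQg]
    exact (hcond _ _ hxD).1 hx
  refine ⟨FrameLib.presGroup (InPiece c) ⊓ Cfsg.Geo.omegaGL ⇑Q,
    lt_of_le_of_ne (fun g hg => ⟨fun x => propext ⟨fun hx => ?_, hone g hg.1 hg.2 x⟩, hg.2⟩) ?_,
    lt_of_le_of_ne inf_le_right ?_⟩
  · have := hone g⁻¹ (inv_mem hg.1) (inv_mem hg.2) _ hx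
    rwa [Matrix.mulVec_mulVec, Units.inv_mul, Matrix.one_mulVec] at this
  · intro hK
    -- permutations of equivalent pieces are isometries
    have hperm : ∀ π : Equiv.Perm (Fin t × Fin r), (∀ p, (π p).2 = p.2) →
        ∃ h : (ι → F) ≃ₗ[F] (ι → F), h ∈ FormsLib.oGroup Q ∧ ∀ x p, c (h x) (π p) = c x p := by
      intro π hπ
      let h := c.trans ((LinearEquiv.funCongrLeft F (Fin d → F) π.symm).trans c.symm)
      have hh : ∀ x p, c (h x) (π p) = c x p := fun x p => by
        simp [h, LinearEquiv.funCongrLeft, LinearMap.funLeft]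
      refine ⟨h, fun x => ?_, hh⟩
      rw [hQ, hQ, ← Equiv.sum_comp π]
      exact Finset.sum_congr rfl fun p _ => by rw [hh, hπ]
    set p₀ : Fin t × Fin r := (T 0, a₀)
    set p₁ : Fin t × Fin r := (T 1, a₀)
    set p₂ : Fin t × Fin r := (T 2, a₀)
    have h01 : p₀ ≠ p₁ := fun e => absurd (hT (congrArg Prod.fst e)) (by decide)
    have h02 : p₀ ≠ p₂ := fun e => absurd (hT (congrArg Prod.fst e)) (by decide)
    have h12 : p₁ ≠ p₂ := fun e => absurd (hT (congrArg Prod.fst e)) (by decide)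
    have hsw : ∀ (i j : Fin t) (p : Fin t × Fin r), (Equiv.swap ((i, a₀) : Fin t × Fin r) (j, a₀) p).2 = p.2 := by
      intro i j p
      rw [Equiv.swap_apply_def]
      split_ifs with e1 e2
      · rw [e1]
      · rw [e2]
      · rfl
    obtain ⟨σ₁, hσ₁, e₁⟩ := hperm (Equiv.swap p₀ p₁) (hsw _ _)
    obtain ⟨σ₂, hσ₂, e₂⟩ := hperm (Equiv.swap p₁ p₂) (hsw _ _)
    have k₁ : ∀ x p, c (σ₁ x) p = c x (Equiv.swap p₀ p₁ p) := fun x p => by
      conv_lhs => rw [show p = Equiv.swap p₀ p₁ (Equiv.swap p₀ p₁ p) by simp]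
      rw [e₁]
    have k₂ : ∀ x p, c (σ₂ x) p = c x (Equiv.swap p₁ p₂ p) := fun x p => by
      conv_lhs => rw [show p = Equiv.swap p₁ p₂ (Equiv.swap p₁ p₂ p) by simp]
      rw [e₂]
    have i₁ : σ₁⁻¹ = σ₁ := by
      refine inv_eq_of_mul_eq_one_right (LinearEquiv.ext fun x => c.injective (funext fun p => ?_))
      rw [LinearEquiv.mul_apply, k₁, k₁]; simp
    have i₂ : σ₂⁻¹ = σ₂ := by
      refine inv_eq_of_mul_eq_one_right (LinearEquiv.ext fun x => c.injective (funext fun p => ?_))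
      rw [LinearEquiv.mul_apply, k₂, k₂]; simp
    set g := σ₁ * σ₂ * σ₁⁻¹ * σ₂⁻¹
    set π : Equiv.Perm (Fin t × Fin r) :=
      Equiv.swap p₁ p₂ * Equiv.swap p₀ p₁ * Equiv.swap p₁ p₂ * Equiv.swap p₀ p₁
    have kg : ∀ x p, c (g x) p = c x (π p) := by
      intro x p
      simp only [g, i₁, i₂, LinearEquiv.mul_apply, k₁, k₂, π, Equiv.Perm.mul_apply]
    have hgΩ : glOf g ∈ Cfsg.Geo.omegaGL ⇑Q := by
      rw [omegaGL_eq S]
      refine ⟨g, ?_, rfl⟩
      have := Subgroup.commutator_mem_commutator hσ₁ hσ₂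
      rwa [commutatorElement_def] at this
    have hgK : glOf g ∈ FrameLib.presGroup (InPiece c) ⊓ Cfsg.Geo.omegaGL ⇑Q := by
      refine ⟨fun x => propext ?_, hgΩ⟩
      rw [glOf_mulVec]
      constructor
      · rintro ⟨p, hp, hp'⟩
        refine ⟨π p, by rwa [← kg], fun q hq => ?_⟩
        have := hp' (π.symm q) fun e => hq (by rw [← e, Equiv.apply_symm_apply])
        rwa [kg, Equiv.apply_symm_apply] at this
      · rintro ⟨p, hp, hp'⟩
        refine ⟨π.symm p, by rwa [kg, Equiv.apply_symm_apply], fun q hq => ?_⟩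
        rw [kg]
        exact hp' _ fun e => hq (by rw [← e, Equiv.symm_apply_apply])
    rw [← hK] at hgK
    obtain ⟨ρ, hρ⟩ := hgK.1
    -- two vectors of one member whose images lie in different members
    have hπ2 : π.symm p₀ = p₁ ∨ π.symm p₀ = p₂ := by
      have hor : π p₁ = p₀ ∨ π p₂ = p₀ := by
        right
        show Equiv.swap p₁ p₂ (Equiv.swap p₀ p₁ (Equiv.swap p₁ p₂ (Equiv.swap p₀ p₁ p₂))) = p₀
        rw [Equiv.swap_apply_of_ne_of_ne h02.symm h12.symm, Equiv.swap_apply_right,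
          Equiv.swap_apply_right, Equiv.swap_apply_of_ne_of_ne h01 h02]
      rcases hor with e | e
      · exact Or.inl (by rw [← e, Equiv.symm_apply_apply])
      · exact Or.inr (by rw [← e, Equiv.symm_apply_apply])
    have hfix : π (T 0, a₁) = (T 0, a₁) := by
      have hne : ∀ i, ((T 0, a₁) : Fin t × Fin r) ≠ (i, a₀) := fun i e => ha₁ (congrArg Prod.snd e)
      simp [π, p₀, p₁, p₂, Equiv.swap_apply_of_ne_of_ne (hne _) (hne _)]
    have single_mem : ∀ p : Fin t × Fin r, c.symm (Pi.single p y) ∈ D p.1 := fun p => (hD _ _).2 fun q hq => by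
      rw [LinearEquiv.apply_symm_apply, Pi.single_eq_of_ne (fun e => hq (by rw [e]))]
    have image : ∀ p : Fin t × Fin r, ρ p.1 = (π.symm p).1 := by
      intro p
      by_contra hne
      have hm : g (c.symm (Pi.single p y)) ∈ D (ρ p.1) := by
        rw [← hρ]
        exact ⟨_, single_mem p, by rw [Matrix.toLin'_apply, glOf_mulVec]⟩
      have := (hD _ _).1 hm (π.symm p) (Ne.symm hne)
      rw [kg, Equiv.apply_symm_apply, LinearEquiv.apply_symm_apply, Pi.single_eq_same] at this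
      exact hy this
    have h1 := image p₀
    have h2 := image (T 0, a₁)
    have hfix' : π.symm (T 0, a₁) = (T 0, a₁) := by rw [Equiv.symm_apply_eq, hfix]
    rw [hfix'] at h2
    rcases hπ2 with e | e <;> rw [e, show (p₀.1 : Fin t) = T 0 from rfl, h2] at h1 <;>
      exact absurd (hT h1) (by decide)
  · intro hK
    let v : ι → F := c.symm fun p => if p.2 = a₀ ∧ p.1.val < s then z else 0
    let v' : ι → F := c.symm (Pi.single (((⟨s, hst⟩ : Fin t), a₀) : Fin t × Fin r) (r₀ • z))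
    let x : ι → F := c.symm (Pi.single ((T 0, a₀) : Fin t × Fin r) y)
    have hcv : ∀ p, c v p = if p.2 = a₀ ∧ p.1.val < s then z else 0 := fun p => by
      simp [v]
    have hcv' : ∀ p, c v' p = if p = (((⟨s, hst⟩ : Fin t), a₀) : Fin t × Fin r) then r₀ • z else 0 := fun p => by
      simp [v', Pi.single_apply]
    have hcx : ∀ p, c x p = if p = ((T 0, a₀) : Fin t × Fin r) then y else 0 := fun p => by
      simp [x, Pi.single_apply]
    have hQv : Q v = (s : F) * qa a₀ z := by
      have hterm : ∀ p : Fin t × Fin r, qa p.2 (c v p) = if p.2 = a₀ ∧ p.1.val < s then qa a₀ z else 0 := by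
        intro p
        rw [hcv]
        split_ifs with h
        · rw [h.1]
        · rw [hqa]
      rw [hQ, Finset.sum_congr rfl (fun p _ => hterm p), ← Finset.sum_filter, Finset.sum_const, nsmul_eq_mul]
      congr 2
      rw [show (Finset.univ.filter fun p : Fin t × Fin r => p.2 = a₀ ∧ p.1.val < s) =
        (Finset.univ.filter fun i : Fin t => i.val < s).image fun i => (i, a₀) from ?_]
      · rw [Finset.card_image_of_injective _ (fun i j e => congrArg Prod.fst e)]
        rw [Fin.card_filter_val_lt]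
        omega
      · ext ⟨i, a⟩
        simp only [Finset.mem_filter, Finset.mem_univ, true_and, Finset.mem_image, Prod.mk.injEq]
        exact ⟨fun h => ⟨i, h.2, rfl, h.1.symm⟩, fun ⟨j, hj, e1, e2⟩ => ⟨e2.symm, e1 ▸ hj⟩⟩
    have hQv' : Q v' = (s : F) * qa a₀ z := by
      rw [hQ, Finset.sum_eq_single (((⟨s, hst⟩ : Fin t), a₀) : Fin t × Fin r)]
      · rw [hcv', if_pos rfl, hr0]
      · intro p _ hp; rw [hcv', if_neg hp, hqa]
      · simp
    have hv0 : Q v ≠ 0 := by rw [hQv]; exact hzs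
    have hv0' : Q v' ≠ 0 := by rw [hQv']; exact hzs
    have hpol : ∀ w, QuadraticMap.polar Q x w =
        qa a₀ (y + c w (T 0, a₀)) - qa a₀ y - qa a₀ (c w (T 0, a₀)) := by
      intro w
      rw [QuadraticMap.polar, hQ, hQ, hQ, ← Finset.sum_sub_distrib, ← Finset.sum_sub_distrib,
        Finset.sum_eq_single ((T 0, a₀) : Fin t × Fin r)]
      · rw [map_add, Pi.add_apply, hcx, if_pos rfl]
      · intro p _ hp
        rw [map_add, Pi.add_apply, hcx, if_neg hp, zero_add, hqa, sub_zero, sub_self]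
      · simp
    have hx' : FormsLib.refl Q v' hv0' x = x := by
      rw [FormsLib.refl_apply, hpol, hcv', if_neg (fun e => by
          have := congrArg Fin.val (congrArg Prod.fst e); simp [T] at this; omega),
        add_zero, hqa, sub_self, sub_zero, mul_zero, zero_smul, sub_zero]
    have hg := refl_pair_mem_omega S hv0' hv0 (hQv'.trans hQv.symm)
    rw [← hK] at hg
    have hin : InPiece c x := ⟨(T 0, a₀), by rw [hcx, if_pos rfl]; exact hy, fun p hp => by rw [hcx, if_neg hp]⟩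
    obtain ⟨p, -, hp⟩ := (cast (hg.1 x).symm hin : InPiece c _)
    rw [glOf_mulVec, LinearEquiv.mul_apply, hx', FormsLib.refl_apply] at hp
    set k := (Q v)⁻¹ * QuadraticMap.polar Q x v
    have hk : k ≠ 0 := by
      refine mul_ne_zero (inv_ne_zero hv0) ?_
      rw [hpol, hcv, if_pos ⟨rfl, show (0 : ℕ) < s by omega⟩]
      exact hB
    have hz0 : z ≠ 0 := fun e => hzs (by rw [e, hqa, mul_zero])
    have hval : ∀ j : Fin 4, 0 < j.val → j.val < s →
        c (x - k • v) (T j, a₀) ≠ 0 := by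
      intro j hj hj'
      rw [map_sub, map_smul, Pi.sub_apply, Pi.smul_apply, hcx, hcv,
        if_neg (fun e => by have := congrArg Fin.val (hT (congrArg Prod.fst e)); simp at this; omega),
        if_pos ⟨rfl, hj'⟩, zero_sub, neg_ne_zero]
      exact smul_ne_zero hk hz0
    have e1 : ((T 1, a₀) : Fin t × Fin r) = p := by
      by_contra hne; exact hval 1 (by decide) (by simp; omega) (hp _ hne)
    have e2 : ((T 2, a₀) : Fin t × Fin r) = p := by
      by_contra hne; exact hval 2 (by decide) (by simp; omega) (hp _ hne)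
    exact absurd (hT (congrArg Prod.fst (e1.trans e2.symm))) (by decide)

end Cfsg.Agent.QMax.Refine
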