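import Cfsg.Agent.Lib.TransvMax.Refine

/-!
Instances of the refinement criterion for small fields.
-/

set_option autoImplicit false

namespace Cfsg.Agent.QMax.Refine

open scoped Matrix MatrixGroups
open Cfsg.Agent Cfsg.Agent.TransvMax

variable {ι : Type} [Fintype ι] [DecidableEq ι] {F : Type*} [Field F] [Fintype F]
  {Q : QuadraticForm F (ι → F)} {t : ℕ} {D : Fin t → Submodule F (ι → F)}

/-- A diagonal frame of the member `W`. -/
def IsFrame (Q : QuadraticForm F (ι → F)) {k : ℕ} (W : Submodule F (ι → F))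
    (b : Module.Basis (Fin k) F W) (μ : Fin k → F) : Prop :=
  (∀ a, Q (b a : ι → F) = μ a) ∧
    ∀ a a', a ≠ a' → QuadraticMap.polar Q (b a : ι → F) (b a' : ι → F) = 0

theorem exists_frame (h2 : (2 : F) ≠ 0) {k : ℕ} {W : Submodule F (ι → F)}
    (hk : Module.finrank F W = k)
    (hnd : Cfsg.Geo.IsNondegenerateOn (QuadraticMap.polar ⇑Q) W) :
    ∃ b : Module.Basis (Fin k) F W, ∃ μ : Fin k → F, IsFrame Q W b μ ∧ ∀ a, μ a ≠ 0 := by
  haveI : Invertible (2 : F) := invertibleOfNonzero h2
  let B : LinearMap.BilinForm F W := LinearMap.BilinForm.restrict (QuadraticMap.polarBilin Q) W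
  have hB : LinearMap.IsSymm B := ⟨fun x y => by
    show QuadraticMap.polar Q (x : ι → F) (y : ι → F) = QuadraticMap.polar Q (y : ι → F) (x : ι → F)
    exact QuadraticMap.polar_comm _ _ _⟩
  obtain ⟨v, hv⟩ := LinearMap.BilinForm.exists_orthogonal_basis (B := B) hB
  let b := v.reindex (finCongr hk)
  have hb : ∀ a a', a ≠ a' → QuadraticMap.polar Q (b a : ι → F) (b a' : ι → F) = 0 := fun a a' h => by
    simp only [b, Module.Basis.reindex_apply]
    exact hv (fun e => h ((finCongr hk).symm.injective e))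
  refine ⟨b, fun a => Q (b a : ι → F), ⟨fun a => rfl, hb⟩, fun a ha => ?_⟩
  obtain ⟨x, hx, hxa⟩ := (hnd (b a : ι → F) (b a).2 fun e => b.ne_zero a (Subtype.ext e)).1
  apply hxa
  have hsum := congrArg Subtype.val (b.sum_repr ⟨x, hx⟩)
  simp only [Submodule.coe_sum, Submodule.coe_smul] at hsum
  rw [← hsum, ← QuadraticMap.polarBilin_apply_apply, map_sum, LinearMap.sum_apply]
  refine Finset.sum_eq_zero fun a' _ => ?_
  rw [map_smul, LinearMap.smul_apply, QuadraticMap.polarBilin_apply_apply]
  by_cases h : a' = a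
  · rw [h, FormsLib.polar_self', show Q (b a : ι → F) = 0 from ha, mul_zero, smul_zero]
  · rw [hb a' a h, smul_zero]

theorem frame_coords {k : ℕ} {W : Submodule F (ι → F)} {b : Module.Basis (Fin k) F W} {μ : Fin k → F}
    (hb : IsFrame Q W b μ) :
    ∃ φ : (Fin k → Fin 1 → F) ≃ₗ[F] W, ∀ y, Q (φ y : ι → F) = ∑ a, μ a * y a 0 ^ 2 := by
  let φ : (Fin k → Fin 1 → F) ≃ₗ[F] W :=
    (LinearEquiv.piCongrRight fun _ : Fin k => LinearEquiv.funUnique (Fin 1) F F).trans b.equivFun.symm
  refine ⟨φ, fun y => ?_⟩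
  have he : (φ y : ι → F) = ∑ a, y a 0 • (b a : ι → F) := by
    simp [φ, Module.Basis.equivFun_symm_apply]
  rw [he, quad_sum _ _ fun a _ a' _ h => by
    rw [QuadraticMap.polar_smul_left, QuadraticMap.polar_smul_right, hb.2 a a' h, smul_zero, smul_zero]]
  exact Finset.sum_congr rfl fun a _ => by rw [QuadraticMap.map_smul, hb.1, smul_eq_mul]; ring

/-- The criterion for diagonal frames in odd characteristic. -/
theorem not_maximal_frame (S : QSetting Q) (ht : 5 ≤ t) {k : ℕ} (hk : 2 ≤ k) (h2 : (2 : F) ≠ 0)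
    (hD : Cfsg.Geo.IsOrthogonalMDecomposition ⇑Q k D) {i₀ : Fin t}
    {b : Module.Basis (Fin k) F (D i₀)} {μ : Fin k → F} (hb : IsFrame Q (D i₀) b μ) (hμ : ∀ a, μ a ≠ 0)
    (cond : F → Prop)
    (hcond : ∀ y : Fin k → F, (∃ a, y a ≠ 0 ∧ ∀ a', a' ≠ a → y a' = 0) ↔ cond (∑ a, μ a * y a ^ 2)) :
    ∃ K : Subgroup (GL ι F), Cfsg.Geo.decompositionStabilizer D ⊓ Cfsg.Geo.omegaGL ⇑Q < K ∧
      K < Cfsg.Geo.omegaGL ⇑Q := by
  classical
  obtain ⟨φ, hφ⟩ := frame_coords hb
  let qa : Fin k → (Fin 1 → F) → F := fun a y => μ a * y 0 ^ 2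
  obtain ⟨c, hc, hQ⟩ := exists_coords_transport (r := k) (d := 1) (by rwa [mul_one]) qa i₀ φ hφ
  have hsum : ∀ i x, x ∈ D i → Q x = ∑ a, μ a * c x (i, a) 0 ^ 2 := by
    intro i x hx
    rw [hQ, Fintype.sum_prod_type, Finset.sum_eq_single i]
    · intro j _ hj
      exact Finset.sum_eq_zero fun a _ => by simp [qa, (hc i x).1 hx (j, a) hj]
    · simp
  refine not_maximal S (by omega) hk le_rfl c qa (fun a => by simp [qa]) hc hQ cond (fun i x hx => ?_)
    4 (by norm_num) le_rfl (by omega) 2 ⟨0, by omega⟩ (fun _ => 1) (fun _ => 1) ?_ ?_ ?_ ?_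
  · rw [hsum i x hx, ← hcond]
    constructor
    · rintro ⟨⟨j, a⟩, hp, hp'⟩
      obtain rfl : j = i := by
        by_contra hne
        exact hp ((hc i x).1 hx (j, a) hne)
      exact ⟨a, fun e => hp (funext fun l => by rw [Subsingleton.elim l 0]; exact e),
        fun a' ha' => by rw [hp' (j, a') (fun e => ha' (congrArg Prod.snd e))]; rfl⟩
    · rintro ⟨a, ha, ha'⟩
      refine ⟨(i, a), fun e => ha (by rw [e]; rfl), fun p hp => ?_⟩
      by_cases hpi : p.1 = i
      · funext l
        rw [Subsingleton.elim l 0, show p = (i, p.2) from Prod.ext hpi rfl]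
        exact ha' p.2 fun e => hp (Prod.ext hpi e)
      · exact (hc i x).1 hx p hpi
  · exact fun e => one_ne_zero (congrFun e 0)
  · simp only [qa, one_pow, mul_one]
    refine mul_ne_zero ?_ (hμ _)
    rw [show ((4 : ℕ) : F) = 2 * 2 by norm_num]
    exact mul_ne_zero h2 h2
  · simp only [qa, Pi.smul_apply, smul_eq_mul, mul_one, one_pow]
    push_cast; ring
  · simp only [qa, Pi.add_apply, one_pow, mul_one]
    rw [show μ ⟨0, by omega⟩ * (1 + 1 : F) ^ 2 - μ ⟨0, by omega⟩ - μ ⟨0, by omega⟩ = 2 * μ ⟨0, by omega⟩ by ring]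
    exact mul_ne_zero h2 (hμ _)

theorem three_elements (hq : Fintype.card F = 3) :
    (3 : F) = 0 ∧ (2 : F) ≠ 0 ∧ ∀ u : F, u = 0 ∨ u = 1 ∨ u = -1 := by
  have h3 : (3 : F) = 0 := by
    have := FiniteField.cast_card_eq_zero F
    rw [hq] at this
    exact_mod_cast this
  refine ⟨h3, fun h2 => one_ne_zero (α := F) (by linear_combination h3 - h2), fun u => ?_⟩
  by_cases hu : u = 0
  · exact Or.inl hu
  · right
    have h := FiniteField.pow_card_sub_one_eq_one u hu
    rw [hq] at h
    exact mul_self_eq_one_iff.1 (by linear_combination h)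

/-- Members of dimension two or three over three elements. -/
theorem not_maximal_three (S : QSetting Q) (hq : Fintype.card F = 3) (ht : 5 ≤ t) {k : ℕ}
    (hk : k = 2 ∨ k = 3) (hD : Cfsg.Geo.IsOrthogonalMDecomposition ⇑Q k D) :
    ∃ K : Subgroup (GL ι F), Cfsg.Geo.decompositionStabilizer D ⊓ Cfsg.Geo.omegaGL ⇑Q < K ∧
      K < Cfsg.Geo.omegaGL ⇑Q := by
  classical
  obtain ⟨h3, h2, hall⟩ := three_elements hq
  have hm1 : (-1 : F) ≠ 1 := fun e => h2 (by linear_combination -e)
  let i₀ : Fin t := ⟨0, by omega⟩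
  obtain ⟨b, μ, hb, hμ⟩ := exists_frame h2 (hD.decomp.decomp.finrank_eq i₀) (hD.decomp.nondegenerate i₀)
  have hsq : ∀ u : F, u ^ 2 = if u = 0 then 0 else 1 := fun u => by
    rcases hall u with rfl | rfl | rfl <;> simp
  have hnz : ∀ u : F, u ≠ 0 → u = 1 ∨ u = -1 := fun u hu => (hall u).resolve_left hu
  rcases hk with rfl | rfl
  · by_cases he : μ 0 = μ 1
    · refine not_maximal_frame S ht le_rfl h2 hD hb hμ (fun s => s = μ 0) fun y => ?_
      rw [Fin.exists_fin_two, Fin.sum_univ_two, Fin.forall_fin_two, Fin.forall_fin_two, hsq, hsq, ← he]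
      rcases hnz _ (hμ 0) with e | e <;> rw [e] <;>
        by_cases h0 : y 0 = 0 <;> by_cases h1 : y 1 = 0 <;> simp [h0, h1] <;>
        intro hh <;> first
          | exact one_ne_zero hh
          | exact h2 (by linear_combination hh)
          | exact one_ne_zero (α := F) (by linear_combination hh)
          | exact one_ne_zero (α := F) (by linear_combination -hh)
    · have he' : μ 1 = -μ 0 := by
        rcases hnz _ (hμ 0) with e | e <;> rcases hnz _ (hμ 1) with e' | e' <;>
          first | (exfalso; exact he (e.trans e'.symm)) | (simp [e, e'])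
      refine not_maximal_frame S ht le_rfl h2 hD hb hμ (fun s => s ≠ 0) fun y => ?_
      rw [Fin.exists_fin_two, Fin.sum_univ_two, Fin.forall_fin_two, Fin.forall_fin_two, hsq, hsq, he']
      by_cases h0 : y 0 = 0 <;> by_cases h1 : y 1 = 0 <;> simp [h0, h1, hμ 0]
  · -- make the three norms equal
    obtain ⟨b', μ', hb', hμ', heq⟩ : ∃ b' : Module.Basis (Fin 3) F (D i₀), ∃ μ' : Fin 3 → F,
        IsFrame Q (D i₀) b' μ' ∧ (∀ a, μ' a ≠ 0) ∧ ∀ a, μ' a = μ' 0 := by
      by_cases hall3 : ∀ a, μ a = μ 0
      · exact ⟨b, μ, hb, hμ, hall3⟩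
      obtain ⟨σ, hσ1, hσ2⟩ : ∃ σ : Equiv.Perm (Fin 3), μ (σ 0) = μ (σ 1) ∧ μ (σ 2) = -μ (σ 0) := by
        have hne : ∀ a a', μ a ≠ μ a' → μ a' = -μ a := fun a a' hne => by
          rcases hnz _ (hμ a) with e | e <;> rcases hnz _ (hμ a') with e' | e' <;>
            first | (exfalso; exact hne (e.trans e'.symm)) | (simp [e, e'])
        by_cases h01 : μ 0 = μ 1
        · refine ⟨1, h01, hne _ _ fun e => hall3 fun a => ?_⟩
          fin_cases a
          · rfl
          · exact h01.symm
          · exact e.symm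
        · by_cases h02 : μ 0 = μ 2
          · refine ⟨Equiv.swap 1 2, ?_, ?_⟩
            · simpa [Equiv.swap_apply_of_ne_of_ne] using h02
            · simpa [Equiv.swap_apply_of_ne_of_ne] using hne 0 1 h01
          · refine ⟨Equiv.swap 0 2, ?_, ?_⟩
            · have := hne 0 1 h01
              have := hne 0 2 h02
              simp [Equiv.swap_apply_of_ne_of_ne, *]
            · have := hne 0 2 h02
              simp [Equiv.swap_apply_of_ne_of_ne, *]
      set b1 := b.reindex σ.symm
      have hb1 : ∀ a, b1 a = b (σ a) := fun a => by simp [b1]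
      set e0 : ι → F := (b (σ 0) : ι → F)
      set e1 : ι → F := (b (σ 1) : ι → F)
      set e2 : ι → F := (b (σ 2) : ι → F)
      have o01 : QuadraticMap.polar Q e0 e1 = 0 := hb.2 _ _ (σ.injective.ne (by decide))
      have o02 : QuadraticMap.polar Q e0 e2 = 0 := hb.2 _ _ (σ.injective.ne (by decide))
      have o12 : QuadraticMap.polar Q e1 e2 = 0 := hb.2 _ _ (σ.injective.ne (by decide))
      let f : Fin 3 → D i₀ := ![b1 0 + b1 1, b1 0 - b1 1, b1 2]
      have hli : LinearIndependent F f := by
        rw [Fintype.linearIndependent_iff]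
        intro g hg
        have hg' : (g 0 + g 1) • b1 0 + (g 0 - g 1) • b1 1 + g 2 • b1 2 = 0 := by
          rw [← hg, Fin.sum_univ_three]
          simp [f]
          module
        have hind := Fintype.linearIndependent_iff.1 b1.linearIndependent ![g 0 + g 1, g 0 - g 1, g 2]
          (by rw [Fin.sum_univ_three]; simpa using hg')
        have k0 : g 0 + g 1 = 0 := hind 0
        have k1 : g 0 - g 1 = 0 := hind 1
        have k2 : g 2 = 0 := hind 2
        intro a
        fin_cases a
        · show g 0 = 0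
          exact mul_left_cancel₀ h2 (by rw [mul_zero]; linear_combination k0 + k1)
        · show g 1 = 0
          exact mul_left_cancel₀ h2 (by rw [mul_zero]; linear_combination k0 - k1)
        · exact k2
      refine ⟨basisOfLinearIndependentOfCardEqFinrank hli (by simp [hD.decomp.decomp.finrank_eq]),
        fun _ => μ (σ 2), ⟨fun a => ?_, fun a a' haa => ?_⟩, fun _ => hμ _, fun _ => rfl⟩
      · rw [coe_basisOfLinearIndependentOfCardEqFinrank]
        fin_cases a
        · simp [f, hb1]
          rw [FormsLib.quad_add, o01, hb.1, hb.1, hσ2, ← hσ1]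
          linear_combination μ (σ 0) * h3
        · simp [f, hb1]
          rw [sub_eq_add_neg, FormsLib.quad_add, QuadraticMap.map_neg, QuadraticMap.polar_neg_right, o01,
            hb.1, hb.1, hσ2, ← hσ1]
          linear_combination μ (σ 0) * h3
        · simp [f, hb1, hb.1]
      · rw [coe_basisOfLinearIndependentOfCardEqFinrank]
        have o10 : QuadraticMap.polar Q e1 e0 = 0 := by rw [QuadraticMap.polar_comm, o01]
        have o20 : QuadraticMap.polar Q e2 e0 = 0 := by rw [QuadraticMap.polar_comm, o02]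
        have o21 : QuadraticMap.polar Q e2 e1 = 0 := by rw [QuadraticMap.polar_comm, o12]
        have s0 : QuadraticMap.polar Q e0 e0 = 2 * μ (σ 0) := by rw [FormsLib.polar_self', hb.1]
        have s1 : QuadraticMap.polar Q e1 e1 = 2 * μ (σ 0) := by rw [FormsLib.polar_self', hb.1, hσ1]
        fin_cases a <;> fin_cases a' <;>
          first
            | exact absurd rfl haa
            | simp [f, hb1, e0, e1, e2, QuadraticMap.polar_add_left, QuadraticMap.polar_add_right,
                QuadraticMap.polar_sub_left, QuadraticMap.polar_sub_right] at o01 o02 o12 o10 o20 o21 ⊢ <;>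
              simp [o01, o02, o12, o10, o20, o21, hb.1, hσ1]
    refine not_maximal_frame S ht (by norm_num) h2 hD hb' hμ' (fun s => s = μ' 0) fun y => ?_
    rw [Fin.sum_univ_three, hsq, hsq, hsq, heq 1, heq 2]
    simp only [Fin.exists_fin_succ, Fin.forall_fin_succ, IsEmpty.exists_iff, IsEmpty.forall_iff, or_false, and_true]
    rcases hnz _ (hμ' 0) with e | e <;> rw [e] <;>
      by_cases e0 : y 0 = 0 <;> by_cases e1 : y 1 = 0 <;> by_cases e2 : y 2 = 0 <;>
      simp [e0, e1, e2, Fin.succ_ne_zero] <;>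
      intro hh <;> first
        | exact one_ne_zero hh
        | exact one_ne_zero (α := F) (by linear_combination hh)
        | exact one_ne_zero (α := F) (by linear_combination -hh)
        | exact one_ne_zero (α := F) (by linear_combination hh - h3)
        | exact one_ne_zero (α := F) (by linear_combination h3 - hh)
        | exact one_ne_zero (α := F) (by linear_combination h3 + hh)
        | exact one_ne_zero (α := F) (by linear_combination -hh - h3)
        | exact h2 (by linear_combination hh)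
        | exact h2 (by linear_combination -hh)

end Cfsg.Agent.QMax.Refine
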