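import Cfsg.Agent.Lib.TransvMax.RefineCases

/-!
Decompositions into members of plus type over very small fields.
-/

set_option autoImplicit false

namespace Cfsg.Agent.QMax.Refine

open scoped Matrix MatrixGroups
open Cfsg.Agent Cfsg.Agent.TransvMax

variable {ι : Type} [Fintype ι] [DecidableEq ι] {F : Type*} [Field F] [Fintype F]
  {Q : QuadraticForm F (ι → F)} {t : ℕ} {D : Fin t → Submodule F (ι → F)}

omit [Fintype F] in
theorem exists_partner {W : Submodule F (ι → F)}
    (hnd : Cfsg.Geo.IsNondegenerateOn (QuadraticMap.polar ⇑Q) W) {u : ι → F} (hu : u ∈ W) (hu0 : u ≠ 0)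
    (hQu : Q u = 0) : ∃ u' ∈ W, Q u' = 0 ∧ QuadraticMap.polar Q u u' = 1 := by
  obtain ⟨x, hx, hxu⟩ := (hnd u hu hu0).1
  obtain ⟨y, hyW, hyu⟩ : ∃ y ∈ W, QuadraticMap.polar Q y u = 1 :=
    ⟨(QuadraticMap.polar Q x u)⁻¹ • x, W.smul_mem _ hx, by
      rw [QuadraticMap.polar_smul_left, smul_eq_mul, inv_mul_cancel₀ hxu]⟩
  refine ⟨y - Q y • u, W.sub_mem hyW (W.smul_mem _ hu), ?_, ?_⟩
  · rw [sub_eq_add_neg, FormsLib.quad_add, QuadraticMap.map_neg, QuadraticMap.map_smul,
      QuadraticMap.polar_neg_right, QuadraticMap.polar_smul_right, hyu, hQu]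
    simp
  · rw [QuadraticMap.polar_sub_right, QuadraticMap.polar_smul_right, FormsLib.polar_self', hQu,
      QuadraticMap.polar_comm, hyu]
    simp

omit [Fintype F] in
/-- A hyperbolic basis of a plane with a singular line. -/
theorem exists_hyp {W : Submodule F (ι → F)} (hdim : Module.finrank F W = 2)
    (hnd : Cfsg.Geo.IsNondegenerateOn (QuadraticMap.polar ⇑Q) W) (hplus : Cfsg.Geo.IsPlusTypeOn ⇑Q W) :
    ∃ φ : (Fin 1 → Fin 2 → F) ≃ₗ[F] W, ∀ y, Q (φ y : ι → F) = ∑ a, y a 0 * y a 1 := by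
  obtain ⟨U, hUW, hU, hU2⟩ := hplus
  obtain ⟨u, hu, hu0⟩ := (Submodule.ne_bot_iff U).1 fun e => by rw [e, finrank_bot] at hU2; omega
  have hQu : Q u = 0 := hU u hu
  obtain ⟨u', hu', hQu', huu'⟩ := exists_partner hnd (hUW hu) hu0 hQu
  have hli : LinearIndependent F ![(⟨u, hUW hu⟩ : W), ⟨u', hu'⟩] := by
    rw [LinearIndependent.pair_iff]
    intro a b hab
    have hab' : a • u + b • u' = 0 := congrArg Subtype.val hab
    have h1 := congrArg (fun z => QuadraticMap.polar Q z u') hab'
    have h2 := congrArg (fun z => QuadraticMap.polar Q u z) hab'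
    simp [QuadraticMap.polar_add_left, QuadraticMap.polar_smul_left, huu', FormsLib.polar_self', hQu'] at h1
    simp [QuadraticMap.polar_add_right, QuadraticMap.polar_smul_right, huu', FormsLib.polar_self', hQu] at h2
    exact ⟨h1, h2⟩
  let b := basisOfLinearIndependentOfCardEqFinrank hli (by rw [hdim]; rfl)
  let φ : (Fin 1 → Fin 2 → F) ≃ₗ[F] W :=
    (LinearEquiv.funUnique (Fin 1) F (Fin 2 → F)).trans b.equivFun.symm
  refine ⟨φ, fun y => ?_⟩
  have he : (φ y : ι → F) = y 0 0 • u + y 0 1 • u' := by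
    simp [φ, b, Module.Basis.equivFun_symm_apply, Fin.sum_univ_two]
  rw [he, FormsLib.quad_add, QuadraticMap.map_smul, QuadraticMap.map_smul, QuadraticMap.polar_smul_left,
    QuadraticMap.polar_smul_right, hQu, hQu', huu', Fin.sum_univ_one]
  simp

/-- The set of vectors rational over two elements. -/
def RatVec (c : (ι → F) ≃ₗ[F] (Fin t × Fin 1 → Fin 2 → F)) (x : ι → F) : Prop :=
  ∀ p, c x p 1 = c x p 0 ^ 2

/-- Hyperbolic planes over two or four elements. -/
theorem not_maximal_planes_two (S : QSetting Q) (h2 : (2 : F) = 0)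
    (hinv : ∀ a b : F, a * b = 1 → b = a ^ 2) (ht : 5 ≤ t)
    (hD : Cfsg.Geo.IsOrthogonalMDecomposition ⇑Q 2 D) (hplus : ∀ i, Cfsg.Geo.IsPlusTypeOn ⇑Q (D i)) :
    ∃ K : Subgroup (GL ι F), Cfsg.Geo.decompositionStabilizer D ⊓ Cfsg.Geo.omegaGL ⇑Q < K ∧
      K < Cfsg.Geo.omegaGL ⇑Q := by
  classical
  obtain ⟨φ, hφ⟩ := exists_hyp (hD.decomp.decomp.finrank_eq ⟨0, by omega⟩)
    (hD.decomp.nondegenerate ⟨0, by omega⟩) (hplus _)
  obtain ⟨c, hc, hQ⟩ := exists_coords_transport (r := 1) (d := 2) hD (fun _ y => y 0 * y 1) _ φ hφ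
  have hneg : ∀ a : F, -a = a := fun a => by linear_combination (-a) * h2
  have hpol : ∀ x y, QuadraticMap.polar Q x y = ∑ p, (c x p 0 * c y p 1 + c x p 1 * c y p 0) := by
    intro x y
    rw [QuadraticMap.polar, hQ, hQ, hQ, ← Finset.sum_sub_distrib, ← Finset.sum_sub_distrib]
    exact Finset.sum_congr rfl fun p _ => by simp [map_add]; ring
  have hadd : ∀ x y, RatVec c x → RatVec c y → RatVec c (x + y) := fun x y hx hy p => by
    simp only [map_add, Pi.add_apply, hx p, hy p]
    linear_combination (-(c x p 0 * c y p 0)) * h2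
  have hsmul : ∀ (s : F) x, s ^ 2 = s → RatVec c x → RatVec c (s • x) := fun s x hs hx p => by
    simp only [map_smul, Pi.smul_apply, smul_eq_mul, hx p]
    rw [mul_pow, hs]
  have hzero : RatVec c 0 := fun p => by simp
  have hone : ∀ g : GL ι F, g ∈ Cfsg.Geo.decompositionStabilizer D → g ∈ Cfsg.Geo.omegaGL ⇑Q →
      ∀ x, RatVec c x → RatVec c ((g : Matrix ι ι F) *ᵥ x) := by
    rintro g ⟨π, hπ⟩ hgΩ x hx
    have hgO : ∀ z, Q ((g : Matrix ι ι F) *ᵥ z) = Q z := by
      rw [omegaGL_eq S] at hgΩ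
      obtain ⟨h, hh, rfl⟩ := hgΩ
      intro z
      rw [glOf_mulVec]
      have : ⁅FormsLib.oGroup Q, FormsLib.oGroup Q⁆ ≤ FormsLib.oGroup Q :=
        Subgroup.commutator_le.2 fun a ha b hb =>
          mul_mem (mul_mem (mul_mem ha hb) (inv_mem ha)) (inv_mem hb)
      exact this hh z
    let y : Fin t × Fin 1 → ι → F := fun p => c.symm (Pi.single p (c x p))
    have hsum : x = ∑ p, y p := c.injective (by simp [y, map_sum, Finset.univ_sum_single])
    rw [hsum, Matrix.mulVec_sum]
    refine Finset.sum_induction _ (RatVec c) hadd hzero fun p _ => ?_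
    by_cases hp : c x p 0 = 0
    · have : y p = 0 := by
        have h1 : c x p 1 = 0 := by rw [hx p, hp]; ring
        have h0 : c x p = 0 := by funext l; fin_cases l <;> simp [hp, h1]
        simp [y, h0]
      rw [this, Matrix.mulVec_zero]
      exact hzero
    · have hyD : y p ∈ D p.1 := (hc _ _).2 fun q hq => by
        simp [y, Pi.single_eq_of_ne (fun e : q = p => hq (by rw [e]))]
      have hgy : (g : Matrix ι ι F) *ᵥ y p ∈ D (π p.1) := by
        rw [← hπ]; exact ⟨_, hyD, Matrix.toLin'_apply ..⟩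
      have hQy : Q (y p) = 1 := by
        rw [hQ, Finset.sum_eq_single p]
        · simp [y]
          rw [hx p]
          have := hinv (c x p 0) (c x p 0)⁻¹ (mul_inv_cancel₀ hp)
          rw [← this, mul_inv_cancel₀ hp]
        · intro q _ hq; simp [y, Pi.single_eq_of_ne hq]
        · simp
      intro q
      by_cases hq : q.1 = π p.1
      · apply hinv
        have := hgO (y p)
        rw [hQy, hQ, Finset.sum_eq_single q] at this
        · exact this
        · intro q' _ hq'
          rw [(hc _ _).1 hgy q' (fun e => hq' (Prod.ext (e.trans hq.symm) (Subsingleton.elim _ _)))]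
          simp
        · simp
      · rw [(hc _ _).1 hgy q hq]; simp
  let T : Fin 4 → Fin t × Fin 1 := fun k => (⟨k.val, by omega⟩, 0)
  have hT : ∀ k l, T k = T l ↔ k = l := fun k l =>
    ⟨fun e => Fin.ext (by simpa [T] using congrArg (fun p : Fin t × Fin 1 => (p.1 : ℕ)) e), fun e => e ▸ rfl⟩
  let w : Fin 4 → ι → F := fun k => c.symm (Pi.single (T k) (fun _ => 1))
  have hcw : ∀ k p l, c (w k) p l = if p = T k then 1 else 0 := fun k p l => by
    simp [w, Pi.single_apply]
    split_ifs <;> rfl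
  have hw : ∀ k, RatVec c (w k) := fun k p => by rw [hcw, hcw]; split_ifs <;> ring
  have hQw : ∀ k, Q (w k) = 1 := fun k => by
    rw [hQ, Finset.sum_eq_single (T k)]
    · simp [hcw]
    · intro q _ hq; simp [hcw, hq]
    · simp
  have hwB : ∀ k x, QuadraticMap.polar Q x (w k) = c x (T k) 0 + c x (T k) 1 := fun k x => by
    rw [hpol, Finset.sum_eq_single (T k)]
    · simp [hcw]
    · intro q _ hq; simp [hcw, hq]
    · simp
  have hwl : ∀ k l, k ≠ l → QuadraticMap.polar Q (w k) (w l) = 0 := fun k l h => by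
    rw [hwB, hcw, hcw, if_neg (fun e => h ((hT _ _).1 e.symm)), add_zero]
  refine ⟨FrameLib.presGroup (RatVec c) ⊓ Cfsg.Geo.omegaGL ⇑Q,
    lt_of_le_of_ne (fun g hg => ⟨fun x => propext ⟨fun hx => ?_, hone g hg.1 hg.2 x⟩, hg.2⟩) ?_,
    lt_of_le_of_ne inf_le_right ?_⟩
  · have := hone g⁻¹ (inv_mem hg.1) (inv_mem hg.2) _ hx
    rwa [Matrix.mulVec_mulVec, Units.inv_mul, Matrix.one_mulVec] at this
  · intro hK
    set v := w 0 + w 1 + w 2 with hv
    have hQv : Q v = 1 := by
      rw [hv, FormsLib.quad_add, FormsLib.quad_add, QuadraticMap.polar_add_left, hQw, hQw, hQw,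
        hwl 0 1 (by decide), hwl 0 2 (by decide), hwl 1 2 (by decide)]
      linear_combination h2
    have hv' : RatVec c v := hadd _ _ (hadd _ _ (hw 0) (hw 1)) (hw 2)
    have key : ∀ (z : ι → F), RatVec c z → (hz : Q z = 1) →
        glOf (FormsLib.refl Q z (by rw [hz]; exact one_ne_zero)) ∈ FrameLib.presGroup (RatVec c) := by
      intro z hzR hz
      have fwd : ∀ x, RatVec c x → RatVec c (FormsLib.refl Q z (by rw [hz]; exact one_ne_zero) x) := by
        intro x hx
        rw [FormsLib.refl_apply, hz, inv_one, one_mul, sub_eq_add_neg, ← neg_smul, hneg]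
        refine hadd _ _ hx (hsmul _ _ ?_ hzR)
        have hsq : ∀ s : Finset (Fin t × Fin 1), (∑ p ∈ s, (c x p 0 * c z p 1 + c x p 1 * c z p 0)) ^ 2 =
            ∑ p ∈ s, (c x p 0 * c z p 1 + c x p 1 * c z p 0) ^ 2 := by
          intro s
          induction s using Finset.induction_on with
          | empty => simp
          | insert a s ha ih =>
            rw [Finset.sum_insert ha, Finset.sum_insert ha, add_sq, ih, h2]
            ring
        rw [hpol, hsq]
        refine Finset.sum_congr rfl fun p _ => ?_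
        rw [hx p, hzR p]
        by_cases h0 : c x p 0 = 0
        · rw [h0]; ring
        by_cases h1 : c z p 0 = 0
        · rw [h1]; ring
        have e1 := hinv _ _ (mul_inv_cancel₀ h0)
        have e2 := hinv _ _ (mul_inv_cancel₀ h1)
        have c1 : c x p 0 ^ 3 = 1 := by rw [pow_succ, ← e1, inv_mul_cancel₀ h0]
        have c2 : c z p 0 ^ 3 = 1 := by rw [pow_succ, ← e2, inv_mul_cancel₀ h1]
        linear_combination (c x p 0 ^ 3 * c z p 0 ^ 3) * h2 + (c x p 0 * c z p 0 ^ 2) * c1 +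
          (c x p 0 ^ 2 * c z p 0) * c2
      intro x
      refine propext ⟨fun h => ?_, fun h => by rw [glOf_mulVec]; exact fwd x h⟩
      rw [glOf_mulVec] at h
      have := fwd _ h
      rwa [← LinearEquiv.mul_apply, FormsLib.refl_mul_self] at this
    have hg : glOf (FormsLib.refl Q v (by rw [hQv]; exact one_ne_zero) *
        FormsLib.refl Q (w 3) (by rw [hQw]; exact one_ne_zero)) ∈
        FrameLib.presGroup (RatVec c) ⊓ Cfsg.Geo.omegaGL ⇑Q := by
      refine ⟨?_, refl_pair_mem_omega S _ _ (by rw [hQw, hQv])⟩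
      rw [map_mul]
      exact mul_mem (key v hv' hQv) (key (w 3) (hw 3) (hQw 3))
    rw [← hK] at hg
    obtain ⟨π, hπ⟩ := hg.1
    set x := c.symm (Pi.single (T 0) (Pi.single 0 1))
    have hxD : x ∈ D (T 0).1 := (hc _ _).2 fun q hq => by
      simp [x, Pi.single_eq_of_ne (fun e : q = T 0 => hq (by rw [e]))]
    have hmem : (glOf (FormsLib.refl Q v (by rw [hQv]; exact one_ne_zero) *
        FormsLib.refl Q (w 3) (by rw [hQw]; exact one_ne_zero)) : Matrix ι ι F) *ᵥ x ∈ D (π (T 0).1) := by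
      rw [← hπ]; exact ⟨_, hxD, Matrix.toLin'_apply ..⟩
    rw [glOf_mulVec, LinearEquiv.mul_apply] at hmem
    have hB3 : QuadraticMap.polar Q x (w 3) = 0 := by
      rw [hwB]; simp [x, Pi.single_eq_of_ne (fun e : T 3 = T 0 => absurd ((hT _ _).1 e) (by decide))]
    have hBv : QuadraticMap.polar Q x v = 1 := by
      rw [hv, QuadraticMap.polar_add_right, QuadraticMap.polar_add_right, hwB, hwB, hwB]
      simp [x, Pi.single_eq_of_ne (fun e : T 1 = T 0 => absurd ((hT _ _).1 e) (by decide)),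
        Pi.single_eq_of_ne (fun e : T 2 = T 0 => absurd ((hT _ _).1 e) (by decide))]
    rw [FormsLib.refl_apply Q _ x, hB3, mul_zero, zero_smul, sub_zero, FormsLib.refl_apply, hQv, hBv,
      inv_one, one_mul, one_smul] at hmem
    have e1 : (T 1).1 = π (T 0).1 := by
      by_contra hne
      have := congrFun ((hc _ _).1 hmem (T 1) hne) 0
      simp [x, hv, map_add, map_sub, hcw, hT] at this
    have e2 : (T 2).1 = π (T 0).1 := by
      by_contra hne
      have := congrFun ((hc _ _).1 hmem (T 2) hne) 0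
      simp [x, hv, map_add, map_sub, hcw, hT] at this
    exact absurd ((hT 1 2).1 (Prod.ext (e1.trans e2.symm) rfl)) (by decide)
  · intro hK
    set z := c.symm (Pi.single (T 0) (Pi.single 0 1)) + w 1 with hz
    have hcz : ∀ p l, c z p l = (if p = T 0 then (Pi.single 0 1 : Fin 2 → F) l else 0) + if p = T 1 then 1 else 0 := by
      intro p l
      rw [hz, map_add, Pi.add_apply, Pi.add_apply, hcw, LinearEquiv.apply_symm_apply, Pi.single_apply]
      split_ifs <;> rfl
    have hQz : Q z = 1 := by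
      rw [hQ, Finset.sum_eq_single (T 1)]
      · simp [hcz, hT]
      · intro q _ hq
        simp [hcz, hq]
      · simp
    have hg := refl_pair_mem_omega S (p := w 3) (p' := z) (by rw [hQw]; exact one_ne_zero)
      (by rw [hQz]; exact one_ne_zero) (by rw [hQw, hQz])
    rw [← hK] at hg
    have h1 : RatVec c _ := cast (hg.1 (w 0)).symm (hw 0)
    rw [glOf_mulVec, LinearEquiv.mul_apply, FormsLib.refl_apply Q _ (w 0), hwl 0 3 (by decide), mul_zero,
      zero_smul, sub_zero, FormsLib.refl_apply, hQz, inv_one, one_mul] at h1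
    have hB : QuadraticMap.polar Q (w 0) z = 1 := by
      rw [QuadraticMap.polar_comm, hwB]; simp [hcz, hT]
    have h3 := h1 (T 0)
    rw [hB, one_smul] at h3
    simp [map_sub, hcw, hcz, hT] at h3

omit [Fintype F] in
/-- Four vectors spanning two anisotropic planes. -/
theorem exists_two_planes (h2 : (2 : F) = 0) {W : Submodule F (ι → F)} (hdim : Module.finrank F W = 4)
    (hnd : Cfsg.Geo.IsNondegenerateOn (QuadraticMap.polar ⇑Q) W) (hplus : Cfsg.Geo.IsPlusTypeOn ⇑Q W) :
    ∃ φ : (Fin 2 → Fin 2 → F) ≃ₗ[F] W,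
      ∀ y, Q (φ y : ι → F) = ∑ a, (y a 0 ^ 2 + y a 0 * y a 1 + y a 1 ^ 2) := by
  obtain ⟨U, hUW, hU, hU2⟩ := hplus
  have hU2' : Module.finrank F U = 2 := by omega
  obtain ⟨u₁, hu₁, hu₁0⟩ := (Submodule.ne_bot_iff U).1 fun e => by rw [e, finrank_bot] at hU2'; omega
  obtain ⟨v₁, hv₁, hQv₁, h11⟩ := exists_partner hnd (hUW hu₁) hu₁0 (hU u₁ hu₁)
  obtain ⟨u, hu, hun⟩ := SetLike.not_le_iff_exists.1 (show ¬ U ≤ Submodule.span F {u₁} from fun h => by
    have := Submodule.finrank_mono h
    rw [finrank_span_singleton hu₁0, hU2'] at this; omega)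
  have hiso : ∀ x ∈ U, ∀ y ∈ U, QuadraticMap.polar Q x y = 0 := fun x hx y hy => by
    rw [QuadraticMap.polar, hU _ (U.add_mem hx hy), hU _ hx, hU _ hy]; simp
  obtain ⟨u₂, hu₂, hu₂0, h21⟩ : ∃ u₂ ∈ U, u₂ ≠ 0 ∧ QuadraticMap.polar Q u₂ v₁ = 0 :=
    ⟨u - QuadraticMap.polar Q u v₁ • u₁, U.sub_mem hu (U.smul_mem _ hu₁), fun e => hun (by
      rw [sub_eq_zero.1 e]; exact Submodule.smul_mem _ _ (Submodule.mem_span_singleton_self _)), by
      rw [QuadraticMap.polar_sub_left, QuadraticMap.polar_smul_left, h11, smul_eq_mul, mul_one, sub_self]⟩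
  obtain ⟨x, hx, hxu⟩ := (hnd u₂ (hUW hu₂) hu₂0).1
  obtain ⟨z, hz, hzu, hz1, hz1'⟩ : ∃ z ∈ W, QuadraticMap.polar Q u₂ z = 1 ∧
      QuadraticMap.polar Q u₁ z = 0 ∧ QuadraticMap.polar Q v₁ z = 0 := by
    set x' := x - QuadraticMap.polar Q x v₁ • u₁ - QuadraticMap.polar Q x u₁ • v₁
    refine ⟨(QuadraticMap.polar Q x u₂)⁻¹ • x', W.smul_mem _
      (W.sub_mem (W.sub_mem hx (W.smul_mem _ (hUW hu₁))) (W.smul_mem _ hv₁)), ?_, ?_, ?_⟩
    · rw [QuadraticMap.polar_smul_right, QuadraticMap.polar_sub_right, QuadraticMap.polar_sub_right,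
        QuadraticMap.polar_smul_right, QuadraticMap.polar_smul_right, hiso _ hu₂ _ hu₁, h21,
        QuadraticMap.polar_comm _ u₂ x]
      simp [inv_mul_cancel₀ hxu]
    · rw [QuadraticMap.polar_smul_right, QuadraticMap.polar_sub_right, QuadraticMap.polar_sub_right,
        QuadraticMap.polar_smul_right, QuadraticMap.polar_smul_right, hiso _ hu₁ _ hu₁, h11,
        QuadraticMap.polar_comm _ u₁ x]
      simp
    · rw [QuadraticMap.polar_smul_right, QuadraticMap.polar_sub_right, QuadraticMap.polar_sub_right,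
        QuadraticMap.polar_smul_right, QuadraticMap.polar_smul_right, FormsLib.polar_self' Q v₁, hQv₁,
        QuadraticMap.polar_comm _ v₁ u₁, h11, QuadraticMap.polar_comm _ v₁ x]
      simp
  obtain ⟨v₂, hv₂, hQv₂, h22, h12, h12'⟩ : ∃ v₂ ∈ W, Q v₂ = 0 ∧ QuadraticMap.polar Q u₂ v₂ = 1 ∧
      QuadraticMap.polar Q u₁ v₂ = 0 ∧ QuadraticMap.polar Q v₁ v₂ = 0 := by
    refine ⟨z - Q z • u₂, W.sub_mem hz (W.smul_mem _ (hUW hu₂)), ?_, ?_, ?_, ?_⟩
    · rw [sub_eq_add_neg, FormsLib.quad_add, QuadraticMap.map_neg, QuadraticMap.map_smul,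
        QuadraticMap.polar_neg_right, QuadraticMap.polar_smul_right, QuadraticMap.polar_comm, hzu,
        hU _ hu₂]
      simp
    · rw [QuadraticMap.polar_sub_right, QuadraticMap.polar_smul_right, hzu, hiso _ hu₂ _ hu₂]; simp
    · rw [QuadraticMap.polar_sub_right, QuadraticMap.polar_smul_right, hz1, hiso _ hu₁ _ hu₂]; simp
    · rw [QuadraticMap.polar_sub_right, QuadraticMap.polar_smul_right, hz1',
        QuadraticMap.polar_comm _ v₁ u₂, h21]; simp
  let f : Fin 2 → Fin 2 → ι → F := ![![u₁ + v₁, u₁ + u₂ + v₂], ![u₂ + v₂, u₂ + u₁ + v₁]]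
  have hfW : ∀ a l, f a l ∈ W := by
    intro a l
    fin_cases a <;> fin_cases l <;> simp [f] <;>
      first
        | exact W.add_mem (hUW hu₁) hv₁
        | exact W.add_mem (hUW hu₂) hv₂
        | exact W.add_mem (W.add_mem (hUW hu₁) (hUW hu₂)) hv₂
        | exact W.add_mem (W.add_mem (hUW hu₂) (hUW hu₁)) hv₁
  let Φ : (Fin 2 → Fin 2 → F) →ₗ[F] W :=
    { toFun := fun y => ∑ a, ∑ l, y a l • (⟨f a l, hfW a l⟩ : W)
      map_add' := fun y z => by simp [add_smul, Fin.sum_univ_two]; abel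
      map_smul' := fun r y => by simp [Finset.smul_sum, smul_smul, Fin.sum_univ_two] }
  have he : ∀ y, (Φ y : ι → F) = y 0 0 • (u₁ + v₁) + y 0 1 • (u₁ + u₂ + v₂) +
      (y 1 0 • (u₂ + v₂) + y 1 1 • (u₂ + u₁ + v₁)) := fun y => by
    simp [Φ, f, Fin.sum_univ_two]
  have h1' : QuadraticMap.polar Q v₁ u₁ = 1 := by rw [QuadraticMap.polar_comm, h11]
  have h2' : QuadraticMap.polar Q v₂ u₂ = 1 := by rw [QuadraticMap.polar_comm, h22]
  have h21' : QuadraticMap.polar Q v₁ u₂ = 0 := by rw [QuadraticMap.polar_comm, h21]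
  have hv21 : QuadraticMap.polar Q v₂ u₁ = 0 := by rw [QuadraticMap.polar_comm, h12]
  have hv21' : QuadraticMap.polar Q v₂ v₁ = 0 := by rw [QuadraticMap.polar_comm, h12']
  have hQΦ : ∀ y, Q (Φ y : ι → F) = ∑ a, (y a 0 ^ 2 + y a 0 * y a 1 + y a 1 ^ 2) := by
    intro y
    rw [he, Fin.sum_univ_two]
    simp only [FormsLib.quad_add, QuadraticMap.map_smul, QuadraticMap.polar_add_left,
      QuadraticMap.polar_add_right, QuadraticMap.polar_smul_left, QuadraticMap.polar_smul_right,
      hU _ hu₁, hU _ hu₂, hQv₁, hQv₂, h11, h21, h22, h12, h12', h1', h2', h21', hv21, hv21',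
      hiso _ hu₁ _ hu₂, hiso _ hu₂ _ hu₁, hiso _ hu₁ _ hu₁, hiso _ hu₂ _ hu₂,
      FormsLib.polar_self' Q v₁, FormsLib.polar_self' Q v₂, smul_eq_mul]
    linear_combination (y 0 0 * y 1 1 + y 0 1 * y 1 0 + y 0 1 * y 1 1) * h2
  have hinj : Function.Injective Φ := by
    rw [← LinearMap.ker_eq_bot, LinearMap.ker_eq_bot']
    intro y hy
    have h0 : (Φ y : ι → F) = 0 := by rw [hy]; rfl
    rw [he] at h0
    have e1 := congrArg (fun z => QuadraticMap.polar Q z u₁) h0
    have e2 := congrArg (fun z => QuadraticMap.polar Q z v₁) h0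
    have e3 := congrArg (fun z => QuadraticMap.polar Q z u₂) h0
    have e4 := congrArg (fun z => QuadraticMap.polar Q z v₂) h0
    have hz : ∀ z, QuadraticMap.polar Q (0 : ι → F) z = 0 := fun z => by
      rw [← QuadraticMap.polarBilin_apply_apply]; simp
    simp only [QuadraticMap.polar_add_left, QuadraticMap.polar_smul_left,
      h11, h21, h22, h12, h12', h1', h2', h21', hv21, hv21',
      hiso _ hu₁ _ hu₂, hiso _ hu₂ _ hu₁, hiso _ hu₁ _ hu₁, hiso _ hu₂ _ hu₂,
      FormsLib.polar_self' Q v₁, FormsLib.polar_self' Q v₂, hQv₁, hQv₂, smul_eq_mul, hz] at e1 e2 e3 e4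
    funext a l
    fin_cases a <;> fin_cases l <;> simp
    · linear_combination e1 - e4 + e3
    · linear_combination e2 - e1
    · linear_combination e3 - e2 + e1
    · linear_combination e4 - e3
  have hfin : Module.finrank F (Fin 2 → Fin 2 → F) = Module.finrank F W := by
    rw [hdim]; simp [Module.finrank_pi_fintype]
  exact ⟨LinearEquiv.ofBijective Φ ⟨hinj,
    (LinearMap.injective_iff_surjective_of_finrank_eq_finrank hfin).1 hinj⟩, hQΦ⟩

/-- Members of dimension four over two elements. -/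
theorem not_maximal_quads_two (S : QSetting Q) (hq : Fintype.card F = 2) (ht : 4 ≤ t)
    (hD : Cfsg.Geo.IsOrthogonalMDecomposition ⇑Q 4 D) (hplus : ∀ i, Cfsg.Geo.IsPlusTypeOn ⇑Q (D i)) :
    ∃ K : Subgroup (GL ι F), Cfsg.Geo.decompositionStabilizer D ⊓ Cfsg.Geo.omegaGL ⇑Q < K ∧
      K < Cfsg.Geo.omegaGL ⇑Q := by
  classical
  have h2 : (2 : F) = 0 := by
    have := FiniteField.cast_card_eq_zero F
    rw [hq] at this
    exact_mod_cast this
  have h01 : ∀ u : F, u = 0 ∨ u = 1 := fun u => by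
    by_cases hu : u = 0
    · exact Or.inl hu
    · right
      have := FiniteField.pow_card_sub_one_eq_one u hu
      rwa [hq, pow_one] at this
  obtain ⟨φ, hφ⟩ := exists_two_planes h2 (hD.decomp.decomp.finrank_eq ⟨0, by omega⟩)
    (hD.decomp.nondegenerate ⟨0, by omega⟩) (hplus _)
  let qa : Fin 2 → (Fin 2 → F) → F := fun _ y => y 0 ^ 2 + y 0 * y 1 + y 1 ^ 2
  obtain ⟨c, hc, hQ⟩ := exists_coords_transport (r := 2) (d := 2) hD qa _ φ hφ
  have hqa : ∀ (a : Fin 2) (y : Fin 2 → F), qa a y = if y = 0 then 0 else 1 := fun a y => by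
    split_ifs with h
    · simp [qa, h]
    · show y 0 ^ 2 + y 0 * y 1 + y 1 ^ 2 = 1
      rcases h01 (y 0) with e0 | e0 <;> rcases h01 (y 1) with e1 | e1 <;> rw [e0, e1]
      · exact absurd (funext fun i => by fin_cases i <;> assumption) h
      · ring
      · ring
      · linear_combination h2
  refine not_maximal S ht le_rfl (by norm_num) c qa (fun a => by rw [hqa a, if_pos rfl]) hc hQ (fun s => s = 1)
    (fun i x hx => ?_) 3 le_rfl (by norm_num) (by omega) 1 0 (Pi.single 0 1) (Pi.single 1 1) ?_ ?_ ?_ ?_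
  · have hsum : Q x = ∑ a, qa a (c x (i, a)) := by
      rw [hQ, Fintype.sum_prod_type, Finset.sum_eq_single i]
      · intro j _ hj
        exact Finset.sum_eq_zero fun a _ => by rw [(hc i x).1 hx (j, a) hj, hqa a, if_pos rfl]
      · simp
    rw [hsum, Fin.sum_univ_two, hqa 0, hqa 1]
    have hout : ∀ p : Fin t × Fin 2, c x p ≠ 0 → p.1 = i := fun p hp => by
      by_contra hne; exact hp ((hc i x).1 hx p hne)
    constructor
    · rintro ⟨⟨j, a⟩, hp, hp'⟩
      obtain rfl : j = i := hout _ hp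
      rcases (show ∀ a : Fin 2, a = 0 ∨ a = 1 by decide) a with rfl | rfl
      · rw [if_neg hp, if_pos (hp' (j, 1) (by simp)), add_zero]
      · rw [if_neg hp, if_pos (hp' (j, 0) (by simp)), zero_add]
    · intro h
      by_cases e0 : c x (i, 0) = 0 <;> by_cases e1 : c x (i, 1) = 0 <;> simp [e0, e1] at h
      · refine ⟨(i, 1), e1, fun p hp => ?_⟩
        by_contra hne
        obtain ⟨j, a⟩ := p
        obtain rfl : j = i := hout _ hne
        rcases (show ∀ a : Fin 2, a = 0 ∨ a = 1 by decide) a with rfl | rfl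
        · exact hne e0
        · exact hp rfl
      · refine ⟨(i, 0), e0, fun p hp => ?_⟩
        by_contra hne
        obtain ⟨j, a⟩ := p
        obtain rfl : j = i := hout _ hne
        rcases (show ∀ a : Fin 2, a = 0 ∨ a = 1 by decide) a with rfl | rfl
        · exact hp rfl
        · exact hne e1
  · simp
  · simp [qa]
    intro e
    exact one_ne_zero (α := F) (by linear_combination e - h2)
  · simp [qa]
    linear_combination (-1 : F) * h2
  · simp [qa]

/-- Hyperbolic planes over five elements. -/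
theorem not_maximal_planes_five (S : QSetting Q) (hq : Fintype.card F = 5) (ht : 5 ≤ t)
    (hD : Cfsg.Geo.IsOrthogonalMDecomposition ⇑Q 2 D) (hplus : ∀ i, Cfsg.Geo.IsPlusTypeOn ⇑Q (D i)) :
    ∃ K : Subgroup (GL ι F), Cfsg.Geo.decompositionStabilizer D ⊓ Cfsg.Geo.omegaGL ⇑Q < K ∧
      K < Cfsg.Geo.omegaGL ⇑Q := by
  classical
  have h5 : (5 : F) = 0 := by
    have := FiniteField.cast_card_eq_zero F
    rw [hq] at this
    exact_mod_cast this
  have h2 : (2 : F) ≠ 0 := fun h => one_ne_zero (α := F) (by linear_combination h5 - 2 * h)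
  have hall : ∀ u : F, u ^ 2 = 0 ∨ u ^ 2 = 1 ∨ u ^ 2 = -1 := fun u => by
    by_cases hu : u = 0
    · exact Or.inl (by rw [hu]; ring)
    · right
      have h := FiniteField.pow_card_sub_one_eq_one u hu
      rw [hq] at h
      exact mul_self_eq_one_iff.1 (by linear_combination h)
  obtain ⟨φ, hφ⟩ := exists_hyp (hD.decomp.decomp.finrank_eq ⟨0, by omega⟩)
    (hD.decomp.nondegenerate ⟨0, by omega⟩) (hplus _)
  set u : Fin 2 → D ⟨0, by omega⟩ := ![φ fun _ => ![1, 1], φ fun _ => ![1, -1]]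
  have hli : LinearIndependent F u := by
    rw [LinearIndependent.pair_iff]
    intro a b hab
    rw [← map_smul, ← map_smul, ← map_add, ← map_zero φ] at hab
    have h := congrFun (φ.injective hab) 0
    have h0 := congrFun h 0
    have h1 := congrFun h 1
    simp at h0 h1
    exact ⟨mul_left_cancel₀ h2 (by linear_combination h0 + h1),
      mul_left_cancel₀ h2 (by linear_combination h0 - h1)⟩
  let b := basisOfLinearIndependentOfCardEqFinrank hli (by rw [hD.decomp.decomp.finrank_eq]; rfl)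
  have hb : IsFrame Q (D ⟨0, by omega⟩) b ![1, -1] := by
    refine ⟨fun a => ?_, fun a a' haa => ?_⟩
    · rw [coe_basisOfLinearIndependentOfCardEqFinrank]
      fin_cases a <;> simp [u, hφ]
    · rw [coe_basisOfLinearIndependentOfCardEqFinrank]
      have key : ∀ y z, QuadraticMap.polar Q (φ y : ι → F) (φ z : ι → F) =
          y 0 0 * z 0 1 + y 0 1 * z 0 0 := by
        intro y z
        rw [QuadraticMap.polar, ← Submodule.coe_add, ← map_add, hφ, hφ, hφ, Fin.sum_univ_one,
          Fin.sum_univ_one, Fin.sum_univ_one]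
        simp
        ring
      fin_cases a <;> fin_cases a' <;> first | exact absurd rfl haa | simp [u, key]
  refine not_maximal_frame S ht le_rfl h2 hD hb (fun a => by fin_cases a <;> simp)
    (fun s => s = 1 ∨ s = -1) fun y => ?_
  rw [Fin.exists_fin_two, Fin.sum_univ_two, Fin.forall_fin_two, Fin.forall_fin_two]
  have hne : ∀ v : F, v ^ 2 = 0 ↔ v = 0 := fun v => pow_eq_zero_iff (by norm_num)
  have e0 := hne (y 0)
  have e1 := hne (y 1)
  rcases hall (y 0) with a | a | a <;> rcases hall (y 1) with c | c | c <;>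
    simp [a, c] at e0 e1 <;> simp [a, c, e0, e1] <;>
    intro hh <;> first
      | exact one_ne_zero (α := F) (by linear_combination h5 - 2 * hh)
      | exact one_ne_zero (α := F) (by linear_combination h5 + 2 * hh)
      | exact one_ne_zero (α := F) (by linear_combination hh)
      | exact h2 (by linear_combination hh)
      | exact h2 (by linear_combination -hh)
      | exact one_ne_zero (α := F) (by linear_combination 2 * h5 - 3 * hh)
      | exact one_ne_zero (α := F) (by linear_combination 2 * h5 + 3 * hh)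

end Cfsg.Agent.QMax.Refine
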