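import Cfsg.Agent.Lib.Elusive.Linear
import Cfsg.Agent.Lib.Elusive.Arith
import Cfsg.Agent.Lib.LinearGroups.Basic
import Cfsg.Prelude.Def_GeometricClasses

/-!
Elements of prime order of `SL n q` and similitude groups: eigenbases, conjugation, and diagonal witnesses.
-/

set_option autoImplicit false
set_option linter.unusedSectionVars false

namespace Cfsg.Agent.SimEl

open Module
open scoped Matrix MatrixGroups

variable {F : Type*} [Field F] [Fintype F] {n : ℕ}

/-- Some matrix commuting with `x` has any given determinant. -/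
def Adj (x : GL (Fin n) F) : Prop :=
  ∀ t : F, t ≠ 0 → ∃ M : Matrix (Fin n) (Fin n) F, M * (x : Matrix (Fin n) (Fin n) F) = x * M ∧ M.det = t

/-- Conjugation by a linear map, up to a determinant-one matrix. -/
theorem exists_conj {x : GL (Fin n) F} (hx : Adj x) (φ : (Fin n → F) ≃ₗ[F] (Fin n → F)) :
    ∃ g ∈ Cfsg.Geo.specialLinear (Fin n) F, ∀ v, ((g⁻¹ * x * g : GL (Fin n) F) : Matrix (Fin n) (Fin n) F) *ᵥ φ v =
      φ ((x : Matrix (Fin n) (Fin n) F) *ᵥ v) := by
  set P := LinearMap.toMatrix' φ.toLinearMap with hPdef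
  have hP : P.det ≠ 0 := by
    rw [hPdef, LinearMap.det_toMatrix']
    exact φ.isUnit_det'.ne_zero
  obtain ⟨M, hM, hMd⟩ := hx P.det⁻¹ (inv_ne_zero hP)
  have hPM : (P * M).det = 1 := by rw [Matrix.det_mul, hMd, mul_inv_cancel₀ hP]
  let N : GL (Fin n) F := Matrix.GeneralLinearGroup.mkOfDetNeZero (P * M) (by rw [hPM]; exact one_ne_zero)
  have hN : (N : Matrix (Fin n) (Fin n) F) = P * M := rfl
  refine ⟨N⁻¹, Subgroup.inv_mem _ ?_, fun v => ?_⟩
  · refine Units.ext ?_
    show Matrix.det (N : Matrix (Fin n) (Fin n) F) = 1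
    rw [hN, hPM]
  · have hPv : ∀ w, φ w = P *ᵥ w := fun w => (LinearMap.toMatrix'_mulVec φ.toLinearMap w).symm
    rw [inv_inv, hPv, hPv, Matrix.mulVec_mulVec, Matrix.mulVec_mulVec]
    congr 1
    have hu : IsUnit M.det := by rw [hMd]; exact (inv_ne_zero hP).isUnit
    refine ((Matrix.isUnit_iff_isUnit_det M).2 hu).mul_left_inj.1 ?_
    rw [mul_assoc _ P M, ← hN, ← Units.val_mul, inv_mul_cancel_right, Units.val_mul, hN, mul_assoc, hM,
      ← mul_assoc]

/-- A matrix with an eigenbasis commutes with matrices of any determinant. -/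
theorem adj_of_eigen {x : GL (Fin n) F} (hn : 0 < n) (b : Basis (Fin n) F (Fin n → F)) (w : Fin n → F)
    (h : ∀ i, (x : Matrix (Fin n) (Fin n) F) *ᵥ b i = w i • b i) : Adj x := by
  intro t _
  let s : Fin n → F := fun i => if i = ⟨0, hn⟩ then t else 1
  let D : Module.End F (Fin n → F) := b.constr F fun i => s i • b i
  have hD : ∀ i, D (b i) = s i • b ((1 : Equiv.Perm (Fin n)) i) := fun i => b.constr_basis F _ i
  refine ⟨LinearMap.toMatrix' D, ?_, ?_⟩
  · refine Matrix.toLin'.injective (b.ext fun i => ?_)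
    simp only [Matrix.toLin'_mul, LinearMap.comp_apply, Matrix.toLin'_toMatrix', Matrix.toLin'_apply, h, hD,
      map_smul, Matrix.mulVec_smul, Equiv.Perm.one_apply]
    rw [smul_comm]
  · rw [LinearMap.det_toMatrix', Elusive.det_monomial b D 1 s hD]
    simp [s]

/-- A linear map of finite order over a field with enough roots of unity has an eigenbasis. -/
theorem exists_eigenbasis {r : ℕ} (A : Module.End F (Fin n → F)) (hA : A ^ r = 1) {ω : F} (hω : IsPrimitiveRoot ω r)
    (hr : (r : F) ≠ 0) : ∃ (b : Basis (Fin n) F (Fin n → F)) (a : Fin n → ℕ), ∀ i, A (b i) = ω ^ a i • b i := by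
  classical
  have hr0 : 0 < r := Nat.pos_of_ne_zero fun h => hr (by rw [h, Nat.cast_zero])
  let S : Set (Fin n → F) := {v | ∃ j : ℕ, A v = ω ^ j • v}
  have hS : Submodule.span F S = ⊤ := by
    rw [eq_top_iff]
    intro v _
    let u : ℕ → F := fun j => (ω ^ j)⁻¹
    let P : ℕ → (Fin n → F) := fun j => ∑ k ∈ Finset.range r, u j ^ k • (A ^ k) v
    have hωr : ω ^ r = 1 := hω.pow_eq_one
    have hω0 : ω ≠ 0 := hω.ne_zero hr0.ne'
    have hur : ∀ j, u j ^ r = 1 := fun j => by
      simp only [u, inv_pow]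
      rw [← pow_mul, mul_comm, pow_mul, hωr, one_pow, inv_one]
    have hPj : ∀ j, A (P j) = ω ^ j • P j := by
      intro j
      have h1 : ∑ k ∈ Finset.range r, u j ^ (k + 1) • (A ^ (k + 1)) v = P j := by
        have h2 := Finset.sum_range_succ' (fun k => u j ^ k • (A ^ k) v) r
        rw [Finset.sum_range_succ, hur, hA] at h2
        simp only [pow_zero] at h2
        exact add_right_cancel h2.symm
      conv_rhs => rw [← h1]
      simp only [P, map_sum, map_smul, Finset.smul_sum, smul_smul]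
      refine Finset.sum_congr rfl fun k _ => ?_
      rw [pow_succ' A, Module.End.mul_apply, pow_succ' (u j), ← mul_assoc,
        show ω ^ j * u j = 1 from mul_inv_cancel₀ (pow_ne_zero _ hω0), one_mul]
    have hsum : ∑ j ∈ Finset.range r, P j = (r : F) • v := by
      simp only [P]
      rw [Finset.sum_comm, Finset.sum_eq_single 0]
      · simp [Nat.cast_smul_eq_nsmul F]
      · intro k hk hk0
        rw [← Finset.sum_smul]
        have hz : ∀ j, u j ^ k = ((ω ^ k)⁻¹) ^ j := fun j => by
          simp only [u, inv_pow, ← pow_mul, mul_comm]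
        rw [Finset.sum_congr rfl fun j _ => hz j]
        have hne : (ω ^ k)⁻¹ - 1 ≠ 0 := sub_ne_zero.2 fun h =>
          hk0 (Nat.eq_zero_of_dvd_of_lt ((hω.pow_eq_one_iff_dvd k).1 (inv_eq_one.1 h)) (Finset.mem_range.1 hk))
        have h2 := geom_sum_mul ((ω ^ k)⁻¹) r
        rw [inv_pow, ← pow_mul, mul_comm k r, pow_mul, hωr, one_pow, inv_one, sub_self] at h2
        rw [(mul_eq_zero.1 h2).resolve_right hne, zero_smul]
      · intro h0
        exact absurd (Finset.mem_range.2 hr0) h0
    have hv : v = (r : F)⁻¹ • ∑ j ∈ Finset.range r, P j := by rw [hsum, inv_smul_smul₀ hr]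
    rw [hv]
    exact Submodule.smul_mem _ _ (Submodule.sum_mem _ fun j _ => Submodule.subset_span ⟨j, hPj j⟩)
  obtain ⟨t, htS, hspan, hli⟩ := exists_linearIndependent F S
  rw [hS] at hspan
  haveI : Fintype t := Fintype.ofFinite t
  let b₀ : Basis t F (Fin n → F) := Basis.mk hli (by rw [Subtype.range_coe_subtype, Set.setOf_mem_eq, hspan])
  have hcard : Fintype.card t = n := by rw [← finrank_eq_card_basis b₀, finrank_fin_fun]
  let b := b₀.reindex (Fintype.equivFinOfCardEq hcard)
  have hb : ∀ i, ∃ j : ℕ, A (b i) = ω ^ j • b i := fun i => htS (by simp [b, b₀])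
  choose a ha using hb
  exact ⟨b, a, ha⟩

/-- Rows supported in a set of columns. -/
theorem card_le_of_support {ι : Type*} [Fintype ι] {M : ι → ι → F}
    (hM : ∀ a : ι → F, (∀ j, ∑ i, a i * M i j = 0) → a = 0) (S T : Finset ι)
    (hS : ∀ i ∈ S, ∀ j, M i j ≠ 0 → j ∈ T) : S.card ≤ T.card := by
  classical
  let L : (S → F) →ₗ[F] (T → F) := LinearMap.pi fun j => ∑ i : S, M (i : ι) (j : ι) • LinearMap.proj i
  have hL : Function.Injective L := by
    rw [injective_iff_map_eq_zero]
    intro a ha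
    let e : ι → F := fun i => if hi : i ∈ S then a ⟨i, hi⟩ else 0
    have he : e = 0 := hM e fun j => by
      rw [← Finset.sum_subset (Finset.subset_univ S) fun i _ hi => by simp [e, hi], ← Finset.sum_coe_sort]
      by_cases hj : j ∈ T
      · have h := congrFun ha ⟨j, hj⟩
        simpa [L, e, mul_comm] using h
      · exact Finset.sum_eq_zero fun i _ => by
          by_cases hz : M (i : ι) j = 0
          · rw [hz, mul_zero]
          · exact absurd (hS _ i.2 j hz) hj
    funext i
    simpa [e] using congrFun he i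
  have := LinearMap.finrank_le_finrank_of_injective hL
  simpa [Module.finrank_pi, Fintype.card_coe] using this

/-- A diagonal element of `SL` whose eigenvalues admit no pairing with constant product. -/
theorem exists_bad_diag {r : ℕ} [Fact r.Prime] (hr2 : r ≠ 2) (hn : 3 ≤ n) (hgap : ¬ (n = 6 ∧ r = 3))
    (hrq : r ∣ Fintype.card F - 1)
    (hnot : ¬ ((r = 3 ∨ r = 5) ∧ n = r ∧ padicValNat r (Fintype.card F - 1) = 1)) :
    ∃ (x : GL (Fin n) F) (w : Fin n → F), x ∈ Cfsg.Geo.specialLinear (Fin n) F ∧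
      (x : Matrix (Fin n) (Fin n) F) = Matrix.diagonal w ∧
      (∃ z : F, ((x ^ r : GL (Fin n) F) : Matrix (Fin n) (Fin n) F) = z • 1) ∧
      (∀ z : F, (x : Matrix (Fin n) (Fin n) F) ≠ z • 1) ∧ (∀ i, w i ^ (r * r) = 1) ∧
      ∀ c : F, ∃ a : F, ∀ T : Finset (Fin n), (∀ j ∈ T, a * w j = c) →
        ∃ S : Finset (Fin n), T.card < S.card ∧ ∀ i ∈ S, w i = a := by
  classical
  have hrpr := (Fact.out : r.Prime)
  have hr3 : 3 ≤ r := by have := hrpr.two_le; omega
  suffices h : ∃ w : Fin n → F, (∏ i, w i) = 1 ∧ (∃ z, ∀ i, w i ^ r = z) ∧ (∃ i j, w i ≠ w j) ∧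
      (∀ i, w i ^ (r * r) = 1) ∧
      ∀ c : F, ¬ ∀ a, (Finset.univ.filter fun i => w i = a).card ≤
        (Finset.univ.filter fun i => a * w i = c).card by
    obtain ⟨w, hdet, ⟨z, hz⟩, ⟨i₁, i₂, hne⟩, hw, hc⟩ := h
    have hd : (Matrix.diagonal w).det = 1 := by rw [Matrix.det_diagonal, hdet]
    refine ⟨Matrix.GeneralLinearGroup.mkOfDetNeZero (Matrix.diagonal w) (by rw [hd]; exact one_ne_zero), w,
      Units.ext hd, rfl, ⟨z, ?_⟩, fun t ht => ?_, hw, fun c => ?_⟩
    · rw [Units.val_pow_eq_pow_val]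
      show Matrix.diagonal w ^ r = _
      rw [Matrix.diagonal_pow, Matrix.smul_one_eq_diagonal]
      exact congrArg _ (funext hz)
    · have h1 : Matrix.diagonal w = Matrix.diagonal fun _ => t := ht.trans (Matrix.smul_one_eq_diagonal t)
      rw [Matrix.diagonal_eq_diagonal_iff] at h1
      exact hne ((h1 i₁).trans (h1 i₂).symm)
    · obtain ⟨a, ha⟩ := not_forall.1 (hc c)
      refine ⟨a, fun T hT => ⟨_, lt_of_le_of_lt (Finset.card_le_card fun j hj => ?_) (not_le.1 ha),
        fun i hi => (Finset.mem_filter.1 hi).2⟩⟩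
      exact Finset.mem_filter.2 ⟨Finset.mem_univ _, hT j hj⟩
  -- a bound coming from one index
  have hpair : ∀ {w : Fin n → F} {c : F}, (∀ a, (Finset.univ.filter fun i => w i = a).card ≤
      (Finset.univ.filter fun i => a * w i = c).card) → ∀ i, ∃ j, w i * w j = c := by
    intro w c h i
    have hpos : 0 < (Finset.univ.filter fun j => w i * w j = c).card :=
      lt_of_lt_of_le (Finset.card_pos.2 ⟨i, by simp⟩) (h (w i))
    obtain ⟨j, hj⟩ := Finset.card_pos.1 hpos
    exact ⟨j, (Finset.mem_filter.1 hj).2⟩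
  have hN : 0 < Fintype.card F - 1 := Nat.sub_pos_of_lt Fintype.one_lt_card
  haveI : Fact r.Prime := ⟨hrpr⟩
  by_cases hη : n = r ∧ r * r ∣ Fintype.card F - 1
  · obtain ⟨hnr, hdvd⟩ := hη
    subst hnr
    obtain ⟨u, hu⟩ := IsCyclic.exists_ofOrder_eq_natCard (α := Fˣ)
    rw [Nat.card_units, Nat.card_eq_fintype_card] at hu
    obtain ⟨k, hk⟩ := hdvd
    have hord : orderOf (((u ^ k : Fˣ)) : F) = n * n := by
      rw [orderOf_units, orderOf_pow, hu, hk, Nat.gcd_mul_left_left, Nat.mul_div_cancel]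
      exact Nat.pos_of_ne_zero fun e => by rw [e, mul_zero] at hk; omega
    set η : F := ((u ^ k : Fˣ) : F) with hηdef
    have hη0 : η ≠ 0 := Units.ne_zero _
    have hηn : ∀ l, η ^ l = 1 → n * n ∣ l := fun l hl => hord ▸ orderOf_dvd_of_pow_eq_one hl
    have hηnn : η ^ (n * n) = 1 := hord ▸ pow_orderOf_eq_one η
    obtain ⟨m, rfl⟩ : ∃ m, n = m + 1 := ⟨n - 1, by omega⟩
    let w : Fin (m + 1) → F := fun i => if i = Fin.last m then (η ^ m)⁻¹ else η
    have hwl : w (Fin.last m) = (η ^ m)⁻¹ := by simp [w]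
    have hw0 : w 0 = η := by
      simp only [w]; rw [if_neg]; intro h; have := congrArg Fin.val h; simp at this; omega
    have hne : η ≠ (η ^ m)⁻¹ := fun h => by
      have h1 : η ^ (m + 1) = 1 := by
        rw [pow_succ]; nth_rewrite 2 [h]; exact mul_inv_cancel₀ (pow_ne_zero _ hη0)
      have := Nat.le_of_dvd (by omega) (hηn _ h1)
      nlinarith
    refine ⟨w, ?_, ⟨η ^ (m + 1), fun i => ?_⟩, ⟨0, Fin.last m, by rwa [hw0, hwl]⟩, fun i => ?_, fun c h => ?_⟩
    · rw [Fin.prod_univ_castSucc, hwl]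
      simp [w, (Fin.castSucc_lt_last _).ne, mul_inv_cancel₀ (pow_ne_zero _ hη0)]
    · simp only [w]
      split_ifs
      · refine (inv_pow _ _).trans (inv_eq_of_mul_eq_one_right ?_)
        rw [← pow_mul, ← pow_add, show m * (m + 1) + (m + 1) = (m + 1) * (m + 1) by ring, hηnn]
      · rfl
    · simp only [w]
      split_ifs
      · rw [inv_pow, ← pow_mul, mul_comm, pow_mul, hηnn, one_pow, inv_one]
      · exact hηnn
    · have hA : (Finset.univ.filter fun i => w i = η) = Finset.univ.erase (Fin.last m) := by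
        ext i
        simp only [w, Finset.mem_filter, Finset.mem_univ, true_and, Finset.mem_erase, and_true]
        by_cases e : i = Fin.last m <;> simp [e, hne.symm]
      have hcA := h η
      rw [hA, Finset.card_erase_of_mem (Finset.mem_univ _), Finset.card_univ, Fintype.card_fin,
        Nat.add_sub_cancel] at hcA
      have hc : c = η * η := by
        by_contra hc
        have hsub : (Finset.univ.filter fun i => η * w i = c) ⊆ {Fin.last m} := fun i hi => by
          rw [Finset.mem_singleton]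
          by_contra e
          exact hc (by rw [← (Finset.mem_filter.1 hi).2]; simp [w, e])
        have := hcA.trans (Finset.card_le_card hsub)
        rw [Finset.card_singleton] at this
        omega
      obtain ⟨j, hj⟩ := hpair h (Fin.last m)
      rw [hwl, hc, inv_mul_eq_iff_eq_mul₀ (pow_ne_zero _ hη0)] at hj
      simp only [w] at hj
      split_ifs at hj
      · have h1 : η ^ (2 * (m + 1)) = 1 := by
          have h2 := congrArg (· * η ^ m) hj
          simp only [inv_mul_cancel₀ (pow_ne_zero m hη0)] at h2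
          rw [h2]; ring
        have := Nat.le_of_dvd (by omega) (hηn _ h1)
        nlinarith
      · have h1 : η ^ (m + 1) = 1 := mul_left_cancel₀ hη0 (by rw [mul_one]; linear_combination -hj)
        have := Nat.le_of_dvd (by omega) (hηn _ h1)
        nlinarith
  · obtain ⟨ω₀, hω₀⟩ := exists_prime_orderOf_dvd_card' (G := Fˣ) r (by
      rw [Nat.card_units, Nat.card_eq_fintype_card]; exact hrq)
    set ω : F := (ω₀ : F) with hωdef
    have hord : orderOf ω = r := by rw [hωdef, orderOf_units]; exact hω₀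
    have hω0 : ω ≠ 0 := ω₀.ne_zero
    have hωr : ω ^ r = 1 := hord ▸ pow_orderOf_eq_one ω
    have hωk : ∀ k, ω ^ k = 1 → r ∣ k := fun k hk => hord ▸ orderOf_dvd_of_pow_eq_one hk
    have hω1 : ω ≠ 1 := fun e => by rw [e, orderOf_one] at hord; omega
    have hnot' : ¬ ((r = 3 ∨ r = 5) ∧ n = r) := fun ⟨h1, h2⟩ => hnot ⟨h1, h2, by
      have h1le := one_le_padicValNat_of_dvd hN.ne' hrq
      by_contra hne
      exact hη ⟨h2, by
        rw [← pow_two, padicValNat_dvd_iff_le hN.ne']; omega⟩⟩
    obtain ⟨m, rfl⟩ : ∃ m, n = m + 3 := ⟨n - 3, by omega⟩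
    let ζ : F := (ω ^ 2)⁻¹
    let w : Fin (m + 3) → F := fun i => if i.val < m then 1 else if i.val < m + 2 then ω else ζ
    let ia : Fin (m + 3) := ⟨m, by omega⟩
    let ib : Fin (m + 3) := ⟨m + 1, by omega⟩
    let ic : Fin (m + 3) := ⟨m + 2, by omega⟩
    have hwa : w ia = ω := by simp [w, ia]
    have hwb : w ib = ω := by simp [w, ib]
    have hwc : w ic = ζ := by simp [w, ic]
    have hζr : ζ ^ r = 1 := by simp only [ζ]; rw [inv_pow, ← pow_mul, mul_comm, pow_mul, hωr, one_pow, inv_one]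
    have hwr : ∀ i, w i ^ r = 1 := fun i => by
      simp only [w]; split_ifs
      exacts [one_pow _, hωr, hζr]
    have hcase : ∀ i, (i.val < m ∧ w i = 1) ∨ ((i = ia ∨ i = ib) ∧ w i = ω) ∨ (i = ic ∧ w i = ζ) := fun i => by
      simp only [w, ia, ib, ic, Fin.ext_iff]
      split_ifs with h1 h2
      · exact Or.inl ⟨h1, rfl⟩
      · exact Or.inr (Or.inl ⟨by omega, rfl⟩)
      · exact Or.inr (Or.inr ⟨by have := i.2; omega, rfl⟩)
    refine ⟨w, ?_, ⟨1, hwr⟩, ?_, fun i => by rw [pow_mul, hwr, one_pow], fun c h => ?_⟩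
    · rw [Fin.prod_univ_castSucc, Fin.prod_univ_castSucc, Fin.prod_univ_castSucc]
      simp [w, ζ, Fin.val_castSucc, Fin.val_last]
      field_simp
    · rcases Nat.eq_zero_or_pos m with rfl | hm
      · refine ⟨ia, ic, ?_⟩
        rw [hwa, hwc]
        intro e
        have h3 : ω ^ 3 = 1 := by
          rw [show ω ^ 3 = ω ^ 2 * ω by ring]; nth_rewrite 2 [e]; exact mul_inv_cancel₀ (pow_ne_zero _ hω0)
        have hr33 := (Nat.prime_dvd_prime_iff_eq hrpr Nat.prime_three).1 (hωk 3 h3)
        exact hnot' ⟨Or.inl hr33, by omega⟩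
      · refine ⟨⟨0, by omega⟩, ia, ?_⟩
        rw [hwa]; simp only [w]; rw [if_pos hm]; exact hω1.symm
    -- the count of the eigenvalue one
    have hone : m ≤ (Finset.univ.filter fun i => w i = 1).card := by
      refine le_trans (le_of_eq (Fin.card_Iio ia).symm) (Finset.card_le_card fun i hi => ?_)
      have hlt : i < ia := Finset.mem_Iio.1 hi
      have hi' : i.val < m := hlt
      simp [w, hi']
    have hmA : ∀ a, (a ≠ 1 → (Finset.univ.filter fun i => w i = a).card ≤ 3) := fun a ha =>
      le_trans (Finset.card_le_card (t := {ia, ib, ic}) fun i hi => by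
        have hi' := (Finset.mem_filter.1 hi).2
        rcases hcase i with ⟨-, e⟩ | ⟨e | e, -⟩ | ⟨e, -⟩
        · exact absurd (hi'.symm.trans e) ha
        all_goals simp [e]) Finset.card_le_three
    by_cases hr33 : r = 3
    · subst hr33
      have hm0 : 1 ≤ m ∧ m ≠ 3 := by
        refine ⟨?_, fun e => hgap ⟨by omega, rfl⟩⟩
        by_contra hm
        exact hnot' ⟨Or.inl rfl, by omega⟩
      have hζω : ζ = ω := by
        refine inv_eq_iff_eq_inv.2 (eq_inv_of_mul_eq_one_left ?_)
        rw [← pow_succ, hωr]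
      have hA : 3 ≤ (Finset.univ.filter fun i => w i = ω).card := by
        refine le_trans (le_of_eq ?_) (Finset.card_le_card (s := {ia, ib, ic}) fun i hi => ?_)
        · simp [ia, ib, ic, Fin.ext_iff]
        · simp only [Finset.mem_insert, Finset.mem_singleton] at hi
          rcases hi with rfl | rfl | rfl <;> simp [hwa, hwb, hwc, hζω]
      have hval : ∀ i, w i = 1 ∨ w i = ω := fun i => by
        rcases hcase i with ⟨-, e⟩ | ⟨-, e⟩ | ⟨-, e⟩
        · exact Or.inl e
        · exact Or.inr e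
        · exact Or.inr (e.trans hζω)
      obtain ⟨j, hj⟩ := hpair h ia
      obtain ⟨k, hk⟩ := hpair h ⟨0, by omega⟩
      rw [hwa] at hj
      rw [show w ⟨0, _⟩ = 1 by simp [w]; omega, one_mul] at hk
      have hω2 : ω * ω ≠ 1 := fun e => by
        have := Nat.le_of_dvd (by omega) (hωk 2 (by rw [pow_two, e]))
        omega
      have hcω : c = ω := by
        rcases hval j with e | e <;> rw [e] at hj
        · rw [← hj, mul_one]
        · rcases hval k with e' | e' <;> rw [e'] at hk
          · exact absurd (hj.trans hk.symm) hω2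
          · exact hk.symm
      subst hcω
      have h1 : m ≤ 3 := hone.trans ((h 1).trans ((Finset.card_le_card fun i hi => by
        simpa using hi).trans (hmA _ hω1)))
      have h2 : 3 ≤ (Finset.univ.filter fun i => w i = 1).card := hA.trans ((h _).trans (Finset.card_le_card fun i hi => by
        have := (Finset.mem_filter.1 hi).2
        simpa using mul_left_cancel₀ hω0 (this.trans (mul_one _).symm)))
      have h3 : (Finset.univ.filter fun i => w i = 1).card ≤ m := by
        refine le_trans (Finset.card_le_card (t := Finset.Iio ia) fun i hi => ?_) (le_of_eq (Fin.card_Iio ia))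
        have hi' := (Finset.mem_filter.1 hi).2
        rw [Finset.mem_Iio]
        rcases hcase i with ⟨e, -⟩ | ⟨-, e⟩ | ⟨-, e⟩
        · exact e
        · exact absurd (e.symm.trans hi') hω1
        · exact absurd ((e.trans hζω).symm.trans hi') hω1
      omega
    have hr5 : 5 ≤ r := by
      have h4 : r ≠ 4 := fun e => by rw [e] at hrpr; norm_num at hrpr
      omega
    have hζ3 : ω ^ 3 ≠ 1 := fun e => hr33 ((Nat.prime_dvd_prime_iff_eq hrpr Nat.prime_three).1 (hωk 3 e))
    have hlow : ∀ l, 0 < l → l < 5 → ω ^ l ≠ 1 := fun l h1 h2 e => by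
      have := Nat.le_of_dvd h1 (hωk l e); omega
    have hne2 : ω ≠ ζ := fun e => hζ3 (by
      rw [show ω ^ 3 = ω ^ 2 * ω by ring]; nth_rewrite 2 [e]; exact mul_inv_cancel₀ (pow_ne_zero _ hω0))
    have h2A : 2 ≤ (Finset.univ.filter fun i => ω * w i = c).card := by
      refine le_trans ?_ (h ω)
      refine le_trans (le_of_eq ?_) (Finset.card_le_card (s := {ia, ib}) fun i hi => ?_)
      · simp [ia, ib, Fin.ext_iff]
      · simp only [Finset.mem_insert, Finset.mem_singleton] at hi
        rcases hi with rfl | rfl <;> simp [hwa, hwb]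
    have hc2 : c = ω ∧ 2 ≤ m ∨ c = ω * ω := by
      by_cases e1 : c = ω * ω
      · exact Or.inr e1
      refine Or.inl ?_
      have hsub : c ≠ ω → (Finset.univ.filter fun i => ω * w i = c) ⊆ {ic} := fun e2 i hi => by
        have hi' := (Finset.mem_filter.1 hi).2
        rcases hcase i with ⟨-, e⟩ | ⟨-, e⟩ | ⟨e, -⟩
        · rw [e, mul_one] at hi'; exact absurd hi'.symm e2
        · rw [e] at hi'; exact absurd hi'.symm e1
        · simp [e]
      have hcω : c = ω := by
        by_contra e2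
        have := h2A.trans (Finset.card_le_card (hsub e2))
        rw [Finset.card_singleton] at this
        omega
      refine ⟨hcω, h2A.trans (le_trans (Finset.card_le_card (t := Finset.Iio ia) fun i hi => ?_)
        (le_of_eq (Fin.card_Iio ia)))⟩
      have hi' : w i = 1 := mul_left_cancel₀ hω0 (((Finset.mem_filter.1 hi).2.trans hcω).trans (mul_one _).symm)
      rw [Finset.mem_Iio]
      rcases hcase i with ⟨e, -⟩ | ⟨-, e⟩ | ⟨-, e⟩
      · exact e
      · exact absurd (e.symm.trans hi') hω1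
      · exact absurd (inv_eq_one.1 (e.symm.trans hi')) (hlow 2 (by norm_num) (by norm_num))
    rcases hc2 with ⟨hc, hm2⟩ | hc
    · subst hc
      have hw0 : w ⟨0, by omega⟩ = 1 := by simp [w]; omega
      have hm : m = 2 := by
        refine le_antisymm ((hone.trans (h 1)).trans ?_) hm2
        refine le_trans (Finset.card_le_card (t := {ia, ib}) fun i hi => ?_) Finset.card_le_two
        have hi' := (Finset.mem_filter.1 hi).2
        rw [one_mul] at hi'
        rcases hcase i with ⟨-, e⟩ | ⟨e, -⟩ | ⟨-, e⟩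
        · exact absurd (hi'.symm.trans e) hω1
        · rcases e with e | e <;> simp [e]
        · exact absurd (hi'.symm.trans e) hne2
      obtain ⟨j, hj⟩ := hpair h ic
      rw [hwc, inv_mul_eq_iff_eq_mul₀ (pow_ne_zero _ hω0)] at hj
      rcases hcase j with ⟨-, e⟩ | ⟨-, e⟩ | ⟨-, e⟩ <;> rw [e] at hj
      · exact hζ3 (by linear_combination -hj)
      · exact hlow 2 (by norm_num) (by norm_num) (mul_left_cancel₀ hω0 (by linear_combination -hj))
      · have h5 : ω ^ 5 = 1 := by
          have h' := congrArg (· * ω ^ 2) hj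
          simp only [ζ, inv_mul_cancel₀ (pow_ne_zero 2 hω0)] at h'
          rw [h']; ring
        have hr55 := (Nat.prime_dvd_prime_iff_eq hrpr (by norm_num : Nat.Prime 5)).1 (hωk 5 h5)
        exact hnot' ⟨Or.inr hr55, by omega⟩
    · rcases Nat.eq_zero_or_pos m with hm | hm
      · obtain ⟨j, hj⟩ := hpair h ic
        rw [hwc, hc, inv_mul_eq_iff_eq_mul₀ (pow_ne_zero _ hω0)] at hj
        rcases hcase j with ⟨e, -⟩ | ⟨-, e⟩ | ⟨-, e⟩
        · omega
        · rw [e] at hj
          exact hζ3 (mul_left_cancel₀ hω0 (by linear_combination -hj))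
        · rw [e] at hj
          have h6 : ω ^ 6 = 1 := by
            have h' := congrArg (· * ω ^ 2) hj
            simp only [ζ, inv_mul_cancel₀ (pow_ne_zero 2 hω0)] at h'
            rw [h']; ring
          rcases (hrpr.dvd_mul.1 (show r ∣ 2 * 3 from hωk 6 h6)) with e' | e'
          · exact hr2 ((Nat.prime_dvd_prime_iff_eq hrpr Nat.prime_two).1 e')
          · exact hr33 ((Nat.prime_dvd_prime_iff_eq hrpr Nat.prime_three).1 e')
      · obtain ⟨j, hj⟩ := hpair h ⟨0, by omega⟩
        rw [show w ⟨0, _⟩ = 1 by simp [w, hm], one_mul, hc] at hj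
        rcases hcase j with ⟨-, e⟩ | ⟨-, e⟩ | ⟨-, e⟩ <;> rw [e] at hj
        · exact hlow 2 (by norm_num) (by norm_num) (by linear_combination -hj)
        · exact hω1 (mul_left_cancel₀ hω0 (by linear_combination -hj))
        · exact hlow 4 (by norm_num) (by norm_num) (by
            have h' := congrArg (· * ω ^ 2) hj
            simp only [ζ, inv_mul_cancel₀ (pow_ne_zero 2 hω0)] at h'
            rw [h']; ring)

/-- Five residues modulo five with sum zero are symmetric about some point. -/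
private theorem pairing_five : ∀ b c d : ZMod 5, ∃ s ∈ ([![0,2,1,4,3],![0,3,4,1,2],![0,4,3,2,1],![2,1,0,4,3],
    ![3,1,4,0,2],![4,1,3,2,0],![1,0,2,4,3],![3,4,2,0,1],![4,3,2,1,0],![1,0,4,3,2],![2,4,0,3,1],![4,2,1,3,0],
    ![1,0,3,2,4],![2,3,0,1,4],![3,2,1,0,4]] : List (Fin 5 → Fin 5)), (∀ i, s (s i) = i) ∧
    ∀ i, ![0,b,c,d,-(b+c+d)] i + ![0,b,c,d,-(b+c+d)] (s i) =
      ![0,b,c,d,-(b+c+d)] 0 + ![0,b,c,d,-(b+c+d)] (s 0) := by
  decide +kernel

/-- Residues with sum zero are paired with constant sum, modulo three and five. -/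
theorem exists_pairing {r : ℕ} (hr : r = 3 ∨ r = 5) (a : Fin r → ZMod r) (ha : ∑ i, a i = 0) :
    ∃ (π : Fin r → Fin r) (c : ZMod r), Function.Involutive π ∧ ∀ i, a i + a (π i) = c := by
  rcases hr with rfl | rfl
  · refine ⟨![0, 2, 1], a 0 + a 0, fun i => by fin_cases i <;> rfl, fun i => ?_⟩
    have h3 : ∀ t : ZMod 3, t + t + t = 0 := by decide
    rw [Fin.sum_univ_three] at ha
    fin_cases i
    · rfl
    · show a 1 + a 2 = a 0 + a 0
      linear_combination ha - h3 (a 0)
    · show a 2 + a 1 = a 0 + a 0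
      linear_combination ha - h3 (a 0)
  · have h5 : ∀ t : ZMod 5, t + t + t + t + t = 0 := by decide
    set t := a 0
    obtain ⟨s, -, hinv, hs⟩ := pairing_five (a 1 - t) (a 2 - t) (a 3 - t)
    rw [Fin.sum_univ_five] at ha
    have hv : ∀ i, ![0, a 1 - t, a 2 - t, a 3 - t, -(a 1 - t + (a 2 - t) + (a 3 - t))] i = a i - t := by
      intro i
      fin_cases i
      · show (0 : ZMod 5) = a 0 - t
        rw [sub_self]
      · rfl
      · rfl
      · rfl
      · show -(a 1 - t + (a 2 - t) + (a 3 - t)) = a 4 - t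
        linear_combination -ha + h5 t
    refine ⟨s, a 0 + a (s 0), hinv, fun i => ?_⟩
    have h := hs i
    rw [hv, hv, hv, hv] at h
    linear_combination h

/-- In the exceptional case every element of order `r` has an eigenbasis with a constant pairing. -/
theorem exists_paired_eigen {r : ℕ} [Fact r.Prime] (hr : r = 3 ∨ r = 5) {p : ℕ} [Fact p.Prime] [CharP F p]
    (hn : n = r) (hv : padicValNat r (Fintype.card F - 1) = 1) {x : GL (Fin n) F}
    (hx : x ∈ Cfsg.Geo.specialLinear (Fin n) F)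
    (hz : ∃ z : F, ((x ^ r : GL (Fin n) F) : Matrix (Fin n) (Fin n) F) = z • 1) :
    ∃ (b : Basis (Fin n) F (Fin n → F)) (w : Fin n → F) (π : Fin n → Fin n) (c : F),
      Function.Involutive π ∧ c ≠ 0 ∧ (∀ i, w i ^ r = 1) ∧
      (∀ i, (x : Matrix (Fin n) (Fin n) F) *ᵥ b i = w i • b i) ∧ ∀ i, w i * w (π i) = c := by
  classical
  subst hn
  have hnpr := (Fact.out : n.Prime)
  have hn2 : n ≠ 2 := by omega
  have hN : 0 < Fintype.card F - 1 := Nat.sub_pos_of_lt Fintype.one_lt_card
  have hrq : n ∣ Fintype.card F - 1 := dvd_of_one_le_padicValNat hv.ge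
  have hnp : n ≠ p := by
    rintro rfl
    obtain ⟨f, -, hf⟩ := FiniteField.card F n
    have h1 : n ∣ Fintype.card F := hf ▸ dvd_pow_self n f.pos.ne'
    have h2 := Nat.dvd_sub h1 hrq
    rw [Nat.sub_sub_self Fintype.card_pos, Nat.dvd_one] at h2
    exact hnpr.ne_one h2
  have hnF := Elusive.natCast_prime_ne_zero (F := F) (p := p) hnp
  obtain ⟨z, hz⟩ := hz
  set A : Module.End F (Fin n → F) := Matrix.toLin' (x : Matrix (Fin n) (Fin n) F) with hAdef
  have hxd : (x : Matrix (Fin n) (Fin n) F).det = 1 := congrArg Units.val hx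
  have hAd : LinearMap.det A = 1 := by rw [hAdef, LinearMap.det_toLin', hxd]
  have hA : A ^ n = z • (1 : Module.End F (Fin n → F)) := by
    rw [hAdef, ← Matrix.toLin'_pow, ← Units.val_pow_eq_pow_val, hz, map_smul, Matrix.toLin'_one]; rfl
  have hodd : Even (n - 1) := by rcases hr with rfl | rfl <;> decide
  obtain ⟨α, hα⟩ : ∃ α : F, α ^ n = z := by
    by_contra hno
    push Not at hno
    have h := Elusive.det_of_nonpower hnF hA hno
    rw [hAd, hodd.neg_one_pow, one_mul, finrank_fin_fun, Nat.div_self hnpr.pos, pow_one] at h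
    exact hno 1 (by rw [one_pow, h])
  obtain ⟨u₀, hu₀⟩ := exists_prime_orderOf_dvd_card' (G := Fˣ) n (by
    rw [Nat.card_units, Nat.card_eq_fintype_card]; exact hrq)
  have hω : IsPrimitiveRoot (u₀ : F) n := IsPrimitiveRoot.iff_orderOf.2 (by rw [orderOf_units, hu₀])
  set ω := (u₀ : F)
  haveI : Nonempty (Fin n) := ⟨⟨0, hnpr.pos⟩⟩
  have hα0 : α ≠ 0 := fun e => by
    rw [← hα, e, zero_pow hnpr.ne_zero, zero_smul] at hz
    have h1 := congrArg Matrix.det hz
    rw [Units.val_pow_eq_pow_val, Matrix.det_pow, hxd, one_pow, Matrix.det_zero] at h1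
    exact one_ne_zero h1
  obtain ⟨b, e, hbe⟩ := exists_eigenbasis (α⁻¹ • A) (by
    rw [smul_pow, hA, smul_smul, inv_pow, ← hα, inv_mul_cancel₀ (pow_ne_zero _ hα0), one_smul]) hω hnF
  have hAb : ∀ i, A (b i) = (α * ω ^ e i) • b ((1 : Equiv.Perm (Fin n)) i) := fun i => by
    rw [Equiv.Perm.one_apply, ← smul_smul, ← hbe i, LinearMap.smul_apply, smul_smul, mul_inv_cancel₀ hα0, one_smul]
  have hd := Elusive.det_monomial b A 1 _ hAb
  rw [hAd, Equiv.Perm.sign_one, Units.val_one, Int.cast_one, one_mul, Finset.prod_mul_distrib, Finset.prod_const,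
    Finset.card_univ, Fintype.card_fin, Finset.prod_pow_eq_pow_sum] at hd
  -- the scalar is trivial
  have hz1 : z = 1 := by
    have h1 : z ^ n = 1 := by
      have h' := congrArg (· ^ n) hd
      simp only [one_pow, mul_pow, ← hα] at h'
      rw [← pow_mul ω, mul_comm _ n, pow_mul ω, hω.pow_eq_one, one_pow, mul_one] at h'
      rw [← hα]; exact h'.symm
    have h2 : α ^ (n * n) = 1 := by rw [pow_mul, hα, h1]
    have h3 := orderOf_dvd_of_pow_eq_one h2
    have h4 := orderOf_dvd_of_pow_eq_one (FiniteField.pow_card_sub_one_eq_one α hα0)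
    rw [← pow_two, Nat.dvd_prime_pow hnpr] at h3
    obtain ⟨k, hk, hk'⟩ := h3
    rw [hk', padicValNat_dvd_iff_le hN.ne', hv] at h4
    rw [← hα, ← orderOf_dvd_iff_pow_eq_one, hk']
    interval_cases k
    · simp
    · simp
  rw [hz1] at hA hα
  obtain ⟨b, e, hbe⟩ := exists_eigenbasis A (by rw [hA, one_smul]) hω hnF
  have hd := Elusive.det_monomial b A 1 (fun i => ω ^ e i) (fun i => by rw [Equiv.Perm.one_apply, hbe])
  rw [hAd, Equiv.Perm.sign_one, Units.val_one, Int.cast_one, one_mul, Finset.prod_pow_eq_pow_sum] at hd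
  have hsum : ∑ i, (e i : ZMod n) = 0 := by
    rw [← Nat.cast_sum, ZMod.natCast_eq_zero_iff]
    exact (hω.pow_eq_one_iff_dvd _).1 hd.symm
  obtain ⟨π, c, hπ, hc⟩ := exists_pairing hr (fun i => (e i : ZMod n)) hsum
  haveI : NeZero n := ⟨hnpr.ne_zero⟩
  refine ⟨b, fun i => ω ^ e i, π, ω ^ c.val, hπ, pow_ne_zero _ u₀.ne_zero, fun i => ?_, fun i => ?_, fun i => ?_⟩
  · rw [← pow_mul, mul_comm, pow_mul, hω.pow_eq_one, one_pow]
  · rw [← hbe i, hAdef, Matrix.toLin'_apply]
  · rw [← pow_add, pow_eq_pow_mod _ hω.pow_eq_one,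
      show (e i + e (π i)) % n = c.val by rw [← hc i, ← Nat.cast_add, ZMod.val_natCast]]

/-- The product in the order of the general linear group. -/
theorem prod_GL (q m : ℕ) : ∃ N, ∏ i : Fin m, (q ^ m - q ^ (i : ℕ)) = q ^ N * ∏ i ∈ Finset.range m, (q ^ (i + 1) - 1) := by
  refine ⟨∑ i ∈ Finset.range m, i, ?_⟩
  rw [Fin.prod_univ_eq_prod_range (fun i => q ^ m - q ^ i), ← Finset.prod_range_reflect (fun i => q ^ (i + 1) - 1),
    ← Finset.prod_pow_eq_pow_sum, ← Finset.prod_mul_distrib]
  refine Finset.prod_congr rfl fun i hi => ?_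
  have := Finset.mem_range.1 hi
  rw [Nat.mul_sub, mul_one, ← pow_add]
  congr 2
  omega

/-- Splitting a product by parity. -/
theorem prod_range_double (f : ℕ → ℕ) :
    ∀ h, ∏ i ∈ Finset.range (2 * h), f i =
      (∏ j ∈ Finset.range h, f (2 * j)) * ∏ j ∈ Finset.range h, f (2 * j + 1) := by
  intro h
  induction h with
  | zero => simp
  | succ h ih =>
    rw [show 2 * (h + 1) = 2 * h + 1 + 1 by ring, Finset.prod_range_succ, Finset.prod_range_succ, ih,
      Finset.prod_range_succ, Finset.prod_range_succ]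
    ring

end Cfsg.Agent.SimEl
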