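import Cfsg.Agent.Lib.TransvMax.SimTools
import Cfsg.Agent.Lib.TransvMax.Basic
import Cfsg.Agent.Lib.Elusive.FormIsometry
import Cfsg.Agent.Lib.Elusive.InvolutionBasis
import Cfsg.Agent.Lib.FormTorus.Realize
import Cfsg.Agent.Lib.LinearGroups.UnitaryOrder

/-!
Elements of prime order of `SL n q`, `q = q₀²`, and the similitude group of a unitary form.
-/

set_option autoImplicit false
set_option linter.unusedSectionVars false

namespace Cfsg.Agent.SimEl

open Cfsg.Agent Module
open scoped Matrix MatrixGroups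

variable {F : Type*} [Field F] [Fintype F] {n q : ℕ} [hQF : AutPSU.QField F q]

local notation "σ" => ((AutPSU.qb (F := F) q : F ≃+* F) : F →+* F)

variable {f : (Fin n → F) → (Fin n → F) → F}

theorem card_eq (F : Type*) [Field F] [Fintype F] (q : ℕ) [hQF : AutPSU.QField F q] :
    Fintype.card F = q ^ 2 := by
  rw [← hQF.card, Nat.card_eq_fintype_card]

theorem q_pos (F : Type*) [Field F] (q : ℕ) [hQF : AutPSU.QField F q] : 2 ≤ q :=
  AutPSU.two_le_q (F := F) (q := q)

theorem sigma_eq (a : F) : σ a = a ^ q := AutPSU.qb_apply a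

/-- A unitary form as a semilinear map. -/
noncomputable def toB (hf : Cfsg.Geo.IsUnitaryFormPow q f) : (Fin n → F) →ₛₗ[σ] (Fin n → F) →ₗ[F] F :=
  LinearMap.mk₂'ₛₗ σ (RingHom.id F) (fun u v => f v u)
    (fun a b v => by
      show f v (a + b) = f v a + f v b
      rw [hf.herm v, hf.add_left, ← sigma_eq (q := q), map_add, sigma_eq, sigma_eq, ← hf.herm, ← hf.herm])
    (fun c a v => by
      show f v (c • a) = σ c • f v a
      rw [hf.herm v, hf.smul_left, mul_pow, ← hf.herm, sigma_eq, smul_eq_mul])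
    (fun u a b => hf.add_left a b u)
    (fun c u a => by simpa using hf.smul_left c a u)

theorem toB_apply (hf : Cfsg.Geo.IsUnitaryFormPow q f) (u v : Fin n → F) : toB hf u v = f v u := rfl

theorem toB_flip (hf : Cfsg.Geo.IsUnitaryFormPow q f) : FormTorus.IsFlipForm σ 1 (toB hf) := by
  refine ⟨fun v w => ?_, fun v hv => ?_⟩
  · rw [one_mul, toB_apply, toB_apply, sigma_eq, ← hf.herm]
  · by_contra h
    obtain ⟨w, hw⟩ := (hf.nondegenerate v h).1
    exact hw (hv w)

/-- All unitary forms are isometric. -/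
theorem exists_iso_herm {f' : (Fin n → F) → (Fin n → F) → F} (hf : Cfsg.Geo.IsUnitaryFormPow q f)
    (hf' : Cfsg.Geo.IsUnitaryFormPow q f') :
    ∃ φ : (Fin n → F) ≃ₗ[F] (Fin n → F), ∀ u v, f (φ u) (φ v) = f' u v := by
  obtain ⟨Φ, hΦ⟩ := FormTorus.exists_isometry_fin (toB_flip hf) (finrank_fin_fun F)
  obtain ⟨Φ', hΦ'⟩ := FormTorus.exists_isometry_fin (toB_flip hf') (finrank_fin_fun F)
  refine ⟨Φ'.trans Φ.symm, fun u v => ?_⟩
  rw [← toB_apply hf, ← toB_apply hf', hΦ, hΦ']
  simp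

/-- Forms pairing the coordinates of a basis. -/
theorem isUnitary_paired {ι : Type*} [Fintype ι] (b : Basis ι F (Fin n → F)) {π : ι → ι} (hπ : Function.Involutive π)
    (ρ : ι → F) (hρπ : ∀ i, ρ (π i) = ρ i) (hρ : ∀ i, ρ i ^ q = ρ i) (hρ0 : ∀ i, ρ i ≠ 0) :
    Cfsg.Geo.IsUnitaryFormPow q
      fun u v => ∑ i, ρ i * (b.equivFun u i * b.equivFun v (π i) ^ q) := by
  classical
  have hqq : ∀ a : F, (a ^ q) ^ q = a := fun a => by
    rw [← pow_mul, ← pow_two, ← card_eq F q, FiniteField.pow_card]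
  have hherm : ∀ u v, ∑ i, ρ i * (b.equivFun u i * b.equivFun v (π i) ^ q) =
      (∑ i, ρ i * (b.equivFun v i * b.equivFun u (π i) ^ q)) ^ q := by
    intro u v
    rw [← sigma_eq (q := q), map_sum]
    conv_lhs => rw [← Equiv.sum_comp hπ.toPerm]
    refine Finset.sum_congr rfl fun i _ => ?_
    simp only [sigma_eq, mul_pow, hqq, hρ, Function.Involutive.coe_toPerm, hπ i, hρπ]
    ring
  have hnd : ∀ v : Fin n → F, v ≠ 0 → ∃ x, ∑ i, ρ i * (b.equivFun x i * b.equivFun v (π i) ^ q) ≠ 0 := fun v hv => by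
    obtain ⟨j, hj⟩ : ∃ j, b.equivFun v j ≠ 0 := by
      by_contra h
      push Not at h
      exact hv (b.equivFun.map_eq_zero_iff.1 (funext h))
    refine ⟨b (π j), ?_⟩
    rw [Finset.sum_eq_single (π j) (fun i _ hi => by
      simp [hi.symm]) (by simp), hπ j]
    simp only [Basis.equivFun_self, if_true, one_mul]
    exact mul_ne_zero (hρ0 _) (pow_ne_zero _ hj)
  refine ⟨fun x y v => ?_, fun c x v => ?_, hherm, fun v hv => ⟨hnd v hv, ?_⟩⟩
  · simp only [map_add, Pi.add_apply, ← Finset.sum_add_distrib]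
    exact Finset.sum_congr rfl fun i _ => by ring
  · simp only [map_smul, Pi.smul_apply, smul_eq_mul, Finset.mul_sum]
    exact Finset.sum_congr rfl fun i _ => by ring
  · obtain ⟨x, hx⟩ := hnd v hv
    refine ⟨x, ?_⟩
    show ∑ i, ρ i * (b.equivFun v i * b.equivFun x (π i) ^ q) ≠ 0
    rw [hherm]
    exact pow_ne_zero _ hx

/-- A form conjugate to one left invariant up to a scalar. -/
theorem mem_usim_of_conj {x : GL (Fin n) F} (hx : Adj x) (hf : Cfsg.Geo.IsUnitaryFormPow q f)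
    {f' : (Fin n → F) → (Fin n → F) → F} (hf' : Cfsg.Geo.IsUnitaryFormPow q f') {c : F} (hc : c ≠ 0)
    (h : ∀ u v, f' ((x : Matrix (Fin n) (Fin n) F) *ᵥ u) ((x : Matrix (Fin n) (Fin n) F) *ᵥ v) = c * f' u v) :
    ∃ g ∈ Cfsg.Geo.specialLinear (Fin n) F, g⁻¹ * x * g ∈ Cfsg.Geo.similarityGroup f := by
  obtain ⟨φ, hφ⟩ := exists_iso_herm hf hf'
  obtain ⟨g, hg, hgx⟩ := exists_conj hx φ
  refine ⟨g, hg, Units.mk0 c hc, fun u v => ?_⟩
  obtain ⟨u, rfl⟩ := φ.surjective u
  obtain ⟨v, rfl⟩ := φ.surjective v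
  rw [hgx, hgx, hφ, hφ]
  exact h u v

/-- The invariant form carried back by a conjugation. -/
theorem exists_inv_herm (hn : 0 < n) (hf : Cfsg.Geo.IsUnitaryFormPow q f) {x g : GL (Fin n) F}
    (h : g⁻¹ * x * g ∈ Cfsg.Geo.similarityGroup f) :
    ∃ (f' : (Fin n → F) → (Fin n → F) → F) (c : F), c ≠ 0 ∧ c ^ q = c ∧ Cfsg.Geo.IsUnitaryFormPow q f' ∧
      (∀ u v, f' ((x : Matrix (Fin n) (Fin n) F) *ᵥ u) ((x : Matrix (Fin n) (Fin n) F) *ᵥ v) = c * f' u v) ∧
      ∃ u v, f' u v ≠ 0 := by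
  obtain ⟨c, hc⟩ := h
  set L := TransvMax.linOf g⁻¹
  let f' : (Fin n → F) → (Fin n → F) → F := fun u v => f (L u) (L v)
  have hf' : Cfsg.Geo.IsUnitaryFormPow q f' := by
    refine ⟨fun a b v => ?_, fun a x v => ?_, fun v w => hf.herm _ _, fun v hv => ?_⟩
    · simp only [f', map_add]; exact hf.add_left _ _ _
    · simp only [f', map_smul]; exact hf.smul_left _ _ _
    · obtain ⟨⟨a, ha⟩, b, hb⟩ := hf.nondegenerate (L v) (fun e => hv (L.map_eq_zero_iff.1 e))
      exact ⟨⟨L.symm a, by simpa [f'] using ha⟩, L.symm b, by simpa [f'] using hb⟩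
  have hinv : ∀ u v, f' ((x : Matrix (Fin n) (Fin n) F) *ᵥ u) ((x : Matrix (Fin n) (Fin n) F) *ᵥ v) =
      c * f' u v := fun u v => by
    simp only [f', L, TransvMax.linOf_apply]
    rw [← hc]
    simp only [Matrix.mulVec_mulVec, ← Units.val_mul, mul_inv_cancel_right]
  obtain ⟨v, hv⟩ : ∃ v : Fin n → F, v ≠ 0 := ⟨Pi.single ⟨0, hn⟩ 1, by simp⟩
  obtain ⟨u, hu⟩ := (hf'.nondegenerate v hv).1
  refine ⟨f', c, c.ne_zero, ?_, hf', hinv, u, v, hu⟩
  have h1 := hinv u v
  rw [hf'.herm, hinv v u, mul_pow, ← hf'.herm] at h1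
  exact mul_right_cancel₀ hu h1

/-- Iterating a similitude. -/
theorem inv_pow_apply {f' : (Fin n → F) → (Fin n → F) → F} {x : GL (Fin n) F} {c : F}
    (hinv : ∀ u v, f' ((x : Matrix (Fin n) (Fin n) F) *ᵥ u) ((x : Matrix (Fin n) (Fin n) F) *ᵥ v) = c * f' u v)
    (k : ℕ) : ∀ u v, f' (((x : Matrix (Fin n) (Fin n) F) ^ k) *ᵥ u) (((x : Matrix (Fin n) (Fin n) F) ^ k) *ᵥ v) =
      c ^ k * f' u v := by
  induction k with
  | zero => intro u v; simp
  | succ k ih =>
    intro u v
    rw [pow_succ' (x : Matrix (Fin n) (Fin n) F), ← Matrix.mulVec_mulVec, ← Matrix.mulVec_mulVec, hinv, ih,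
      pow_succ', mul_assoc]

/-- A non-square is no square of a similitude. -/
theorem no_sim_nonsquare (hodd : Odd q) (hn : 0 < n) (hf : Cfsg.Geo.IsUnitaryFormPow q f) {x g : GL (Fin n) F}
    {z : F} (hz : ∀ b : F, b ^ 2 ≠ z) (hxz : ((x ^ 2 : GL (Fin n) F) : Matrix (Fin n) (Fin n) F) = z • 1) :
    g⁻¹ * x * g ∉ Cfsg.Geo.similarityGroup f := fun h => by
  obtain ⟨f', c, hc, hcq, hf', hinv, u, v, huv⟩ := exists_inv_herm hn hf h
  have h2 := inv_pow_apply hinv 2 u v
  rw [← Units.val_pow_eq_pow_val, hxz, Matrix.smul_mulVec, Matrix.one_mulVec, Matrix.smul_mulVec, Matrix.one_mulVec,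
    hf'.smul_left, hf'.herm u, hf'.smul_left, mul_pow, ← hf'.herm, ← mul_assoc] at h2
  have hN : z * z ^ q = c ^ 2 := mul_right_cancel₀ huv h2
  obtain ⟨k, rfl⟩ := hodd
  have hz0 : z ≠ 0 := fun e => hz 0 (by rw [e]; ring)
  have hck : c ^ (2 * k) = 1 := mul_right_cancel₀ hc (by rw [← pow_succ, hcq, one_mul])
  have hchar : ringChar F ≠ 2 := fun e => by
    have h' : Fintype.card F % 2 = 0 := FiniteField.even_card_iff_char_two.1 e
    rw [card_eq F (2 * k + 1), Nat.pow_mod] at h'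
    simp [Nat.add_mod] at h'
  have hsq : IsSquare z := by
    rw [FiniteField.isSquare_iff hchar hz0, card_eq F (2 * k + 1),
      show (2 * k + 1) ^ 2 / 2 = (2 * k + 1 + 1) * k by
        rw [show (2 * k + 1) ^ 2 = 1 + 2 * ((2 * k + 1 + 1) * k) by ring, Nat.add_mul_div_left _ _ two_pos]; simp,
      pow_mul, pow_succ', hN, ← pow_mul, hck]
  obtain ⟨s, hs⟩ := hsq
  exact hz s (by rw [pow_two, hs])

/-- Elements squaring to a square scalar are conjugate into the similitude group. -/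
theorem exists_conj_split (hn : 0 < n) (hf : Cfsg.Geo.IsUnitaryFormPow q f) {x : GL (Fin n) F} {l : F} (hl : l ≠ 0)
    (hxl : ((x ^ 2 : GL (Fin n) F) : Matrix (Fin n) (Fin n) F) = (l ^ 2) • 1) :
    ∃ g ∈ Cfsg.Geo.specialLinear (Fin n) F, g⁻¹ * x * g ∈ Cfsg.Geo.similarityGroup f := by
  classical
  set A : Module.End F (Fin n → F) := Matrix.toLin' (x : Matrix (Fin n) (Fin n) F) with hAdef
  have hA : A ^ 2 = (l ^ 2) • (1 : Module.End F (Fin n → F)) := by
    rw [hAdef, ← Matrix.toLin'_pow, ← Units.val_pow_eq_pow_val, hxl, map_smul, Matrix.toLin'_one]; rfl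
  have hA' : ∀ v, A (A v) = (l ^ 2) • v := fun v => by rw [← Module.End.mul_apply, ← pow_two, hA]; rfl
  obtain ⟨ι, hι, b, π, μ, hπ, hb⟩ := Elusive.exists_monomial_basis A (pow_ne_zero 2 hl) hA'
  haveI := hι
  have hqq : ∀ a : F, (a ^ q) ^ q = a := fun a => by
    rw [← pow_mul, ← pow_two, ← card_eq F q, FiniteField.pow_card]
  have hμμ : ∀ i, μ i * μ (π i) = l ^ 2 := fun i => by
    have h := hA' (b i)
    rw [hb, map_smul, hb, smul_smul, hπ i] at h
    exact smul_left_injective F (b.ne_zero i) h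
  have hμ0 : ∀ i, μ i ≠ 0 := fun i e => pow_ne_zero 2 hl (by rw [← hμμ i, e, zero_mul])
  let N : F → F := fun a => a * a ^ q
  have hN0 : ∀ a, a ≠ 0 → N a ≠ 0 := fun a ha => mul_ne_zero ha (pow_ne_zero _ ha)
  have hNfix : ∀ a, N a ^ q = N a := fun a => by simp only [N, mul_pow, hqq]; ring
  set c := N l
  have hNμ : ∀ i, N (μ i) * N (μ (π i)) = c * c := fun i => by
    simp only [c, N]
    rw [show μ i * μ i ^ q * (μ (π i) * μ (π i) ^ q) = (μ i * μ (π i)) * (μ i * μ (π i)) ^ q by rw [mul_pow]; ring,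
      hμμ, pow_two, mul_pow]
    ring
  let e := Fintype.equivFin ι
  let ρ : ι → F := fun i => if e i ≤ e (π i) then 1 else c / N (μ (π i))
  have hρ0 : ∀ i, ρ i ≠ 0 := fun i => by
    simp only [ρ]; split_ifs
    exacts [one_ne_zero, div_ne_zero (hN0 l hl) (hN0 _ (hμ0 _))]
  have hρfix : ∀ i, ρ i ^ q = ρ i := fun i => by
    simp only [ρ]; split_ifs
    · exact one_pow q
    · rw [div_pow, hNfix, hNfix]
  have hkey : ∀ i, ρ (π i) * N (μ i) = c * ρ i := fun i => by
    rcases lt_trichotomy (e i) (e (π i)) with h | h | h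
    · simp only [ρ]
      rw [if_pos h.le, hπ i, if_neg (not_le.2 h), div_mul_cancel₀ _ (hN0 _ (hμ0 i)), mul_one]
    · have hfix := e.injective h
      have h2 := hμμ i
      rw [← hfix] at h2 ⊢
      rw [mul_comm]
      congr 1
      rcases sq_eq_sq_iff_eq_or_eq_neg.1 ((pow_two (μ i)).trans h2) with h' | h' <;> rw [h']
      show -l * (-l) ^ q = N l
      rw [← sigma_eq (q := q), map_neg, sigma_eq]
      simp [N]
    · simp only [ρ]
      rw [hπ i, if_pos h.le, if_neg (not_le.2 h), one_mul, eq_comm, mul_div_assoc', div_eq_iff (hN0 _ (hμ0 _))]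
      exact (hNμ i).symm
  -- the determinants
  have hadj : Adj x := by
    by_cases h2 : (2 : F) = 0
    · intro t _
      haveI : CharP F 2 := CharTwo.of_one_ne_zero_of_two_eq_zero one_ne_zero h2
      haveI : Nonempty ι := Fintype.card_pos_iff.1 (by
        rw [← finrank_eq_card_basis b, finrank_fin_fun]; exact hn)
      obtain i₀ := Classical.arbitrary ι
      obtain ⟨s, hs⟩ := surjective_frobenius F 2 t
      rw [frobenius_def] at hs
      let w : ι → F := fun k => if k = i₀ ∨ k = π i₀ then (if π i₀ = i₀ then t else s) else 1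
      have hwπ : ∀ k, w (π k) = w k := fun k => by
        simp only [w]
        congr 1
        rw [eq_iff_iff]
        constructor <;> rintro (h | h)
        · right; rw [← h, hπ k]
        · left; exact hπ.injective h
        · right; rw [h]
        · left; rw [h, hπ]
      let D : Module.End F (Fin n → F) := b.constr F fun k => w k • b k
      have hD : ∀ k, D (b k) = w k • b ((1 : Equiv.Perm ι) k) := fun k => b.constr_basis F _ k
      refine ⟨LinearMap.toMatrix' D, ?_, ?_⟩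
      · refine Matrix.toLin'.injective (b.ext fun k => ?_)
        simp only [Matrix.toLin'_mul, LinearMap.comp_apply, Matrix.toLin'_toMatrix', ← hAdef, hb, hD, map_smul,
          Equiv.Perm.one_apply, hwπ]
        rw [smul_comm]
      · rw [LinearMap.det_toMatrix', Elusive.det_monomial b D 1 w hD, Equiv.Perm.sign_one, Units.val_one,
          Int.cast_one, one_mul]
        by_cases hfix : π i₀ = i₀
        · rw [Finset.prod_eq_single i₀ (fun k _ hk => by simp [w, hk, hfix]) (by simp)]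
          simp [w, hfix]
        · rw [Finset.prod_eq_mul i₀ (π i₀) (Ne.symm hfix) (fun k _ hk => by simp [w, hk.1, hk.2]) (by simp) (by simp)]
          simp [w, hfix, ← pow_two, hs]
    · obtain ⟨b', e', hbe⟩ := exists_eigenbasis (r := 2) (l⁻¹ • A)
        (by rw [smul_pow, hA, smul_smul, inv_pow, inv_mul_cancel₀ (pow_ne_zero 2 hl), one_smul])
        (IsPrimitiveRoot.neg_one (ringChar F) fun h => h2 (by
          haveI := ringChar.of_eq h; exact CharP.cast_eq_zero F 2)) (by exact_mod_cast h2)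
      refine adj_of_eigen hn b' (fun i => l * (-1) ^ e' i) fun i => ?_
      rw [← Matrix.toLin'_apply, ← hAdef, ← smul_smul, ← hbe i, LinearMap.smul_apply, smul_smul, mul_inv_cancel₀ hl,
        one_smul]
  -- the coordinates of the image
  have hcoord : ∀ v i, b.equivFun (A v) (π i) = μ i * b.equivFun v i := fun v i => by
    have : (b.coord (π i)).comp A = μ i • b.coord i := b.ext fun k => by
      simp only [LinearMap.comp_apply, hb, map_smul, LinearMap.smul_apply, Basis.coord_apply, Basis.repr_self,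
        smul_eq_mul]
      rcases eq_or_ne k i with rfl | hki
      · simp
      · simp [hki, hπ.injective.ne hki]
    exact LinearMap.congr_fun this v
  refine mem_usim_of_conj hadj hf (isUnitary_paired b (π := id) (fun _ => rfl) ρ (fun _ => rfl) hρfix hρ0)
    (hN0 l hl) fun u v => ?_
  simp only [id]
  rw [← Matrix.toLin'_apply, ← Matrix.toLin'_apply, ← hAdef, Finset.mul_sum]
  conv_lhs => rw [← Equiv.sum_comp hπ.toPerm]
  refine Finset.sum_congr rfl fun i _ => ?_
  simp only [Function.Involutive.coe_toPerm, hcoord, mul_pow]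
  linear_combination (b.equivFun u i * b.equivFun v i ^ q) * hkey i

/-- In the exceptional case all elements of order `r` are conjugate into the similitude group. -/
theorem exists_conj_exception_herm (hf : Cfsg.Geo.IsUnitaryFormPow q f) {r : ℕ} [Fact r.Prime]
    (hr : r = 3 ∨ r = 5) {p : ℕ} [Fact p.Prime] [CharP F p] (hn : n = r)
    (hv : padicValNat r (q - 1) = 1) {x : GL (Fin n) F} (hx : x ∈ Cfsg.Geo.specialLinear (Fin n) F)
    (hz : ∃ z : F, ((x ^ r : GL (Fin n) F) : Matrix (Fin n) (Fin n) F) = z • 1) :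
    ∃ g ∈ Cfsg.Geo.specialLinear (Fin n) F, g⁻¹ * x * g ∈ Cfsg.Geo.similarityGroup f := by
  have hrpr := (Fact.out : r.Prime)
  have hq2 := q_pos F q
  have hdvd : r ∣ q - 1 := dvd_of_one_le_padicValNat hv.ge
  have hnd : ¬ r ∣ q + 1 := fun h => by
    have h2 := Nat.dvd_sub h hdvd
    rw [show q + 1 - (q - 1) = 2 by omega] at h2
    have := Nat.le_of_dvd two_pos h2
    omega
  have hv' : padicValNat r (Fintype.card F - 1) = 1 := by
    rw [card_eq F q, show q ^ 2 - 1 = (q + 1) * (q - 1) by simpa using Nat.sq_sub_sq q 1,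
      padicValNat.mul (by omega) (by omega), padicValNat.eq_zero_of_not_dvd hnd, hv]
  obtain ⟨b, w, π, c, hπ, hc, hwr, hb, hwc⟩ := exists_paired_eigen (p := p) hr hn hv' hx hz
  have hwq : ∀ i, w i ^ q = w i := fun i => by
    obtain ⟨k, hk⟩ := hdvd
    rw [show q = r * k + 1 by omega, pow_succ, pow_mul, hwr, one_pow, one_mul]
  have hb' : ∀ v i, b.equivFun ((x : Matrix (Fin n) (Fin n) F) *ᵥ v) i = w i * b.equivFun v i := fun v i => by
    have : (b.coord i).comp (Matrix.toLin' (x : Matrix (Fin n) (Fin n) F)) = w i • b.coord i := b.ext fun j => by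
      simp only [LinearMap.comp_apply, Matrix.toLin'_apply, hb, map_smul, LinearMap.smul_apply, Basis.coord_apply,
        Basis.repr_self, smul_eq_mul]
      rcases eq_or_ne j i with rfl | hji
      · rfl
      · simp [hji]
    exact LinearMap.congr_fun this v
  refine mem_usim_of_conj (adj_of_eigen (by omega) b w hb) hf
    (isUnitary_paired b hπ (fun _ => 1) (fun _ => rfl) (fun _ => one_pow q) fun _ => one_ne_zero) hc fun u v => ?_
  simp only [hb', Finset.mul_sum, mul_pow, hwq]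
  refine Finset.sum_congr rfl fun i _ => ?_
  rw [← hwc i]
  ring

/-- An isometry of prime order without fixed points gives an element of the unitary group of its dimension. -/
theorem dvd_card_GU_of_isometry (hf : Cfsg.Geo.IsUnitaryFormPow q f) {r : ℕ} [Fact r.Prime] (hrF : (r : F) ≠ 0)
    {T : Module.End F (Fin n → F)} (hT : ∀ u v, f (T u) (T v) = f u v) (hTr : T ^ r = 1) {o : ℕ} (ho : 0 < o)
    (hfix : finrank F (Elusive.fixedSpace T) + o = n) : r ∣ Nat.card (Cfsg.GU o F q) := by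
  classical
  have hB := toB_flip hf
  have hrefl : ∀ x y, toB hf x y = 0 → toB hf y x = 0 := fun x y h => by rw [hB.flip x y, h, map_zero, mul_zero]
  have htop : Elusive.FormIso.NdOn (toB hf) ⊤ := fun u _ h => hB.nondeg u fun w => h w Submodule.mem_top
  obtain ⟨M, -, hMT, hfree, -, -, hM, -, hd⟩ := Elusive.FormIso.exists_split hrefl
    (fun u v => hT v u) hrF hTr htop le_top
  rw [top_inf_eq, finrank_top, finrank_fin_fun] at hd
  let BM : M →ₛₗ[σ] M →ₗ[F] F := LinearMap.mk₂'ₛₗ σ (RingHom.id F) (fun u v => toB hf (u : Fin n → F) v)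
    (fun a b v => by simp) (fun a b v => by simp) (fun u a b => by simp) (fun a u b => by simp)
  have hBM : FormTorus.IsFlipForm σ 1 BM := ⟨fun v w => hB.flip _ _,
    fun v hv => Subtype.ext (hM v v.2 fun w hw => hv ⟨w, hw⟩)⟩
  obtain ⟨Φ, hΦ⟩ := FormTorus.exists_isometry_fin hBM (n := o) (by omega)
  have hTi : Function.Injective T := Elusive.FormIso.injective_of_pow (Fact.out : r.Prime).ne_zero hTr
  let TM : M →ₗ[F] M := T.restrict fun v hv => hMT ⟨v, hv, rfl⟩
  have hTMi : Function.Injective TM := fun a b h => Subtype.ext (hTi (congrArg Subtype.val h))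
  let TE : M ≃ₗ[F] M := LinearEquiv.ofBijective TM ⟨hTMi, LinearMap.injective_iff_surjective.1 hTMi⟩
  let G : GL (Fin o) F := TransvMax.glOf ((Φ.symm.trans TE).trans Φ)
  have hGv : ∀ a, (G : Matrix (Fin o) (Fin o) F) *ᵥ a = Φ (TE (Φ.symm a)) := fun a => TransvMax.glOf_mulVec _ a
  have hG : G ∈ Cfsg.GU o F q := fun a b => by
    show hermForm o F q ((G : Matrix (Fin o) (Fin o) F) *ᵥ a) ((G : Matrix (Fin o) (Fin o) F) *ᵥ b) = hermForm o F q a b
    obtain ⟨u, rfl⟩ := Φ.surjective a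
    obtain ⟨v, rfl⟩ := Φ.surjective b
    rw [hGv, hGv, ← hΦ, ← hΦ, Φ.symm_apply_apply, Φ.symm_apply_apply]
    exact hT u v
  have hk : ∀ (k : ℕ) a, ((Φ.symm (((G : Matrix (Fin o) (Fin o) F) ^ k) *ᵥ a) : M) : Fin n → F) =
      (T ^ k) (Φ.symm a : M) := by
    intro k
    induction k with
    | zero => intro a; simp
    | succ k ih =>
      intro a
      rw [pow_succ', ← Matrix.mulVec_mulVec, hGv, Φ.symm_apply_apply, pow_succ', Module.End.mul_apply, ← ih a]
      rfl
  have hGr : (⟨G, hG⟩ : Cfsg.GU o F q) ^ r = 1 := Subtype.ext (TransvMax.gl_ext fun a => by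
    rw [Subgroup.coe_pow, Subgroup.coe_one, Units.val_one, Matrix.one_mulVec, Units.val_pow_eq_pow_val]
    refine Φ.symm.injective (Subtype.ext ?_)
    rw [hk, hTr]; rfl)
  have hG1 : (⟨G, hG⟩ : Cfsg.GU o F q) ≠ 1 := fun e => by
    have hne : M ≠ ⊥ := fun h => by rw [h, finrank_bot] at hd; omega
    obtain ⟨v, hv, hv0⟩ := Submodule.exists_mem_ne_zero_of_ne_bot hne
    refine hv0 (hfree v hv ?_)
    have h1 := hk 1 (Φ ⟨v, hv⟩)
    rw [pow_one, pow_one, show G = 1 from congrArg Subtype.val e, Units.val_one, Matrix.one_mulVec,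
      Φ.symm_apply_apply] at h1
    exact h1.symm
  haveI : Finite (Cfsg.GU o F q) := inferInstance
  have h := orderOf_dvd_natCard (⟨G, hG⟩ : Cfsg.GU o F q)
  rwa [orderOf_eq_prime hGr hG1] at h

/-- The index times the order of the unitary group. -/
theorem dvd_of_index_herm (hf : Cfsg.Geo.IsUnitaryFormPow q f) (hn : 0 < n) {r : ℕ}
    (hΩ : r ∣ (Cfsg.Geo.similarityGroup f).relIndex (Cfsg.Geo.specialLinear (Fin n) F)) :
    r * (Fintype.card F - 1) * Nat.card (Cfsg.GU n F q) ∣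
      (q + 1) * ∏ i : Fin n, (Fintype.card F ^ n - Fintype.card F ^ (i : ℕ)) := by
  classical
  obtain ⟨Φ, hΦ⟩ := FormTorus.exists_isometry_fin (toB_flip hf) (finrank_fin_fun F)
  set P := TransvMax.glOf Φ
  let ψ : Cfsg.SU n F q →* GL (Fin n) F :=
    (MulAut.conj P⁻¹).toMonoidHom.comp (Matrix.SpecialLinearGroup.toGL.comp (Cfsg.SU n F q).subtype)
  have hψi : Function.Injective ψ := fun a b h => by
    have h' := (MulAut.conj P⁻¹).injective h
    exact Subtype.ext (Subtype.ext (congrArg Units.val h'))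
  have hψv : ∀ (A : Cfsg.SU n F q) v, ((ψ A : GL (Fin n) F) : Matrix (Fin n) (Fin n) F) *ᵥ v =
      Φ.symm ((A.1 : Matrix (Fin n) (Fin n) F) *ᵥ Φ v) := fun A v => by
    show ((P⁻¹ * Matrix.SpecialLinearGroup.toGL A.1 * P⁻¹⁻¹ : GL (Fin n) F) : Matrix (Fin n) (Fin n) F) *ᵥ v = _
    rw [inv_inv, Units.val_mul, Units.val_mul, ← Matrix.mulVec_mulVec, ← Matrix.mulVec_mulVec, TransvMax.glOf_mulVec,
      ← map_inv, TransvMax.glOf_mulVec]
    rfl
  have hsub : ψ.range ≤ Cfsg.Geo.similarityGroup f ⊓ Cfsg.Geo.specialLinear (Fin n) F := by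
    rintro _ ⟨A, rfl⟩
    refine ⟨⟨1, fun u v => ?_⟩, ?_⟩
    · rw [Units.val_one, one_mul, hψv, hψv, ← toB_apply hf, ← toB_apply hf, hΦ, hΦ, Φ.apply_symm_apply,
        Φ.apply_symm_apply]
      exact A.2 _ _
    · show Matrix.GeneralLinearGroup.det (P⁻¹ * Matrix.SpecialLinearGroup.toGL A.1 * P⁻¹⁻¹) = 1
      rw [map_mul, map_mul, map_inv, map_inv, map_inv, inv_inv, mul_right_comm, inv_mul_cancel, one_mul]
      exact Units.ext A.1.det_coe
  have h1 : r * Nat.card (Cfsg.SU n F q) ∣ Nat.card (Cfsg.Geo.specialLinear (Fin n) F) := by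
    rw [Nat.card_congr (MonoidHom.ofInjective hψi).toEquiv]
    refine (Nat.mul_dvd_mul hΩ (Subgroup.card_dvd_of_le hsub)).trans ?_
    rw [mul_comm, ← Subgroup.inf_relIndex_right, ← Subgroup.relIndex_bot_left,
      Subgroup.relIndex_mul_relIndex _ _ _ bot_le inf_le_right, Subgroup.relIndex_bot_left]
  have hS : Nat.card (Cfsg.Geo.specialLinear (Fin n) F) = Nat.card (Matrix.SpecialLinearGroup (Fin n) F) :=
    (Nat.card_congr (LinGrp.slEquivKerDet (n := Fin n) (F := F)).toEquiv).symm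
  rw [← UnitaryOrder.card_SU (card_eq F q) n hn, ← LinGrp.natCard_SL_mul n hn, ← hS,
    show r * (Fintype.card F - 1) * ((q + 1) * Nat.card (Cfsg.SU n F q)) =
      (q + 1) * ((Fintype.card F - 1) * (r * Nat.card (Cfsg.SU n F q))) by ring]
  exact Nat.mul_dvd_mul_left _ (Nat.mul_dvd_mul_left _ h1)

end Cfsg.Agent.SimEl
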