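import Mathlib

/-!
The multiplications by units of an extension field inside the linear automorphisms.
-/

set_option autoImplicit false

namespace Cfsg.Agent.TransvMax

variable {F K : Type*} [Field F] [Field K] [Algebra F K]

/-- The Singer group. -/
noncomputable abbrev singer (F K : Type*) [Field F] [Field K] [Algebra F K] :
    Subgroup (Module.End F K)ˣ :=
  (Units.map ((Algebra.lmul F K : K →ₐ[F] Module.End F K) : K →* Module.End F K)).range

theorem mem_singer {g : (Module.End F K)ˣ} :
    g ∈ singer F K ↔ ∃ a : Kˣ, ∀ x : K, (g : Module.End F K) x = (a : K) * x := by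
  constructor
  · rintro ⟨a, rfl⟩
    exact ⟨a, fun x => rfl⟩
  · rintro ⟨a, ha⟩
    exact ⟨a, Units.ext (LinearMap.ext fun x => (ha x).symm)⟩

theorem unit_apply_ne_zero (g : (Module.End F K)ˣ) {x : K} (hx : x ≠ 0) :
    (g : Module.End F K) x ≠ 0 := fun e => hx (by
  have : ((g⁻¹ * g : (Module.End F K)ˣ) : Module.End F K) x = x := by rw [inv_mul_cancel]; rfl
  rw [Units.val_mul, Module.End.mul_apply, e, map_zero] at this
  exact this.symm)

/-- The scalars carried into the multiplications by conjugation form a subalgebra. -/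
noncomputable def conjAlg (g : (Module.End F K)ˣ) : Subalgebra F K where
  carrier := {a | ∃ b : K, ∀ x : K, (g : Module.End F K) (a * x) = b * (g : Module.End F K) x}
  mul_mem' := by
    rintro a a' ⟨b, hb⟩ ⟨b', hb'⟩
    exact ⟨b * b', fun x => by rw [mul_assoc, hb, hb', mul_assoc]⟩
  add_mem' := by
    rintro a a' ⟨b, hb⟩ ⟨b', hb'⟩
    exact ⟨b + b', fun x => by rw [add_mul, map_add, hb, hb', add_mul]⟩
  algebraMap_mem' c := ⟨algebraMap F K c, fun x => by
    rw [← Algebra.smul_def, map_smul, Algebra.smul_def]⟩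

theorem mem_conjAlg {g : (Module.End F K)ˣ} {a : K} :
    a ∈ conjAlg g ↔ ∃ b : K, ∀ x : K, (g : Module.End F K) (a * x) = b * (g : Module.End F K) x := Iff.rfl

end Cfsg.Agent.TransvMax
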