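import Cfsg.Agent.Lib.Forms.Models
import Cfsg.Agent.Lib.Forms.SpOrder

/-!
Anti-self-adjoint square roots of scalars on a symplectic space over a finite field of odd order.
-/

set_option autoImplicit false

namespace Cfsg.Agent.SkewRoot

open Cfsg.Agent Cfsg.Agent.FormsLib Module

variable {F : Type*} [Field F] {V : Type*} [AddCommGroup V] [Module F V]

/-- `X` is skew for `B` and squares to `c`. -/
structure IsRoot (B : LinearMap.BilinForm F V) (X : V →ₗ[F] V) (c : F) : Prop where
  skew : ∀ u v, B (X u) v = -B u (X v)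
  sq : ∀ v, X (X v) = c • v

/-- The standard root. -/
def stdRoot (m : ℕ) (c : F) : (Fin m ⊕ Fin m → F) →ₗ[F] (Fin m ⊕ Fin m → F) where
  toFun v := Sum.elim (fun i => v (.inr i)) (fun i => c * v (.inl i))
  map_add' u v := by
    funext i; rcases i with i | i <;> simp [mul_add]
  map_smul' a v := by
    funext i; rcases i with i | i <;> simp [mul_left_comm]

theorem stdRoot_isRoot (m : ℕ) (c : F) : IsRoot (spB m F) (stdRoot m c) c where
  skew u v := by
    rw [spB_expand, spB_expand, ← Finset.sum_neg_distrib]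
    refine Finset.sum_congr rfl fun i _ => ?_
    simp [stdRoot]; ring
  sq v := by
    funext i; rcases i with i | i <;> simp [stdRoot]

theorem IsRoot.conj {B : LinearMap.BilinForm F V} {X : V →ₗ[F] V} {c : F} (h : IsRoot B X c)
    {W : Type*} [AddCommGroup W] [Module F W] {C' : LinearMap.BilinForm F W} (e : V ≃ₗ[F] W)
    (he : ∀ u v, C' (e u) (e v) = B u v) : IsRoot C' (e.conj X) c where
  skew u v := by
    obtain ⟨u, rfl⟩ := e.surjective u
    obtain ⟨v, rfl⟩ := e.surjective v
    simp [LinearEquiv.conj_apply, he, h.skew]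
  sq v := by
    obtain ⟨v, rfl⟩ := e.surjective v
    simp [LinearEquiv.conj_apply, h.sq]

variable [Finite F] [FiniteDimensional F V]

/-- Every symplectic space has roots of every scalar. -/
theorem exists_root {B : LinearMap.BilinForm F V} (hA : LinearMap.IsAlt B)
    (hB : ∀ u, (∀ v, B u v = 0) → u = 0) (c : F) : ∃ X, IsRoot B X c := by
  obtain ⟨m, b, -⟩ := exists_symplectic_basis_nondeg hA
    ⟨hB, fun y hy => hB y fun x => by rw [alt_swap hA x y, hy x, neg_zero]⟩
  have hdim : finrank F V = 2 * m := by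
    rw [finrank_eq_card_basis b, Fintype.card_sum, Fintype.card_fin, two_mul]
  obtain ⟨e, he⟩ := FormModel.exists_symp_coords hA hB hdim
  exact ⟨_, (stdRoot_isRoot m c).conj e he⟩

/-- A space with a root has a basis adapted to it. -/
theorem exists_basis (h2 : (2 : F) ≠ 0) {B : LinearMap.BilinForm F V} (hA : LinearMap.IsAlt B)
    (hB : ∀ u, (∀ v, B u v = 0) → u = 0) {X : V →ₗ[F] V} {c : F} (hc : c ≠ 0) (hX : IsRoot B X c)
    {d : ℕ} (hdim : finrank F V = 2 * d) :
    ∃ e : (Fin d ⊕ Fin d → F) ≃ₗ[F] V, (∀ u v, B (e u) (e v) = spB d F u v) ∧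
      ∀ v, X (e v) = e (stdRoot d c v) := by
  classical
  haveI := Fintype.ofFinite F
  have hq : ∀ u v : V, B u (X v) = B v (X u) := fun u v => by
    rw [alt_swap hA (X v) u, hX.skew, neg_neg]
  suffices key : ∀ k (W : Submodule F V), finrank F W = k → (∀ w ∈ W, X w ∈ W) →
      (∀ u ∈ W, (∀ v ∈ W, B u v = 0) → u = 0) →
      ∃ (m : ℕ) (e : Fin m → V), (∀ i, e i ∈ W) ∧ (∀ i j, B (e i) (e j) = 0) ∧
        (∀ i j, B (e i) (X (e j)) = if i = j then 1 else 0) ∧
        W ≤ Submodule.span F (Set.range e) ⊔ Submodule.span F (Set.range (X ∘ e)) by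
    obtain ⟨m, e, -, h1, h3, hspan⟩ := key _ ⊤ (finrank_top F V) (fun _ _ => Submodule.mem_top)
      fun u _ h => hB u fun v => h v Submodule.mem_top
    let g : Fin m ⊕ Fin m → V := Sum.elim (X ∘ e) e
    have h4 : ∀ i j, B (X (e i)) (X (e j)) = 0 := fun i j => by
      rw [hX.skew, hX.sq, map_smul, h1, smul_zero, neg_zero]
    have h5 : ∀ i j, B (X (e i)) (e j) = if i = j then -1 else 0 := fun i j => by
      rw [hX.skew, h3]
      split_ifs <;> simp
    have hli : LinearIndependent F g := by
      rw [Fintype.linearIndependent_iff]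
      intro a ha i
      rw [Fintype.sum_sum_type] at ha
      rcases i with i | i
      · have h := congrArg (B (e i)) ha
        simpa [g, map_sum, h1, h3] using h
      · have h := congrArg (B (X (e i))) ha
        simpa [g, map_sum, h4, h5] using h
    have htop : (⊤ : Submodule F V) ≤ Submodule.span F (Set.range g) :=
      hspan.trans (sup_le (Submodule.span_mono fun _ ⟨i, hi⟩ => ⟨.inr i, hi⟩)
        (Submodule.span_mono fun _ ⟨i, hi⟩ => ⟨.inl i, hi⟩))
    let b : Basis (Fin m ⊕ Fin m) F V := Basis.mk hli htop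
    have hbl : ∀ i, b (.inl i) = X (e i) := fun i => Basis.mk_apply hli htop _
    have hbr : ∀ i, b (.inr i) = e i := fun i => Basis.mk_apply hli htop _
    obtain rfl : m = d := by
      have := finrank_eq_card_basis b
      rw [Fintype.card_sum, Fintype.card_fin] at this
      omega
    have hval : ∀ k, b.equivFun.symm (Pi.single k 1) = b k := fun k => by simp
    refine ⟨b.equivFun.symm, fun u v => ?_, fun v => ?_⟩
    · have : B.compl₁₂ (b.equivFun.symm : (Fin m ⊕ Fin m → F) →ₗ[F] V)
          (b.equivFun.symm : (Fin m ⊕ Fin m → F) →ₗ[F] V) = spB m F := by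
        refine LinearMap.ext_basis (Pi.basisFun F _) (Pi.basisFun F _) fun i j => ?_
        simp only [Pi.basisFun_apply, LinearMap.compl₁₂_apply, LinearEquiv.coe_coe, hval]
        rcases i with i | i <;> rcases j with j | j
        · rw [hbl, hbl, h4, (spB_single i j).2.1]
        · rw [hbl, hbr, h5, alt_swap spB_alt (Pi.single (.inr j) 1 : _ → F) (Pi.single (.inl i) 1),
            (spB_single j i).1]
          by_cases h : i = j <;> simp [h, eq_comm]
        · rw [hbr, hbl, h3, (spB_single i j).1]
        · rw [hbr, hbr, h1, (spB_single i j).2.2]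
      exact LinearMap.congr_fun₂ this u v
    · have : X ∘ₗ (b.equivFun.symm : (Fin m ⊕ Fin m → F) →ₗ[F] V) =
          (b.equivFun.symm : (Fin m ⊕ Fin m → F) →ₗ[F] V) ∘ₗ stdRoot m c := by
        refine (Pi.basisFun F _).ext fun i => ?_
        simp only [Pi.basisFun_apply, LinearMap.comp_apply, LinearEquiv.coe_coe, hval]
        rcases i with i | i
        · rw [hbl, hX.sq, show stdRoot m c (Pi.single (.inl i) 1) = c • Pi.single (.inr i) 1 from
            funext fun k => by
              rcases k with k | k <;> simp [stdRoot, Pi.single_apply], map_smul, hval, hbr]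
        · rw [hbr, show stdRoot m c (Pi.single (.inr i) 1) = Pi.single (.inl i) 1 from
            funext fun k => by
              rcases k with k | k <;> simp [stdRoot, Pi.single_apply], hval, hbl]
      exact LinearMap.congr_fun this v
  intro k
  induction k using Nat.strong_induction_on with
  | _ k ih =>
    intro W hk hinv hW
    by_cases hbot : W = ⊥
    · exact ⟨0, Fin.elim0, fun i => i.elim0, fun i => i.elim0, fun i => i.elim0, by simp [hbot]⟩
    obtain ⟨v₀, hv₀, hQ⟩ : ∃ v ∈ W, B v (X v) ≠ 0 := by
      by_contra hc0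
      push Not at hc0
      obtain ⟨u, hu, hu0⟩ := Submodule.exists_mem_ne_zero_of_ne_bot hbot
      refine hu0 (hW u hu fun w hw => ?_)
      have hw' : c⁻¹ • X w ∈ W := W.smul_mem _ (hinv w hw)
      have h := hc0 _ (W.add_mem hu hw')
      simp only [map_add, LinearMap.add_apply, hc0 u hu, hc0 _ hw', zero_add, add_zero,
        hq (c⁻¹ • X w) u] at h
      rw [map_smul X, hX.sq, inv_smul_smul₀ hc] at h
      exact (mul_eq_zero.1 (show (2 : F) * B u w = 0 by linear_combination h)).resolve_left h2
    obtain ⟨a, b, hab⟩ : ∃ a b : F, a ^ 2 - c * b ^ 2 = (B v₀ (X v₀))⁻¹ := by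
      obtain ⟨a, b, h⟩ := FiniteField.exists_root_sum_quadratic (R := F)
        (f := Polynomial.C 1 * Polynomial.X ^ 2 + Polynomial.C 0 * Polynomial.X + Polynomial.C 0) (g := Polynomial.C (-c) * Polynomial.X ^ 2 + Polynomial.C 0 * Polynomial.X + Polynomial.C (-(B v₀ (X v₀))⁻¹))
        (Polynomial.degree_quadratic one_ne_zero) (Polynomial.degree_quadratic (neg_ne_zero.2 hc))
        (by
          have h1 : ringChar F ≠ 2 := fun h => h2 (by
            have := CharP.cast_eq_zero F (ringChar F)
            rw [h] at this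
            exact_mod_cast this)
          have := FiniteField.odd_card_of_char_ne_two h1
          omega)
      simp at h
      exact ⟨a, b, by linear_combination h⟩
    set v := a • v₀ + b • X v₀ with hv
    have hvW : v ∈ W := W.add_mem (W.smul_mem _ hv₀) (W.smul_mem _ (hinv _ hv₀))
    have hvX : B v (X v) = 1 := by
      have h1 : X v = a • X v₀ + (b * c) • v₀ := by
        rw [hv, map_add, map_smul, map_smul, hX.sq, smul_smul]
      rw [h1, hv]
      simp only [map_add, map_smul, LinearMap.add_apply, LinearMap.smul_apply, smul_eq_mul,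
        hA v₀, hA (X v₀), alt_swap hA v₀ (X v₀)]
      have h3 : (a ^ 2 - c * b ^ 2) * B v₀ (X v₀) = 1 := by rw [hab, inv_mul_cancel₀ hQ]
      linear_combination h3
    let W' := W ⊓ LinearMap.ker (B v) ⊓ LinearMap.ker (B (X v))
    have hmem : ∀ w, w ∈ W' ↔ w ∈ W ∧ B v w = 0 ∧ B (X v) w = 0 := fun w => by
      simp [W', and_assoc]
    have hlt : finrank F W' < finrank F W := by
      refine Submodule.finrank_lt_finrank_of_lt (lt_of_le_of_ne (inf_le_left.trans inf_le_left) fun h => ?_)
      have := ((hmem v).1 (h.symm ▸ hvW : v ∈ W')).2.2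
      rw [hX.skew, hvX] at this
      exact one_ne_zero (neg_eq_zero.1 this)
    have hinv' : ∀ w ∈ W', X w ∈ W' := fun w hw => by
      obtain ⟨h1, h2', h3⟩ := (hmem w).1 hw
      refine (hmem _).2 ⟨hinv w h1, ?_, ?_⟩
      · rw [← neg_eq_zero, ← hX.skew, h3]
      · rw [hX.skew, hX.sq, map_smul, h2', smul_zero, neg_zero]
    have hsplit : ∀ w ∈ W, w + B (X v) w • v - B v w • X v ∈ W' := fun w hw => by
      refine (hmem _).2 ⟨W.sub_mem (W.add_mem hw (W.smul_mem _ hvW)) (W.smul_mem _ (hinv v hvW)), ?_, ?_⟩
      · simp only [map_sub, map_add, map_smul, smul_eq_mul, hA v, hvX]; ring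
      · simp only [map_sub, map_add, map_smul, smul_eq_mul, hA (X v),
          show B (X v) v = -1 by rw [hX.skew, hvX]]
        ring
    have hW' : ∀ u ∈ W', (∀ w ∈ W', B u w = 0) → u = 0 := fun u hu h => by
      obtain ⟨h1, h2', h3⟩ := (hmem u).1 hu
      refine hW u h1 fun w hw => ?_
      have hu1 : B u v = 0 := by rw [alt_swap hA v u, h2', neg_zero]
      have hu2 : B u (X v) = 0 := by rw [alt_swap hA (X v) u, h3, neg_zero]
      simpa [map_sub, map_add, hu1, hu2] using h _ (hsplit w hw)
    obtain ⟨m, e, he, he1, he3, hspan⟩ := ih _ (hk ▸ hlt) W' rfl hinv' hW'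
    refine ⟨m + 1, Fin.cons v e, fun i => ?_, fun i j => ?_, fun i j => ?_, fun w hw => ?_⟩
    · refine Fin.cases ?_ (fun i => ?_) i
      · simpa using hvW
      · simpa using ((hmem _).1 (he i)).1
    · have h0 : ∀ i, B v (e i) = 0 := fun i => ((hmem _).1 (he i)).2.1
      refine Fin.cases ?_ (fun i => ?_) i <;> refine Fin.cases ?_ (fun j => ?_) j
      · simpa using hA v
      · simpa using h0 j
      · simp [alt_swap hA v (e i), h0 i]
      · simpa using he1 i j
    · refine Fin.cases ?_ (fun i => ?_) i <;> refine Fin.cases ?_ (fun j => ?_) j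
      · simpa using hvX
      · have := ((hmem _).1 (hinv' _ (he j))).2.1
        simpa [(Fin.succ_ne_zero j).symm] using this
      · have := ((hmem _).1 (he i)).2.2
        simp [Fin.succ_ne_zero, alt_swap hA (X v) (e i), this]
      · simpa using he3 i j
    · have h1 := hspan (hsplit w hw)
      have hle : Submodule.span F (Set.range e) ⊔ Submodule.span F (Set.range (X ∘ e)) ≤
          Submodule.span F (Set.range (Fin.cons v e : Fin (m + 1) → V)) ⊔
            Submodule.span F (Set.range (X ∘ (Fin.cons v e : Fin (m + 1) → V))) :=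
        sup_le_sup (Submodule.span_mono fun _ ⟨i, hi⟩ => ⟨i.succ, by simpa using hi⟩)
          (Submodule.span_mono fun _ ⟨i, hi⟩ => ⟨i.succ, by simpa using hi⟩)
      rw [show w = (w + B (X v) w • v - B v w • X v) + (-B (X v) w) • v + B v w • X v by module]
      refine Submodule.add_mem _ (Submodule.add_mem _ (hle h1) ?_) ?_
      · exact Submodule.mem_sup_left (Submodule.smul_mem _ _ (Submodule.subset_span ⟨0, by simp⟩))
      · exact Submodule.mem_sup_right (Submodule.smul_mem _ _ (Submodule.subset_span ⟨0, by simp⟩))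

end Cfsg.Agent.SkewRoot
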