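import Cfsg.Agent.Lib.TransvMax.NonsingModels
import Cfsg.Agent.Lib.Forms.Alt
import Cfsg.Prelude.Def_GeometricClasses

/-!
The quadratic forms polarising to the standard alternating form in characteristic two, the two
classes of them under the symplectic group, and those fixed by a given symplectic map.
-/

set_option autoImplicit false

namespace Cfsg.Agent.SpQuad

open Cfsg.Agent
open scoped Matrix MatrixGroups

variable {F : Type*} [Field F] {d : ℕ}

local notation "V₀" => (Fin d ⊕ Fin d → F)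

/-- The alternating form. -/
def fB (d : ℕ) (F : Type*) [Field F] : LinearMap.BilinForm F (Fin d ⊕ Fin d → F) :=
  Matrix.toBilin' (Matrix.J (Fin d) F)

theorem fB_apply (u v : V₀) : fB d F u v = Cfsg.sympForm d F u v :=
  Matrix.toBilin'_apply' _ u v

theorem two_mul_zero (h2 : (2 : F) = 0) (a : F) : a + a = 0 := by linear_combination a * h2

theorem sq_inj (h2 : (2 : F) = 0) {a b : F} (h : a * a = b * b) : a = b := by
  have h' : (a - b) * (a - b) = 0 := by linear_combination h + (b * b - a * b) * h2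
  exact sub_eq_zero.1 (mul_self_eq_zero.1 h')

theorem fB_formula (h2 : (2 : F) = 0) (u v : V₀) :
    fB d F u v = ∑ i : Fin d, (u (.inl i) * v (.inr i) + u (.inr i) * v (.inl i)) := by
  rw [fB_apply, Cfsg.sympForm, Matrix.J, dotProduct, Fintype.sum_sum_type, Finset.sum_add_distrib]
  simp only [Matrix.fromBlocks_mulVec, Sum.elim_inl, Sum.elim_inr, Matrix.zero_mulVec, zero_add,
    add_zero, Matrix.neg_mulVec, Matrix.one_mulVec, Pi.neg_apply, Function.comp_apply, mul_neg]
  congr 1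
  refine Finset.sum_congr rfl fun i _ => ?_
  linear_combination (-(u (.inl i) * v (.inr i))) * h2

theorem exists_vec (h2 : (2 : F) = 0) (l : V₀ →ₗ[F] F) : ∃ k : V₀, ∀ v, fB d F k v = l v := by
  refine ⟨Sum.elim (fun i => l (Pi.single (.inr i) 1)) (fun i => l (Pi.single (.inl i) 1)), fun v => ?_⟩
  rw [fB_formula h2]
  conv_rhs => rw [pi_eq_sum_univ v, map_sum]
  rw [Fintype.sum_sum_type, Finset.sum_add_distrib, add_comm]
  congr 1
  · refine Finset.sum_congr rfl fun i _ => ?_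
    rw [map_smul, smul_eq_mul, Sum.elim_inr, mul_comm]
    congr 2
    funext j
    simp [Pi.single_apply, eq_comm]
  · refine Finset.sum_congr rfl fun i _ => ?_
    rw [map_smul, smul_eq_mul, Sum.elim_inl, mul_comm]
    congr 2
    funext j
    simp [Pi.single_apply, eq_comm]

theorem fB_nondeg (h2 : (2 : F) = 0) {k : V₀} (h : ∀ v, fB d F k v = 0) : k = 0 := by
  funext i
  rcases i with i | i
  · have := h (Pi.single (.inr i) 1)
    rw [fB_formula h2] at this
    simpa [Pi.single_apply] using this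
  · have := h (Pi.single (.inl i) 1)
    rw [fB_formula h2] at this
    simpa [Pi.single_apply] using this

/-- Polarises to the alternating form. -/
def Pol (R : QuadraticForm F (Fin d ⊕ Fin d → F)) : Prop :=
  ∀ u v, QuadraticMap.polar ⇑R u v = Cfsg.sympForm d F u v

theorem Pol.add {R : QuadraticForm F V₀} (hR : Pol R) (u v : V₀) :
    R (u + v) = R u + R v + fB d F u v := by
  have := hR u v
  rw [QuadraticMap.polar] at this
  rw [fB_apply, ← this]
  ring

theorem Pol.symm {R : QuadraticForm F V₀} (hR : Pol R) (u v : V₀) : fB d F u v = fB d F v u := by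
  rw [fB_apply, fB_apply, ← hR, ← hR, QuadraticMap.polar_comm]

theorem Pol.self {R : QuadraticForm F V₀} (hR : Pol R) (h2 : (2 : F) = 0) (v : V₀) :
    fB d F v v = 0 := by
  have h := hR.add v v
  rw [show v + v = (2 : F) • v by rw [two_smul], h2, zero_smul, QuadraticMap.map_zero] at h
  linear_combination -h - (R v) * h2

/-- Adding the square of a functional. -/
def sh (R : QuadraticForm F (Fin d ⊕ Fin d → F)) (k : Fin d ⊕ Fin d → F) :
    QuadraticForm F (Fin d ⊕ Fin d → F) :=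
  R + QuadraticMap.linMulLin (fB d F k) (fB d F k)

theorem sh_apply (R : QuadraticForm F V₀) (k v : V₀) :
    sh R k v = R v + fB d F k v * fB d F k v := rfl

theorem Pol.sh {R : QuadraticForm F V₀} (hR : Pol R) (h2 : (2 : F) = 0) (k : V₀) :
    Pol (SpQuad.sh R k) := by
  intro u v
  rw [← hR u v, QuadraticMap.polar, QuadraticMap.polar, sh_apply, sh_apply, sh_apply, (fB d F k).map_add]
  linear_combination (fB d F k u * fB d F k v) * h2

theorem sh_sh (R : QuadraticForm F V₀) (h2 : (2 : F) = 0) (k k' : V₀) :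
    sh (sh R k) k' = sh R (k + k') := by
  ext v
  rw [sh_apply, sh_apply, sh_apply, map_add, LinearMap.add_apply]
  linear_combination (-(fB d F k v * fB d F k' v)) * h2

theorem sh_zero (R : QuadraticForm F V₀) : sh R 0 = R := by
  ext v; simp [sh_apply]

theorem sh_inj (R : QuadraticForm F V₀) (h2 : (2 : F) = 0) : Function.Injective (sh R) := by
  intro k k' h
  have h0 : ∀ v, fB d F (k - k') v = 0 := fun v => by
    have := congrArg (fun Q : QuadraticForm F V₀ => Q v) h
    simp only [sh_apply, add_right_inj] at this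
    rw [map_sub, LinearMap.sub_apply, sq_inj h2 this, sub_self]
  exact sub_eq_zero.1 (fB_nondeg h2 h0)

theorem exists_sqrt [Finite F] (h2 : (2 : F) = 0) (c : F) : ∃ t : F, t * t = c :=
  (Finite.injective_iff_surjective.1 fun _ _ h => sq_inj h2 h) c

theorem exists_sh [Finite F] (h2 : (2 : F) = 0) {R R' : QuadraticForm F V₀} (hR : Pol R)
    (hR' : Pol R') : ∃ k, R' = sh R k := by
  choose rt hrt using exists_sqrt (F := F) h2
  let l : V₀ →ₗ[F] F :=
    { toFun := fun v => rt (R' v + R v)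
      map_add' := fun u v => sq_inj h2 (by
        rw [hrt]
        linear_combination hR'.add u v + hR.add u v - hrt (R' u + R u) - hrt (R' v + R v) +
          (fB d F u v - rt (R' u + R u) * rt (R' v + R v)) * h2)
      map_smul' := fun c v => sq_inj h2 (by
        rw [RingHom.id_apply, smul_eq_mul, mul_mul_mul_comm, hrt, hrt, QuadraticMap.map_smul,
          QuadraticMap.map_smul, smul_eq_mul, smul_eq_mul, mul_add]) }
  obtain ⟨k, hk⟩ := exists_vec h2 l
  refine ⟨k, QuadraticMap.ext fun v => ?_⟩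
  rw [sh_apply, hk]
  show R' v = R v + rt (R' v + R v) * rt (R' v + R v)
  rw [hrt]
  linear_combination -(R v) * h2

/-- Equivalent under the symplectic group. -/
def Iso (R R' : QuadraticForm F (Fin d ⊕ Fin d → F)) : Prop :=
  ∃ g ∈ Cfsg.spGL d F, ∀ v,
    R' ((g : Matrix (Fin d ⊕ Fin d) (Fin d ⊕ Fin d) F) *ᵥ v) = R v

theorem mem_spGL {g : GL (Fin d ⊕ Fin d) F} : g ∈ Cfsg.spGL d F ↔ ∀ u v,
    fB d F ((g : Matrix (Fin d ⊕ Fin d) (Fin d ⊕ Fin d) F) *ᵥ u)
      ((g : Matrix (Fin d ⊕ Fin d) (Fin d ⊕ Fin d) F) *ᵥ v) = fB d F u v := by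
  simp only [fB_apply]
  exact Iff.rfl

theorem Iso.refl (R : QuadraticForm F V₀) : Iso R R := ⟨1, one_mem _, fun v => by simp⟩

theorem Iso.symm {R R' : QuadraticForm F V₀} (h : Iso R R') : Iso R' R := by
  obtain ⟨g, hg, hgR⟩ := h
  exact ⟨g⁻¹, inv_mem hg, fun v => by rw [← hgR, TransvMax.mulVec_inv_mulVec]⟩

theorem Iso.trans {R R' R'' : QuadraticForm F V₀} (h : Iso R R') (h' : Iso R' R'') : Iso R R'' := by
  obtain ⟨g, hg, hgR⟩ := h
  obtain ⟨g', hg', hgR'⟩ := h'
  exact ⟨g' * g, mul_mem hg' hg, fun v => by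
    rw [Units.val_mul, ← Matrix.mulVec_mulVec, hgR', hgR]⟩

/-- An isometry of forms with the given polar form is symplectic. -/
theorem mem_spGL_of_isometry {R R' : QuadraticForm F V₀} (hR : Pol R) (hR' : Pol R')
    {g : GL (Fin d ⊕ Fin d) F}
    (h : ∀ v, R' ((g : Matrix (Fin d ⊕ Fin d) (Fin d ⊕ Fin d) F) *ᵥ v) = R v) :
    g ∈ Cfsg.spGL d F := by
  intro u v
  show Cfsg.sympForm d F ((g : Matrix (Fin d ⊕ Fin d) (Fin d ⊕ Fin d) F) *ᵥ u)
    ((g : Matrix (Fin d ⊕ Fin d) (Fin d ⊕ Fin d) F) *ᵥ v) = Cfsg.sympForm d F u v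
  rw [← hR' _ _, ← hR u v, QuadraticMap.polar, QuadraticMap.polar, ← Matrix.mulVec_add, h, h, h]

theorem pullback {R : QuadraticForm F V₀} (hR : Pol R) {g : GL (Fin d ⊕ Fin d) F}
    (hg : g ∈ Cfsg.spGL d F) : ∃ R' : QuadraticForm F V₀, Pol R' ∧
      ∀ v, R' v = R ((g : Matrix (Fin d ⊕ Fin d) (Fin d ⊕ Fin d) F) *ᵥ v) := by
  refine ⟨R.comp (Matrix.toLin' (g : Matrix (Fin d ⊕ Fin d) (Fin d ⊕ Fin d) F)), fun u v => ?_,
    fun v => by simp⟩
  have := hR ((g : Matrix _ _ F) *ᵥ u) ((g : Matrix _ _ F) *ᵥ v)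
  rw [QuadraticMap.polar, ← Matrix.mulVec_add] at this
  rw [QuadraticMap.polar]
  simp only [QuadraticMap.comp_apply, Matrix.toLin'_apply]
  rw [this]
  exact hg u v

/-- The forms `R` and `sh R k` are equivalent when `R k = t² + t`. -/
theorem iso_sh {R : QuadraticForm F V₀} (hR : Pol R) (h2 : (2 : F) = 0) {k : V₀} {t : F}
    (ht : R k = t * t + t) : Iso (sh R k) R := by
  obtain ⟨s, hs0, hs⟩ : ∃ s : F, s ≠ 0 ∧ R k = s * s + s := by
    by_cases h : t = 0
    · exact ⟨1, one_ne_zero, by rw [ht, h]; linear_combination -h2⟩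
    · exact ⟨t, h, ht⟩
  have hA : LinearMap.IsAlt (fB d F) := hR.self h2
  let g := TransvMax.glOf (FormsLib.tau hA k s⁻¹)
  have hgv : ∀ v, R ((g : Matrix (Fin d ⊕ Fin d) (Fin d ⊕ Fin d) F) *ᵥ v) = sh R k v := fun v => by
    rw [TransvMax.glOf_mulVec, FormsLib.tau_apply, hR.add, QuadraticMap.map_smul, (fB d F v).map_smul, hs, sh_apply,
      smul_eq_mul, smul_eq_mul, hR.symm k v]
    field_simp
    linear_combination (fB d F v k ^ 2) * h2
  exact ⟨g, mem_spGL_of_isometry (hR.sh h2 k) hR hgv, hgv⟩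

section Count

variable [Fintype F] [DecidableEq F]

/-- The values `t² + t`. -/
def AS (F : Type*) [Field F] (c : F) : Prop := ∃ t : F, c = t * t + t

theorem card_AS (h2 : (2 : F) = 0) : 2 * Nat.card {c : F // AS F c} = Fintype.card F := by
  classical
  let P := (Finset.univ : Finset F).image fun t => t * t + t
  have hP : Nat.card {c : F // AS F c} = P.card := by
    rw [← Nat.card_eq_finsetCard P]
    exact Nat.card_congr (Equiv.subtypeEquivRight fun c => by simp [P, AS, eq_comm])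
  rw [hP, ← Finset.card_univ (α := F),
    Finset.card_eq_sum_card_image (fun t : F => t * t + t) Finset.univ,
    Finset.sum_const_nat (m := 2) (fun c hc => ?_), mul_comm]
  obtain ⟨t, -, rfl⟩ := Finset.mem_image.1 hc
  rw [Finset.card_eq_two]
  refine ⟨t, t + 1, fun e => one_ne_zero (α := F) (by linear_combination -e), ?_⟩
  ext s
  simp only [Finset.mem_filter, Finset.mem_univ, true_and, Finset.mem_insert, Finset.mem_singleton]
  constructor
  · intro h
    have : (s - t) * (s - (t + 1)) = 0 := by linear_combination h + (t * t - s * t - s + t) * h2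
    rcases mul_eq_zero.1 this with e | e
    · exact Or.inl (sub_eq_zero.1 e)
    · exact Or.inr (sub_eq_zero.1 e)
  · rintro (rfl | rfl)
    · rfl
    · linear_combination (t + 1) * h2

/-- The number of vectors with value in the image of `t ↦ t² + t`. -/
theorem card_value (h2 : (2 : F) = 0) (R : QuadraticForm F V₀) (ε : ℤ)
    (hZ : (Fintype.card F : ℤ) * Nat.card {v // R v = 0} = (Fintype.card F : ℤ) ^ (2 * d) +
      ε * (Fintype.card F : ℤ) ^ d * ((Fintype.card F : ℤ) - 1)) :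
    2 * (Nat.card {v // AS F (R v)} : ℤ) =
      (Fintype.card F : ℤ) ^ (2 * d) + ε * (Fintype.card F : ℤ) ^ d := by
  classical
  set n : F → ℕ := fun c => (Finset.univ.filter fun v => R v = c).card
  have hc : ∀ c, c ≠ 0 → n c = n 1 := by
    intro c hc
    obtain ⟨t, ht⟩ := exists_sqrt h2 c
    have ht0 : t ≠ 0 := fun e => hc (by rw [← ht, e, zero_mul])
    refine Finset.card_bij' (fun v _ => t⁻¹ • v) (fun v _ => t • v) ?_ ?_ ?_ ?_
    · intro v hv
      simp only [Finset.mem_filter, Finset.mem_univ, true_and] at hv ⊢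
      rw [QuadraticMap.map_smul, hv, smul_eq_mul, ← ht]
      field_simp
    · intro v hv
      simp only [Finset.mem_filter, Finset.mem_univ, true_and] at hv ⊢
      rw [QuadraticMap.map_smul, hv, smul_eq_mul, mul_one, ht]
    · intro v _
      rw [smul_smul, mul_inv_cancel₀ ht0, one_smul]
    · intro v _
      rw [smul_smul, inv_mul_cancel₀ ht0, one_smul]
  have hsum : ∀ P : Finset F, (0 : F) ∈ P →
      (Finset.univ.filter fun v => R v ∈ P).card + n 1 = n 0 + P.card * n 1 := by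
    intro P hP
    have hfib : (Finset.univ.filter fun v => R v ∈ P).card = ∑ c ∈ P, n c := by
      refine (Finset.card_eq_sum_card_fiberwise (f := fun v => R v) (t := P)
        (fun v hv => (Finset.mem_filter.1 hv).2)).trans (Finset.sum_congr rfl fun c hc => ?_)
      simp only [n]
      congr 1
      ext v
      simp only [Finset.mem_filter, Finset.mem_univ, true_and, and_iff_right_iff_imp]
      rintro rfl; exact hc
    rw [hfib]
    rw [← Finset.add_sum_erase P n hP, Finset.sum_congr rfl (g := fun _ => n 1)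
      (fun c hc' => hc c (Finset.ne_of_mem_erase hc')), Finset.sum_const, smul_eq_mul,
      Finset.card_erase_of_mem hP]
    obtain ⟨k, hk⟩ : ∃ k, P.card = k + 1 :=
      ⟨P.card - 1, by have := Finset.card_pos.2 ⟨0, hP⟩; omega⟩
    rw [hk, Nat.add_sub_cancel]
    ring
  have htot := hsum Finset.univ (Finset.mem_univ _)
  simp only [Finset.mem_univ, Finset.filter_true, Finset.card_univ, Fintype.card_pi, Finset.prod_const,
    Fintype.card_sum, Fintype.card_fin] at htot
  have hAS := hsum ((Finset.univ : Finset F).filter fun c => AS F c)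
    (by simp only [Finset.mem_filter, Finset.mem_univ, true_and]; exact ⟨0, by simp⟩)
  simp only [Finset.mem_filter, Finset.mem_univ, true_and] at hAS
  rw [← Fintype.card_subtype, ← Nat.card_eq_fintype_card, ← Fintype.card_subtype,
    ← Nat.card_eq_fintype_card] at hAS
  have hn0 : Nat.card {v // R v = 0} = n 0 := by rw [Nat.card_eq_fintype_card, Fintype.card_subtype]
  rw [hn0] at hZ
  have hP := congrArg (Nat.cast : ℕ → ℤ) (card_AS (F := F) h2)
  have h1 := congrArg (Nat.cast : ℕ → ℤ) htot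
  have h3 := congrArg (Nat.cast : ℕ → ℤ) hAS
  push_cast at hP h1 h3
  rw [← two_mul] at h1
  have hq : (1 : ℤ) < Fintype.card F := by exact_mod_cast Fintype.one_lt_card
  refine mul_left_cancel₀ (show (Fintype.card F : ℤ) * ((Fintype.card F : ℤ) - 1) ≠ 0 by
    exact mul_ne_zero (by omega) (by omega)) ?_
  linear_combination (Fintype.card F : ℤ) * hZ
    + 2 * (Fintype.card F : ℤ) * ((Fintype.card F : ℤ) - 1) * h3
    + (Fintype.card F : ℤ) * ((Fintype.card F : ℤ) - 1) * (n 1 : ℤ) * hP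
    - (Fintype.card F : ℤ) * ((Fintype.card F : ℤ) - 2) * h1

end Count

section Classes

open Cfsg.Agent.OrthOrder (qPlus qPlus_apply)

theorem pol_qPlus (h2 : (2 : F) = 0) : Pol (qPlus d F) := by
  intro u v
  rw [← fB_apply, fB_formula h2, QuadraticMap.polar, qPlus_apply, qPlus_apply, qPlus_apply,
    Cfsg.quadFormPlus, Cfsg.quadFormPlus, Cfsg.quadFormPlus, ← Finset.sum_sub_distrib,
    ← Finset.sum_sub_distrib]
  refine Finset.sum_congr rfl fun i _ => ?_
  simp only [Pi.add_apply]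
  ring

theorem plus_transport {R R' : QuadraticForm F V₀} (h : Iso R R')
    (hp : Cfsg.Geo.IsPlusTypeOn ⇑R ⊤) : Cfsg.Geo.IsPlusTypeOn ⇑R' ⊤ := by
  obtain ⟨g, -, hgR⟩ := h
  obtain ⟨U, -, hU, hdim⟩ := hp
  refine ⟨U.map ((TransvMax.linOf g : V₀ ≃ₗ[F] V₀) : V₀ →ₗ[F] V₀), le_top, ?_, ?_⟩
  · rintro _ ⟨u, hu, rfl⟩
    show R' (TransvMax.linOf g u) = 0
    rw [TransvMax.linOf_apply, hgR]
    exact hU u hu
  · rw [LinearEquiv.finrank_map_eq]
    exact hdim

theorem qPlus_isPlus : Cfsg.Geo.IsPlusTypeOn ⇑(qPlus d F) ⊤ := by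
  let i : (Fin d → F) →ₗ[F] V₀ :=
    { toFun := fun u => Sum.elim u 0
      map_add' := fun u v => by funext j; rcases j with j | j <;> simp
      map_smul' := fun c u => by funext j; rcases j with j | j <;> simp }
  refine ⟨LinearMap.range i, le_top, ?_, ?_⟩
  · rintro _ ⟨u, rfl⟩
    simp [qPlus_apply, Cfsg.quadFormPlus, i]
  · rw [LinearMap.finrank_range_of_inj (fun u v h => funext fun j => congrFun h (.inl j)),
      finrank_top, Module.finrank_fintype_fun_eq_card, Module.finrank_fintype_fun_eq_card,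
      Fintype.card_sum, Fintype.card_fin, two_mul]

/-- Reordering of coordinates sending the last pair to the binary part. -/
def lastPair (m : ℕ) (F : Type*) [Field F] :
    (Fin (m + 1) ⊕ Fin (m + 1) → F) ≃ₗ[F] ((Fin m ⊕ Fin m) ⊕ Fin 2 → F) where
  toFun v := Sum.elim (Sum.elim (fun i => v (.inl i.castSucc)) (fun i => v (.inr i.castSucc)))
    ![v (.inr (Fin.last m)), v (.inl (Fin.last m))]
  invFun w := Sum.elim (Fin.lastCases (motive := fun _ => F) (w (.inr 1)) (fun i => w (.inl (.inl i))))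
    (Fin.lastCases (motive := fun _ => F) (w (.inr 0)) (fun i => w (.inl (.inr i))))
  map_add' u v := by
    funext j
    rcases j with (j | j) | j
    · rfl
    · rfl
    · fin_cases j <;> rfl
  map_smul' c v := by
    funext j
    rcases j with (j | j) | j
    · rfl
    · rfl
    · fin_cases j <;> rfl
  left_inv v := by
    funext j
    rcases j with j | j <;> refine Fin.lastCases ?_ (fun i => ?_) j <;> simp
  right_inv w := by
    funext j
    rcases j with (j | j) | j
    · simp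
    · simp
    · fin_cases j <;> simp

variable [Fintype F]

theorem exists_not_AS (h2 : (2 : F) = 0) : ∃ s : F, ¬ AS F s := by
  classical
  by_contra hc
  push Not at hc
  have h := card_AS (F := F) h2
  rw [Nat.card_congr (Equiv.subtypeUnivEquiv hc), Nat.card_eq_fintype_card] at h
  have := Fintype.card_pos (α := F)
  omega

/-- A form of the other class. -/
theorem exists_minusModel (h2 : (2 : F) = 0) (m : ℕ) : ∃ (a b : F) (k : Fin (m + 1) ⊕ Fin (m + 1) → F),
    (∀ z₁ z₂ : F, z₁ ^ 2 + a * z₁ * z₂ + b * z₂ ^ 2 = 0 → z₁ = 0 ∧ z₂ = 0) ∧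
    ∀ v, Cfsg.quadFormMinus m F a b (lastPair m F v) = sh (qPlus (m + 1) F) k v := by
  obtain ⟨s, hs⟩ := exists_not_AS h2
  refine ⟨1, s * s, Sum.elim (Pi.single (Fin.last m) 1) (Pi.single (Fin.last m) s),
    fun z₁ z₂ h => ?_, fun v => ?_⟩
  · by_cases hz : z₂ = 0
    · subst hz
      simpa using h
    · refine absurd ⟨s + z₁ / z₂, ?_⟩ hs
      have e : (z₁ / z₂) * (z₁ / z₂) + z₁ / z₂ + s * s = 0 := by
        field_simp
        linear_combination h
      linear_combination -e - (s * (z₁ / z₂)) * h2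
  · rw [sh_apply, qPlus_apply, fB_formula h2, Cfsg.quadFormPlus, Fin.sum_univ_castSucc]
    simp only [Sum.elim_inl, Sum.elim_inr, Fin.sum_univ_castSucc, Pi.single_eq_same,
      Pi.single_eq_of_ne (Fin.castSucc_lt_last _).ne, zero_mul, add_zero, Finset.sum_const_zero,
      zero_add, one_mul]
    show Cfsg.quadFormMinus m F 1 (s * s) _ = _
    simp only [Cfsg.quadFormMinus, Cfsg.quadFormPlus, lastPair, LinearEquiv.coe_mk, LinearMap.coe_mk,
      AddHom.coe_mk, Function.comp_apply, Sum.elim_inl, Sum.elim_inr, Matrix.cons_val_zero,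
      Matrix.cons_val_one]
    linear_combination (-(v (.inl (Fin.last m)) * v (.inr (Fin.last m)) * s)) * h2

theorem minus_not_plus {m : ℕ} {a b : F}
    (hab : ∀ z₁ z₂ : F, z₁ ^ 2 + a * z₁ * z₂ + b * z₂ ^ 2 = 0 → z₁ = 0 ∧ z₂ = 0)
    {R : QuadraticForm F (Fin (m + 1) ⊕ Fin (m + 1) → F)}
    (hR : ∀ v, Cfsg.quadFormMinus m F a b (lastPair m F v) = R v) :
    ¬ Cfsg.Geo.IsPlusTypeOn ⇑R ⊤ := by
  rintro ⟨U, -, hU, hdim⟩
  have h := Spinor.minus_ts_finrank_le a b hab
    (U.map ((lastPair m F : _ ≃ₗ[F] _) : _ →ₗ[F] _)) (by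
      rintro _ ⟨u, hu, rfl⟩
      exact (hR u).trans (hU u hu))
  rw [LinearEquiv.finrank_map_eq] at h
  rw [finrank_top, Module.finrank_fintype_fun_eq_card, Fintype.card_sum, Fintype.card_fin] at hdim
  omega

theorem iso_of_AS {R : QuadraticForm F V₀} (hR : Pol R) (h2 : (2 : F) = 0) {k : V₀}
    (h : AS F (R k)) : Iso R (sh R k) :=
  (iso_sh hR h2 h.choose_spec).symm

/-- The two classes. -/
theorem classes (h2 : (2 : F) = 0) (m : ℕ) :
    ∃ (a b : F) (k₁ : Fin (m + 1) ⊕ Fin (m + 1) → F),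
      (∀ z₁ z₂ : F, z₁ ^ 2 + a * z₁ * z₂ + b * z₂ ^ 2 = 0 → z₁ = 0 ∧ z₂ = 0) ∧
      (∀ v, Cfsg.quadFormMinus m F a b (lastPair m F v) = sh (qPlus (m + 1) F) k₁ v) ∧
      ¬ Cfsg.Geo.IsPlusTypeOn ⇑(sh (qPlus (m + 1) F) k₁) ⊤ ∧
      2 * (Nat.card {k // Iso (qPlus (m + 1) F) (sh (qPlus (m + 1) F) k)} : ℤ) =
        (Fintype.card F : ℤ) ^ (2 * (m + 1)) + (Fintype.card F : ℤ) ^ (m + 1) ∧
      2 * (Nat.card {k // Iso (sh (qPlus (m + 1) F) k₁) (sh (qPlus (m + 1) F) k)} : ℤ) =
        (Fintype.card F : ℤ) ^ (2 * (m + 1)) - (Fintype.card F : ℤ) ^ (m + 1) ∧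
      (∀ k, Iso (qPlus (m + 1) F) (sh (qPlus (m + 1) F) k) ↔ AS F (qPlus (m + 1) F k)) ∧
      (∀ k, Iso (sh (qPlus (m + 1) F) k₁) (sh (qPlus (m + 1) F) k) ↔
        AS F (sh (qPlus (m + 1) F) k₁ (k + k₁))) ∧
      (∀ k, Iso (qPlus (m + 1) F) (sh (qPlus (m + 1) F) k) ∨
        Iso (sh (qPlus (m + 1) F) k₁) (sh (qPlus (m + 1) F) k)) := by
  classical
  obtain ⟨a, b, k₁, hab, hk₁⟩ := exists_minusModel h2 m
  set q0 := qPlus (m + 1) F
  set q1 := sh q0 k₁
  have hp0 : Pol q0 := pol_qPlus h2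
  have hp1 : Pol q1 := hp0.sh h2 k₁
  have hnp := minus_not_plus hab hk₁
  have hkk : k₁ + k₁ = 0 := by funext i; exact two_mul_zero h2 _
  have s0 : ∀ k, AS F (q0 k) → Iso q0 (sh q0 k) := fun k => iso_of_AS hp0 h2
  have s1 : ∀ k, AS F (q1 (k + k₁)) → Iso q1 (sh q0 k) := fun k h => by
    have := iso_of_AS hp1 h2 h
    rwa [sh_sh q0 h2, add_left_comm, hkk, add_zero] at this
  have hdis : ∀ k, Iso q0 (sh q0 k) → ¬ Iso q1 (sh q0 k) := fun k h h' =>
    hnp (plus_transport (h.trans h'.symm) qPlus_isPlus)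
  have c0 := card_value h2 q0 1 (by
    have := FormCount.card_plus (F := F) (m + 1) 0
    rw [if_pos rfl, mul_one] at this
    simp only [q0, qPlus_apply]
    rw [this]
    ring)
  have c1 := card_value h2 q1 (-1) (by
    have := FormCount.card_minus m a b hab
    rw [← Nat.card_congr ((lastPair m F).toEquiv.subtypeEquiv (p := fun v => q1 v = 0)
      (fun v => by rw [← hk₁]; rfl))] at this
    rw [this]
    ring)
  let e : {v // AS F (q1 v)} ≃ {k // AS F (q1 (k + k₁))} :=
    { toFun := fun v => ⟨v.1 + k₁, by rw [add_assoc, hkk, add_zero]; exact v.2⟩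
      invFun := fun k => ⟨k.1 + k₁, k.2⟩
      left_inv := fun v => Subtype.ext (by show v.1 + k₁ + k₁ = v.1; rw [add_assoc, hkk, add_zero])
      right_inv := fun k => Subtype.ext (by show k.1 + k₁ + k₁ = k.1; rw [add_assoc, hkk, add_zero]) }
  rw [Nat.card_congr e] at c1
  simp only [Nat.card_eq_fintype_card, Fintype.card_subtype] at c0 c1
  set X0 := Finset.univ.filter fun k => AS F (q0 k)
  set X1 := Finset.univ.filter fun k => AS F (q1 (k + k₁))
  set Y0 := Finset.univ.filter fun k => Iso q0 (sh q0 k)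
  set Y1 := Finset.univ.filter fun k => Iso q1 (sh q0 k)
  have h0 : X0 ⊆ Y0 := fun k hk => Finset.mem_filter.2 ⟨Finset.mem_univ k, s0 k (Finset.mem_filter.1 hk).2⟩
  have h1 : X1 ⊆ Y1 := fun k hk => Finset.mem_filter.2 ⟨Finset.mem_univ k, s1 k (Finset.mem_filter.1 hk).2⟩
  have hd : Disjoint Y0 Y1 := Finset.disjoint_left.2 fun k hk hk' =>
    hdis k (Finset.mem_filter.1 hk).2 (Finset.mem_filter.1 hk').2
  have hX : X0.card + X1.card = Fintype.card (Fin (m + 1) ⊕ Fin (m + 1) → F) := by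
    have hV : (Fintype.card (Fin (m + 1) ⊕ Fin (m + 1) → F) : ℤ) =
        (Fintype.card F : ℤ) ^ (2 * (m + 1)) := by
      rw [Fintype.card_pi, Finset.prod_const, Finset.card_univ, Fintype.card_sum, Fintype.card_fin]
      push_cast
      rw [two_mul]
    omega
  have hU : Y0 ∪ Y1 = Finset.univ := Finset.eq_univ_of_card _ (le_antisymm (Finset.card_le_univ _) (by
    rw [← hX, Finset.card_union_of_disjoint hd]
    exact Nat.add_le_add (Finset.card_le_card h0) (Finset.card_le_card h1)))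
  have hY := Finset.card_union_of_disjoint hd
  rw [hU, Finset.card_univ, ← hX] at hY
  have hle0 := Finset.card_le_card h0
  have hle1 := Finset.card_le_card h1
  have e0 : X0 = Y0 := Finset.eq_of_subset_of_card_le h0 (by omega)
  have e1 : X1 = Y1 := Finset.eq_of_subset_of_card_le h1 (by omega)
  refine ⟨a, b, k₁, hab, hk₁, hnp, ?_, ?_, fun k => ?_, fun k => ?_, fun k => ?_⟩
  · rw [Nat.card_eq_fintype_card, Fintype.card_subtype]
    show 2 * (Y0.card : ℤ) = _
    rw [← e0]; linear_combination c0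
  · rw [Nat.card_eq_fintype_card, Fintype.card_subtype]
    show 2 * (Y1.card : ℤ) = _
    rw [← e1]; linear_combination c1
  · have := congrArg (k ∈ ·) e0
    simpa [X0, Y0] using this.symm
  · have := congrArg (k ∈ ·) e1
    simpa [X1, Y1] using this.symm
  · have := Finset.mem_union.1 (hU.symm ▸ Finset.mem_univ k)
    simpa [Y0, Y1] using this

end Classes

section Criterion

open Cfsg.Agent.OrthOrder (qPlus qPlus_apply)

variable [Fintype F]

theorem mem_quadSim_iff (h2 : (2 : F) = 0) (hd : 1 ≤ d) {Q : QuadraticForm F V₀} (hQ : Pol Q)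
    {g : GL (Fin d ⊕ Fin d) F} (hg : g ∈ Cfsg.spGL d F) :
    g ∈ Cfsg.Geo.quadSimilarityGroup ⇑Q ↔
      ∀ v, Q ((g : Matrix (Fin d ⊕ Fin d) (Fin d ⊕ Fin d) F) *ᵥ v) = Q v := by
  constructor
  · rintro ⟨c, hc⟩ v
    let u : V₀ := Pi.single (.inl ⟨0, hd⟩) 1
    let w : V₀ := Pi.single (.inr ⟨0, hd⟩) 1
    have h1 : fB d F u w = 1 := by
      rw [fB_formula h2, Finset.sum_eq_single (⟨0, hd⟩ : Fin d) (fun i _ hi => by simp [u, w, hi])
        (by simp)]
      simp [u, w]
    have e := mem_spGL.1 hg u w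
    have a1 := hQ.add ((g : Matrix (Fin d ⊕ Fin d) (Fin d ⊕ Fin d) F) *ᵥ u)
      ((g : Matrix (Fin d ⊕ Fin d) (Fin d ⊕ Fin d) F) *ᵥ w)
    rw [← Matrix.mulVec_add, hc, hc, hc, hQ.add u w, e, h1] at a1
    rw [hc, show (c : F) = 1 by linear_combination a1, one_mul]
  · intro h
    exact ⟨1, fun v => by rw [Units.val_one, one_mul]; exact h v⟩

/-- Conjugate into the isometry group. -/
theorem conj_iff (h2 : (2 : F) = 0) (hd : 1 ≤ d) {Q : QuadraticForm F V₀} (hQ : Pol Q)
    {x : GL (Fin d ⊕ Fin d) F} (hx : x ∈ Cfsg.spGL d F) :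
    (∃ g ∈ Cfsg.spGL d F, g⁻¹ * x * g ∈ Cfsg.Geo.quadSimilarityGroup ⇑Q) ↔
      ∃ k, Iso Q (sh (qPlus d F) k) ∧
        ∀ v, sh (qPlus d F) k ((x : Matrix (Fin d ⊕ Fin d) (Fin d ⊕ Fin d) F) *ᵥ v) =
          sh (qPlus d F) k v := by
  have hp0 : Pol (qPlus d F) := pol_qPlus h2
  constructor
  · rintro ⟨g, hg, hgx⟩
    rw [mem_quadSim_iff h2 hd hQ (mul_mem (mul_mem (inv_mem hg) hx) hg)] at hgx
    obtain ⟨R, hR, hRv⟩ := pullback hQ (inv_mem hg)
    obtain ⟨k, rfl⟩ := exists_sh h2 hp0 hR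
    refine ⟨k, ⟨g, hg, fun v => by rw [hRv, TransvMax.inv_mulVec_mulVec]⟩, fun v => ?_⟩
    rw [hRv, hRv, ← hgx ((g⁻¹ : GL (Fin d ⊕ Fin d) F).val *ᵥ v), Units.val_mul, Units.val_mul,
      ← Matrix.mulVec_mulVec, ← Matrix.mulVec_mulVec, TransvMax.mulVec_inv_mulVec]
  · rintro ⟨k, ⟨g, hg, hgQ⟩, hk⟩
    refine ⟨g, hg, (mem_quadSim_iff h2 hd hQ (mul_mem (mul_mem (inv_mem hg) hx) hg)).2 fun v => ?_⟩
    rw [← hgQ, Units.val_mul, Units.val_mul, ← Matrix.mulVec_mulVec, ← Matrix.mulVec_mulVec,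
      TransvMax.mulVec_inv_mulVec, hk, hgQ]

theorem relIndex_eq (h2 : (2 : F) = 0) (hd : 1 ≤ d) {Q : QuadraticForm F V₀} (hQ : Pol Q) :
    (Cfsg.Geo.quadSimilarityGroup ⇑Q).relIndex (Cfsg.spGL d F) =
      Nat.card {k // Iso Q (sh (qPlus d F) k)} := by
  have hp0 : Pol (qPlus d F) := pol_qPlus h2
  have key : ∀ g : Cfsg.spGL d F, ∃ k, ∀ v, sh (qPlus d F) k v =
      Q (((g.1⁻¹ : GL (Fin d ⊕ Fin d) F) : Matrix (Fin d ⊕ Fin d) (Fin d ⊕ Fin d) F) *ᵥ v) := by
    intro g
    obtain ⟨R, hR, hRv⟩ := pullback hQ (inv_mem g.2)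
    obtain ⟨k, rfl⟩ := exists_sh h2 hp0 hR
    exact ⟨k, hRv⟩
  choose φ hφ using key
  have heq : ∀ g g' : Cfsg.spGL d F, φ g = φ g' ↔
      g⁻¹ * g' ∈ (Cfsg.Geo.quadSimilarityGroup ⇑Q).subgroupOf (Cfsg.spGL d F) := by
    intro g g'
    rw [Subgroup.mem_subgroupOf, mem_quadSim_iff h2 hd hQ (g⁻¹ * g').2, Subgroup.coe_mul,
      Subgroup.coe_inv, Units.val_mul]
    constructor
    · intro h v
      rw [← Matrix.mulVec_mulVec, ← hφ g, h, hφ g', TransvMax.inv_mulVec_mulVec]
    · intro h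
      refine sh_inj (qPlus d F) h2 (QuadraticMap.ext fun v => ?_)
      rw [hφ, hφ, ← h ((g'.1⁻¹ : GL (Fin d ⊕ Fin d) F).val *ᵥ v), ← Matrix.mulVec_mulVec,
        TransvMax.mulVec_inv_mulVec]
  let ψ : (Cfsg.spGL d F) ⧸ (Cfsg.Geo.quadSimilarityGroup ⇑Q).subgroupOf (Cfsg.spGL d F) →
      {k // Iso Q (sh (qPlus d F) k)} :=
    Quotient.lift (fun g => (⟨φ g, g.1, g.2, fun v => by rw [hφ, TransvMax.inv_mulVec_mulVec]⟩ :
      {k // Iso Q (sh (qPlus d F) k)})) (fun g g' h => Subtype.ext ((heq g g').2 (QuotientGroup.leftRel_apply.1 h)))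
  refine Nat.card_congr (Equiv.ofBijective ψ ⟨?_, ?_⟩)
  · intro A B h
    induction A using QuotientGroup.induction_on with | _ g =>
    induction B using QuotientGroup.induction_on with | _ g' =>
    exact QuotientGroup.eq.2 ((heq g g').1 (congrArg Subtype.val h))
  · rintro ⟨k, g, hg, hgQ⟩
    refine ⟨QuotientGroup.mk ⟨g, hg⟩, Subtype.ext (sh_inj (qPlus d F) h2 (QuadraticMap.ext fun v => ?_))⟩
    show sh (qPlus d F) (φ ⟨g, hg⟩) v = _
    rw [hφ, ← hgQ, TransvMax.mulVec_inv_mulVec]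

theorem smul_eq_one (h2 : (2 : F) = 0) (hd : 1 ≤ d) {x : GL (Fin d ⊕ Fin d) F}
    (hx : x ∈ Cfsg.spGL d F) {z : F}
    (hz : (x : Matrix (Fin d ⊕ Fin d) (Fin d ⊕ Fin d) F) = z • 1) : x = 1 := by
  let u : V₀ := Pi.single (.inl ⟨0, hd⟩) 1
  let w : V₀ := Pi.single (.inr ⟨0, hd⟩) 1
  have h1 : fB d F u w = 1 := by
    rw [fB_formula h2, Finset.sum_eq_single (⟨0, hd⟩ : Fin d) (fun i _ hi => by simp [u, w, hi])
      (by simp)]
    simp [u, w]
  have e := mem_spGL.1 hx u w
  rw [hz, Matrix.smul_mulVec, Matrix.smul_mulVec, Matrix.one_mulVec, Matrix.one_mulVec,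
    LinearMap.map_smul₂, LinearMap.map_smul, h1, smul_eq_mul, smul_eq_mul] at e
  have : z = 1 := sq_inj h2 (by linear_combination e)
  exact Units.ext (by rw [hz, this, one_smul, Units.val_one])

/-- Two invariant forms differ by a fixed vector. -/
theorem fixed_of_invariant (h2 : (2 : F) = 0) {R : QuadraticForm F V₀} (hR : Pol R) {k : V₀}
    {x : GL (Fin d ⊕ Fin d) F} (hx : x ∈ Cfsg.spGL d F)
    (h : ∀ v, R ((x : Matrix (Fin d ⊕ Fin d) (Fin d ⊕ Fin d) F) *ᵥ v) = R v) :
    (∀ v, sh R k ((x : Matrix (Fin d ⊕ Fin d) (Fin d ⊕ Fin d) F) *ᵥ v) = sh R k v) ↔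
      (x : Matrix (Fin d ⊕ Fin d) (Fin d ⊕ Fin d) F) *ᵥ k = k := by
  constructor
  · intro hk
    refine (sub_eq_zero.1 (fB_nondeg h2 fun v => ?_))
    rw [map_sub, LinearMap.sub_apply]
    obtain ⟨v, rfl⟩ : ∃ w, (x : Matrix (Fin d ⊕ Fin d) (Fin d ⊕ Fin d) F) *ᵥ w = v :=
      ⟨_, TransvMax.mulVec_inv_mulVec x v⟩
    have := hk v
    rw [sh_apply, sh_apply, h, add_right_inj] at this
    rw [mem_spGL.1 hx, sq_inj h2 this, sub_self]
  · intro hk v
    rw [sh_apply, sh_apply, h]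
    conv_lhs => rw [← hk, mem_spGL.1 hx]

/-- An involution leaves a form invariant. -/
theorem exists_invariant (h2 : (2 : F) = 0) {x : GL (Fin d ⊕ Fin d) F} (hx : x ∈ Cfsg.spGL d F)
    (hx2 : x * x = 1) : ∃ R : QuadraticForm F V₀, Pol R ∧
      ∀ v, R ((x : Matrix (Fin d ⊕ Fin d) (Fin d ⊕ Fin d) F) *ᵥ v) = R v := by
  set X := Matrix.toLin' (x : Matrix (Fin d ⊕ Fin d) (Fin d ⊕ Fin d) F)
  set N : V₀ →ₗ[F] V₀ := X + LinearMap.id with hN
  have hp0 : Pol (qPlus d F) := pol_qPlus h2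
  obtain ⟨R', hR', hR'v⟩ := pullback hp0 hx
  obtain ⟨k, rfl⟩ := exists_sh h2 hp0 hR'
  -- the functional `fB k` kills the fixed vectors
  have hker : ∀ v, N v = 0 → fB d F k v = 0 := by
    intro v hv
    have hxv : (x : Matrix (Fin d ⊕ Fin d) (Fin d ⊕ Fin d) F) *ᵥ v = v := by
      funext i
      have := congrFun hv i
      simp [hN, X] at this
      linear_combination this - (v i) * h2
    have := hR'v v
    rw [hxv, sh_apply, add_eq_left] at this
    exact mul_self_eq_zero.1 this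
  let e := N.quotKerEquivRange
  let l : LinearMap.range N →ₗ[F] F :=
    ((LinearMap.ker N).liftQ (fB d F k) (fun v hv => hker v hv)).comp (e.symm : _ →ₗ[F] _)
  obtain ⟨ψ, hψ⟩ := LinearMap.exists_extend l
  obtain ⟨w, hw⟩ := exists_vec h2 ψ
  have hl : ∀ v, ψ (N v) = fB d F k v := by
    intro v
    rw [show ψ (N v) = l ⟨N v, v, rfl⟩ from (LinearMap.congr_fun hψ ⟨N v, v, rfl⟩)]
    show (LinearMap.ker N).liftQ (fB d F k) (fun v hv => hker v hv) (e.symm ⟨N v, v, rfl⟩) = _
    rw [show e.symm ⟨N v, v, rfl⟩ = Submodule.Quotient.mk v by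
      rw [LinearEquiv.symm_apply_eq]; exact Subtype.ext rfl]
    rfl
  refine ⟨sh (qPlus d F) w, hp0.sh h2 w, fun v => ?_⟩
  have h1 := hl v
  rw [← hw] at h1
  simp only [hN, LinearMap.add_apply, LinearMap.id_apply, map_add, X, Matrix.toLin'_apply] at h1
  have h3 := hR'v v
  rw [sh_apply] at h3
  rw [sh_apply, sh_apply, ← h3, ← h1]
  linear_combination (fB d F w v * fB d F w ((x : Matrix (Fin d ⊕ Fin d) (Fin d ⊕ Fin d) F) *ᵥ v) +
    fB d F w ((x : Matrix (Fin d ⊕ Fin d) (Fin d ⊕ Fin d) F) *ᵥ v) *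
      fB d F w ((x : Matrix (Fin d ⊕ Fin d) (Fin d ⊕ Fin d) F) *ᵥ v)) * h2

/-- A form invariant under an involution and vanishing on its fixed space has even rank half. -/
theorem even_of_ts (h2 : (2 : F) = 0) {R : QuadraticForm F V₀} (hR : Pol R)
    {x : GL (Fin d ⊕ Fin d) F} (hx : x ∈ Cfsg.spGL d F) (hx2 : x * x = 1)
    (hinv : ∀ v, R ((x : Matrix (Fin d ⊕ Fin d) (Fin d ⊕ Fin d) F) *ᵥ v) = R v)
    (hts : ∀ k, (x : Matrix (Fin d ⊕ Fin d) (Fin d ⊕ Fin d) F) *ᵥ k = k → R k = 0) : Even d := by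
  set X := Matrix.toLin' (x : Matrix (Fin d ⊕ Fin d) (Fin d ⊕ Fin d) F)
  set N : V₀ →ₗ[F] V₀ := X + LinearMap.id with hN
  have hNv : ∀ v, N v = (x : Matrix (Fin d ⊕ Fin d) (Fin d ⊕ Fin d) F) *ᵥ v + v := fun v => by
    simp [hN, X]
  have hmem : ∀ v, v ∈ LinearMap.ker N ↔ (x : Matrix (Fin d ⊕ Fin d) (Fin d ⊕ Fin d) F) *ᵥ v = v := by
    intro v
    rw [LinearMap.mem_ker, hNv]
    constructor <;> intro h
    · funext i
      have := congrFun h i
      simp at this
      linear_combination this - (v i) * h2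
    · rw [h]
      funext i
      exact two_mul_zero h2 _
  have hsub : LinearMap.range N ≤ LinearMap.ker N := by
    rintro _ ⟨v, rfl⟩
    rw [hmem, hNv, Matrix.mulVec_add, Matrix.mulVec_mulVec, ← Units.val_mul, hx2, Units.val_one,
      Matrix.one_mulVec, add_comm]
  have hperp : ∀ u ∈ LinearMap.ker N, ∀ v ∈ LinearMap.ker N, fB d F u v = 0 := by
    intro u hu v hv
    have := hR.add u v
    rw [hts _ ((hmem _).1 ((LinearMap.ker N).add_mem hu hv)), hts _ ((hmem _).1 hu),
      hts _ ((hmem _).1 hv)] at this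
    linear_combination -this
  obtain ⟨C, hC⟩ := Submodule.exists_isCompl (LinearMap.ker N)
  have hdim : Module.finrank F (LinearMap.ker N) + Module.finrank F C = 2 * d := by
    rw [Submodule.finrank_add_eq_of_isCompl hC, Module.finrank_fintype_fun_eq_card, Fintype.card_sum,
      Fintype.card_fin, two_mul]
  have hdec : ∀ v, ∃ a ∈ LinearMap.ker N, ∃ c ∈ C, a + c = v := fun v => by
    have : v ∈ LinearMap.ker N ⊔ C := by rw [hC.sup_eq_top]; trivial
    exact Submodule.mem_sup.1 this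
  have hle : Module.finrank F (LinearMap.ker N) ≤ Module.finrank F C := by
    let T : LinearMap.ker N →ₗ[F] (C →ₗ[F] F) :=
      { toFun := fun k => (fB d F k.1).comp C.subtype
        map_add' := fun a b => LinearMap.ext fun c => by simp
        map_smul' := fun a b => LinearMap.ext fun c => by simp }
    refine (LinearMap.finrank_le_finrank_of_injective (f := T) ?_).trans_eq ?_
    · refine (injective_iff_map_eq_zero T).2 fun k hk => Subtype.ext (fB_nondeg h2 fun v => ?_)
      obtain ⟨a, ha, c, hc, rfl⟩ := hdec v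
      rw [map_add, hperp _ k.2 a ha, zero_add]
      exact LinearMap.congr_fun hk ⟨c, hc⟩
    · exact Subspace.dual_finrank_eq
  have hge : Module.finrank F (LinearMap.range N) ≤ Module.finrank F (LinearMap.ker N) :=
    Submodule.finrank_mono hsub
  have hrn := N.finrank_range_add_finrank_ker
  rw [Module.finrank_fintype_fun_eq_card, Fintype.card_sum, Fintype.card_fin] at hrn
  have hCd : Module.finrank F C = d := by omega
  let β : LinearMap.BilinForm F C := (LinearMap.comp (fB d F) (N.comp C.subtype)).compl₂ C.subtype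
  have hβ : ∀ u v : C, β u v = fB d F (N u) v := fun u v => rfl
  have halt : LinearMap.IsAlt β := fun c => by
    have h0 := hts _ ((hmem _).1 (hsub ⟨c.1, rfl⟩))
    have h := hR.add (N c) c
    have e : N c + c = (x : Matrix (Fin d ⊕ Fin d) (Fin d ⊕ Fin d) F) *ᵥ (c : V₀) := by
      rw [hNv, add_assoc]
      funext i
      simp [two_mul_zero h2]
    rw [e, hinv, h0, zero_add] at h
    rw [hβ]
    linear_combination -h
  have hnd : LinearMap.Nondegenerate β := by
    have hl : LinearMap.SeparatingLeft β := by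
      intro u hu
      have h0 : N u = 0 := fB_nondeg h2 fun v => by
        obtain ⟨a, ha, c, hc, rfl⟩ := hdec v
        rw [map_add, hperp _ (hsub ⟨u.1, rfl⟩) a ha, zero_add]
        exact hu ⟨c, hc⟩
      exact Subtype.ext (Submodule.disjoint_def.1 hC.disjoint u.1 h0 u.2)
    exact ⟨hl, fun v hv => hl v fun u => by rw [← halt.neg, hv u, neg_zero]⟩
  obtain ⟨m, b, -⟩ := FormsLib.exists_symplectic_basis_nondeg halt hnd
  have := Module.finrank_eq_card_basis b
  rw [hCd, Fintype.card_sum, Fintype.card_fin] at this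
  exact ⟨m, this⟩

end Criterion

end Cfsg.Agent.SpQuad
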