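import Cfsg.Agent.Lib.TransvMax.SubfieldRat
import Cfsg.Agent.Lib.TransvMax.LagrPair
import Cfsg.Agent.Lib.TransvMax.SympSim

/-!
Overgroups of a symplectic group over a subfield of prime index.
-/

set_option autoImplicit false

namespace Cfsg.Agent.TransvMax

open scoped Matrix MatrixGroups
open Cfsg.Agent

/-- A symplectic form taking values in a subfield on a rational structure. -/
structure RatSetting {ι : Type} [Fintype ι] [DecidableEq ι] {F : Type*} [Field F]
    (B : LinearMap.BilinForm F (ι → F)) (F₀ : Subfield F) (P : GL ι F) : Prop where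
  alt : LinearMap.IsAlt B
  nondeg : LinearMap.Nondegenerate B
  rat : ∀ u v : ι → F₀, B (ratEmb F₀ P u) (ratEmb F₀ P v) ∈ F₀
  dim : 7 ≤ Fintype.card ι

namespace RatSetting

variable {ι : Type} [Fintype ι] [DecidableEq ι] {F : Type*} [Field F]
  {B : LinearMap.BilinForm F (ι → F)} {F₀ : Subfield F} {P : GL ι F} (S : RatSetting B F₀ P)

include S

/-- The form on coordinates. -/
def form₀ : (ι → F₀) → (ι → F₀) → F₀ := fun u v => ⟨_, S.rat u v⟩

theorem coe_form₀ (u v : ι → F₀) : (S.form₀ u v : F) = B (ratEmb F₀ P u) (ratEmb F₀ P v) := rfl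

theorem eq_zero_of_forall {x : ι → F} (h : ∀ y : ι → F₀, B x (ratEmb F₀ P y) = 0) : x = 0 := by
  refine S.nondeg.1 x fun v => ?_
  have hv : v = ∑ j, (((P⁻¹ : GL ι F) : Matrix ι ι F) *ᵥ v) j • ratEmb F₀ P (Pi.single j 1) := by
    conv_lhs => rw [← mulVec_inv_mulVec P v, pi_eq_sum_univ' (((P⁻¹ : GL ι F) : Matrix ι ι F) *ᵥ v),
      Matrix.mulVec_sum]
    refine Finset.sum_congr rfl fun j _ => ?_
    rw [Matrix.mulVec_smul, ratEmb_single]
  rw [hv, map_sum]
  exact Finset.sum_eq_zero fun j _ => by rw [map_smul, h, smul_zero]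

theorem symp : Cfsg.Geo.IsSymplecticForm S.form₀ := by
  have halt : ∀ v, S.form₀ v v = 0 := fun v => Subtype.ext (by rw [S.coe_form₀, S.alt]; rfl)
  have hswap : ∀ v w, S.form₀ v w = -S.form₀ w v := fun v w => Subtype.ext (by
    push_cast [S.coe_form₀]
    rw [FormsLib.alt_swap S.alt (ratEmb F₀ P w)])
  refine ⟨⟨fun x y v => Subtype.ext ?_, fun c x v => Subtype.ext ?_, fun v x y => Subtype.ext ?_,
    fun c v x => Subtype.ext ?_⟩, hswap, halt, fun v hv => ?_⟩
  · push_cast [S.coe_form₀]; rw [ratEmb_add, map_add, LinearMap.add_apply]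
  · push_cast [S.coe_form₀]; rw [ratEmb_smul, map_smul, LinearMap.smul_apply, smul_eq_mul]
  · push_cast [S.coe_form₀]; rw [ratEmb_add, map_add]
  · push_cast [S.coe_form₀]; rw [ratEmb_smul, map_smul, smul_eq_mul]
  · have h : ∃ x, S.form₀ v x ≠ 0 := by
      by_contra hc
      push Not at hc
      refine hv (ratEmb_injective F₀ P ?_)
      rw [ratEmb_zero]
      exact S.eq_zero_of_forall fun y => congrArg Subtype.val (hc y)
    obtain ⟨x, hx⟩ := h
    exact ⟨⟨x, fun e => hx (by rw [hswap, e, neg_zero])⟩, ⟨x, hx⟩⟩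

/-- A non-zero vector in the kernel of a few conditions, outside a small subspace. -/
theorem exists_ker {k : ℕ} (v : Fin k → ι → F₀) (W : Submodule F₀ (ι → F₀))
    (h : Module.finrank F₀ W + k < Fintype.card ι) : ∃ z, (∀ i, S.form₀ z (v i) = 0) ∧ z ∉ W := by
  by_contra hc
  push Not at hc
  let L : (ι → F₀) →ₗ[F₀] (Fin k → F₀) := LinearMap.pi fun i => (toBil S.symp).flip (v i)
  have h1 := Submodule.finrank_mono (show LinearMap.ker L ≤ W from fun z hz => hc z fun i => congrFun hz i)
  have h3 := LinearMap.finrank_range_add_finrank_ker L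
  have h4 := Submodule.finrank_le (LinearMap.range L)
  rw [Module.finrank_fintype_fun_eq_card, Fintype.card_fin] at h4
  rw [Module.finrank_fintype_fun_eq_card] at h3
  omega

theorem exists_vals {k : ℕ} {v : Fin k → ι → F₀} (hv : LinearIndependent F₀ v) (α : Fin k → F₀) :
    ∃ x, ∀ i, S.form₀ x (v i) = α i := by
  let L : (ι → F₀) →ₗ[F₀] (Fin k → F₀) := LinearMap.pi fun i => (toBil S.symp).flip (v i)
  have hL : LinearMap.range L = ⊤ := by
    by_contra hne
    obtain ⟨ψ, hψ0, hψ⟩ := Submodule.exists_le_ker_of_lt_top _ (lt_top_iff_ne_top.2 hne)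
    have hsum : ∑ i, ψ (Pi.single i 1) • v i = 0 := by
      refine eq_of_toBil_right S.symp fun x => ?_
      have h1 : ψ (L x) = 0 := hψ ⟨x, rfl⟩
      rw [pi_eq_sum_univ' (L x), map_sum] at h1
      rw [← toBil_apply S.symp, ← toBil_apply S.symp, map_zero, ← h1, map_sum]
      refine Finset.sum_congr rfl fun i _ => ?_
      rw [map_smul, map_smul, smul_eq_mul, smul_eq_mul, mul_comm]
      rfl
    refine hψ0 (LinearMap.ext fun y => ?_)
    rw [pi_eq_sum_univ' y, map_sum, LinearMap.zero_apply]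
    refine Finset.sum_eq_zero fun i _ => ?_
    rw [map_smul, Fintype.linearIndependent_iff.1 hv _ hsum i, smul_zero]
  obtain ⟨x, hx⟩ := LinearMap.range_eq_top.1 hL α
  exact ⟨x, fun i => congrFun hx i⟩

theorem li_cons {u v : ι → F₀} (hv : v ≠ 0) (hu : u ∉ Submodule.span F₀ {v}) :
    LinearIndependent F₀ ![u, v] :=
  linearIndependent_finCons.2 ⟨by simp [linearIndependent_unique_iff, hv], by simpa using hu⟩

omit S in
/-- The linear map `z ↦ z + f(z, a) b - f(z, b) a`. -/
noncomputable def flipHom (B : LinearMap.BilinForm F (ι → F)) (a b : ι → F) :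
    (ι → F) →ₗ[F] (ι → F) :=
  LinearMap.id + (B.flip a).smulRight b - (B.flip b).smulRight a

/-- An involution attached to a pair with value two. -/
noncomputable def flip₂ {a b : ι → F} (h : B a b = 2) : (ι → F) ≃ₗ[F] (ι → F) :=
  LinearEquiv.ofLinearMap (flipHom B a b) (flipHom B a b)
    (LinearMap.ext fun x => by
      simp [flipHom, h, FormsLib.alt_swap S.alt a b, S.alt a, S.alt b]
      match_scalars <;> ring)
    (LinearMap.ext fun x => by
      simp [flipHom, h, FormsLib.alt_swap S.alt a b, S.alt a, S.alt b]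
      match_scalars <;> ring)

theorem flip₂_apply {a b : ι → F} (h : B a b = 2) (x : ι → F) :
    S.flip₂ h x = x + B x a • b - B x b • a := by
  simp [flip₂, flipHom]

theorem flip₂_mem {a b : ι → F} (h : B a b = 2) : S.flip₂ h ∈ FormsLib.isoGroup B := fun x z => by
  simp only [S.flip₂_apply, map_add, map_sub, map_smul, LinearMap.add_apply, LinearMap.sub_apply,
    LinearMap.smul_apply, h, FormsLib.alt_swap S.alt a b, S.alt a, S.alt b, smul_eq_mul,
    FormsLib.alt_swap S.alt z a, FormsLib.alt_swap S.alt z b]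
  ring

set_option maxHeartbeats 1000000 in
/-- A proper overgroup contains all transvections. -/
theorem tauGroup_le_of_over [Fintype F] {r : ℕ} (hr : r.Prime)
    (hcard : Fintype.card F = Nat.card F₀ ^ r)
    {K : Subgroup ((ι → F) ≃ₗ[F] (ι → F))} (hK : K ≤ FormsLib.isoGroup B)
    (hstab : ∀ h ∈ FormsLib.isoGroup B, (∀ y, ∃ y', h (ratEmb F₀ P y) = ratEmb F₀ P y') → h ∈ K)
    {g : (ι → F) ≃ₗ[F] (ι → F)} (hgK : g ∈ K)
    (hg : ¬ ∀ y : ι → F₀, y ≠ 0 → ∃ c : F, c ≠ 0 ∧ ∃ y', c • g (ratEmb F₀ P y) = ratEmb F₀ P y') :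
    FormsLib.tauGroup S.alt ≤ K := by
  classical
  haveI := Fintype.ofFinite F₀
  let R := ratEmb F₀ P
  have hadd : ∀ u v, R (u + v) = R u + R v := ratEmb_add F₀ P
  have hsmul : ∀ (c : F₀) u, R (c • u) = (c : F) • R u := ratEmb_smul F₀ P
  have hzero : R 0 = 0 := ratEmb_zero F₀ P
  have hRinj : Function.Injective R := ratEmb_injective F₀ P
  have hsub : ∀ u v, R (u - v) = R u - R v := fun u v => by
    rw [eq_sub_iff_add_eq, ← hadd, sub_add_cancel]
  have hval : ∀ u v, B (R u) (R v) = (S.form₀ u v : F) := fun u v => rfl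
  have hperp : ∀ {u v}, S.form₀ u v = 0 → B (R u) (R v) = 0 := fun {u v} h => by rw [hval, h]; rfl
  have hpair : ∀ {u v} (h : B (R u) (R v) = 0), pairTau S.alt (R u) (R v) h ∈ K := fun {u v} h =>
    hstab _ (pairTau_mem _ _ _ _) fun y => ⟨y + S.form₀ y u • v + S.form₀ y v • u, by
      rw [pairTau_apply, hval, hval, ← hsmul, ← hsmul, ← hadd, ← hadd]⟩
  have htau : ∀ u (s : F₀), FormsLib.tau S.alt (R u) s ∈ K := fun u s =>
    hstab _ (FormsLib.tau_mem _ _ _) fun y => ⟨y + (s * S.form₀ y u) • u, by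
      show _ = R _
      rw [hadd, hsmul, FormsLib.tau_apply, hval]; rfl⟩
  have htau1 : ∀ u, FormsLib.tau S.alt (R u) 1 ∈ K := fun u => htau u 1
  let C : Set (ι → F) := {v | FormsLib.tau S.alt v 1 ∈ K}
  have hconj : ∀ h ∈ K, ∀ v e, FormsLib.tau S.alt v e ∈ K → FormsLib.tau S.alt (h v) e ∈ K :=
    fun h hh v e hv => by
      rw [← FormsLib.tau_conj S.alt (hK hh) v e]
      exact K.mul_mem (K.mul_mem hh hv) (K.inv_mem hh)
  have hsw : ∀ u v, B u v = -B v u := fun u v => FormsLib.alt_swap S.alt v u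
  have hflip : ∀ {a b : ι → F₀} (h : B (R a) (R b) = 2), S.flip₂ h ∈ K := fun {a b} h =>
    hstab _ (S.flip₂_mem h) fun y => ⟨y + S.form₀ y a • b - S.form₀ y b • a, by
      show S.flip₂ h (R y) = R _
      rw [S.flip₂_apply, hval, hval, hsub, hadd, hsmul, hsmul]⟩
  have hB2 : ∀ {a b : ι → F₀}, S.form₀ a b = 2 → B (R a) (R b) = 2 := fun {a b} h => by
    rw [hval, h]; rfl
  have hli1 : ∀ {u : ι → F₀}, u ≠ 0 → LinearIndependent F₀ ![u] := fun h => by
    simp [linearIndependent_unique_iff, h]
  have hfswap : ∀ u v, S.form₀ u v = -S.form₀ v u := S.symp.skew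
  have hfsw0 : ∀ {u v}, S.form₀ u v = 0 → S.form₀ v u = 0 := fun {u v} h => by
    rw [hfswap, h, neg_zero]
  -- an irrational centre
  obtain ⟨y₀, hy₀, hirr⟩ : ∃ y : ι → F₀, y ≠ 0 ∧ ∀ c : F, c ≠ 0 → ∀ y', c • g (R y) ≠ R y' := by
    push Not at hg
    exact hg
  set w := g (R y₀) with hw
  have hwC : w ∈ C := hconj g hgK _ _ (htau1 y₀)
  -- an irrational centre orthogonal to a rational vector
  obtain ⟨z, hzC, hzirr, u₀, hu₀, hzu₀⟩ : ∃ z ∈ C, (∀ c : F, c ≠ 0 → ∀ y', c • z ≠ R y') ∧
      ∃ u : ι → F₀, u ≠ 0 ∧ B z (R u) = 0 := by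
    by_cases hker : ∃ u : ι → F₀, u ≠ 0 ∧ B w (R u) = 0
    · exact ⟨w, hwC, hirr, hker⟩
    push Not at hker
    let μ : (ι → F₀) → F := fun y => B (R y) w
    have hμ : ∀ y, y ≠ 0 → μ y ≠ 0 := fun y hy h => hker y hy (by rw [hsw]; exact neg_eq_zero.2 h)
    obtain ⟨a, y, hay, hyne, hprod⟩ : ∃ a y : ι → F₀, S.form₀ a y = 0 ∧ y ∉ Submodule.span F₀ {a} ∧
        μ a * μ y ∉ F₀ := by
      by_contra hcon
      push Not at hcon
      obtain ⟨i⟩ : Nonempty ι := Fintype.card_pos_iff.mp (by have := S.dim; omega)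
      set a : ι → F₀ := Pi.single i 1
      have ha : a ≠ 0 := fun e => by simpa [a] using congrFun e i
      obtain ⟨b, hb, hbn⟩ := S.exists_ker ![a] (Submodule.span F₀ {a}) (by
        rw [finrank_span_singleton ha]; have := S.dim; omega)
      have hli : LinearIndependent F₀ ![b, a] := S.li_cons ha hbn
      obtain ⟨c, hc, hcn⟩ := S.exists_ker ![a, b] (Submodule.span F₀ (Set.range ![b, a])) (by
        rw [finrank_span_eq_card hli, Fintype.card_fin]; have := S.dim; omega)
      have hca : c ∉ Submodule.span F₀ {a} := fun h => hcn (Submodule.span_mono (by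
        rintro x rfl; exact ⟨1, rfl⟩) h)
      have hcb : c ∉ Submodule.span F₀ {b} := fun h => hcn (Submodule.span_mono (by
        rintro x rfl; exact ⟨0, rfl⟩) h)
      have h1 : μ a * μ b ∈ F₀ := hcon a b (hfsw0 (hb 0)) hbn
      have h2 : μ a * μ c ∈ F₀ := hcon a c (hfsw0 (hc 0)) hca
      have h3 : μ b * μ c ∈ F₀ := hcon b c (hfsw0 (hc 1)) hcb
      have hb0 : b ≠ 0 := fun e => hbn (by rw [e]; exact Submodule.zero_mem _)
      have hc0 : c ≠ 0 := fun e => hcn (by rw [e]; exact Submodule.zero_mem _)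
      have hμa := hμ a ha
      have hμb := hμ b hb0
      have hμc := hμ c hc0
      -- `μ b / μ a` is in the subfield
      have hq : μ b / μ a ∈ F₀ := by
        have : μ b / μ a = (μ b * μ c) / (μ a * μ c) := by field_simp
        rw [this]
        exact div_mem h3 h2
      refine hbn (Submodule.mem_span_singleton.2 ⟨⟨_, hq⟩, ?_⟩)
      by_contra hne
      have h0 : (⟨_, hq⟩ : F₀) • a - b ≠ 0 := sub_ne_zero.2 hne
      refine hμ _ h0 ?_
      show B (R _) w = 0
      rw [hsub, hsmul, map_sub, map_smul, LinearMap.sub_apply, LinearMap.smul_apply, smul_eq_mul,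
        show B (R a) w = μ a from rfl, show B (R b) w = μ b from rfl, div_mul_cancel₀ _ hμa, sub_self]
    have ha0 : a ≠ 0 := fun e => hprod (by rw [e]; simp [μ, hzero])
    have hli : LinearIndependent F₀ ![y, a] := S.li_cons ha0 hyne
    obtain ⟨b₀, hb₀⟩ := S.exists_vals hli ![0, -2]
    -- move `b₀` outside the span of `a` and `y`
    obtain ⟨b₁, hb₁, hb₁n⟩ := S.exists_ker ![a, y] (Submodule.span F₀ (Set.range ![y, a])) (by
      rw [finrank_span_eq_card hli, Fintype.card_fin]; have := S.dim; omega)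
    obtain ⟨b, hab, hyb, hbn⟩ : ∃ b, S.form₀ a b = 2 ∧ S.form₀ y b = 0 ∧
        b ∉ Submodule.span F₀ (Set.range ![y, a]) := by
      have e1 : S.form₀ a b₀ = 2 := by rw [hfswap, show S.form₀ b₀ a = -2 from hb₀ 1, neg_neg]
      have e2 : S.form₀ y b₀ = 0 := hfsw0 (hb₀ 0)
      by_cases h : b₀ ∈ Submodule.span F₀ (Set.range ![y, a])
      · refine ⟨b₀ + b₁, ?_, ?_, fun h' => hb₁n ?_⟩
        · rw [S.symp.bilinear.add_right, e1, hfsw0 (show S.form₀ b₁ a = 0 from hb₁ 0), add_zero]
        · rw [S.symp.bilinear.add_right, e2, hfsw0 (show S.form₀ b₁ y = 0 from hb₁ 1), add_zero]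
        · simpa using Submodule.sub_mem _ h' h
      · exact ⟨b₀, e1, e2, h⟩
    set h := S.flip₂ (hB2 hab)
    have hK' := hflip (hB2 hab)
    have hya : S.form₀ y a = 0 := hfsw0 hay
    have hhy : h (R y) = R y := by
      rw [S.flip₂_apply, hperp hya, hperp hyb, zero_smul, zero_smul, add_zero, sub_zero]
    set δ := μ b • R a - μ a • R b with hδ
    have hhw : h w = w + δ := by
      rw [S.flip₂_apply, hδ, hsw w (R a), hsw w (R b)]
      show w + -μ a • R b - -μ b • R a = _
      module
    have hδw : B δ w = 0 := by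
      rw [hδ, map_sub, map_smul, map_smul, LinearMap.sub_apply, LinearMap.smul_apply,
        LinearMap.smul_apply, smul_eq_mul, smul_eq_mul]
      show μ b * μ a - μ a * μ b = 0
      ring
    have hwinv : FormsLib.tau S.alt w (-1) ∈ K := by
      rw [← FormsLib.tau_inv]; exact K.inv_mem hwC
    have hzK := hconj _ (K.mul_mem (hconj h hK' _ _ hwC) hwinv) _ _ (htau1 y)
    have hzval : (FormsLib.tau S.alt (h w) 1 * FormsLib.tau S.alt w (-1)) (R y) = R y + μ y • δ := by
      have e1 : B (R y) (h w) = μ y := by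
        conv_lhs => rw [← hhy]
        exact S.flip₂_mem (hB2 hab) _ _
      have e2 : B w (h w) = 0 := by
        rw [hhw, map_add, S.alt w, zero_add, hsw, hδw, neg_zero]
      rw [LinearEquiv.mul_apply, FormsLib.tau_apply, FormsLib.tau_apply, map_add, map_smul,
        LinearMap.add_apply, LinearMap.smul_apply, e1, e2, show B (R y) w = μ y from rfl, hhw]
      simp only [smul_eq_mul, mul_zero, add_zero, neg_one_mul, one_mul]
      module
    rw [hzval] at hzK
    refine ⟨_, hzK, fun c hc y' he => hprod ?_, ?_⟩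
    · -- read coefficients against rational vectors
      have hli3 : LinearIndependent F₀ ![b, y, a] := linearIndependent_finCons.2 ⟨hli, hbn⟩
      obtain ⟨p, hp⟩ := S.exists_vals hli3 ![1, 0, 0]
      obtain ⟨p', hp'⟩ := S.exists_vals hli3 ![0, 1, 0]
      have e1 := congrArg (B (R p)) he
      have e2 := congrArg (B (R p')) he
      simp only [hδ, map_smul, map_add, map_sub, hval, show S.form₀ p b = 1 from hp 0,
        show S.form₀ p y = 0 from hp 1, show S.form₀ p a = 0 from hp 2,
        show S.form₀ p' b = 0 from hp' 0, show S.form₀ p' y = 1 from hp' 1,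
        show S.form₀ p' a = 0 from hp' 2, ZeroMemClass.coe_zero, OneMemClass.coe_one, smul_eq_mul,
        mul_zero, add_zero, zero_add, sub_zero, zero_sub, mul_one] at e1 e2
      have hcF : c ∈ F₀ := by rw [e2]; exact SetLike.coe_mem _
      have h5 : μ a * μ y = -((S.form₀ p y' : F) / c) := by
        rw [← e1]; field_simp
      rw [h5]
      exact neg_mem (div_mem (SetLike.coe_mem _) hcF)
    · obtain ⟨u, hu, hun⟩ := S.exists_ker ![y, a, b] ⊥ (by rw [finrank_bot]; have := S.dim; omega)
      refine ⟨u, fun e => hun (by rw [e]; exact Submodule.zero_mem _), ?_⟩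
      have k1 : B (R y) (R u) = 0 := hperp (hfsw0 (hu 0 : S.form₀ u y = 0))
      have k2 : B (R a) (R u) = 0 := hperp (hfsw0 (hu 1 : S.form₀ u a = 0))
      have k3 : B (R b) (R u) = 0 := hperp (hfsw0 (hu 2 : S.form₀ u b = 0))
      simp only [hδ, map_add, map_sub, map_smul, LinearMap.add_apply, LinearMap.sub_apply,
        LinearMap.smul_apply, k1, k2, k3]
      simp
  let μ : (ι → F₀) → F := fun y => B z (R y)
  -- a good kernel vector
  obtain ⟨u, hu0, hzu, y, a, hyu, hau, hprod⟩ : ∃ u : ι → F₀, u ≠ 0 ∧ B z (R u) = 0 ∧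
      ∃ y a, S.form₀ y u = 0 ∧ S.form₀ a u = 0 ∧ μ y * μ a ∉ F₀ := by
    have hgood : ∀ u : ι → F₀, ∀ y a, S.form₀ y u = 0 → S.form₀ a u = 0 → μ y ≠ 0 →
        μ a / μ y ∉ F₀ → ∃ y' a', S.form₀ y' u = 0 ∧ S.form₀ a' u = 0 ∧ μ y' * μ a' ∉ F₀ := by
      intro u y a hy ha hy0 hq
      by_contra hcon
      push Not at hcon
      refine hq ?_
      have : μ a / μ y = (μ y * μ a) / (μ y * μ y) := by field_simp
      rw [this]
      exact div_mem (hcon y a hy ha) (hcon y y hy hy)
    by_cases hline : ∃ y a, S.form₀ y u₀ = 0 ∧ S.form₀ a u₀ = 0 ∧ μ y ≠ 0 ∧ μ a / μ y ∉ F₀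
    · obtain ⟨y, a, hy, ha, hy0, hq⟩ := hline
      exact ⟨u₀, hu₀, hzu₀, hgood u₀ y a hy ha hy0 hq⟩
    push Not at hline
    -- the values on the hyperplane form at most a line
    obtain ⟨u₁, hu₁⟩ := S.exists_vals (hli1 hu₀) ![1]
    let κ := μ u₁
    have hrest : ∀ y, S.form₀ (y - S.form₀ y u₀ • u₁) u₀ = 0 := fun y => by
      rw [← toBil_apply S.symp, map_sub, map_smul, LinearMap.sub_apply, LinearMap.smul_apply,
        toBil_apply, toBil_apply, show S.form₀ u₁ u₀ = 1 from hu₁ 0, smul_eq_mul, mul_one, sub_self]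
    have hirr' : ∀ e : F, ∃ y, ∀ t : F₀, μ y ≠ (t : F) * e := by
      intro e
      by_contra hcon
      push Not at hcon
      choose s hs using hcon
      -- then `z` is a multiple of a rational vector
      by_cases he : e = 0
      · refine hzirr 1 one_ne_zero 0 ?_
        rw [one_smul, hzero]
        refine S.eq_zero_of_forall fun y => ?_
        show μ y = 0
        rw [hs y, he, mul_zero]
      let φ : (ι → F₀) →ₗ[F₀] F₀ :=
        { toFun := s
          map_add' := fun a b => Subtype.ext (mul_right_cancel₀ he (by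
            rw [← hs, AddMemClass.coe_add, add_mul, ← hs, ← hs]
            simp only [μ, hadd, map_add]))
          map_smul' := fun c a => Subtype.ext (mul_right_cancel₀ he (by
            rw [← hs, RingHom.id_apply, smul_eq_mul, MulMemClass.coe_mul, mul_assoc, ← hs]
            simp only [μ, hsmul, map_smul, smul_eq_mul])) }
      obtain ⟨q₀, hq₀⟩ := exists_formRow S.symp fun j => φ (Pi.single j 1)
      have hφ : ∀ y, φ y = S.form₀ y q₀ := fun y => by
        conv_lhs => rw [pi_eq_sum_univ' y, map_sum]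
        rw [← formRow_dot S.symp, ← hq₀]
        simp [dotProduct, mul_comm]
      refine hzirr e⁻¹ (inv_ne_zero he) (-q₀) ?_
      rw [← sub_eq_zero]
      refine S.eq_zero_of_forall fun y => ?_
      rw [map_sub, map_smul, LinearMap.sub_apply, LinearMap.smul_apply, smul_eq_mul, hval,
        show B z (R y) = μ y from rfl, hs y, show s y = φ y from rfl, hφ, hfswap (-q₀) y,
        ← neg_one_smul F₀ q₀, S.symp.bilinear.smul_right]
      push_cast
      field_simp
      ring
    -- a second kernel vector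
    obtain ⟨yl, hyl, hl0⟩ : ∃ yl, S.form₀ yl u₀ = 0 ∧ μ yl ≠ 0 := by
      by_contra hcon
      push Not at hcon
      obtain ⟨y, hy⟩ := hirr' κ
      refine hy (S.form₀ y u₀) ?_
      have h1 := hcon _ (hrest y)
      simp only [μ, hsub, hsmul, map_sub, map_smul, smul_eq_mul, sub_eq_zero] at h1
      exact h1
    -- `μ` vanishes where both coordinates vanish
    have hker : ∀ y, μ y = ((⟨_, hline yl _ hyl (hrest y) hl0⟩ : F₀) : F) * μ yl +
        (S.form₀ y u₀ : F) * κ := fun y => by
      rw [div_mul_cancel₀ _ hl0]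
      simp only [μ, κ, hsub, hsmul, map_sub, map_smul, smul_eq_mul]
      ring
    obtain ⟨v, hvyl, hvu₁, hv0, hvμ⟩ : ∃ v, S.form₀ v yl = 0 ∧ S.form₀ v u₁ = 0 ∧ v ≠ 0 ∧ μ v = 0 := by
      let φ : (ι → F₀) →ₗ[F₀] F₀ :=
        { toFun := fun y => ⟨_, hline yl _ hyl (hrest y) hl0⟩
          map_add' := fun a b => Subtype.ext (by
            simp only [μ, S.symp.bilinear.add_left, AddMemClass.coe_add, hsub, hsmul, hadd,
              map_sub, map_smul, map_add, add_smul, smul_eq_mul]
            ring)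
          map_smul' := fun c a => Subtype.ext (by
            simp only [μ, S.symp.bilinear.smul_left, RingHom.id_apply, smul_eq_mul, MulMemClass.coe_mul,
              hsub, hsmul, map_sub, map_smul, mul_smul]
            ring) }
      let L : (ι → F₀) →ₗ[F₀] (Fin 4 → F₀) := LinearMap.pi
        ![(toBil S.symp).flip yl, (toBil S.symp).flip u₁, (toBil S.symp).flip u₀, φ]
      have h3 := LinearMap.finrank_range_add_finrank_ker L
      have h4 := Submodule.finrank_le (LinearMap.range L)
      rw [Module.finrank_fintype_fun_eq_card, Fintype.card_fin] at h4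
      rw [Module.finrank_fintype_fun_eq_card] at h3
      obtain ⟨v, hv, hv0⟩ := Submodule.exists_mem_ne_zero_of_ne_bot
        (show LinearMap.ker L ≠ ⊥ from fun e => by rw [e, finrank_bot] at h3; have := S.dim; omega)
      refine ⟨v, congrFun hv 0, congrFun hv 1, hv0, ?_⟩
      have h5 : φ v = 0 := congrFun hv 3
      have h6 := congrArg Subtype.val h5
      simp only [φ, LinearMap.coe_mk, AddHom.coe_mk] at h6
      have h7 : μ v = ((φ v : F₀) : F) * μ yl + (S.form₀ v u₀ : F) * κ := hker v
      rw [h7, h5, show S.form₀ v u₀ = 0 from congrFun hv 2]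
      simp
    refine ⟨v, hv0, hvμ, hgood v yl u₁ (hfsw0 hvyl) (hfsw0 hvu₁) hl0 fun hq => ?_⟩
    obtain ⟨y, hy⟩ := hirr' (μ yl)
    refine hy (⟨_, hline yl _ hyl (hrest y) hl0⟩ + S.form₀ y u₀ * ⟨_, hq⟩) ?_
    push_cast
    rw [hker y, add_mul, mul_assoc, div_mul_cancel₀ _ hl0, div_mul_cancel₀ _ hl0]
  -- first root element with an irrational coefficient
  have hyu' : B (R u) (R y) = 0 := hperp (hfsw0 hyu)
  set m := μ y
  set E := pairTau S.alt (R u) (R y) hyu'
  have hEz : E z = z + m • R u := by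
    rw [pairTau_apply, hzu, zero_smul, add_zero]
  have hzmu : B z (m • R u) = 0 := by rw [map_smul, hzu, smul_zero]
  have huu : B (R u) (R u) = 0 := S.alt _
  have hZ₁ : pairTau S.alt z (m • R u) hzmu * FormsLib.tau S.alt (m • R u) 1 ∈ K := by
    have h1 := K.mul_mem (K.inv_mem hzC) (hconj E (hpair hyu') _ _ hzC)
    convert h1 using 1
    rw [eq_inv_mul_iff_mul_eq, hEz]
    refine LinearEquiv.ext fun x => ?_
    simp only [LinearEquiv.mul_apply, FormsLib.tau_apply, pairTau_apply, map_add, map_smul,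
      LinearMap.add_apply, LinearMap.smul_apply, S.alt z, huu, hzu, hsw (R u) z, smul_eq_mul]
    module
  obtain ⟨b₀, hb₀⟩ : ∃ b, S.form₀ b a = -2 ∧ S.form₀ b u = 0 := by
    have hli : LinearIndependent F₀ ![a, u] := S.li_cons hu0 fun h => by
      obtain ⟨s, rfl⟩ := Submodule.mem_span_singleton.1 h
      refine hprod ?_
      rw [show μ (s • u) = 0 by simp only [μ, hsmul, map_smul, hzu, smul_zero], mul_zero]
      exact F₀.zero_mem
    obtain ⟨b, hb⟩ := S.exists_vals hli ![-2, 0]
    exact ⟨b, hb 0, hb 1⟩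
  have hlia : LinearIndependent F₀ ![a, u] := S.li_cons hu0 fun h => by
    obtain ⟨s, rfl⟩ := Submodule.mem_span_singleton.1 h
    refine hprod ?_
    rw [show μ (s • u) = 0 by simp only [μ, hsmul, map_smul, hzu, smul_zero], mul_zero]
    exact F₀.zero_mem
  obtain ⟨b, hab, hbu, hbn⟩ : ∃ b, S.form₀ a b = 2 ∧ S.form₀ b u = 0 ∧
      b ∉ Submodule.span F₀ (Set.range ![a, u]) := by
    have e1 : S.form₀ a b₀ = 2 := by rw [hfswap, hb₀.1, neg_neg]
    by_cases h : b₀ ∈ Submodule.span F₀ (Set.range ![a, u])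
    · obtain ⟨b₁, hb₁, hb₁n⟩ := S.exists_ker ![a, u] (Submodule.span F₀ (Set.range ![a, u])) (by
        rw [finrank_span_eq_card hlia, Fintype.card_fin]; have := S.dim; omega)
      refine ⟨b₀ + b₁, ?_, ?_, fun h' => hb₁n (by simpa using Submodule.sub_mem _ h' h)⟩
      · rw [S.symp.bilinear.add_right, e1, hfsw0 (show S.form₀ b₁ a = 0 from hb₁ 0), add_zero]
      · rw [S.symp.bilinear.add_left, hb₀.2, show S.form₀ b₁ u = 0 from hb₁ 1, add_zero]
    · exact ⟨b₀, e1, hb₀.2, h⟩
  set h := S.flip₂ (hB2 hab)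
  set δ := μ a • R b - μ b • R a with hδ
  have hhz : h z = z + δ := by rw [S.flip₂_apply, hδ]; module
  have hδz : B z δ = 0 := by
    rw [hδ, map_sub, map_smul, map_smul, smul_eq_mul, smul_eq_mul]
    show μ a * μ b - μ b * μ a = 0
    ring
  have hhu : h (R u) = R u := by
    rw [S.flip₂_apply, hperp (hfsw0 hau), hperp (hfsw0 hbu), zero_smul, zero_smul, add_zero, sub_zero]
  have huδ : B (R u) δ = 0 := by
    rw [hδ, map_sub, map_smul, map_smul, hperp (hfsw0 hbu), hperp (hfsw0 hau), smul_zero, smul_zero,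
      sub_zero]
  have humδ : B (R u) (m • δ) = 0 := by rw [map_smul, huδ, smul_zero]
  have hhK : h ∈ K := hflip (hB2 hab)
  have hD : pairTau S.alt (R u) (m • δ) humδ ∈ K := by
    set Z₁ := pairTau S.alt z (m • R u) hzmu * FormsLib.tau S.alt (m • R u) 1 with hZ₁def
    have h1 := K.mul_mem (K.inv_mem hZ₁) (K.mul_mem (K.mul_mem hhK hZ₁) (K.inv_mem hhK))
    convert h1 using 1
    rw [eq_inv_mul_iff_mul_eq, show h * Z₁ * h⁻¹ =
      (h * pairTau S.alt z (m • R u) hzmu * h⁻¹) * (h * FormsLib.tau S.alt (m • R u) 1 * h⁻¹) by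
        rw [hZ₁def]; group,
      pairTau_conj S.alt (hK hhK), FormsLib.tau_conj S.alt (hK hhK), hZ₁def]
    refine LinearEquiv.ext fun x => ?_
    simp only [LinearEquiv.mul_apply, FormsLib.tau_apply, pairTau_apply, hhz, map_smul h, hhu, map_add,
      map_smul, LinearMap.add_apply, LinearMap.smul_apply, S.alt z, huu, hzu, hsw (R u) z, huδ, hδz,
      hsw δ (R u), hsw δ z, smul_eq_mul]
    module
  -- isolate one coordinate
  have hli3 : LinearIndependent F₀ ![b, a, u] := linearIndependent_finCons.2 ⟨hlia, hbn⟩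
  obtain ⟨b', hb', hb'W⟩ := S.exists_ker ![u, a, b] (Submodule.span F₀ (Set.range ![b, a, u])) (by
    rw [finrank_span_eq_card hli3, Fintype.card_fin]; have := S.dim; omega)
  have hb'n : b' ∉ Submodule.span F₀ {u} := fun h => hb'W (Submodule.span_mono (by
    rintro x rfl; exact ⟨2, rfl⟩) h)
  obtain ⟨c, hc⟩ : ∃ c, S.form₀ c b' = 0 ∧ S.form₀ b c = 1 ∧ S.form₀ a c = 0 ∧ S.form₀ u c = 0 := by
    obtain ⟨c, hc⟩ := S.exists_vals (linearIndependent_finCons.2 ⟨hli3, hb'W⟩ :
      LinearIndependent F₀ ![b', b, a, u]) ![0, -1, 0, 0]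
    exact ⟨c, hc 0, by rw [hfswap, show S.form₀ c b = -1 from hc 1, neg_neg], hfsw0 (hc 2),
      hfsw0 (hc 3)⟩
  obtain ⟨hcb', hbc, hac, huc⟩ := hc
  have hcb'R : B (R c) (R b') = 0 := hperp hcb'
  set k := pairTau S.alt (R c) (R b') hcb'R
  have hkK : k ∈ K := hpair hcb'R
  have hub' : B (R u) (R b') = 0 := hperp (hfsw0 (hb' 0))
  have hab' : B (R a) (R b') = 0 := hperp (hfsw0 (hb' 1 : S.form₀ b' a = 0))
  have hbb' : B (R b) (R b') = 0 := hperp (hfsw0 (hb' 2 : S.form₀ b' b = 0))
  have hku : k (R u) = R u := by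
    rw [pairTau_apply, hperp huc, hub', zero_smul, zero_smul, add_zero, add_zero]
  have hkδ : k δ = δ + μ a • R b' := by
    rw [pairTau_apply, hδ]
    simp only [map_sub, map_smul, LinearMap.sub_apply, LinearMap.smul_apply, hperp hac, hab', hbb',
      show B (R b) (R c) = 1 by rw [hval, hbc]; rfl, smul_eq_mul, mul_zero, mul_one, sub_zero, zero_smul,
      add_zero]
  let Sset : Set F := {s | ∀ p q (hpq : B (R p) (s • R q) = 0), pairTau S.alt (R p) (s • R q) hpq ∈ K}
  have hub'm : B (R u) ((m * μ a) • R b') = 0 := by rw [map_smul, hub', smul_zero]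
  have hone : pairTau S.alt (R u) ((m * μ a) • R b') hub'm ∈ K := by
    have h1 := K.mul_mem (K.inv_mem hD) (K.mul_mem (K.mul_mem hkK hD) (K.inv_mem hkK))
    rw [pairTau_conj S.alt (hK hkK)] at h1
    convert h1 using 1
    rw [eq_inv_mul_iff_mul_eq]
    refine LinearEquiv.ext fun x => ?_
    have hδb' : B δ (R b') = 0 := by
      simp [hδ, hab', hbb']
    simp only [LinearEquiv.mul_apply, pairTau_apply, hku, map_smul k, hkδ, map_add, map_smul,
      LinearMap.add_apply, LinearMap.smul_apply, huu, huδ, hub', hδb', hsw (R b') (R u), hsw (R b') δ,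
      hsw δ (R u), smul_eq_mul]
    module
  -- coefficients are the same for all independent orthogonal pairs
  have hub'li : ∀ s t : F₀, s • u + t • b' = 0 → s = 0 ∧ t = 0 := fun s t hst =>
    (LinearIndependent.pair_iff.1 (LinearIndependent.pair_symm_iff.1 (S.li_cons hu0 hb'n))) s t hst
  have hlift : ∀ γ ∈ FormsLib.tauGroup (toBil_alt S.symp), ∃ G ∈ K, ∀ y, G (R y) = R (γ y) := by
    intro γ hγ
    induction hγ using Subgroup.closure_induction with
    | mem x hx =>
      obtain ⟨v, e, rfl⟩ := hx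
      refine ⟨_, htau v e, fun y => ?_⟩
      rw [FormsLib.tau_apply, FormsLib.tau_apply, hadd, hsmul, hval]
      rfl
    | one => exact ⟨1, K.one_mem, fun y => rfl⟩
    | mul x y _ _ hx hy =>
      obtain ⟨G₁, hG₁, h1⟩ := hx
      obtain ⟨G₂, hG₂, h2⟩ := hy
      exact ⟨G₁ * G₂, K.mul_mem hG₁ hG₂, fun z => by rw [LinearEquiv.mul_apply, h2, h1]; rfl⟩
    | inv x _ hx =>
      obtain ⟨G₁, hG₁, h1⟩ := hx
      refine ⟨G₁⁻¹, K.inv_mem hG₁, fun z => ?_⟩
      have h2 := h1 (x⁻¹ z)
      rw [← LinearEquiv.mul_apply, mul_inv_cancel] at h2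
      exact (LinearEquiv.symm_apply_eq G₁).2 h2.symm
  have hspread : ∀ s : F, (∀ h, pairTau S.alt (R u) (s • R b') h ∈ K) → ∀ p q, S.form₀ p q = 0 →
      (∀ e f : F₀, e • p + f • q = 0 → e = 0 ∧ f = 0) → ∀ h, pairTau S.alt (R p) (s • R q) h ∈ K := by
    intro s hs p q hpq hli hp
    obtain ⟨γ, hγ, hγu, hγb⟩ := exists_isometry_map_pair S.symp hub'li hli
      (by rw [hfsw0 (show S.form₀ b' u = 0 from hb' 0), hpq])
    obtain ⟨G, hG, hGy⟩ := hlift γ hγ
    have h1 := K.mul_mem (K.mul_mem hG (hs (by rw [map_smul, hub', smul_zero]))) (K.inv_mem hG)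
    rw [pairTau_conj S.alt (hK hG)] at h1
    simpa [map_smul, hGy, hγu, hγb] using h1
  let T : Set F := {s | ∀ p q, S.form₀ p q = 0 → (∀ e f : F₀, e • p + f • q = 0 → e = 0 ∧ f = 0) →
    ∀ h, pairTau S.alt (R p) (s • R q) h ∈ K}
  have hTβ : m * μ a ∈ T := hspread _ fun _ => hone
  have hT₀ : ∀ x ∈ F₀, x ∈ T := fun x hx p q hpq _ h => by
    have h' : B (R p) (R ((⟨x, hx⟩ : F₀) • q)) = 0 := by rw [hsmul]; exact h
    have h1 := hpair h'
    simpa [hsmul] using h1
  have hTadd : ∀ x ∈ T, ∀ y ∈ T, x + y ∈ T := by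
    intro x hx y hy p q hpq hli h
    have hpq0 : B (R p) (R q) = 0 := hperp hpq
    have h1 := K.mul_mem (hx p q hpq hli (by rw [map_smul, hpq0, smul_zero]))
      (hy p q hpq hli (by rw [map_smul, hpq0, smul_zero]))
    convert h1 using 1
    refine LinearEquiv.ext fun v => ?_
    simp only [LinearEquiv.mul_apply, pairTau_apply, map_add, map_smul, LinearMap.add_apply,
      LinearMap.smul_apply, S.alt (R p), S.alt (R q), hpq0, hsw (R q) (R p), smul_eq_mul]
    module
  have hTmul : ∀ x ∈ T, ∀ y ∈ T, x * y ∈ T := by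
    intro x hx y hy
    refine hspread _ fun h => ?_
    -- a third vector paired with `b'`
    have hli2 : LinearIndependent F₀ ![b', u] := S.li_cons hu0 hb'n
    obtain ⟨p, hp⟩ := S.exists_vals hli2 ![-1, 0]
    have hpb : S.form₀ b' p = 1 := by rw [hfswap, show S.form₀ p b' = -1 from hp 0, neg_neg]
    obtain ⟨v, hv, hvn⟩ := S.exists_ker ![u, b', p] (Submodule.span F₀ (Set.range ![b', u])) (by
      rw [finrank_span_eq_card hli2, Fintype.card_fin]; have := S.dim; omega)
    have hliuv : ∀ e f : F₀, e • u + f • v = 0 → e = 0 ∧ f = 0 :=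
      LinearIndependent.pair_iff.1 (LinearIndependent.pair_symm_iff.1 (S.li_cons hu0 fun h =>
        hvn (Submodule.span_mono (by rintro x rfl; exact ⟨1, rfl⟩) h)))
    have hliuv' := hliuv
    have hlipv : ∀ e f : F₀, e • p + f • v = 0 → e = 0 ∧ f = 0 := by
      intro e f hef
      have he : e = 0 := by
        have h1 := congrArg (toBil S.symp b') hef
        simp only [map_add, map_smul, map_zero, toBil_apply, hpb, hfsw0 (show S.form₀ v b' = 0 from hv 1), smul_eq_mul, mul_one,
          mul_zero, add_zero] at h1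
        exact h1
      refine ⟨he, ?_⟩
      rw [he, zero_smul, zero_add] at hef
      exact (smul_eq_zero.1 hef).resolve_right fun e0 => hvn (by rw [e0]; exact Submodule.zero_mem _)
    have hpv : B (R p) (R v) = 0 := hperp (hfsw0 (hv 2))
    have huv : B (R u) (R v) = 0 := hperp (hfsw0 (hv 0))
    have hup : B (R u) (R p) = 0 := hperp (hfsw0 (hp 1))
    have hbv : B (R b') (R v) = 0 := hperp (hfsw0 (hv 1))
    -- the target pair
    have h2 : pairTau S.alt (R u) ((x * y) • R v) (by rw [map_smul, huv, smul_zero]) ∈ K := by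
      have hub0 : B (R u) (R b') = 0 := hub'
      have hpy : B (R p) (y • R v) = 0 := by rw [map_smul, hpv, smul_zero]
      set H₁ := pairTau S.alt (R p) (y • R v) hpy
      have hH₁ : H₁ ∈ K := hy p v (hfsw0 (hv 2)) hlipv hpy
      have hX := hx u b' (hfsw0 (hb' 0)) hub'li (by rw [map_smul, hub', smul_zero])
      have h3 := K.mul_mem (K.inv_mem hX) (K.mul_mem (K.mul_mem hH₁ hX) (K.inv_mem hH₁))
      rw [pairTau_conj S.alt (hK hH₁)] at h3
      convert h3 using 1
      rw [eq_inv_mul_iff_mul_eq]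
      refine LinearEquiv.ext fun z => ?_
      have e1 : H₁ (R u) = R u := by
        rw [pairTau_apply, hup, map_smul, huv, smul_zero, zero_smul, zero_smul, add_zero, add_zero]
      have e2 : H₁ (x • R b') = x • R b' + (x * y) • R v := by
        rw [pairTau_apply, map_smul, LinearMap.smul_apply, LinearMap.smul_apply, map_smul, hbv,
          show B (R b') (R p) = 1 by rw [hval, hpb]; rfl]
        simp [smul_smul]
      simp only [LinearEquiv.mul_apply, pairTau_apply, e1, e2, map_add, map_smul, LinearMap.add_apply,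
        LinearMap.smul_apply, huu, hub0, huv, hbv, hsw (R b') (R u), hsw (R v) (R u),
        hsw (R v) (R b'), smul_eq_mul]
      module
    obtain ⟨γ, hγ, hγu, hγb⟩ := exists_isometry_map_pair S.symp hliuv' hub'li
      (by rw [hfsw0 (show S.form₀ v u = 0 from hv 0), hfsw0 (show S.form₀ b' u = 0 from hb' 0)])
    obtain ⟨G, hG, hGy⟩ := hlift γ hγ
    have h4 := K.mul_mem (K.mul_mem hG h2) (K.inv_mem hG)
    rw [pairTau_conj S.alt (hK hG)] at h4
    simpa [map_smul, hGy, hγu, hγb] using h4
  have hT : ∀ s, s ∈ T :=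
    eq_univ_of_prime_degree F₀ hr hcard hT₀ hTadd hTmul hTβ hprod
  -- long root elements
  have hlong : ∀ v e, FormsLib.tau S.alt (R v) e ∈ K := by
    intro v
    rcases eq_or_ne v 0 with rfl | hv0
    · intro e
      have : FormsLib.tau S.alt (R 0) e = 1 := by ext x; simp [hzero]
      rw [this]; exact K.one_mem
    obtain ⟨v', hv', hv'n⟩ := S.exists_ker ![v] (Submodule.span F₀ {v}) (by
      rw [finrank_span_singleton hv0]; have := S.dim; omega)
    have hli : LinearIndependent F₀ ![v', v] := S.li_cons hv0 hv'n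
    obtain ⟨p, hp⟩ := S.exists_vals hli ![1, 0]
    have hvv' : B (R v) (R v') = 0 := hperp (hfsw0 (hv' 0))
    have hvp : B (R v) (R p) = 0 := hperp (hfsw0 (hp 1))
    have hv'p : B (R v') (R p) = -1 := by
      rw [hval, hfswap, show S.form₀ p v' = 1 from hp 0]; rfl
    -- squares
    have hsq : ∀ s : F, FormsLib.tau S.alt (R v) (s * s) ∈ K := by
      intro s
      have hli' := LinearIndependent.pair_iff.1 (LinearIndependent.pair_symm_iff.1 hli)
      have hvs : B (R v) (s • R v') = 0 := by rw [map_smul, hvv', smul_zero]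
      have hX := hT s v v' (hfsw0 (hv' 0)) hli' hvs
      -- conjugate by a rational transvection, then remove the short parts
      have hvsp : B (R v) (s • R p) = 0 := by rw [map_smul, hvp, smul_zero]
      have hlivp : ∀ e f : F₀, e • v + f • p = 0 → e = 0 ∧ f = 0 := by
        intro e f hef
        have hf' : f = 0 := by
          have h1 := congrArg (toBil S.symp v') hef
          simp only [map_add, map_smul, map_zero, toBil_apply, show S.form₀ v' v = 0 from hv' 0,
            hfswap v' p, show S.form₀ p v' = 1 from hp 0, smul_eq_mul, mul_zero, zero_add, mul_neg,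
            mul_one, neg_eq_zero] at h1
          exact h1
        rw [hf', zero_smul, add_zero] at hef
        exact ⟨(smul_eq_zero.1 hef).resolve_right hv0, hf'⟩
      have hY := hT s v p (hfsw0 (hp 1)) hlivp hvsp
      set τ₀ := FormsLib.tau S.alt (R p) (-1)
      have hτ₀ : τ₀ ∈ K := by simpa using htau p (-1)
      have h3 := K.mul_mem (K.inv_mem (K.mul_mem hX hY)) (K.mul_mem (K.mul_mem hτ₀ hX) (K.inv_mem hτ₀))
      rw [pairTau_conj S.alt (hK hτ₀)] at h3
      have h4 : FormsLib.tau S.alt (R v) (s * s) ∈ K ∨ FormsLib.tau S.alt (R v) (-(s * s)) ∈ K := by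
        first
          | left
            convert h3 using 1
            rw [eq_inv_mul_iff_mul_eq]
            refine LinearEquiv.ext fun x => ?_
            simp only [τ₀, LinearEquiv.mul_apply, pairTau_apply, FormsLib.tau_apply, map_add, map_smul,
              LinearMap.add_apply, LinearMap.smul_apply, S.alt (R v), hvv', hvp, hv'p,
              hsw (R v') (R v), hsw (R p) (R v), hsw (R p) (R v'), smul_eq_mul]
            module
          | right
            convert h3 using 1
            rw [eq_inv_mul_iff_mul_eq]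
            refine LinearEquiv.ext fun x => ?_
            simp only [τ₀, LinearEquiv.mul_apply, pairTau_apply, FormsLib.tau_apply, map_add, map_smul,
              LinearMap.add_apply, LinearMap.smul_apply, S.alt (R v), hvv', hvp, hv'p,
              hsw (R v') (R v), hsw (R p) (R v), hsw (R p) (R v'), smul_eq_mul]
            module
      rcases h4 with h4 | h4
      · exact h4
      · have := K.inv_mem h4
        rwa [FormsLib.tau_inv, neg_neg] at this
    intro e
    by_cases h20 : (2 : F) = 0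
    · haveI : CharP F 2 := CharTwo.of_one_ne_zero_of_two_eq_zero one_ne_zero h20
      obtain ⟨s, hs⟩ := FiniteField.isSquare_of_char_two (ringChar.eq F 2) e
      rw [hs]; exact hsq s
    · have he : e = ((e / 2 + 1) * (e / 2 + 1)) + -((e / 2) * (e / 2)) + -((1 : F) * 1) := by
        field_simp
        ring
      rw [he, ← FormsLib.tau_mul, ← FormsLib.tau_mul, ← FormsLib.tau_inv, ← FormsLib.tau_inv]
      exact K.mul_mem (K.mul_mem (hsq _) (K.inv_mem (hsq _))) (K.inv_mem (hsq _))
  -- all centres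
  have hstep : ∀ v : ι → F₀, ∀ x, (∀ e, FormsLib.tau S.alt x e ∈ K) → ∀ c : F,
      ∀ e, FormsLib.tau S.alt (x + c • R v) e ∈ K := by
    intro v x hx c e
    rcases eq_or_ne v 0 with rfl | hv0
    · rw [hzero, smul_zero, add_zero]; exact hx e
    by_cases hxv : B x (R v) = 0
    · by_cases hspan : ∀ p, S.form₀ p v = 0 → B x (R p) = 0
      · -- then `x` is on the line of `v`
        obtain ⟨p₀, hp₀⟩ := S.exists_vals (hli1 hv0) ![1]
        have hxeq : x = (-B x (R p₀)) • R v := by
          rw [← sub_eq_zero]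
          refine S.eq_zero_of_forall fun p => ?_
          have hq : S.form₀ (p - S.form₀ p v • p₀) v = 0 := by
            rw [← toBil_apply S.symp, map_sub, map_smul, LinearMap.sub_apply, LinearMap.smul_apply,
              toBil_apply, toBil_apply, show S.form₀ p₀ v = 1 from hp₀ 0, smul_eq_mul, mul_one, sub_self]
          have h1 := hspan _ hq
          rw [hsub, hsmul, map_sub, map_smul, smul_eq_mul, sub_eq_zero] at h1
          rw [map_sub, map_smul, LinearMap.sub_apply, LinearMap.smul_apply, smul_eq_mul, h1, hsw (R v),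
            hval p v]
          ring
        rw [hxeq, ← add_smul, FormsLib.tau_smul]
        exact hlong v _
      · push Not at hspan
        obtain ⟨p, hpv, hp⟩ := hspan
        have hli : ∀ e f : F₀, e • v + f • p = 0 → e = 0 ∧ f = 0 := by
          intro e f hef
          have h1 := congrArg (fun z => B x (R z)) hef
          simp only [hadd, hsmul, hzero, map_add, map_smul, map_zero, hxv, smul_eq_mul, mul_zero,
            zero_add, mul_eq_zero] at h1
          have hf' : f = 0 := Subtype.ext (h1.resolve_right hp)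
          rw [hf', zero_smul, add_zero] at hef
          exact ⟨(smul_eq_zero.1 hef).resolve_right hv0, hf'⟩
        have hvp : B (R v) ((c / B x (R p)) • R p) = 0 := by
          rw [map_smul, hperp (hfsw0 hpv), smul_zero]
        have hE := hT (c / B x (R p)) v p (hfsw0 hpv) hli hvp
        have h1 := hconj _ hE x e (hx e)
        rwa [pairTau_apply, hxv, zero_smul, add_zero, map_smul, smul_eq_mul, div_mul_cancel₀ _ hp] at h1
    · have h1 := hconj _ (hlong v (c / B x (R v))) x e (hx e)
      rwa [FormsLib.tau_apply, div_mul_cancel₀ _ hxv] at h1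
  refine (Subgroup.closure_le _).2 ?_
  rintro _ ⟨v, e, rfl⟩
  have hv : v = ∑ j, (((P⁻¹ : GL ι F) : Matrix ι ι F) *ᵥ v) j • R (Pi.single j 1) := by
    conv_lhs => rw [← mulVec_inv_mulVec P v, pi_eq_sum_univ' (((P⁻¹ : GL ι F) : Matrix ι ι F) *ᵥ v),
      Matrix.mulVec_sum]
    refine Finset.sum_congr rfl fun j _ => ?_
    rw [Matrix.mulVec_smul]
    show _ = _ • ratEmb F₀ P _
    rw [ratEmb_single]
  have hall : ∀ (s : Finset ι) (f : ι → F), ∀ e, FormsLib.tau S.alt (∑ j ∈ s, f j • R (Pi.single j 1)) e ∈ K := by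
    intro s f
    induction s using Finset.induction_on with
    | empty =>
      intro e
      rw [Finset.sum_empty]
      have : FormsLib.tau S.alt (0 : ι → F) e = 1 := by ext x; simp
      rw [this]; exact K.one_mem
    | insert a s has ih =>
      rw [Finset.sum_insert has, add_comm]
      exact hstep _ _ ih _
  rw [hv]
  exact hall _ _ e

end RatSetting

end Cfsg.Agent.TransvMax
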