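import Cfsg.Agent.Lib.TransvMax.UnitaryTools

/-!
Stabilisers of totally singular and of non-degenerate subspaces in a special unitary group.
-/

set_option autoImplicit false

namespace Cfsg.Agent.TransvMax

open scoped Matrix MatrixGroups
open Cfsg.Agent

variable {ι : Type} [Fintype ι] [DecidableEq ι] {F : Type*} [Field F] [Finite F]
  {σ : F ≃+* F} {f : (ι → F) → (ι → F) → F} (hf : Cfsg.Geo.IsUnitaryForm σ f)

include hf

omit [Finite F] in
theorem isoCentre_of_fix {W : Submodule F (ι → F)} {K : Subgroup (GL ι F)}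
    (hstab : ∀ h ∈ Cfsg.Geo.specialLinear ι F,
      (∀ x y, f ((h : Matrix ι ι F) *ᵥ x) ((h : Matrix ι ι F) *ᵥ y) = f x y) →
      (∀ w ∈ W, (h : Matrix ι ι F) *ᵥ w ∈ W) → h ∈ K)
    {u : ι → F} (hu : f u u = 0) (h : (∀ w ∈ W, f w u = 0) ∨ u ∈ W) : IsoCentre hf K u := by
  refine ⟨hu, fun e he => hstab _ (trv_mem_specialLinear _ _ _) (utrv_isometry hf hu he) fun w hw => ?_⟩
  rw [utrv_mulVec]
  rcases h with h | h
  · rwa [h w hw, mul_zero, zero_smul, add_zero]
  · exact W.add_mem hw (W.smul_mem _ h)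

/-- Overgroups of the stabiliser of a totally singular subspace. -/
theorem isoCentre_of_over_singular (hn : 13 ≤ Fintype.card ι) {W : Submodule F (ι → F)}
    (hW : ∀ x ∈ W, ∀ y ∈ W, f x y = 0) {K : Subgroup (GL ι F)}
    (hK : ∀ g ∈ K, ∀ x y, f ((g : Matrix ι ι F) *ᵥ x) ((g : Matrix ι ι F) *ᵥ y) = f x y)
    (hstab : ∀ h ∈ Cfsg.Geo.specialLinear ι F,
      (∀ x y, f ((h : Matrix ι ι F) *ᵥ x) ((h : Matrix ι ι F) *ᵥ y) = f x y) →
      (∀ w ∈ W, (h : Matrix ι ι F) *ᵥ w ∈ W) → h ∈ K)
    {g : GL ι F} (hgK : g ∈ K) {w₀ : ι → F} (hw₀ : w₀ ∈ W) (hg : (g : Matrix ι ι F) *ᵥ w₀ ∉ W) :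
    ∀ v, f v v = 0 → IsoCentre hf K v := by
  -- a centre not orthogonal to `W`
  obtain ⟨x, hxC, u, huW, hux⟩ : ∃ x, IsoCentre hf K x ∧ ∃ u ∈ W, f x u ≠ 0 := by
    by_contra hcon
    push Not at hcon
    set a := (g : Matrix ι ι F) *ᵥ w₀ with ha
    have haC : IsoCentre hf K a :=
      (isoCentre_of_fix hf hstab (hW _ hw₀ _ hw₀) (Or.inr hw₀)).map hgK (hK g hgK)
    -- a vector orthogonal to `W`, not to `a`
    obtain ⟨r, hr, hra⟩ : ∃ r ∈ hPerp hf W, f r a ≠ 0 := by
      by_contra hc
      push Not at hc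
      let Wp := hPerp hf W
      have hle : W ⊔ Submodule.span F {a} ≤ hPerp hf Wp := by
        refine sup_le (fun w hw y hy => herm_eq_zero_comm hf (hy w hw)) ?_
        rw [Submodule.span_le, Set.singleton_subset_iff]
        exact fun y hy => herm_eq_zero_comm hf (hc y hy)
      have hlt : W < W ⊔ Submodule.span F {a} := by
        refine lt_of_le_of_ne le_sup_left fun e => hg ?_
        rw [e]
        exact Submodule.mem_sup_right (Submodule.mem_span_singleton_self a)
      have h1 := Submodule.finrank_lt_finrank_of_lt (hlt.trans_le hle)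
      have h2 : Fintype.card ι ≤ Module.finrank F Wp + Module.finrank F W := finrank_hPerp_ge hf W
      have h3 : Module.finrank F (hPerp hf Wp) + Module.finrank F Wp ≤ Fintype.card ι := by
        set b := Module.finBasis F Wp
        have hbv : LinearIndependent F fun i => ((b i : Wp) : ι → F) :=
          b.linearIndependent.map' Wp.subtype Wp.ker_subtype
        let L : (ι → F) →ₗ[F] (Fin (Module.finrank F Wp) → F) :=
          LinearMap.pi fun i => hermFun hf ((b i : Wp) : ι → F)
        have hL : LinearMap.range L = ⊤ := LinearMap.range_eq_top.2 fun α => by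
          obtain ⟨z, hz⟩ := exists_herm_values hf hbv α
          exact ⟨z, funext hz⟩
        have hle' : hPerp hf Wp ≤ LinearMap.ker L := fun z hz => funext fun i => hz _ (b i).2
        have h4 := Submodule.finrank_mono hle'
        have h5 := L.finrank_range_add_finrank_ker
        rw [hL, finrank_top, Module.finrank_fin_fun, Module.finrank_fintype_fun_eq_card] at h5
        omega
      omega
    obtain ⟨τ, hτ⟩ := exists_trace_eq hf.ne_refl hf.involutive (a := -f r r)
      (by rw [map_neg, ← hf.herm])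
    set y := r + (σ (τ / f r a)) • a
    have hay : ∀ w ∈ W, f a w = 0 := fun w hw => hcon a haC w hw
    have hyW : ∀ w ∈ W, f y w = 0 := fun w hw => by
      rw [hf.add_left, hf.smul_left, hr w hw, hay w hw, mul_zero, add_zero]
    have hyy : f y y = 0 := by
      simp only [y, hf.add_left, herm_add_right hf, hf.smul_left, herm_smul_right hf,
        hf.involutive, haC.iso, mul_zero, add_zero]
      rw [hf.herm a r, ← map_mul, div_mul_cancel₀ _ hra]
      linear_combination hτ
    have hyC : IsoCentre hf K y :=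
      isoCentre_of_fix hf hstab hyy (Or.inl fun w hw => herm_eq_zero_comm hf (hyW w hw))
    have h1 := hcon _ (hyC.map (K.inv_mem hgK) (hK _ (K.inv_mem hgK))) w₀ hw₀
    rw [← hK g hgK, mulVec_inv_mulVec, ← ha] at h1
    refine hra ?_
    rwa [hf.add_left, hf.smul_left, haC.iso, mul_zero, add_zero] at h1
  -- everything with the same value
  have hmove : ∀ {z}, IsoCentre hf K z → ∀ w ∈ W, f z w ≠ 0 → ∀ v, f v v = 0 → f v w ≠ 0 →
      IsoCentre hf K v := by
    intro z hz w hw hzw v hv hvw
    have hu₁ : f w w = 0 := hW w hw w hw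
    obtain ⟨hd, c, hc, hmap⟩ := exists_hSiegel_map hf hu₁
      (b := (f z w)⁻¹ • z) (b' := (f v w)⁻¹ • v)
      (by rw [hf.smul_left, inv_mul_cancel₀ hzw]) (by rw [hf.smul_left, inv_mul_cancel₀ hvw])
      (by rw [herm_smul_smul hf, herm_smul_smul hf, hv, hz.iso, mul_zero, mul_zero, mul_zero, mul_zero])
    have hS : hSiegel hf hu₁ hd c ∈ K := by
      refine hstab _ (hSiegel_mem_SL hf hu₁ hd c) (hSiegel_isometry hf hu₁ hd hc) fun y hy => ?_
      rw [hSiegel_mulVec, hW y hy w hw, zero_smul, add_zero]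
      exact W.add_mem hy (W.smul_mem _ hw)
    have h1 := ((hz.smul (f z w)⁻¹).map hS (hK _ hS)).smul (f v w)
    rwa [hmap, smul_smul, mul_inv_cancel₀ hvw, one_smul] at h1
  intro v hv
  by_cases hvW : ∀ w ∈ W, f w v = 0
  · exact isoCentre_of_fix hf hstab hv (Or.inl hvW)
  push Not at hvW
  obtain ⟨u', hu', hu'v⟩ := hvW
  have hvu' : f v u' ≠ 0 := fun h => hu'v (herm_eq_zero_comm hf h)
  by_cases hs : u' ∈ Submodule.span F {u}
  · obtain ⟨s, rfl⟩ := Submodule.mem_span_singleton.1 hs
    refine hmove hxC u huW hux v hv fun h => hvu' ?_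
    rw [herm_smul_right hf, h, mul_zero]
  have hu0 : u ≠ 0 := fun e => hux (by rw [e, herm_zero_right hf])
  obtain ⟨y, hy, hyv⟩ := exists_iso_values hf (v := ![u', u])
    (linearIndependent_finCons.2 ⟨by simp [linearIndependent_unique_iff, hu0], by simpa using hs⟩)
    (by omega) ![1, 1]
  have hyC := hmove hxC u huW hux y hy (by rw [show f y u = 1 from hyv 1]; exact one_ne_zero)
  exact hmove hyC u' hu' (by rw [show f y u' = 1 from hyv 0]; exact one_ne_zero) v hv hvu'

/-- Overgroups of the stabiliser of a non-degenerate subspace of less than half dimension. -/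
theorem isoCentre_of_over_nondeg (hn : 13 ≤ Fintype.card ι) {W : Submodule F (ι → F)}
    (hW : Cfsg.Geo.IsNondegenerateOn f W) (hdim : 2 * Module.finrank F W < Fintype.card ι)
    {K : Subgroup (GL ι F)}
    (hK : ∀ g ∈ K, ∀ x y, f ((g : Matrix ι ι F) *ᵥ x) ((g : Matrix ι ι F) *ᵥ y) = f x y)
    (hstab : ∀ h ∈ Cfsg.Geo.specialLinear ι F,
      (∀ x y, f ((h : Matrix ι ι F) *ᵥ x) ((h : Matrix ι ι F) *ᵥ y) = f x y) →
      (∀ w ∈ W, (h : Matrix ι ι F) *ᵥ w ∈ W) → h ∈ K)
    {g : GL ι F} (hgK : g ∈ K) {w₀ : ι → F} (hw₀ : w₀ ∈ W) (hg : (g : Matrix ι ι F) *ᵥ w₀ ∉ W) :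
    ∀ v, f v v = 0 → IsoCentre hf K v := by
  set W' := hPerp hf W
  have hcd : IsCompl W W' := hPerp_nondeg hf hW
  have hW' : Cfsg.Geo.IsNondegenerateOn f W' := hPerp_isNondeg hf hW
  have hd' : 7 ≤ Module.finrank F W' := by
    have := (show Fintype.card ι ≤ Module.finrank F W' + Module.finrank F W from finrank_hPerp_ge hf W)
    omega
  have hor : ∀ a ∈ W, ∀ b ∈ W', f a b = 0 := fun a ha b hb => herm_eq_zero_comm hf (hb a ha)
  have hor' : ∀ a ∈ W, ∀ b ∈ W', f b a = 0 := fun a ha b hb => hb a ha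
  have hsplit : ∀ a ∈ W, ∀ b ∈ W', ∀ a' ∈ W, ∀ b' ∈ W', f (a + b) (a' + b') = f a a' + f b b' := by
    intro a ha b hb a' ha' b' hb'
    rw [hf.add_left, herm_add_right hf, herm_add_right hf, hor a ha b' hb', hor' a' ha' b hb]
    ring
  have hWC : ∀ a ∈ W, f a a = 0 → IsoCentre hf K a := fun a ha h =>
    isoCentre_of_fix hf hstab h (Or.inr ha)
  have hW'C : ∀ b ∈ W', f b b = 0 → IsoCentre hf K b := fun b hb h =>
    isoCentre_of_fix hf hstab h (Or.inl fun w hw => hor w hw b hb)
  have hfx : σ 0 = (0 : F) := map_zero σ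
  have hli1 : ∀ {u : ι → F}, u ≠ 0 → LinearIndependent F ![u] := fun h => by
    simp [linearIndependent_unique_iff, h]
  have hli2 : ∀ {u v : ι → F}, v ≠ 0 → u ∉ Submodule.span F {v} → LinearIndependent F ![u, v] :=
    fun h h' => linearIndependent_finCons.2 ⟨hli1 h, by simpa using h'⟩
  -- a centre outside both subspaces
  obtain ⟨x, hxC, hx, hx'⟩ : ∃ x, IsoCentre hf K x ∧ x ∉ W ∧ x ∉ W' := by
    by_contra hcon
    push Not at hcon
    have hall : ∀ b ∈ W', f b b = 0 →
        (g : Matrix ι ι F) *ᵥ b ∈ W ∨ (g : Matrix ι ι F) *ᵥ b ∈ W' := fun b hb hbb => by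
      by_contra h
      push Not at h
      exact h.2 (hcon _ ((hW'C b hb hbb).map hgK (hK g hgK)) h.1)
    have hadj : ∀ b ∈ W', ∀ c ∈ W', f b b = 0 → f c c = 0 → f b c ≠ 0 →
        (g : Matrix ι ι F) *ᵥ b ∈ W → (g : Matrix ι ι F) *ᵥ c ∈ W := by
      intro b hb c hc hbb hcc hne hgb
      rcases hall c hc hcc with h | h
      · exact h
      · exact absurd (by rw [← hK g hgK]; exact hor _ hgb _ h) hne
    by_cases hex : ∃ b ∈ W', b ≠ 0 ∧ f b b = 0 ∧ (g : Matrix ι ι F) *ᵥ b ∈ W
    · obtain ⟨b, hb, hb0, hbb, hgb⟩ := hex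
      have hiso : ∀ c ∈ W', f c c = 0 → (g : Matrix ι ι F) *ᵥ c ∈ W := by
        intro c hc hcc
        by_cases hcs : c ∈ Submodule.span F {b}
        · obtain ⟨s, rfl⟩ := Submodule.mem_span_singleton.1 hcs
          rw [Matrix.mulVec_smul]
          exact W.smul_mem _ hgb
        obtain ⟨d, hd, hdd, hdv⟩ := exists_values_in hf hW' (v := ![c, b])
          (fun i => by fin_cases i <;> assumption) (hli2 hb0 hcs) (by omega) ![1, 1] hfx
        refine hadj d hd c hc hdd hcc (by rw [show f d c = 1 from hdv 0]; exact one_ne_zero)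
          (hadj b hb d hd hbb hdd (fun h => ?_) hgb)
        exact one_ne_zero ((show f d b = 1 from hdv 1).symm.trans (herm_eq_zero_comm hf h))
      have hle : W'.map (Matrix.toLin' (g : Matrix ι ι F)) ≤ W := by
        rintro _ ⟨c, hc, rfl⟩
        rw [Matrix.toLin'_apply]
        rcases eq_or_ne c 0 with rfl | hc0
        · rw [Matrix.mulVec_zero]; exact W.zero_mem
        obtain ⟨τ, hτ⟩ := exists_trace_eq hf.ne_refl hf.involutive (hf.herm c c).symm
        obtain ⟨u, hu, huu, huv⟩ := exists_values_in hf hW' (v := ![c])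
          (fun i => by fin_cases i; exact hc) (hli1 hc0) (by omega) ![τ] hfx
        have h1 : f (c - u) (c - u) = 0 := by
          simp only [herm_sub_left hf, herm_sub_right hf, huu, show f u c = τ from huv 0, hf.herm c u]
          rw [← hτ]; ring
        have := W.add_mem (hiso _ (W'.sub_mem hc hu) h1) (hiso u hu huu)
        rwa [← Matrix.mulVec_add, sub_add_cancel] at this
      have h1 := Submodule.finrank_mono hle
      rw [← LinearEquiv.finrank_eq (Submodule.equivMapOfInjective _
        (fun a b h => by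
          simpa [Matrix.toLin'_apply, inv_mulVec_mulVec] using
            congrArg (((g⁻¹ : GL ι F) : Matrix ι ι F) *ᵥ ·) h) W')] at h1
      have := (show Fintype.card ι ≤ Module.finrank F W' + Module.finrank F W from finrank_hPerp_ge hf W)
      omega
    · push Not at hex
      have hiso : ∀ c ∈ W', f c c = 0 → (g : Matrix ι ι F) *ᵥ c ∈ W' := by
        intro c hc hcc
        rcases eq_or_ne c 0 with rfl | hc0
        · rw [Matrix.mulVec_zero]; exact W'.zero_mem
        exact (hall c hc hcc).resolve_left (hex c hc hc0 hcc)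
      have hmap : ∀ c ∈ W', (g : Matrix ι ι F) *ᵥ c ∈ W' := by
        intro c hc
        rcases eq_or_ne c 0 with rfl | hc0
        · rw [Matrix.mulVec_zero]; exact W'.zero_mem
        obtain ⟨τ, hτ⟩ := exists_trace_eq hf.ne_refl hf.involutive (hf.herm c c).symm
        obtain ⟨u, hu, huu, huv⟩ := exists_values_in hf hW' (v := ![c])
          (fun i => by fin_cases i; exact hc) (hli1 hc0) (by omega) ![τ] hfx
        have h1 : f (c - u) (c - u) = 0 := by
          simp only [herm_sub_left hf, herm_sub_right hf, huu, show f u c = τ from huv 0, hf.herm c u]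
          rw [← hτ]; ring
        have := W'.add_mem (hiso _ (W'.sub_mem hc hu) h1) (hiso u hu huu)
        rwa [← Matrix.mulVec_add, sub_add_cancel] at this
      refine hg ?_
      obtain ⟨a, ha, b, hb, hab⟩ :=
        Submodule.mem_sup.1 (hcd.sup_eq_top.ge (Submodule.mem_top (x := (g : Matrix ι ι F) *ᵥ w₀)))
      rcases eq_or_ne b 0 with rfl | hb0
      · rw [← hab, add_zero]; exact ha
      exfalso
      -- `g` maps `W'` onto itself
      have hsurj : ∀ c ∈ W', ∃ d ∈ W', (g : Matrix ι ι F) *ᵥ d = c := by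
        have e : W'.map (Matrix.toLin' (g : Matrix ι ι F)) = W' := by
          refine Submodule.eq_of_le_of_finrank_eq (by
            rintro _ ⟨c, hc, rfl⟩
            rw [Matrix.toLin'_apply]; exact hmap c hc) ?_
          exact (LinearEquiv.finrank_eq (Submodule.equivMapOfInjective _
            (fun a b h => by
              simpa [Matrix.toLin'_apply, inv_mulVec_mulVec] using
                congrArg (((g⁻¹ : GL ι F) : Matrix ι ι F) *ᵥ ·) h) W')).symm
        intro c hc
        rw [← e] at hc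
        obtain ⟨d, hd, hdc⟩ := hc
        exact ⟨d, hd, by rwa [Matrix.toLin'_apply] at hdc⟩
      obtain ⟨c, hc, hcb⟩ := (hW' b hb hb0).1
      obtain ⟨d, hd, rfl⟩ := hsurj c hc
      refine hcb ?_
      have h1 := hor' w₀ hw₀ d hd
      rw [← hK g hgK, ← hab, herm_add_right hf, hor' a ha _ hc, zero_add] at h1
      exact h1
  obtain ⟨a₀, ha₀, b₀, hb₀, rfl⟩ :=
    Submodule.mem_sup.1 (hcd.sup_eq_top.ge (Submodule.mem_top (x := x)))
  have ha₀0 : a₀ ≠ 0 := fun e => hx' (by rw [e, zero_add]; exact hb₀)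
  have hb₀0 : b₀ ≠ 0 := fun e => hx (by rw [e, add_zero]; exact ha₀)
  have hperp1 : ∀ b ∈ W', b ≠ 0 → ∃ c ∈ W', f c b = 0 ∧ c ∉ Submodule.span F {b} := by
    intro b hb hb0
    by_contra hcon
    push Not at hcon
    have h3 : W' ⊓ LinearMap.ker (hermFun hf b) ≤ Submodule.span F {b} :=
      fun z hz => hcon z hz.1 hz.2
    have h4 := Submodule.finrank_mono h3
    rw [finrank_span_singleton hb0] at h4
    have h5 := FormsLib.finrank_inf_ker W' (hermFun hf b)
    omega
  -- moving the second component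
  have hS1 : ∀ a ∈ W, ∀ b ∈ W', ∀ b' ∈ W', b ≠ 0 → b' ≠ 0 → f b b = f b' b' →
      IsoCentre hf K (a + b) → IsoCentre hf K (a + b') := by
    intro a ha
    have step : ∀ b ∈ W', ∀ b' ∈ W', f b b = f b' b' → LinearIndependent F ![b, b'] →
        IsoCentre hf K (a + b) → IsoCentre hf K (a + b') := by
      intro b hb b' hb' hN hli hC
      obtain ⟨u, hu, huu, huv⟩ := exists_values_in hf hW' (v := ![b, b'])
        (fun i => by fin_cases i <;> assumption) hli (by omega) ![1, 1] hfx
      have h1 : f b u = 1 := by rw [hf.herm, show f u b = 1 from huv 0, map_one]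
      have h2 : f b' u = 1 := by rw [hf.herm, show f u b' = 1 from huv 1, map_one]
      obtain ⟨hz, c, hc, hmap⟩ := exists_hSiegel_map hf huu h1 h2 hN.symm
      have hfixW : ∀ w ∈ W, (hSiegel hf huu hz c : Matrix ι ι F) *ᵥ w = w := fun w hw => by
        rw [hSiegel_mulVec, hor w hw u hu, hor w hw _ (W'.sub_mem hb' hb)]
        simp
      have hSK : hSiegel hf huu hz c ∈ K := hstab _ (hSiegel_mem_SL hf huu hz c)
        (hSiegel_isometry hf huu hz hc) fun w hw => by rw [hfixW w hw]; exact hw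
      have h3 := hC.map hSK (hK _ hSK)
      rwa [Matrix.mulVec_add, hfixW a ha, hmap] at h3
    intro b hb b' hb' hb0 hb'0 hN hC
    by_cases hli : b ∈ Submodule.span F {b'}
    · obtain ⟨c, hc, hcb, hcn⟩ := hperp1 b' hb' hb'0
      obtain ⟨d, hd, hdd, hdv⟩ := exists_values_in hf hW' (v := ![c, b'])
        (fun i => by fin_cases i <;> assumption) (hli2 hb'0 hcn) (by omega) ![1, 0]
        (hf.herm b' b').symm
      have hdn : d ∉ Submodule.span F {b'} := by
        intro hds
        obtain ⟨s, rfl⟩ := Submodule.mem_span_singleton.1 hds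
        have h1 : f (s • b') c = 1 := hdv 0
        rw [hf.smul_left, herm_eq_zero_comm hf hcb, mul_zero] at h1
        exact zero_ne_one h1
      have hd0 : d ≠ 0 := fun e => hdn (by rw [e]; exact Submodule.zero_mem _)
      have hdb : b ∉ Submodule.span F {d} := by
        intro h
        obtain ⟨r, hr⟩ := Submodule.mem_span_singleton.1 h
        have hr0 : r ≠ 0 := fun e => hb0 (by rw [← hr, e, zero_smul])
        refine hdn ?_
        rw [← inv_smul_smul₀ hr0 d, hr]
        exact Submodule.smul_mem _ _ hli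
      exact step d hd b' hb' hdd (hli2 hb'0 hdn)
        (step b hb d hd (hN.trans hdd.symm) (hli2 hd0 hdb) hC)
    · exact step b hb b' hb' hN (hli2 hb'0 hli) hC
  -- the first components
  let U : Submodule F (ι → F) :=
    { carrier := {a | a = 0 ∨ a ∈ W ∧ ∀ b ∈ W', b ≠ 0 → f b b = -f a a → IsoCentre hf K (a + b)}
      zero_mem' := Or.inl rfl
      smul_mem' := by
        rintro c a (rfl | ⟨ha, hC⟩)
        · exact Or.inl (smul_zero c)
        rcases eq_or_ne c 0 with rfl | hc
        · exact Or.inl (zero_smul F a)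
        refine Or.inr ⟨W.smul_mem c ha, fun b hb hb0 hN => ?_⟩
        have h1 := hC (c⁻¹ • b) (W'.smul_mem _ hb) (smul_ne_zero (inv_ne_zero hc) hb0) (by
          rw [herm_smul_smul hf, hN, herm_smul_smul hf, map_inv₀]
          have : σ c ≠ 0 := (map_ne_zero σ).2 hc
          field_simp)
        have h2 := h1.smul c
        rwa [smul_add, smul_smul, mul_inv_cancel₀ hc, one_smul] at h2
      add_mem' := by
        rintro a a' ha ha'
        rcases ha with rfl | ⟨ha, hC⟩
        · simpa using ha'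
        rcases ha' with rfl | ⟨ha', hC'⟩
        · simpa using Or.inr ⟨ha, hC⟩
        by_cases hsum : a + a' = 0
        · exact Or.inl hsum
        refine Or.inr ⟨W.add_mem ha ha', fun b hb hb0 hN => ?_⟩
        obtain ⟨e, he0, he⟩ := exists_trace_zero hf.ne_refl hf.involutive
        obtain ⟨c₀, hc₀, hc₀0⟩ := Submodule.exists_mem_ne_zero_of_ne_bot
          (show W' ≠ ⊥ from fun h => by rw [h, finrank_bot] at hd'; omega)
        obtain ⟨b₁, hb₁, hb₁N, hb₁v⟩ := exists_values_in hf hW' (v := ![c₀])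
          (fun i => by fin_cases i; exact hc₀) (hli1 hc₀0) (by omega) ![1] (γ := -f a a)
          (by rw [map_neg, ← hf.herm])
        have hb₁0 : b₁ ≠ 0 := fun h => by
          have : f b₁ c₀ = 1 := hb₁v 0
          rw [h, herm_zero_left hf] at this
          exact zero_ne_one this
        obtain ⟨c, hc, hcb, hcn⟩ := hperp1 b₁ hb₁ hb₁0
        -- the partner, with inner product chosen so that the line map adds `a'`
        obtain ⟨b₂, hb₂, hb₂N, hb₂v⟩ := exists_values_in hf hW' (v := ![c, b₁])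
          (fun i => by fin_cases i <;> assumption) (hli2 hb₁0 hcn) (by omega)
          ![1, σ (e⁻¹ - f a a')] (γ := -f a' a') (by rw [map_neg, ← hf.herm])
        have hb₂0 : b₂ ≠ 0 := fun h => by
          have : f b₂ c = 1 := hb₂v 0
          rw [h, herm_zero_left hf] at this
          exact zero_ne_one this
        have h1 := (hC b₁ hb₁ hb₁0 hb₁N).line (hC' b₂ hb₂ hb₂0 hb₂N) he
        rw [hsplit a ha b₁ hb₁ a' ha' b₂ hb₂, hf.herm b₁ b₂,
          show f b₂ b₁ = σ (e⁻¹ - f a a') from hb₂v 1, hf.involutive, add_sub_cancel,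
          mul_inv_cancel₀ he0, one_smul, add_add_add_comm] at h1
        have h12 : b₁ + b₂ ≠ 0 := fun h => by
          have h2 : f (b₁ + b₂) c = 1 := by
            rw [hf.add_left, herm_eq_zero_comm hf hcb, show f b₂ c = 1 from hb₂v 0, zero_add]
          rw [h, herm_zero_left hf] at h2
          exact zero_ne_one h2
        refine hS1 _ (W.add_mem ha ha') _ (W'.add_mem hb₁ hb₂) b hb h12 hb0 ?_ h1
        have h2 := h1.iso
        rw [hsplit _ (W.add_mem ha ha') _ (W'.add_mem hb₁ hb₂) _ (W.add_mem ha ha') _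
          (W'.add_mem hb₁ hb₂)] at h2
        rw [hN]
        linear_combination h2 }
  have hU : ∀ a ∈ W, ∀ b ∈ W', b ≠ 0 → IsoCentre hf K (a + b) → a ∈ U := by
    intro a ha b hb hb0 hC
    refine Or.inr ⟨ha, fun b' hb' hb'0 hN => hS1 a ha b hb b' hb' hb0 hb'0 ?_ hC⟩
    have h1 := hC.iso
    rw [hsplit a ha b hb a ha b hb] at h1
    rw [hN]
    linear_combination h1
  have hinv : ∀ a ∈ U, ∀ p ∈ W, f a p ≠ 0 → p ∈ U := by
    intro a haU p hp hap
    rcases haU with rfl | ⟨ha, hC⟩
    · exact absurd (herm_zero_left hf p) hap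
    suffices ∃ t : F, t ≠ 0 ∧ a + t • p ∈ U by
      obtain ⟨t, ht0, ht⟩ := this
      have h1 := U.smul_mem t⁻¹ (U.sub_mem ht (Or.inr ⟨ha, hC⟩ : a ∈ U))
      rwa [add_sub_cancel_left, smul_smul, inv_mul_cancel₀ ht0, one_smul] at h1
    have hfix : σ (-f a a) = -f a a := by rw [map_neg, ← hf.herm]
    obtain ⟨p', hp', hp'p⟩ : ∃ p' ∈ W', f p' p' = 1 := by
      obtain ⟨c₀, hc₀, hc₀0⟩ := Submodule.exists_mem_ne_zero_of_ne_bot
        (show W' ≠ ⊥ from fun h => by rw [h, finrank_bot] at hd'; omega)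
      obtain ⟨q', hq', hqq, -⟩ := exists_values_in hf hW' (v := ![c₀])
        (fun i => by fin_cases i; exact hc₀) (hli1 hc₀0) (by omega) ![1] (γ := (1 : F)) (map_one σ)
      exact ⟨q', hq', hqq⟩
    have hp'0 : p' ≠ 0 := fun e => by rw [e, herm_zero_left hf] at hp'p; exact zero_ne_one hp'p
    obtain ⟨c, hc, -, hcn⟩ := hperp1 p' hp' hp'0
    obtain ⟨b, hb, hbN, hbv⟩ := exists_values_in hf hW' (v := ![c, p'])
      (fun i => by fin_cases i <;> assumption) (hli2 hp'0 hcn) (by omega) ![1, 0] hfix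
    have hb0 : b ≠ 0 := fun e => by
      have h1 : f b c = 1 := hbv 0
      rw [e, herm_zero_left hf] at h1
      exact zero_ne_one h1
    have hab := hC b hb hb0 hbN
    by_cases hpp : f p p = 0
    · obtain ⟨e, he0, he⟩ := exists_trace_zero hf.ne_refl hf.involutive
      have h1 := hab.line (hWC p hp hpp) he
      rw [hf.add_left, hor' p hp b hb, add_zero, add_right_comm] at h1
      exact ⟨e * f a p, mul_ne_zero he0 hap,
        hU _ (W.add_mem ha (W.smul_mem _ hp)) b hb hb0 h1⟩
    · obtain ⟨r, hrS, hriso, μ, μ', hμ, hr⟩ :=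
        exists_refl_pair hf hpp (show f p' p' ≠ 0 by rw [hp'p]; exact one_ne_zero) (hor p hp p' hp')
      have hrK : r ∈ K := hstab r hrS hriso fun w hw => by
        rw [hr, hor w hw p' hp', mul_zero, zero_smul, add_zero]
        exact W.add_mem hw (W.smul_mem _ hp)
      have h1 := hab.map hrK hriso
      rw [hr, hf.add_left, hf.add_left, hor' p hp b hb, hor a ha p' hp',
        show f b p' = 0 from hbv 1, add_zero, add_zero, mul_zero, zero_smul, add_zero,
        add_right_comm] at h1
      exact ⟨μ * f a p, mul_ne_zero hμ hap, hU _ (W.add_mem ha (W.smul_mem _ hp)) b hb hb0 h1⟩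
  have ha₀U : a₀ ∈ U := hU a₀ ha₀ b₀ hb₀ hb₀0 hxC
  intro v hv
  obtain ⟨a, ha, b, hb, rfl⟩ :=
    Submodule.mem_sup.1 (hcd.sup_eq_top.ge (Submodule.mem_top (x := v)))
  have hN := hv
  rw [hsplit a ha b hb a ha b hb] at hN
  rcases eq_or_ne a 0 with rfl | ha0
  · rw [zero_add]
    rw [herm_zero_left hf, zero_add] at hN
    exact hW'C b hb hN
  rcases eq_or_ne b 0 with rfl | hb0
  · rw [add_zero]
    rw [herm_zero_left hf, add_zero] at hN
    exact hWC a ha hN
  have haU : a ∈ U := by
    by_cases h : f a₀ a = 0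
    · obtain ⟨r, hr, hra⟩ := (hW a₀ ha₀ ha₀0).2
      have h1 := hinv a₀ ha₀U (a + r) (W.add_mem ha hr)
        (by rwa [herm_add_right hf, h, zero_add])
      have h2 := U.sub_mem h1 (hinv a₀ ha₀U r hr hra)
      rwa [add_sub_cancel_right] at h2
    · exact hinv a₀ ha₀U a ha h
  rcases haU with rfl | ⟨-, hC⟩
  · exact absurd rfl ha0
  exact hC b hb hb0 (eq_neg_of_add_eq_zero_right hN)

end Cfsg.Agent.TransvMax
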