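import Cfsg.Agent.Lib.TransvMax.SymRoot

/-!
Every projective involution of an orthogonal group of even dimension normalises self-adjoint roots from
both classes.
-/

set_option autoImplicit false
set_option linter.unusedSectionVars false

namespace Cfsg.Agent.SymRoot

open Cfsg.Agent Cfsg.Agent.FormsLib Module QuadraticMap

variable {F : Type*} [Field F] [Fintype F] {ι : Type} [Fintype ι] [DecidableEq ι]
  {Q : QuadraticForm F (ι → F)}

/-- An orthogonal basis in pairs adapted to `x`. -/
def IsAdapted {d : ℕ} (x : (ι → F) ≃ₗ[F] (ι → F)) (v : Fin d × Fin 2 → ι → F) : Prop :=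
  (∀ i, ∃ s : F, x (v (i, 0)) = s • v (i, 0) ∧ x (v (i, 1)) = s • v (i, 1)) ∨
  (∀ i, x (v (i, 0)) = v (i, 1) ∧ x (v (i, 1)) = -v (i, 0))

/-- Pairing of eigenvectors of an involution of determinant one. -/
theorem exists_adapted_invol (h2 : (2 : F) ≠ 0) (hQ : (polarBilin Q).Nondegenerate) (x : oGroup Q)
    (hdick : Spinor.dick x = 1) (hxx : ∀ v, x.1 (x.1 v) = v) {d : ℕ} (hdim : Fintype.card ι = 2 * d) :
    ∃ v : Fin d × Fin 2 → ι → F, TwoRank.IsOrth Q v ∧ IsAdapted x.1 v := by
  classical
  obtain ⟨v, hv, heig⟩ := TwoRank.exists_orth_eig h2 hQ {(x.1 : (ι → F) →ₗ[F] (ι → F))}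
    (fun a ha => by rw [Set.mem_singleton_iff.1 ha]; exact hxx)
    (fun a ha b hb => by rw [Set.mem_singleton_iff.1 ha, Set.mem_singleton_iff.1 hb]; exact fun _ => rfl)
    (fun a ha => by rw [Set.mem_singleton_iff.1 ha]; exact x.2)
  have heig' : ∀ i, x.1 (v i) = v i ∨ x.1 (v i) = -v i := fun i => heig i _ rfl
  set M := Finset.univ.filter fun i => ¬ x.1 (v i) = v i with hM
  let b := hv.basis h2
  have hb : ∀ i, b i = v i := hv.basis_apply h2
  -- the determinant counts the negative signs
  have hev : Even M.card := by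
    have hdet : LinearEquiv.det x.1 = 1 := (Spinor.dick_eq_one_iff_det hQ h2 x).1 hdick
    have h1 : LinearMap.det (x.1 : (ι → F) →ₗ[F] (ι → F)) = 1 := by
      rw [← LinearEquiv.coe_det, hdet, Units.val_one]
    have h2' : LinearMap.toMatrix b b (x.1 : (ι → F) →ₗ[F] (ι → F)) =
        Matrix.diagonal fun i => if x.1 (v i) = v i then (1 : F) else -1 := by
      ext i j
      rw [LinearMap.toMatrix_apply, hb, LinearEquiv.coe_coe]
      by_cases hj : x.1 (v j) = v j
      · rw [hj, ← hb j, b.repr_self, Finsupp.single_apply, Matrix.diagonal_apply]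
        by_cases hij : i = j
        · subst hij; simp [hj]
        · simp [hij, Ne.symm hij]
      · rw [(heig' j).resolve_left hj, ← hb j, map_neg, b.repr_self, Finsupp.neg_apply, Finsupp.single_apply,
          Matrix.diagonal_apply]
        by_cases hij : i = j
        · subst hij; simp [hj]
        · simp [hij, Ne.symm hij]
    rw [← LinearMap.det_toMatrix b, h2', Matrix.det_diagonal, Finset.prod_ite, Finset.prod_const_one, one_mul,
      Finset.prod_const, ← hM] at h1
    by_contra hodd
    rw [(Nat.not_even_iff_odd.1 hodd).neg_one_pow] at h1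
    exact h2 (by linear_combination -h1)
  obtain ⟨a, ha⟩ := hev
  set P := {i : Fin (Fintype.card ι) // x.1 (v i) = v i}
  set N := {i : Fin (Fintype.card ι) // ¬ x.1 (v i) = v i}
  have hN : Fintype.card N = 2 * a := by rw [Fintype.card_subtype, ← hM]; omega
  have hsum : Fintype.card P + Fintype.card N = 2 * d := by
    rw [← Fintype.card_sum, Fintype.card_congr (Equiv.sumCompl _), Fintype.card_fin, hdim]
  let σ : Fin d × Fin 2 ≃ Fin (Fintype.card ι) :=
    ((Equiv.prodCongrLeft fun _ => ((finCongr (by omega : d = (d - a) + a)).trans finSumFinEquiv.symm)).trans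
      (Equiv.sumProdDistrib _ _ _)).trans
      (((Fintype.equivOfCardEq (by simp; omega : Fintype.card (Fin (d - a) × Fin 2) = Fintype.card P)).sumCongr
        (Fintype.equivOfCardEq (by simp; omega : Fintype.card (Fin a × Fin 2) = Fintype.card N))).trans
          (Equiv.sumCompl _))
  refine ⟨v ∘ σ, ⟨fun i j hij => hv.orth _ _ (σ.injective.ne hij), fun i => hv.ne _, ?_⟩, Or.inl fun i => ?_⟩
  · rw [σ.surjective.range_comp]; exact hv.span
  · have key : (∀ j, x.1 (v (σ (i, j))) = v (σ (i, j))) ∨ (∀ j, x.1 (v (σ (i, j))) = -v (σ (i, j))) := by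
      rcases h : finSumFinEquiv.symm (finCongr (by omega : d = (d - a) + a) i) with k | k
      · refine Or.inl fun j => ?_
        have : σ (i, j) = ((Fintype.equivOfCardEq (by simp; omega :
            Fintype.card (Fin (d - a) × Fin 2) = Fintype.card P)) (k, j)).1 := by
          simp only [σ, Equiv.trans_apply, Equiv.prodCongrLeft_apply, h]
          rfl
        rw [this]
        exact (_ : P).2
      · refine Or.inr fun j => ?_
        have : σ (i, j) = ((Fintype.equivOfCardEq (by simp; omega :
            Fintype.card (Fin a × Fin 2) = Fintype.card N)) (k, j)).1 := by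
          simp only [σ, Equiv.trans_apply, Equiv.prodCongrLeft_apply, h]
          rfl
        rw [this]
        exact (heig' _).resolve_left (_ : N).2
    rcases key with h | h
    · exact ⟨1, by simpa using h 0, by simpa using h 1⟩
    · exact ⟨-1, by simpa using h 0, by simpa using h 1⟩

/-- A basis adapted to an isometry squaring to `-1`. -/
theorem exists_adapted_skew (h2 : (2 : F) ≠ 0) (hQ : (polarBilin Q).Nondegenerate) (x : oGroup Q)
    (hxx : ∀ v, x.1 (x.1 v) = -v) {d : ℕ} (hdim : Fintype.card ι = 2 * d) :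
    ∃ v : Fin d × Fin 2 → ι → F, TwoRank.IsOrth Q v ∧ IsAdapted x.1 v := by
  classical
  have hx : ∀ u w, polar Q (x.1 u) (x.1 w) = polar Q u w := polar_of_mem x.2
  suffices key : ∀ (n : ℕ) (W : Submodule F (ι → F)), finrank F W = n → (∀ w ∈ W, x.1 w ∈ W) →
      (∀ u ∈ W, (∀ w ∈ W, polar Q u w = 0) → u = 0) →
      ∃ (k : ℕ) (v : Fin k × Fin 2 → ι → F), (∀ i, v i ∈ W) ∧ (∀ i j, i ≠ j → polar Q (v i) (v j) = 0) ∧
        (∀ i, Q (v i) ≠ 0) ∧ (∀ i, x.1 (v (i, 0)) = v (i, 1)) ∧ W ≤ Submodule.span F (Set.range v) by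
    obtain ⟨k, v, -, h1, h3, h4, h5⟩ := key _ ⊤ rfl (fun _ _ => Submodule.mem_top)
      fun u _ h => hQ.1 u fun w => h w Submodule.mem_top
    have hv : TwoRank.IsOrth Q v := ⟨h1, h3, h5⟩
    obtain rfl : k = d := by
      have := hv.card h2
      rw [Fintype.card_prod, Fintype.card_fin, Fintype.card_fin, hdim] at this
      omega
    exact ⟨v, hv, Or.inr fun i => ⟨h4 i, by rw [← h4 i, hxx]⟩⟩
  intro n
  induction n using Nat.strong_induction_on with
  | _ n ih =>
    intro W hn hinv hnd
    rcases eq_or_ne W ⊥ with rfl | hW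
    · exact ⟨0, fun i => i.1.elim0, fun i => i.1.elim0, fun i => i.1.elim0, fun i => i.1.elim0,
        fun i => i.elim0, bot_le⟩
    obtain ⟨e, he, hQe⟩ : ∃ e ∈ W, Q e ≠ 0 := by
      by_contra hc
      push Not at hc
      obtain ⟨u, hu, hu0⟩ := Submodule.exists_mem_ne_zero_of_ne_bot hW
      exact hu0 (hnd u hu fun w hw => by
        rw [polar, hc _ (W.add_mem hu hw), hc u hu, hc w hw, sub_zero, sub_zero])
    set f := x.1 e with hf
    have hfW : f ∈ W := hinv e he
    have hef : polar Q e f = 0 := by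
      have h := hx e f
      rw [hxx e, polar_neg_right, polar_comm Q (x.1 e) e] at h
      exact (mul_eq_zero.1 (show (2 : F) * polar Q e f = 0 by linear_combination -h)).resolve_left h2
    have hQf : Q f = Q e := x.2 e
    let W' := W ⊓ LinearMap.ker ((polarBilin Q).flip e) ⊓ LinearMap.ker ((polarBilin Q).flip f)
    have hmem : ∀ {w}, w ∈ W' ↔ w ∈ W ∧ polar Q w e = 0 ∧ polar Q w f = 0 := fun {w} => by
      simp [W', Submodule.mem_inf, and_assoc]
    have hdec : ∀ w ∈ W, w - (polar Q w e / (2 * Q e)) • e - (polar Q w f / (2 * Q e)) • f ∈ W' := fun w hw => by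
      have h0 : (2 : F) * Q e ≠ 0 := mul_ne_zero h2 hQe
      refine hmem.2 ⟨W.sub_mem (W.sub_mem hw (W.smul_mem _ he)) (W.smul_mem _ hfW), ?_, ?_⟩
      · simp only [polar_sub_left, polar_smul_left, polar_self', smul_eq_mul, polar_comm Q f e, hef]
        field_simp; ring
      · simp only [polar_sub_left, polar_smul_left, polar_self', smul_eq_mul, hef, hQf]
        field_simp; ring
    have hlt : finrank F W' < n := by
      rw [← hn]
      refine Submodule.finrank_lt_finrank_of_lt (lt_of_le_of_ne (inf_le_left.trans inf_le_left) fun h => ?_)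
      have h' := (hmem.1 (h.symm ▸ he : e ∈ W')).2.1
      rw [polar_self'] at h'
      exact mul_ne_zero h2 hQe h'
    obtain ⟨k, v, hvW, h1, h3, h4, h5⟩ := ih _ hlt W' rfl
      (fun w hw => by
        obtain ⟨hwW, hwe, hwf⟩ := hmem.1 hw
        refine hmem.2 ⟨hinv w hwW, ?_, ?_⟩
        · have h := hx (x.1 w) e
          rw [hxx, polar_neg_left, ← hf] at h
          rw [← h, hwf, neg_zero]
        · rw [hf, hx, hwe])
      (fun u hu h => hnd u (hmem.1 hu).1 fun w hw => by
        have h' := h _ (hdec w hw)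
        obtain ⟨-, hue, huf⟩ := hmem.1 hu
        simpa [polar_sub_right, polar_smul_right, hue, huf] using h')
    refine ⟨k + 1, fun i => Fin.cons (α := fun _ => ι → F) (if i.2 = 0 then e else f) (fun l => v (l, i.2)) i.1,
      fun i => ?_, fun i j hij => ?_, fun i => ?_, fun i => ?_, fun w hw => ?_⟩
    · obtain ⟨i, a⟩ := i
      refine Fin.cases ?_ (fun l => ?_) i
      · simp only [Fin.cons_zero]; split_ifs <;> assumption
      · simpa using (hmem.1 (hvW (l, a))).1
    · obtain ⟨i, a⟩ := i
      obtain ⟨j, b⟩ := j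
      revert hij
      refine Fin.cases ?_ (fun l => ?_) i <;> refine Fin.cases ?_ (fun m => ?_) j <;> intro hij
      · fin_cases a <;> fin_cases b <;> simp at hij ⊢
        · exact hef
        · rw [polar_comm]; exact hef
      · obtain ⟨-, h6, h7⟩ := hmem.1 (hvW (m, b))
        simp only [Fin.cons_zero, Fin.cons_succ]
        rw [polar_comm]
        split_ifs <;> assumption
      · obtain ⟨-, h6, h7⟩ := hmem.1 (hvW (l, a))
        simp only [Fin.cons_zero, Fin.cons_succ]
        split_ifs <;> assumption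
      · simp only [Fin.cons_succ]
        exact h1 _ _ fun h => hij (by rw [Prod.mk.injEq] at h; rw [h.1, h.2])
    · obtain ⟨i, a⟩ := i
      refine Fin.cases ?_ (fun l => ?_) i
      · simp only [Fin.cons_zero]; split_ifs
        · exact hQe
        · rw [hQf]; exact hQe
      · simpa using h3 (l, a)
    · refine Fin.cases ?_ (fun l => ?_) i
      · simp [hf]
      · simpa using h4 l
    · set s := polar Q w e / (2 * Q e)
      set t := polar Q w f / (2 * Q e)
      set g := fun i : Fin (k + 1) × Fin 2 =>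
        Fin.cons (α := fun _ => ι → F) (if i.2 = 0 then e else f) (fun l => v (l, i.2)) i.1
      have h6 : Submodule.span F (Set.range v) ≤ Submodule.span F (Set.range g) :=
        Submodule.span_mono (by rintro _ ⟨⟨l, a⟩, rfl⟩; exact ⟨(l.succ, a), by simp [g]⟩)
      have he' : e ∈ Submodule.span F (Set.range g) := Submodule.subset_span ⟨(0, 0), by simp [g]⟩
      have hf' : f ∈ Submodule.span F (Set.range g) := Submodule.subset_span ⟨(0, 1), by simp [g]⟩
      rw [show w = (w - s • e - t • f) + s • e + t • f by abel]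
      exact add_mem (add_mem (h6 (h5 (hdec w hw))) (Submodule.smul_mem _ _ he')) (Submodule.smul_mem _ _ hf')

set_option maxHeartbeats 2000000 in
/-- **Roots of both classes normalised by a projective involution.** -/
theorem exists_roots_normalised (h2 : (2 : F) ≠ 0) (hQ : (polarBilin Q).Nondegenerate) (x : oGroup Q)
    (hdick : Spinor.dick x = 1) {z : F} (hz : ∀ v, x.1 (x.1 v) = z • v) {δ : F} {d : ℕ} (hd : 0 < d)
    (hdim : Fintype.card ι = 2 * d) :
    ∃ (J : (ι → F) →ₗ[F] (ι → F)) (c : oGroup Q), IsSRoot Q δ J ∧ Spinor.dick c = -1 ∧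
      ∃ s : F, (∀ v, x.1 (J v) = s • J (x.1 v)) ∧
        ∀ v, x.1 (c.1 (J (c.1.symm v))) = s • c.1 (J (c.1.symm (x.1 v))) := by
  classical
  obtain ⟨v, hv, hvx⟩ : ∃ v : Fin d × Fin 2 → ι → F, TwoRank.IsOrth Q v ∧ IsAdapted x.1 v := by
    obtain ⟨u, hu⟩ : ∃ u, Q u ≠ 0 := by
      by_contra hc
      push Not at hc
      haveI : Nonempty ι := Fintype.card_pos_iff.1 (by omega)
      obtain ⟨u, hu⟩ := exists_ne (0 : ι → F)
      exact hu (hQ.1 u fun w => by simp [polar, hc])
    have hz' : z * z = 1 := by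
      have h := x.2 (x.1 u)
      rw [hz, x.2 u, QuadraticMap.map_smul, smul_eq_mul] at h
      exact mul_right_cancel₀ hu (by rw [h, one_mul])
    rcases mul_self_eq_one_iff.1 hz' with rfl | rfl
    · exact exists_adapted_invol h2 hQ x hdick (fun v => by rw [hz, one_smul]) hdim
    · exact exists_adapted_skew h2 hQ x (fun v => by rw [hz, neg_one_smul]) hdim
  let b := hv.basis h2
  have hb : ∀ i, b i = v i := hv.basis_apply h2
  set α : Fin d → F := fun i => Q (v (i, 0))
  set β : Fin d → F := fun i => Q (v (i, 1))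
  have hab : ∀ i, ∃ a c : F, a * a + α i * β i * (c * c) = δ := fun i => by
    obtain ⟨a, c, h⟩ := FiniteField.exists_root_sum_quadratic (R := F)
      (f := Polynomial.X ^ 2 - Polynomial.C δ) (g := Polynomial.C (α i * β i) * Polynomial.X ^ 2)
      (Polynomial.degree_X_pow_sub_C (by decide) _)
      (Polynomial.degree_C_mul_X_pow 2 (mul_ne_zero (hv.ne _) (hv.ne _)))
      (FiniteField.odd_card_of_char_ne_two (Spinor.ringChar_ne_two h2))
    simp at h
    exact ⟨a, c, by linear_combination h⟩
  choose a c hac using hab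
  let J : (ι → F) →ₗ[F] (ι → F) := b.constr F fun i =>
    if i.2 = 0 then a i.1 • v (i.1, 0) + (α i.1 * c i.1) • v (i.1, 1)
    else (β i.1 * c i.1) • v (i.1, 0) - a i.1 • v (i.1, 1)
  have hJ0 : ∀ i, J (v (i, 0)) = a i • v (i, 0) + (α i * c i) • v (i, 1) := fun i => by
    rw [← hb (i, 0)]
    exact (b.constr_basis F _ _).trans ((if_pos rfl).trans (by rw [hb]))
  have hJ1 : ∀ i, J (v (i, 1)) = (β i * c i) • v (i, 0) - a i • v (i, 1) := fun i => by
    rw [← hb (i, 1)]
    exact (b.constr_basis F _ _).trans ((if_neg (by simp)).trans (by rw [hb]))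
  let i₀ : Fin d := ⟨0, hd⟩
  have hc0 : Q (v (i₀, 1)) ≠ 0 := hv.ne _
  set cc := oRefl Q (v (i₀, 1)) hc0
  have hcc : ∀ u, cc.1 u = refl Q (v (i₀, 1)) hc0 u := fun u => rfl
  have hccs : ∀ u, cc.1.symm u = refl Q (v (i₀, 1)) hc0 u := fun u => rfl
  have hcv : ∀ i, i ≠ (i₀, (1 : Fin 2)) → refl Q (v (i₀, 1)) hc0 (v i) = v i := fun i hi =>
    refl_fix Q hc0 (hv.orth i (i₀, 1) hi)
  have hcv1 : refl Q (v (i₀, 1)) hc0 (v (i₀, 1)) = -v (i₀, 1) := refl_self Q hc0
  refine ⟨J, cc, ⟨?_, fun u => ?_⟩, Spinor.dick_oRefl hQ hc0, ?_⟩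
  · suffices h : (polarBilin Q).compl₁₂ J LinearMap.id = (polarBilin Q).compl₁₂ LinearMap.id J from
      fun u w => LinearMap.congr_fun₂ h u w
    refine b.ext fun i => b.ext fun j => ?_
    show polar Q (J (b i)) (b j) = polar Q (b i) (J (b j))
    rw [hb, hb]
    obtain ⟨i, s⟩ := i
    obtain ⟨j, t⟩ := j
    have ho : ∀ s t : Fin 2, (i, s) ≠ (j, t) → polar Q (v (i, s)) (v (j, t)) = 0 := fun s t h => hv.orth _ _ h
    by_cases hij : i = j
    · subst hij
      have h01 := ho 0 1 (by simp)
      have h10 := ho 1 0 (by simp)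
      fin_cases s <;> fin_cases t <;>
        simp [hJ0, hJ1, polar_add_left, polar_add_right, polar_sub_left, polar_sub_right, polar_smul_left,
          polar_smul_right, polar_self', h01, h10, α, β] <;> ring
    · have h' : ∀ s t : Fin 2, polar Q (v (i, s)) (v (j, t)) = 0 := fun s t => ho s t (by simp [hij])
      fin_cases s <;> fin_cases t <;>
        simp [hJ0, hJ1, polar_add_left, polar_add_right, polar_sub_left, polar_sub_right, polar_smul_left,
          polar_smul_right, h']
  · have h : J ∘ₗ J = δ • LinearMap.id := b.ext fun i => by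
      obtain ⟨i, s⟩ := i
      show J (J (b (i, s))) = δ • b (i, s)
      rw [hb, ← hac i]
      fin_cases s <;> simp [hJ0, hJ1, smul_add, smul_sub] <;> module
    exact LinearMap.congr_fun h u
  · have key : ∀ (s : F), (∀ i, x.1 (J (b i)) = s • J (x.1 (b i))) → (∀ i, x.1 (cc.1 (J (cc.1.symm (b i)))) =
        s • cc.1 (J (cc.1.symm (x.1 (b i))))) →
        ∃ s : F, (∀ v, x.1 (J v) = s • J (x.1 v)) ∧
          ∀ v, x.1 (cc.1 (J (cc.1.symm v))) = s • cc.1 (J (cc.1.symm (x.1 v))) := by
      intro s h1 h3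
      let X : (ι → F) →ₗ[F] (ι → F) := x.1.toLinearMap
      let C : (ι → F) →ₗ[F] (ι → F) := cc.1.toLinearMap
      let C' : (ι → F) →ₗ[F] (ι → F) := cc.1.symm.toLinearMap
      refine ⟨s, fun u => ?_, fun u => ?_⟩
      · have e : X.comp J = s • (J.comp X) := b.ext fun i => by
          simp only [X, LinearMap.comp_apply, LinearMap.smul_apply, LinearEquiv.coe_coe]
          exact h1 i
        exact LinearMap.congr_fun e u
      · have e : X.comp (C.comp (J.comp C')) = s • (C.comp (J.comp (C'.comp X))) := b.ext fun i => by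
          simp only [X, C, C', LinearMap.comp_apply, LinearMap.smul_apply, LinearEquiv.coe_coe]
          exact h3 i
        exact LinearMap.congr_fun e u
    rcases hvx with h | h
    · refine key 1 (fun ⟨i, t⟩ => ?_) fun ⟨i, t⟩ => ?_
      · obtain ⟨s, h0, h1⟩ := h i
        fin_cases t <;> simp [hb, hJ0, hJ1, h0, h1] <;> module
      · obtain ⟨s, h0, h1⟩ := h i
        by_cases hi : i = i₀
        · subst hi
          fin_cases t <;> simp only [hb, hcc, hccs, one_smul, hcv, hcv1, h0, h1, hJ0, hJ1, map_neg, map_smul, map_add,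
            map_sub, ne_eq, Prod.mk.injEq, Fin.zero_eta, Fin.mk_one, and_false, not_false_eq_true, zero_ne_one] <;>
            module
        · fin_cases t <;> simp only [hb, hcc, hccs, one_smul, hcv, h0, h1, hJ0, hJ1, map_smul, map_add,
            map_sub, ne_eq, Prod.mk.injEq, hi, false_and, not_false_eq_true, Fin.zero_eta, Fin.mk_one] <;>
            module
    · have hαβ : ∀ i, α i = β i := fun i => by
        show Q (v (i, 0)) = Q (v (i, 1))
        rw [← (h i).1, x.2]
      refine key (-1) (fun ⟨i, t⟩ => ?_) fun ⟨i, t⟩ => ?_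
      · obtain ⟨h0, h1⟩ := h i
        fin_cases t <;> simp [hb, hJ0, hJ1, h0, h1, hαβ] <;> module
      · obtain ⟨h0, h1⟩ := h i
        by_cases hi : i = i₀
        · subst hi
          fin_cases t <;> simp only [hb, hcc, hccs, hcv, hcv1, h0, h1, hJ0, hJ1, hαβ, map_neg, map_smul, map_add,
            map_sub, ne_eq, Prod.mk.injEq, Fin.zero_eta, Fin.mk_one, and_false, not_false_eq_true, zero_ne_one] <;>
            module
        · fin_cases t <;> simp only [hb, hcc, hccs, hcv, h0, h1, hJ0, hJ1, hαβ, map_neg, map_smul, map_add,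
            map_sub, ne_eq, Prod.mk.injEq, hi, false_and, not_false_eq_true, Fin.zero_eta, Fin.mk_one] <;>
            module

end Cfsg.Agent.SymRoot
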