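import Cfsg.Agent.Lib.TransvMax.SymRootInvol
import Cfsg.Agent.Lib.TransvMax.SymRootModels
import Cfsg.Agent.Lib.TransvMax.SymRootOrder
import Cfsg.Prelude.Def_GeometricClasses

/-!
Elements of prime order and the stabiliser of a quadratic extension field acting by self-adjoint maps.
-/

set_option autoImplicit false
set_option linter.unusedSectionVars false

namespace Cfsg.Agent.SymRoot

open Cfsg.Agent Cfsg.Agent.FormsLib Module QuadraticMap
open scoped Matrix

variable {F : Type*} [Field F] [Fintype F] {ι : Type} [Fintype ι] [DecidableEq ι]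
  {Q : QuadraticForm F (ι → F)}

/-- An isometry of order `r` whose moved space has dimension `2 mod 4`. -/
def HasBad (Q : QuadraticForm F (ι → F)) (r : ℕ) : Prop :=
  ∃ g ∈ oGroup Q, g ^ r = 1 ∧
    ¬ 4 ∣ finrank F (LinearMap.range ((g : (ι → F) →ₗ[F] (ι → F)) - LinearMap.id))

/-- Bad elements from the order of `q` modulo `r`. -/
theorem hasBad_of_dvd (h2 : (2 : F) ≠ 0) (hQ : (polarBilin Q).Nondegenerate) {r : ℕ} [Fact r.Prime] {p : ℕ}
    [Fact p.Prime] [CharP F p] (hr2 : r ≠ 2) {d j : ℕ} (hdim : Fintype.card ι = 2 * d) (hj : Odd j) (hjd : j < d)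
    (hrj : r ∣ Fintype.card F ^ (2 * j) - 1) : HasBad Q r := by
  classical
  have ho2 : orderOf (Fintype.card F : ZMod r) ∣ 2 * j := orderOf_dvd_of_pow_eq_one (by
    rw [← ZMod.natCast_eq_zero_iff, Nat.cast_sub (Nat.one_le_pow _ _ Fintype.card_pos), sub_eq_zero, Nat.cast_pow,
      Nat.cast_one] at hrj
    exact hrj)
  have hj0 : 0 < j := hj.pos
  set o := orderOf (Fintype.card F : ZMod r) with ho
  have ho0 : 0 < o := Nat.pos_of_dvd_of_pos ho2 (by omega)
  rcases Nat.even_or_odd o with ⟨i, hi⟩ | hodd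
  · have hio : o = 2 * i := by omega
    have hij : i ∣ j := Nat.dvd_of_mul_dvd_mul_left two_pos (hio ▸ ho2)
    have hile : i ≤ j := Nat.le_of_dvd hj0 hij
    obtain ⟨Q₀, g₁, hnd, hg₁, hgr, -, hrk⟩ := exists_elliptic (F := F) p h2 hr2 (r := r) (i := i) (ho ▸ hio) (by omega)
    obtain ⟨φ, hφ⟩ := exists_embed h2 hQ hnd (by rw [finrank_fin_fun, finrank_fintype_fun_eq_card, hdim]; omega)
    obtain ⟨g, hg, hgr', hrk'⟩ := exists_ext hnd φ hφ hg₁ hgr
    refine ⟨g, hg, hgr', ?_⟩
    rw [hrk', hrk]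
    obtain ⟨t, ht⟩ := hj.of_dvd_nat hij
    omega
  · have hoj : o ∣ j := (Nat.Coprime.dvd_mul_left (Nat.coprime_two_right.2 hodd)).1 ho2
    have hole : o ≤ j := Nat.le_of_dvd hj0 hoj
    obtain ⟨g₁, hg₁, hgr, hrk⟩ := exists_hyperbolic (F := F) p h2 hr2 (r := r) ho.symm ho0
    obtain ⟨φ, hφ⟩ := exists_embed h2 hQ (qPlus_nondeg F o) (by
      rw [finrank_fintype_fun_eq_card, finrank_fintype_fun_eq_card, Fintype.card_sum, Fintype.card_fin, hdim]; omega)
    obtain ⟨g, hg, hgr', hrk'⟩ := exists_ext (qPlus_nondeg F o) φ hφ hg₁ hgr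
    refine ⟨g, hg, hgr', ?_⟩
    rw [hrk', hrk]
    obtain ⟨t, ht⟩ := hodd
    omega

private theorem prod_range_double (f : ℕ → ℕ) :
    ∀ h, ∏ i ∈ Finset.range (2 * h), f i =
      (∏ j ∈ Finset.range h, f (2 * j)) * ∏ j ∈ Finset.range h, f (2 * j + 1) := by
  intro h
  induction h with
  | zero => simp
  | succ h ih =>
    rw [show 2 * (h + 1) = 2 * h + 1 + 1 by ring, Finset.prod_range_succ, Finset.prod_range_succ, ih,
      Finset.prod_range_succ, Finset.prod_range_succ]
    ring

/-- **Elements of prime order in the stabiliser of a self-adjoint quadratic extension.** -/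
theorem elusive_iff {q : ℕ} (hq : Fintype.card F = q) (hodd : Odd q) {p : ℕ} [Fact p.Prime] [CharP F p]
    (hQ : (polarBilin Q).Nondegenerate) {d : ℕ} (hd : 4 ≤ d) (hdim : Fintype.card ι = 2 * d)
    (K : Subalgebra F (Matrix ι ι F)) (hK : Cfsg.Geo.IsFieldSubalgebra 2 K)
    (hKf : Cfsg.Geo.IsSelfAdjointFor (QuadraticMap.polar ⇑Q) K)
    {N E : ℕ} (hO : Nat.card (oGroup Q) = 2 * q ^ N * E * ∏ i ∈ Finset.range (d - 1), (q ^ (2 * (i + 1)) - 1))
    (hC : ∀ (δ : F), Fact (∀ t : F, t ^ 2 ≠ δ + 0 * t) → ∀ J : (ι → F) →ₗ[F] (ι → F), IsSRoot Q δ J →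
      ∀ k, d = 2 * (k + 1) → Nat.card {g : oGroup Q // ∀ v, g.1 (J v) = J (g.1 v)} =
        2 * (q ^ 2) ^ ((k + 1) * k) * E * ∏ i ∈ Finset.range k, ((q ^ 2) ^ (2 * (i + 1)) - 1))
    (r : ℕ) [Fact r.Prime] (hfull : r ≠ 2 → ¬ r ∣ q → Odd d → r ∣ E → HasBad Q r)
    (hΩ : r ∣ (Cfsg.Geo.subalgebraNormalizer K).relIndex (Cfsg.Geo.omegaGL ⇑Q)) :
    (∀ x ∈ Cfsg.Geo.omegaGL ⇑Q, (∃ z : F, ((x ^ r : GL ι F) : Matrix ι ι F) = z • (1 : Matrix ι ι F)) →
      (∀ z : F, (x : Matrix ι ι F) ≠ z • (1 : Matrix ι ι F)) →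
      ∃ g ∈ Cfsg.Geo.omegaGL ⇑Q, g⁻¹ * x * g ∈ Cfsg.Geo.subalgebraNormalizer K) ↔ r = 2 := by
  classical
  subst hq
  have hr : r.Prime := Fact.out
  have h2 : (2 : F) ≠ 0 := Ring.two_ne_zero fun h => by
    have := FiniteField.even_card_of_char_two h
    rw [Nat.odd_iff] at hodd
    omega
  have hexc : Fintype.card F ≠ 2 ∨ Fintype.card ι ≠ 4 := Or.inl (Spinor.card_ne_two h2)
  have hgen := Spinor.reflGroup_eq_top_of_odd hQ h2
  -- a root in `K`
  obtain ⟨j, δ, hjK, hjj, hδ, hspan⟩ : ∃ (j : Matrix ι ι F) (δ : F), j ∈ K ∧ j * j = δ • 1 ∧ ¬ IsSquare δ ∧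
      ∀ k ∈ K, ∃ a b : F, k = a • 1 + b • j := by
    haveI : FiniteDimensional F K := FiniteDimensional.of_finrank_pos (by rw [hK.finrank_eq]; norm_num)
    haveI : Nontrivial K := Module.nontrivial_of_finrank_pos (R := F) (by rw [hK.finrank_eq]; norm_num)
    obtain ⟨k, hk⟩ : ∃ k : K, k ∉ Submodule.span F {(1 : K)} := by
      by_contra hc
      push Not at hc
      have h := finrank_span_singleton (K := F) (one_ne_zero : (1 : K) ≠ 0)
      rw [show Submodule.span F {(1 : K)} = ⊤ from eq_top_iff.2 fun x _ => hc x, finrank_top, hK.finrank_eq] at h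
      omega
    have h1 : ∀ a b : F, a • (1 : K) + b • k = 0 → a = 0 ∧ b = 0 := fun a b h => by
      rcases eq_or_ne b 0 with rfl | hb
      · rw [zero_smul, add_zero] at h
        exact ⟨(smul_eq_zero.1 h).resolve_right one_ne_zero, rfl⟩
      · exact absurd (Submodule.mem_span_singleton.2 ⟨-(b⁻¹ * a), by
          rw [neg_smul, ← smul_smul, eq_neg_of_add_eq_zero_left h, smul_neg, neg_neg, smul_smul,
            inv_mul_cancel₀ hb, one_smul]⟩) hk
    have hli : LinearIndependent F ![(1 : K), k] := LinearIndependent.pair_iff.2 h1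
    have htop := hli.span_eq_top_of_card_eq_finrank (by rw [Fintype.card_fin, hK.finrank_eq])
    have hall : ∀ x : K, ∃ a b : F, a • (1 : K) + b • k = x := fun x => by
      have hx : x ∈ Submodule.span F (Set.range ![(1 : K), k]) := htop ▸ Submodule.mem_top
      rw [Submodule.mem_span_range_iff_exists_fun] at hx
      obtain ⟨c, hc⟩ := hx
      exact ⟨c 0, c 1, by rw [Fin.sum_univ_two] at hc; simpa using hc⟩
    obtain ⟨t, s, hts⟩ := hall (k * k)
    set J : K := (2 : F) • k - s • 1 with hJ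
    have hJJ : J * J = (s * s + 4 * t) • (1 : K) := by
      rw [hJ, sub_mul, mul_sub, mul_sub, smul_mul_smul_comm, smul_mul_smul_comm, smul_mul_smul_comm,
        smul_mul_smul_comm, one_mul, mul_one, one_mul, ← hts]
      module
    refine ⟨J.1, s * s + 4 * t, J.2, congrArg Subtype.val hJJ, fun hsq => ?_, fun x hx => ?_⟩
    · obtain ⟨w, hw⟩ := hsq
      have h0 : ((J - w • (1 : K) : K) : Matrix ι ι F) * ((J + w • (1 : K) : K) : Matrix ι ι F) = 0 := by
        show (((J - w • (1 : K)) * (J + w • (1 : K)) : K) : Matrix ι ι F) = 0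
        rw [show (J - w • (1 : K)) * (J + w • (1 : K)) = 0 by
          rw [sub_mul, mul_add, mul_add, hJJ, hw]
          simp only [smul_mul_assoc, mul_smul_comm, one_mul, mul_one, smul_smul]
          abel]
        rfl
      have hne : ∀ w : F, J + w • (1 : K) ≠ 0 := fun w h => by
        rw [hJ] at h
        exact h2 (h1 (w - s) 2 (by rw [← h]; module)).2
      obtain ⟨y, hy, hyy⟩ := hK.inv _ (J + w • (1 : K)).2 fun h => hne w (Subtype.ext h)
      have h4 := congrArg (· * y) h0
      simp only [mul_assoc, hyy, mul_one, zero_mul] at h4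
      exact hne (-w) (Subtype.ext (by rw [neg_smul, ← sub_eq_add_neg]; exact h4))
    · obtain ⟨a, b, hab⟩ := hall ⟨x, hx⟩
      refine ⟨a + b * s / 2, b / 2, ?_⟩
      rw [← show ((a • (1 : K) + b • k : K) : Matrix ι ι F) = x from congrArg Subtype.val hab,
        show a • (1 : K) + b • k = (a + b * s / 2) • (1 : K) + (b / 2) • J by
          rw [hJ]
          match_scalars <;> field_simp <;> ring]
      rfl
  haveI := fact_of_not_isSquare hδ
  set J₀ := Matrix.toLin' j with hJ₀def
  have hJ₀v : ∀ v, J₀ v = j *ᵥ v := fun v => Matrix.toLin'_apply j v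
  have hJ₀ : IsSRoot Q δ J₀ :=
    ⟨fun u v => by rw [hJ₀v, hJ₀v]; exact hKf j hjK u v, fun v => by
      rw [hJ₀v, hJ₀v, Matrix.mulVec_mulVec, hjj, Matrix.smul_mulVec, Matrix.one_mulVec]⟩
  have hδ0 : δ ≠ 0 := delta_ne_zero (δ := δ)
  have hne : ∀ {s : F}, (∀ v : ι → F, s • j *ᵥ v = 0) → s = 0 := fun {s} h => by
    by_contra hs
    haveI : Nonempty ι := Fintype.card_pos_iff.1 (by omega)
    obtain ⟨v, hv⟩ := exists_ne (0 : ι → F)
    have h1 := h (j *ᵥ v)
    rw [Matrix.mulVec_mulVec, hjj, Matrix.smul_mulVec, Matrix.one_mulVec, smul_smul, smul_eq_zero] at h1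
    exact hv (h1.resolve_left (mul_ne_zero hs hδ0))
  -- normalising is the same as preserving the root up to sign
  have hnorm : ∀ (y : GL ι F) (s : F), s ≠ 0 →
      (∀ v, (y : Matrix ι ι F) *ᵥ (j *ᵥ v) = s • j *ᵥ ((y : Matrix ι ι F) *ᵥ v)) →
      y ∈ Cfsg.Geo.subalgebraNormalizer K := fun y s hs hy => by
    have hyj : (y : Matrix ι ι F) * j * ((y⁻¹ : GL ι F) : Matrix ι ι F) = s • j := Matrix.ext_iff_mulVec.2 fun v => by
      rw [← Matrix.mulVec_mulVec, ← Matrix.mulVec_mulVec, hy, TransvMax.mulVec_inv_mulVec, Matrix.smul_mulVec]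
    have himg : ∀ k ∈ K, (y : Matrix ι ι F) * k * ((y⁻¹ : GL ι F) : Matrix ι ι F) ∈ K := fun k hk => by
      obtain ⟨a, b, rfl⟩ := hspan k hk
      rw [mul_add, add_mul, mul_smul_comm, smul_mul_assoc, mul_smul_comm, smul_mul_assoc, mul_one, Units.mul_inv, hyj]
      exact K.add_mem (K.smul_mem K.one_mem a) (K.smul_mem (K.smul_mem hjK s) b)
    have hjy : ((y⁻¹ : GL ι F) : Matrix ι ι F) * j * (y : Matrix ι ι F) = s⁻¹ • j := by
      have h := congrArg (fun M => s⁻¹ • (((y⁻¹ : GL ι F) : Matrix ι ι F) * M * (y : Matrix ι ι F))) hyj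
      simp only [mul_smul_comm, smul_mul_assoc, smul_smul, inv_mul_cancel₀ hs, one_smul, ← mul_assoc,
        Units.inv_mul, one_mul] at h
      rw [← h, mul_assoc, Units.inv_mul, mul_one]
    intro k
    refine ⟨himg k, fun hk => ?_⟩
    obtain ⟨a, b, hab⟩ := hspan _ hk
    have h := congrArg (fun M => ((y⁻¹ : GL ι F) : Matrix ι ι F) * M * (y : Matrix ι ι F)) hab
    simp only [← mul_assoc, Units.inv_mul, one_mul] at h
    rw [mul_assoc, Units.inv_mul, mul_one, mul_add, add_mul, mul_smul_comm, smul_mul_assoc, mul_smul_comm,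
      smul_mul_assoc, mul_one, Units.inv_mul, hjy] at h
    rw [h]
    exact K.add_mem (K.smul_mem K.one_mem a) (K.smul_mem (K.smul_mem hjK _) b)
  constructor
  · intro hall
    by_contra hr2
    have hrodd : Odd r := hr.odd_of_ne_two hr2
    suffices hbad : HasBad Q r by
      obtain ⟨g, hg, hgr, h4⟩ := hbad
      have hx := glOf_mem_omega_of_pow h2 hQ hg hrodd hgr
      have hns : ∀ z : F, ((TransvMax.glOf g : GL ι F) : Matrix ι ι F) ≠ z • 1 := fun z hz => by
        have hgz : ∀ v, g v = z • v := fun v => by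
          rw [← TransvMax.glOf_mulVec g v, hz, Matrix.smul_mulVec, Matrix.one_mulVec]
        obtain ⟨v, hv⟩ := Spinor.exists_norm (Q := Q) (W := ⊤) (Spinor.top_inf_orth hQ)
          (Or.inl (by rw [finrank_top, finrank_fintype_fun_eq_card]; omega)) (one_ne_zero (α := F))
        have hzz : z * z = 1 := by
          have h := hg v
          rwa [hgz, QuadraticMap.map_smul, hv.2, smul_eq_mul, mul_one] at h
        have hzr : z ^ r = 1 := by
          have hp : ∀ n : ℕ, ∀ w, (g ^ n) w = z ^ n • w := by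
            intro n
            induction n with
            | zero => intro w; simp
            | succ n ih => intro w; rw [pow_succ', LinearEquiv.mul_apply, ih, hgz, smul_smul, ← pow_succ']
          have h := hp r v
          rw [hgr] at h
          have h' : (z ^ r - 1) • v = 0 := by rw [sub_smul, one_smul, ← h, LinearEquiv.coe_one]; exact sub_self v
          exact sub_eq_zero.1 ((smul_eq_zero.1 h').resolve_right fun e => by simp [e] at hv)
        obtain ⟨t, rfl⟩ := hrodd
        rw [pow_succ, pow_mul, pow_two, hzz, one_pow, one_mul] at hzr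
        refine h4 ?_
        rw [show (g : (ι → F) →ₗ[F] (ι → F)) - LinearMap.id = 0 from
          LinearMap.ext fun v => by simp [hgz, hzr], LinearMap.range_zero, finrank_bot]
        exact dvd_zero 4
      obtain ⟨h, hhΩ, hy⟩ := hall _ hx ⟨1, by rw [← map_pow, hgr, map_one, Units.val_one, one_smul]⟩ hns
      set y := h⁻¹ * TransvMax.glOf g * h with hydef
      have hyr : y ^ r = 1 := by
        rw [hydef, show h⁻¹ * TransvMax.glOf g * h = h⁻¹ * TransvMax.glOf g * h⁻¹⁻¹ by rw [inv_inv], conj_pow,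
          ← map_pow, hgr, map_one, mul_one, mul_inv_cancel]
      obtain ⟨a, b, hab⟩ := hspan _ ((hy j).1 hjK)
      have hconj2 : (a • 1 + b • j) * (a • 1 + b • j) = δ • (1 : Matrix ι ι F) := by
        rw [← hab, show (y : Matrix ι ι F) * j * ((y⁻¹ : GL ι F) : Matrix ι ι F) *
          ((y : Matrix ι ι F) * j * ((y⁻¹ : GL ι F) : Matrix ι ι F)) =
            (y : Matrix ι ι F) * (j * j) * ((y⁻¹ : GL ι F) : Matrix ι ι F) by
          simp only [mul_assoc, Units.inv_mul_cancel_left], hjj, mul_smul_comm, mul_one, smul_mul_assoc, Units.mul_inv]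
      have heq : ∀ v : ι → F, (a * a + b * b * δ - δ) • v + (2 * a * b) • j *ᵥ v = 0 := fun v => by
        have h := congrArg (fun M => M *ᵥ v) hconj2
        simp only [Matrix.add_mul, Matrix.mul_add, smul_mul_smul_comm, one_mul, mul_one, hjj, smul_smul,
          Matrix.add_mulVec, Matrix.smul_mulVec, Matrix.one_mulVec] at h
        rw [← sub_eq_zero] at h
        rw [← h]
        module
      have hab0 : a = 0 := by
        by_contra ha
        have hb : b = 0 := by
          by_contra hb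
          -- `j` would be scalar
          set c := -((a * a + b * b * δ - δ) / (2 * a * b))
          have h2ab : (2 : F) * a * b ≠ 0 := mul_ne_zero (mul_ne_zero h2 ha) hb
          refine hδ ⟨c, ?_⟩
          haveI : Nonempty ι := Fintype.card_pos_iff.1 (by omega)
          obtain ⟨v, hv⟩ := exists_ne (0 : ι → F)
          have hjv : ∀ w : ι → F, j *ᵥ w = c • w := fun w => by
            apply smul_right_injective (ι → F) h2ab
            simp only
            rw [smul_smul, show 2 * a * b * c = -(a * a + b * b * δ - δ) by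
              simp only [c]; field_simp]
            have := heq w
            rw [add_comm, add_eq_zero_iff_eq_neg] at this
            rw [this, neg_smul]
          have h' := congrArg (fun M => M *ᵥ v) hjj
          simp only [← Matrix.mulVec_mulVec, Matrix.smul_mulVec, Matrix.one_mulVec, hjv, smul_smul] at h'
          exact (smul_left_injective F hv h').symm
        refine hδ ⟨a, ?_⟩
        haveI : Nonempty ι := Fintype.card_pos_iff.1 (by omega)
        obtain ⟨v, hv⟩ := exists_ne (0 : ι → F)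
        have := heq v
        simp [hb, hv] at this
        linear_combination -this
      have hyv : ∀ v, (y : Matrix ι ι F) *ᵥ (j *ᵥ v) = b • j *ᵥ ((y : Matrix ι ι F) *ᵥ v) := fun v => by
        have h := congrArg (fun M => M *ᵥ ((y : Matrix ι ι F) *ᵥ v)) hab
        simp only [hab0, zero_smul, zero_add, ← Matrix.mulVec_mulVec, TransvMax.inv_mulVec_mulVec, Matrix.smul_mulVec] at h
        exact h
      have hbb : b = 1 := by
        have hiter : ∀ n : ℕ, ∀ v, ((y ^ n : GL ι F) : Matrix ι ι F) *ᵥ (j *ᵥ v) =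
            b ^ n • j *ᵥ (((y ^ n : GL ι F) : Matrix ι ι F) *ᵥ v) := by
          intro n
          induction n with
          | zero => intro v; simp
          | succ n ih =>
            intro v
            rw [pow_succ', Units.val_mul, ← Matrix.mulVec_mulVec, ih, Matrix.mulVec_smul, hyv, smul_smul,
              ← pow_succ]
            simp only [Units.val_mul, Matrix.mulVec_mulVec, mul_assoc]
        have hbr : b ^ r = 1 := by
          refine sub_eq_zero.1 (hne fun v => ?_)
          have h := hiter r v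
          rw [hyr, Units.val_one, Matrix.one_mulVec, Matrix.one_mulVec] at h
          rw [sub_smul, one_smul, ← h, sub_self]
        have hbsq : b * b = 1 := by
          haveI : Nonempty ι := Fintype.card_pos_iff.1 (by omega)
          obtain ⟨v, hv⟩ := exists_ne (0 : ι → F)
          have := heq v
          simp [hab0, hv] at this
          exact mul_right_cancel₀ hδ0 (by linear_combination this)
        obtain ⟨t, rfl⟩ := hrodd
        rwa [pow_succ, pow_mul, pow_two, hbsq, one_pow, one_mul] at hbr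
      -- transport the root
      obtain ⟨A, -, hA⟩ := hhΩ
      let l := TransvMax.linOf h
      have hl : l ∈ oGroup Q := fun v => by
        show Q ((h : Matrix ι ι F) *ᵥ v) = Q v
        rw [← hA]; exact A.2 v v
      refine h4 (four_dvd_rank hQ h2 (hJ₀.conj l fun v => hl v) hg hrodd hgr (fun v => ?_) (by omega : 0 < d)
        (by rw [finrank_fintype_fun_eq_card, hdim]))
      obtain ⟨v, rfl⟩ := l.surjective v
      have hy' : ∀ w, l ((y : Matrix ι ι F) *ᵥ w) = g (l w) := fun w => by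
        simp only [l, y, TransvMax.linOf_apply, Matrix.mulVec_mulVec, ← Units.val_mul, mul_assoc, mul_inv_cancel_left]
        rw [Units.val_mul, ← Matrix.mulVec_mulVec, TransvMax.glOf_mulVec]
      simp only [LinearEquiv.conj_apply, LinearMap.comp_apply, LinearEquiv.coe_coe, LinearEquiv.symm_apply_apply]
      rw [← hy', ← hy', LinearEquiv.symm_apply_apply, hJ₀v, hJ₀v, hyv, hbb, one_smul]
    -- existence of bad elements
    rcases eq_or_ne r p with rfl | hrp
    · obtain ⟨g, hg, hgr, hrk⟩ := exists_unipotent hQ (p := r) h2 (by rw [finrank_fintype_fun_eq_card]; omega)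
      exact ⟨g, hg, hgr, by rw [hrk]; norm_num⟩
    have hrq : ¬ r ∣ Fintype.card F := by
      obtain ⟨a, -, hcard⟩ := FiniteField.card F p
      intro h
      rw [hcard] at h
      exact hrp ((Nat.prime_dvd_prime_iff_eq hr Fact.out).1 (hr.dvd_of_dvd_pow h))
    -- the order of the centraliser of the root divides
    let Cs : Subgroup (oGroup Q) :=
      { carrier := {g | ∀ v, g.1 (J₀ v) = J₀ (g.1 v)}
        mul_mem' := fun {g g'} hg hg' v => by
          show g.1 (g'.1 (J₀ v)) = J₀ (g.1 (g'.1 v))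
          rw [hg', hg]
        one_mem' := fun v => rfl
        inv_mem' := fun {g} hg v => by
          show g.1.symm (J₀ v) = J₀ (g.1.symm v)
          rw [LinearEquiv.symm_apply_eq, hg, LinearEquiv.apply_symm_apply] }
    haveI : Finite ((ι → F) ≃ₗ[F] (ι → F)) := Finite.of_injective _ DFunLike.coe_injective
    let ψ : oGroup Q →* GL ι F := TransvMax.glOf.comp (oGroup Q).subtype
    have hψi : Function.Injective ψ := fun a b h => Subtype.ext (LinearEquiv.ext fun v => by
      rw [← TransvMax.glOf_mulVec a.1 v, ← TransvMax.glOf_mulVec b.1 v]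
      exact congrArg (fun M : GL ι F => (M : Matrix ι ι F) *ᵥ v) h)
    have hsub : (Cs ⊓ commutator (oGroup Q)).map ψ ≤
        Cfsg.Geo.subalgebraNormalizer K ⊓ Cfsg.Geo.omegaGL ⇑Q := by
      rintro _ ⟨g, ⟨hgC, hgΩ⟩, rfl⟩
      obtain ⟨hd1, hs1⟩ := (Spinor.mem_commutator_iff hQ (Or.inl (Spinor.card_ne_two h2)) g).1 hgΩ
      refine ⟨hnorm _ 1 one_ne_zero fun v => ?_, glOf_mem_omega h2 hQ g hd1 hs1⟩
      show (TransvMax.glOf g.1 : Matrix ι ι F) *ᵥ (j *ᵥ v) = (1 : F) • j *ᵥ ((TransvMax.glOf g.1 : Matrix ι ι F) *ᵥ v)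
      rw [TransvMax.glOf_mulVec, TransvMax.glOf_mulVec, ← hJ₀v, ← hJ₀v, one_smul]
      exact hgC v
    have hdvd : r * Nat.card Cs ∣ Nat.card (oGroup Q) * (commutator (oGroup Q)).index := by
      have h1 : r * Nat.card ↥(Cs ⊓ commutator (oGroup Q)) ∣ Nat.card (oGroup Q) := by
        refine (Nat.mul_dvd_mul hΩ (Nat.card_congr ((Cs ⊓ commutator (oGroup Q)).equivMapOfInjective ψ hψi).toEquiv ▸
          Subgroup.card_dvd_of_le hsub)).trans ?_
        rw [mul_comm, ← Subgroup.inf_relIndex_right, ← Subgroup.relIndex_bot_left,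
          Subgroup.relIndex_mul_relIndex _ _ _ bot_le inf_le_right, Subgroup.relIndex_bot_left,
          ← Nat.card_congr (oEquiv Q).toEquiv]
        exact Subgroup.card_dvd_of_le (by rintro _ ⟨A, -, rfl⟩; exact A.2)
      have h3 : Nat.card Cs = Nat.card ↥(Cs ⊓ commutator (oGroup Q)) * (commutator (oGroup Q)).relIndex Cs := by
        rw [← Subgroup.inf_relIndex_right (commutator (oGroup Q)) Cs, inf_comm, ← Subgroup.relIndex_bot_left,
          ← Subgroup.relIndex_bot_left, Subgroup.relIndex_mul_relIndex _ _ _ bot_le inf_le_right]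
      rw [h3, ← mul_assoc]
      exact Nat.mul_dvd_mul h1 (Subgroup.relIndex_dvd_index_of_normal _ _)
    have hidx : ¬ r ∣ (commutator (oGroup Q)).index := fun h => by
      rw [Subgroup.index_eq_card] at h
      haveI : Finite (oGroup Q) := inferInstance
      haveI : Fintype (oGroup Q ⧸ commutator (oGroup Q)) := Fintype.ofFinite _
      rw [Nat.card_eq_fintype_card] at h
      obtain ⟨x, hx⟩ := exists_prime_orderOf_dvd_card r h
      obtain ⟨g, rfl⟩ := QuotientGroup.mk_surjective x
      have h4 : (QuotientGroup.mk g : oGroup Q ⧸ commutator (oGroup Q)) ^ 2 = 1 := by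
        rw [← QuotientGroup.mk_pow, QuotientGroup.eq_one_iff,
          Spinor.mem_commutator_iff hQ (Or.inl (Spinor.card_ne_two h2))]
        exact ⟨by rw [pow_two, Spinor.dick_mul hQ hgen]; exact Int.units_mul_self _,
          by rw [pow_two, Spinor.spin_mul hQ hgen]; exact Int.units_mul_self _⟩
      have h5 := orderOf_dvd_of_pow_eq_one h4
      rw [hx] at h5
      exact hr2 ((Nat.prime_dvd_prime_iff_eq hr Nat.prime_two).1 h5)
    have hcs : Nat.card Cs = Nat.card {g : oGroup Q // ∀ v, g.1 (J₀ v) = J₀ (g.1 v)} := rfl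
    rw [hcs, hO] at hdvd
    set q := Fintype.card F with hqdef
    have hq1 : 1 < q := Fintype.one_lt_card
    set f : ℕ → ℕ := fun i => q ^ (2 * (i + 1)) - 1
    set idx := (commutator (oGroup Q)).index
    have hsplit : ∀ A R P : ℕ, 0 < P → r * (A * P) ∣ 2 * q ^ N * R * P * idx → r ∣ R := fun A R P hP h => by
      rw [← mul_assoc, show 2 * q ^ N * R * P * idx = 2 * q ^ N * R * idx * P by ring] at h
      have h' := (Dvd.intro A rfl).trans (Nat.dvd_of_mul_dvd_mul_right hP h)
      rcases hr.dvd_mul.1 h' with h' | h'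
      · rcases hr.dvd_mul.1 h' with h' | h'
        · rcases hr.dvd_mul.1 h' with h' | h'
          · exact absurd ((Nat.prime_dvd_prime_iff_eq hr Nat.prime_two).1 h') hr2
          · exact absurd (hr.dvd_of_dvd_pow h') hrq
        · exact h'
      · exact absurd h' hidx
    have hpos : ∀ h, 0 < ∏ i ∈ Finset.range h, ((q ^ 2) ^ (2 * (i + 1)) - 1) := fun h =>
      Finset.prod_pos fun i _ => by
        have : 1 < (q ^ 2) ^ (2 * (i + 1)) := Nat.one_lt_pow (by omega) (Nat.one_lt_pow two_ne_zero hq1)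
        omega
    have hodd_f : ∀ j, f (2 * j + 1) = (q ^ 2) ^ (2 * (j + 1)) - 1 := fun j => by
      simp only [f]
      rw [← pow_mul]
      ring_nf
    rcases Nat.even_or_odd d with ⟨k', hk'⟩ | ⟨h, hh⟩
    · obtain ⟨k, rfl⟩ : ∃ k, k' = k + 1 := ⟨k' - 1, by omega⟩
      rw [hC δ inferInstance J₀ hJ₀ k (by omega), show d - 1 = 2 * k + 1 by omega, Finset.prod_range_succ,
        prod_range_double f, Finset.prod_congr rfl (fun j _ => hodd_f j)] at hdvd
      have hE : 0 < E := Nat.pos_of_ne_zero fun e => by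
        have h0 : 0 < Nat.card (oGroup Q) := Nat.card_pos
        rw [hO, e] at h0; simp at h0
      have h' := hsplit (2 * (q ^ 2) ^ ((k + 1) * k)) ((∏ j ∈ Finset.range k, f (2 * j)) * f (2 * k))
        (E * ∏ i ∈ Finset.range k, ((q ^ 2) ^ (2 * (i + 1)) - 1)) (Nat.mul_pos hE (hpos k))
        (by convert hdvd using 1 <;> ring)
      rw [← Finset.prod_range_succ (fun j => f (2 * j))] at h'
      obtain ⟨i, hi, hi'⟩ := (Prime.dvd_finsetProd_iff hr.prime _).1 h'
      rw [Finset.mem_range] at hi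
      exact hasBad_of_dvd h2 hQ (p := p) hr2 hdim (odd_two_mul_add_one i) (by omega) hi'
    · rw [card_cent_odd h2 hQ hJ₀ (h := h) (by omega), show d - 1 = 2 * h by omega, prod_range_double f,
        Finset.prod_congr rfl (fun j _ => hodd_f j)] at hdvd
      have h' := hsplit (2 * (q ^ 2) ^ (h ^ 2)) (E * ∏ j ∈ Finset.range h, f (2 * j))
        (∏ i ∈ Finset.range h, ((q ^ 2) ^ (2 * (i + 1)) - 1)) (hpos h) (by convert hdvd using 1; ring)
      rcases hr.dvd_mul.1 h' with h' | h'
      · exact hfull hr2 hrq ⟨h, hh⟩ h'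
      · obtain ⟨i, hi, hi'⟩ := (Prime.dvd_finsetProd_iff hr.prime _).1 h'
        rw [Finset.mem_range] at hi
        exact hasBad_of_dvd h2 hQ (p := p) hr2 hdim (odd_two_mul_add_one i) (by omega) hi'
  · rintro rfl x hx ⟨z, hz⟩ -
    obtain ⟨A, hAΩ, rfl⟩ := hx
    obtain ⟨hd1, -⟩ := (OrthRows.mem_omega hQ hexc).1 hAΩ
    set xo := oEquiv Q A
    have hxo : ∀ v, xo.1 v = (A.1 : Matrix ι ι F) *ᵥ v := fun v => rfl
    have hxz : ∀ v, xo.1 (xo.1 v) = z • v := fun v => by
      rw [hxo, hxo, Matrix.mulVec_mulVec, ← Units.val_mul, ← pow_two]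
      show ((((isometryGroup F ⇑Q).subtype A) ^ 2 : GL ι F) : Matrix ι ι F) *ᵥ v = z • v
      rw [hz, Matrix.smul_mulVec, Matrix.one_mulVec]
    obtain ⟨J₁, c, hJ₁, hc, s, hs1, hs2⟩ :=
      exists_roots_normalised h2 hQ xo hd1 hxz (δ := δ) (by omega : 0 < d) hdim
    obtain ⟨g, hgΩ, hg⟩ := exists_omega_conj h2 hQ hJ₀ hJ₁ c hc (by omega : 2 ≤ d) hdim
    refine ⟨TransvMax.glOf g, hgΩ, ?_⟩
    obtain ⟨J', hgJ, hs'⟩ : ∃ J' : (ι → F) → (ι → F), (∀ v, g (J₀ v) = J' (g v)) ∧
        ∀ v, xo.1 (J' v) = s • J' (xo.1 v) := by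
      rcases hg with hg | hg
      · exact ⟨J₁, hg, hs1⟩
      · exact ⟨fun v => c.1 (J₁ (c.1.symm v)), hg, hs2⟩
    have key : ∀ v, g.symm (xo.1 (g (J₀ v))) = s • J₀ (g.symm (xo.1 (g v))) := fun v => by
      rw [hgJ, hs', LinearEquiv.map_smul]
      congr 1
      rw [LinearEquiv.symm_apply_eq, hgJ, LinearEquiv.apply_symm_apply]
    have hs0 : s ≠ 0 := fun e => by
      refine one_ne_zero (hne (s := (1 : F)) fun v => ?_)
      have h := key v
      rw [e, zero_smul, LinearEquiv.map_eq_zero_iff, LinearEquiv.map_eq_zero_iff, LinearEquiv.map_eq_zero_iff] at h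
      rw [one_smul, ← hJ₀v, h]
    refine hnorm _ s hs0 fun v => ?_
    have hinv : ∀ w, (((TransvMax.glOf g)⁻¹ : GL ι F) : Matrix ι ι F) *ᵥ w = g.symm w := fun w => by
      rw [← map_inv, TransvMax.glOf_mulVec]; rfl
    simp only [Units.val_mul, ← Matrix.mulVec_mulVec, TransvMax.glOf_mulVec, hinv]
    rw [← hJ₀v, ← hJ₀v]
    exact key v

end Cfsg.Agent.SymRoot
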