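import Cfsg.Agent.Lib.TransvMax.TensorForms
import Cfsg.Agent.Lib.TransvMax.QuadOmega

/-!
Tensor stabilisers with a three-dimensional orthogonal factor over the field with three elements
are not maximal in the derived orthogonal group.
-/

set_option autoImplicit false

namespace Cfsg.Agent.TensorSmall

open scoped Matrix MatrixGroups
open Cfsg.Agent

variable {ι : Type} [Fintype ι] [DecidableEq ι] {F : Type*} [Field F] [Fintype F] {n₂ : ℕ}

theorem orth_three_not_max {Q : QuadraticForm F (ι → F)} (S : QMax.QSetting Q)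
    (hq : Fintype.card F = 3) (hn : 3 ≤ n₂) (e : ι ≃ Fin 3 × Fin n₂) (P : GL ι F)
    {f₁ : (Fin 3 → F) → (Fin 3 → F) → F} {f₂ : (Fin n₂ → F) → (Fin n₂ → F) → F}
    (hf₁ : Cfsg.Geo.IsSymmetricForm f₁) (hf₂ : Cfsg.Geo.IsSymmetricForm f₂)
    (hT : Cfsg.Geo.IsTensorFormStructure id (QuadraticMap.polar ⇑Q) f₁ f₂ e P) :
    ∃ K : Subgroup (GL ι F), Cfsg.Geo.tensorProductSubgroup 3 n₂ e P ⊓ Cfsg.Geo.omegaGL ⇑Q < K ∧
      K < Cfsg.Geo.omegaGL ⇑Q := by
  have h2 := two_ne_zero_of hq
  obtain ⟨c, hc, hform⟩ := form_tp e P (fun _ _ => rfl) (sesq_of_bilinear hf₁.bilinear)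
    (sesq_of_bilinear hf₂.bilinear) hT
  obtain ⟨d, ν, hν, hli, hd, hsim⟩ := exists_o3_frame hq hf₁
  obtain ⟨u, u', z, hu, hu', huu', hz, hzu, hzu'⟩ := exists_equal_pair hq hn hf₂
  have huy : f₂ u' u = 0 := by rw [hf₂.symm, huu']
  set α := f₂ u u with hα
  have hB : ∀ i j y y', QuadraticMap.polar (⇑Q) (tp e P (d i) y) (tp e P (d j) y') =
      if i = j then c * (ν * f₂ y y') else 0 := fun i j y y' => by
    rw [hform, hd]; split <;> simp
  have hQ : ∀ x, 2 * Q x = QuadraticMap.polar (⇑Q) x x := fun x => by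
    rw [FormsLib.polar_self']
  -- the reflection pair inside one block
  set x := tp e P (d 0) u
  set y := tp e P (d 0) u'
  have hQx2 : 2 * Q x = c * (ν * α) := by rw [hQ, hB, if_pos rfl]
  have hQy2 : 2 * Q y = c * (ν * α) := by rw [hQ, hB, if_pos rfl, hu']
  have hcα : c * (ν * α) ≠ 0 := mul_ne_zero hc (mul_ne_zero hν hu)
  have hQx : Q x ≠ 0 := fun h => hcα (by rw [← hQx2, h, mul_zero])
  have hQy : Q y ≠ 0 := fun h => hcα (by rw [← hQy2, h, mul_zero])
  set R := FormsLib.refl Q y hQy * FormsLib.refl Q x hQx with hR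
  have hRm : TransvMax.glOf R ∈ Cfsg.Geo.omegaGL ⇑Q :=
    QMax.refl_pair_mem_omega S hQx hQy (mul_left_cancel₀ h2 (hQx2.trans hQy2.symm))
  have hR1 : ∀ i, i ≠ 0 → ∀ w, R (tp e P (d i) w) = tp e P (d i) w := by
    intro i hi w
    rw [hR, LinearEquiv.mul_apply, FormsLib.refl_fix Q hQx (by rw [hB, if_neg hi]),
      FormsLib.refl_fix Q hQy (by rw [hB, if_neg hi])]
  -- the reflection pair mixing two blocks
  set x' := tp e P (d 0) u + tp e P (d 1) u with hx'
  set y' := tp e P (d 0) u' + tp e P (d 1) u' with hy'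
  have hQx' : Q x' = c * (ν * α) := by
    refine mul_left_cancel₀ h2 ?_
    rw [hQ, hx']
    simp only [QuadraticMap.polar_add_left, QuadraticMap.polar_add_right, hB, if_pos,
      show (0 : Fin 3) ≠ 1 by decide, show (1 : Fin 3) ≠ 0 by decide, if_false]
    ring
  have hQy' : Q y' = c * (ν * α) := by
    refine mul_left_cancel₀ h2 ?_
    rw [hQ, hy']
    simp only [QuadraticMap.polar_add_left, QuadraticMap.polar_add_right, hB, if_pos, hu',
      show (0 : Fin 3) ≠ 1 by decide, show (1 : Fin 3) ≠ 0 by decide, if_false]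
    ring
  set T := FormsLib.refl Q y' (hQy' ▸ hcα) * FormsLib.refl Q x' (hQx' ▸ hcα) with hT'
  have hTm : TransvMax.glOf T ∈ Cfsg.Geo.omegaGL ⇑Q :=
    QMax.refl_pair_mem_omega S _ _ (hQx'.trans hQy'.symm)
  have hpol : ∀ w v, QuadraticMap.polar (⇑Q) (tp e P (d 0) w) (tp e P (d 0) v + tp e P (d 1) v) =
      c * (ν * f₂ w v) := fun w v => by
    rw [QuadraticMap.polar_add_right, hB, hB, if_pos rfl, if_neg (by decide), add_zero]
  refine frame_not_max e P (d := d) hli.ne_zero (fun i j hij => ?_) inf_le_right (fun g hg => ?_)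
    (TransvMax.glOf R) hRm 0 1 (fun i w => ?_) (fun w => ?_) ?_ (TransvMax.glOf T) hTm ?_ ?_
  · refine LinearIndependent.pair_iff.2 fun s t h => ?_
    have h1 := (Fintype.linearIndependent_iff.1 hli) (Pi.single i s + Pi.single j t) (by
      simp [Finset.sum_add_distrib, Pi.single_apply, add_smul, ite_smul, h])
    exact ⟨by simpa [hij] using h1 i, by simpa [hij.symm] using h1 j⟩
  · obtain ⟨a, b, hab⟩ := mem_tensor e P hg.1
    have hiso := QMax.omegaGL_iso S hg.2
    have hg' : ∀ v w, QuadraticMap.polar (⇑Q) ((g : Matrix ι ι F) *ᵥ v) ((g : Matrix ι ι F) *ᵥ w) =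
        QuadraticMap.polar (⇑Q) v w := fun v w => by
      have := S.pB_of_mem hiso v w
      simpa [QuadraticMap.polarBilin_apply_apply] using this
    obtain ⟨ε, hε, hsa⟩ := factor_similitude e P hc hform hg' hab
      ⟨d 0, d 0, by rw [hd, if_pos rfl]; exact hν⟩ ⟨u, u, hu⟩
    exact ⟨a, b, hab, hsim _ ε hε hsa⟩
  · rw [TransvMax.glOf_mulVec]
    rcases eq_or_ne i 0 with rfl | hi
    · refine ⟨w - ((Q x)⁻¹ * (c * (ν * f₂ w u))) • u -
        ((Q y)⁻¹ * (c * (ν * f₂ w u'))) • u', ?_⟩
      simp only [hR, LinearEquiv.mul_apply, FormsLib.refl_apply, x, y, QuadraticMap.polar_sub_left,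
        QuadraticMap.polar_smul_left, hB, if_pos, huu', smul_eq_mul, mul_zero, sub_zero, map_sub,
        map_smul, tpL_apply, if_true, zero_smul]
      exact sub_right_comm _ _ _
    · exact ⟨w, by rw [hR1 i hi]; rfl⟩
  · rw [TransvMax.glOf_mulVec, hR1 1 (by decide)]
  · refine ⟨u + z, -u + z, ?_, fun k hk => ?_⟩
    · rw [TransvMax.glOf_mulVec, hR, LinearEquiv.mul_apply]
      have h1 : FormsLib.refl Q x hQx (tp e P (d 0) (u + z)) = tp e P (d 0) (-u + z) := by
        rw [FormsLib.refl_apply, show QuadraticMap.polar (⇑Q) (tp e P (d 0) (u + z)) x = 2 * Q x by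
          rw [hQx2, hB, if_pos rfl, hf₂.bilinear.add_left, hzu, add_zero],
          inv_mul_eq_div, mul_div_assoc, div_self hQx, mul_one, ← tpL_apply, ← tpL_apply]
        rw [show x = tpL e P (d 0) u from rfl, ← map_smul, ← map_sub]
        congr 1
        rw [two_smul]
        abel
      rw [h1, FormsLib.refl_fix Q hQy (by
        rw [hB, if_pos rfl, hf₂.bilinear.add_left, hzu', show -u = (-1 : F) • u by simp,
          hf₂.bilinear.smul_left, huu']
        simp)]
    · have h1 := congrArg (fun v => f₂ v u) hk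
      have h1' : -α = k * α := by
        simpa [hf₂.bilinear.add_left, hf₂.bilinear.smul_left, hzu,
          show f₂ (-u) u = -α by rw [show -u = (-1 : F) • u by simp, hf₂.bilinear.smul_left, neg_one_mul]]
          using h1
      have hk1 : k = -1 := mul_right_cancel₀ hu (by rw [← h1']; ring)
      subst hk1
      refine hz ?_
      have h3 : (2 : F) • z = 0 := by
        funext i
        have := congrFun hk i
        simp only [Pi.add_apply, Pi.neg_apply, Pi.smul_apply, smul_eq_mul] at this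
        simp only [Pi.smul_apply, smul_eq_mul, Pi.zero_apply]
        linear_combination this
      exact (smul_eq_zero.1 h3).resolve_left h2
  · refine ⟨z, hz, ?_⟩
    rw [TransvMax.glOf_mulVec, hT', LinearEquiv.mul_apply,
      FormsLib.refl_fix Q (x := tp e P (d 0) z) (hQx' ▸ hcα) (by rw [hpol, hzu, mul_zero, mul_zero]),
      FormsLib.refl_fix Q (x := tp e P (d 0) z) (hQy' ▸ hcα) (by rw [hpol, hzu', mul_zero, mul_zero])]
  · refine ⟨u, fun ⟨w, hw⟩ => ?_⟩
    have h1 : T (tp e P (d 0) u) = tp e P (d 1) ((-1 : F) • u) := by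
      have hx1 : FormsLib.refl Q x' (hQx' ▸ hcα) (tp e P (d 0) u) = tp e P (d 1) ((-1 : F) • u) := by
        rw [FormsLib.refl_apply, hx', hpol, ← hx', hQx', inv_mul_cancel₀ hcα, one_smul, hx',
          tp_smul_right, neg_one_smul]
        abel
      rw [hT', LinearEquiv.mul_apply, hx1, FormsLib.refl_fix Q _ (by
        rw [hy', QuadraticMap.polar_add_right, hB, hB, if_neg (by decide), if_pos rfl,
          hf₂.bilinear.smul_left, huu']
        simp)]
    rw [TransvMax.glOf_mulVec, h1, tpL_apply] at hw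
    have := (tp_indep e P ?_ hw).2
    · exact hu (by
        rw [neg_one_smul, neg_eq_zero] at this
        rw [hα, this, (sesq_of_bilinear hf₂.bilinear).zero_left])
    · refine LinearIndependent.pair_iff.2 fun s t h => ?_
      have h1 := (Fintype.linearIndependent_iff.1 hli) ![s, t, 0] (by
        simpa [Fin.sum_univ_three] using h)
      exact ⟨h1 0, h1 1⟩

end Cfsg.Agent.TensorSmall
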