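import Cfsg.Agent.Lib.TransvMax.Basic

/-!
Pure tensors inside `F^ι` for a tensor decomposition, and a non-maximality criterion for tensor
stabilisers whose small factor preserves a frame.
-/

set_option autoImplicit false

namespace Cfsg.Agent.TensorSmall

open scoped Matrix MatrixGroups Kronecker
open Cfsg.Agent

variable {ι : Type} [Fintype ι] [DecidableEq ι] {F : Type*} [Field F] {n₁ n₂ : ℕ}

/-- The image of a pure tensor. -/
def tp (e : ι ≃ Fin n₁ × Fin n₂) (P : GL ι F) (x : Fin n₁ → F) (y : Fin n₂ → F) : ι → F :=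
  (P : Matrix ι ι F) *ᵥ ((fun a : Fin n₁ × Fin n₂ => x a.1 * y a.2) ∘ e)

variable (e : ι ≃ Fin n₁ × Fin n₂) (P : GL ι F)

theorem tp_add_left (x x' : Fin n₁ → F) (y : Fin n₂ → F) :
    tp e P (x + x') y = tp e P x y + tp e P x' y := by
  rw [tp, tp, tp, ← Matrix.mulVec_add]
  congr 1
  funext i
  simp [add_mul]

theorem tp_add_right (x : Fin n₁ → F) (y y' : Fin n₂ → F) :
    tp e P x (y + y') = tp e P x y + tp e P x y' := by
  rw [tp, tp, tp, ← Matrix.mulVec_add]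
  congr 1
  funext i
  simp [mul_add]

theorem tp_smul_left (c : F) (x : Fin n₁ → F) (y : Fin n₂ → F) :
    tp e P (c • x) y = c • tp e P x y := by
  rw [tp, tp, ← Matrix.mulVec_smul]
  congr 1
  funext i
  simp [mul_assoc]

theorem tp_smul_right (c : F) (x : Fin n₁ → F) (y : Fin n₂ → F) :
    tp e P x (c • y) = c • tp e P x y := by
  rw [tp, tp, ← Matrix.mulVec_smul]
  congr 1
  funext i
  simp
  ring

/-- `y ↦ x ⊗ y` as a linear map. -/
def tpL (x : Fin n₁ → F) : (Fin n₂ → F) →ₗ[F] (ι → F) where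
  toFun := tp e P x
  map_add' := tp_add_right e P x
  map_smul' c y := tp_smul_right e P c x y

@[simp]
theorem tpL_apply (x : Fin n₁ → F) (y : Fin n₂ → F) : tpL e P x y = tp e P x y := rfl

theorem tp_zero_right (x : Fin n₁ → F) : tp e P x (0 : Fin n₂ → F) = 0 := (tpL e P x).map_zero

theorem tp_zero_left (y : Fin n₂ → F) : tp e P (0 : Fin n₁ → F) y = 0 := by
  have h := tp_smul_left e P 0 (0 : Fin n₁ → F) y
  rwa [zero_smul, zero_smul] at h

theorem tp_eq_iff {x x' : Fin n₁ → F} {y y' : Fin n₂ → F} :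
    tp e P x y = tp e P x' y' ↔ ∀ i j, x i * y j = x' i * y' j := by
  refine ⟨fun h i j => ?_, fun h => ?_⟩
  · have h' := congrArg (fun v => ((P⁻¹ : GL ι F) : Matrix ι ι F) *ᵥ v) h
    simp only [tp, TransvMax.inv_mulVec_mulVec] at h'
    simpa using congrFun h' (e.symm (i, j))
  · rw [tp, tp]
    congr 1
    funext a
    exact h _ _

theorem tp_eq_zero {x : Fin n₁ → F} {y : Fin n₂ → F} (hx : x ≠ 0) (h : tp e P x y = 0) : y = 0 := by
  obtain ⟨i, hi⟩ := Function.ne_iff.1 hx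
  rw [← tp_zero_left e P y, tp_eq_iff] at h
  funext j
  have := h i j
  rw [Pi.zero_apply, zero_mul, mul_eq_zero] at this
  exact this.resolve_left hi

theorem tp_inj {x : Fin n₁ → F} (hx : x ≠ 0) : Function.Injective (tpL e P x) := by
  rw [← LinearMap.ker_eq_bot, LinearMap.ker_eq_bot']
  exact fun y h => tp_eq_zero e P hx h

theorem tp_indep {x x' : Fin n₁ → F} (hx : LinearIndependent F ![x, x']) {y y' : Fin n₂ → F}
    (h : tp e P x y = tp e P x' y') : y = 0 ∧ y' = 0 := by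
  rw [tp_eq_iff] at h
  have h' := LinearIndependent.pair_iff.1 hx
  have key : ∀ j, y j = 0 ∧ -y' j = 0 := fun j => h' (y j) (-(y' j)) (funext fun i => by
    simp only [Pi.add_apply, Pi.smul_apply, smul_eq_mul, Pi.zero_apply]
    linear_combination h i j)
  exact ⟨funext fun j => (key j).1, funext fun j => neg_eq_zero.1 (key j).2⟩

theorem tp_swap (x : Fin n₁ → F) (y : Fin n₂ → F) :
    tp (e.trans (Equiv.prodComm _ _)) P y x = tp e P x y := by
  rw [tp, tp]
  congr 1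
  funext i
  simp [mul_comm]

theorem kronecker_mulVec_tensor (a : Matrix (Fin n₁) (Fin n₁) F) (b : Matrix (Fin n₂) (Fin n₂) F)
    (x : Fin n₁ → F) (y : Fin n₂ → F) :
    (a ⊗ₖ b) *ᵥ (fun p : Fin n₁ × Fin n₂ => x p.1 * y p.2) =
      fun p => (a *ᵥ x) p.1 * (b *ᵥ y) p.2 := by
  funext p
  simp only [Matrix.mulVec, dotProduct, Matrix.kroneckerMap_apply, Fintype.sum_prod_type,
    Finset.sum_mul_sum]
  refine Finset.sum_congr rfl fun i _ => Finset.sum_congr rfl fun j _ => ?_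
  ring

theorem mem_tensor {g : GL ι F} (hg : g ∈ Cfsg.Geo.tensorProductSubgroup n₁ n₂ e P) :
    ∃ (a : GL (Fin n₁) F) (b : GL (Fin n₂) F), ∀ (x : Fin n₁ → F) (y : Fin n₂ → F),
      (g : Matrix ι ι F) *ᵥ tp e P x y =
        tp e P ((a : Matrix (Fin n₁) (Fin n₁) F) *ᵥ x) ((b : Matrix (Fin n₂) (Fin n₂) F) *ᵥ y) := by
  obtain ⟨h, ⟨k, ⟨a, b, hab⟩, rfl⟩, rfl⟩ := hg
  refine ⟨a, b, fun x y => ?_⟩
  simp only [MulEquiv.coe_toMonoidHom, MulAut.conj_apply, Units.val_mul, ← Matrix.mulVec_mulVec,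
    tp, TransvMax.inv_mulVec_mulVec]
  congr 1
  show (Matrix.reindexAlgEquiv F F e.symm (k : Matrix (Fin n₁ × Fin n₂) (Fin n₁ × Fin n₂) F)) *ᵥ _ = _
  rw [Matrix.reindexAlgEquiv_apply, Matrix.reindex_apply, Equiv.symm_symm,
    Matrix.submatrix_mulVec_equiv, hab]
  have : ((fun a : Fin n₁ × Fin n₂ => x a.1 * y a.2) ∘ e) ∘ e.symm =
      fun a : Fin n₁ × Fin n₂ => x a.1 * y a.2 := by funext a; simp
  rw [this, kronecker_mulVec_tensor]

theorem map_eq_of_le {g : GL ι F} {x x' : Fin n₁ → F} (hx : x ≠ 0) (hx' : x' ≠ 0)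
    (h : ∀ y, (g : Matrix ι ι F) *ᵥ tp e P x y ∈ LinearMap.range (tpL e P x')) :
    (LinearMap.range (tpL e P x)).map (Matrix.toLin' (g : Matrix ι ι F)) =
      LinearMap.range (tpL e P x') := by
  refine Submodule.eq_of_le_of_finrank_eq ?_ ?_
  · rintro _ ⟨_, ⟨y, rfl⟩, rfl⟩
    simpa using h y
  · have hl : Matrix.toLin' (g : Matrix ι ι F) =
        (TransvMax.linOf g : (ι → F) →ₗ[F] (ι → F)) :=
      LinearMap.ext fun v => by simp [TransvMax.linOf_apply]
    rw [hl, LinearEquiv.finrank_map_eq, LinearMap.finrank_range_of_inj (tp_inj e P hx),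
      LinearMap.finrank_range_of_inj (tp_inj e P hx')]

/-- If the small factor permutes a frame `d`, the tensor stabiliser is not maximal. -/
theorem frame_not_max {t : ℕ} {d : Fin t → Fin n₁ → F} (hd : ∀ i, d i ≠ 0)
    (hind : ∀ i j, i ≠ j → LinearIndependent F ![d i, d j])
    {G H : Subgroup (GL ι F)} (hHG : H ≤ G)
    (hH : ∀ g ∈ H, ∃ (a : GL (Fin n₁) F) (b : GL (Fin n₂) F),
      (∀ x y, (g : Matrix ι ι F) *ᵥ tp e P x y =
        tp e P ((a : Matrix (Fin n₁) (Fin n₁) F) *ᵥ x) ((b : Matrix (Fin n₂) (Fin n₂) F) *ᵥ y)) ∧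
      ∀ i, ∃ (j : Fin t) (c : F), (a : Matrix (Fin n₁) (Fin n₁) F) *ᵥ d i = c • d j)
    (T : GL ι F) (hT : T ∈ G) (i0 i1 : Fin t)
    (hTW : ∀ i y, (T : Matrix ι ι F) *ᵥ tp e P (d i) y ∈ LinearMap.range (tpL e P (d i)))
    (hT1 : ∀ y, (T : Matrix ι ι F) *ᵥ tp e P (d i1) y = tp e P (d i1) y)
    (hT0 : ∃ y y', (T : Matrix ι ι F) *ᵥ tp e P (d i0) y = tp e P (d i0) y' ∧ ∀ c : F, y' ≠ c • y)
    (S : GL ι F) (hS : S ∈ G)
    (hS0 : ∃ z, z ≠ 0 ∧ (S : Matrix ι ι F) *ᵥ tp e P (d i0) z = tp e P (d i0) z)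
    (hS1 : ∃ y, (S : Matrix ι ι F) *ᵥ tp e P (d i0) y ∉ LinearMap.range (tpL e P (d i0))) :
    ∃ K : Subgroup (GL ι F), H < K ∧ K < G := by
  let D : Fin t → Submodule F (ι → F) := fun i => LinearMap.range (tpL e P (d i))
  obtain ⟨y, y', hyy', hnp⟩ := hT0
  have hy : y ≠ 0 := fun e0 => by
    rw [e0, tp_zero_right, Matrix.mulVec_zero] at hyy'
    exact hnp 0 (by rw [tp_eq_zero e P (hd i0) hyy'.symm, zero_smul])
  have hDT : T ∈ Cfsg.Geo.decompositionStabilizer D :=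
    ⟨1, fun i => map_eq_of_le e P (hd i) (hd i) (hTW i)⟩
  have hDH : H ≤ Cfsg.Geo.decompositionStabilizer D := by
    intro g hg
    obtain ⟨a, b, hab, ha⟩ := hH g hg
    choose σ c hσ using ha
    have hinj : Function.Injective σ := by
      intro i j h
      by_contra hne
      have h0 : (a : Matrix (Fin n₁) (Fin n₁) F) *ᵥ (c j • d i + (-c i) • d j) = 0 := by
        rw [Matrix.mulVec_add, Matrix.mulVec_smul, Matrix.mulVec_smul, hσ, hσ, h, smul_smul,
          smul_smul, ← add_smul]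
        rw [show c j * c i + -c i * c j = 0 by ring, zero_smul]
      have h1 := congrArg (fun v => ((a⁻¹ : GL (Fin n₁) F) : Matrix (Fin n₁) (Fin n₁) F) *ᵥ v) h0
      simp only [TransvMax.inv_mulVec_mulVec, Matrix.mulVec_zero] at h1
      have h2 := (LinearIndependent.pair_iff.1 (hind i j hne) _ _ h1).2
      have h3 := hσ i
      rw [neg_eq_zero] at h2
      rw [h2, zero_smul] at h3
      exact hd i (by
        have h4 := congrArg (fun v => ((a⁻¹ : GL (Fin n₁) F) : Matrix (Fin n₁) (Fin n₁) F) *ᵥ v) h3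
        simpa only [TransvMax.inv_mulVec_mulVec, Matrix.mulVec_zero] using h4)
    refine ⟨Equiv.ofBijective σ ⟨hinj, Finite.injective_iff_surjective.1 hinj⟩, fun i => ?_⟩
    refine map_eq_of_le e P (hd i) (hd _) fun z => ⟨c i • ((b : Matrix (Fin n₂) (Fin n₂) F) *ᵥ z), ?_⟩
    rw [hab, hσ, tpL_apply, tp_smul_left, tp_smul_right]
    rfl
  refine ⟨Cfsg.Geo.decompositionStabilizer D ⊓ G, lt_of_le_not_ge (le_inf hDH hHG) fun hle => ?_,
    lt_of_le_not_ge inf_le_right fun hle => ?_⟩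
  · obtain ⟨a, b, hab, ha⟩ := hH T (hle ⟨hDT, hT⟩)
    obtain ⟨j, l, hl⟩ := ha i1
    obtain ⟨k, m, hm⟩ := ha i0
    have h1 : ∀ z, tp e P (d i1) z = tp e P (d j) (l • ((b : Matrix (Fin n₂) (Fin n₂) F) *ᵥ z)) := by
      intro z
      rw [← hT1 z, hab, hl, tp_smul_left, tp_smul_right]
    have hj : j = i1 := by
      by_contra hne
      exact hy (tp_indep e P (hind i1 j (Ne.symm hne)) (h1 y)).1
    subst hj
    have h2 : y = l • ((b : Matrix (Fin n₂) (Fin n₂) F) *ᵥ y) := tp_inj e P (hd j) (h1 y)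
    have h3 : tp e P (d i0) y' = tp e P (d k) (m • ((b : Matrix (Fin n₂) (Fin n₂) F) *ᵥ y)) := by
      rw [← hyy', hab, hm, tp_smul_left, tp_smul_right]
    have hk : k = i0 := by
      by_contra hne
      exact hnp 0 (by rw [(tp_indep e P (hind i0 k (Ne.symm hne)) h3).1, zero_smul])
    subst hk
    have h4 : y' = m • ((b : Matrix (Fin n₂) (Fin n₂) F) *ᵥ y) := tp_inj e P (hd k) h3
    have hl0 : l ≠ 0 := fun e0 => hy (by rw [h2, e0, zero_smul])
    refine hnp (m * l⁻¹) ?_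
    conv_rhs => rw [h2, smul_smul, mul_assoc, inv_mul_cancel₀ hl0, mul_one]
    exact h4
  · obtain ⟨σ, hσ⟩ := (hle hS).1
    obtain ⟨z, hz, hSz⟩ := hS0
    have h0 : σ i0 = i0 := by
      have hm : tp e P (d i0) z ∈ D (σ i0) := by
        rw [← hσ i0]
        exact ⟨tp e P (d i0) z, ⟨z, rfl⟩, by simpa using hSz⟩
      obtain ⟨w, hw⟩ := hm
      by_contra hne
      exact hz (tp_indep e P (hind i0 (σ i0) (Ne.symm hne)) hw.symm).1
    obtain ⟨w, hw⟩ := hS1
    refine hw ?_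
    have h1 := (hσ i0).le ⟨tp e P (d i0) w, ⟨w, rfl⟩, rfl⟩
    rw [h0] at h1
    simpa [D] using h1

end Cfsg.Agent.TensorSmall
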