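import Cfsg.Agent.Lib.TransvMax.TensorForms

/-!
Non-maximality of tensor stabilisers with a framed small factor in groups containing transvections.
-/

set_option autoImplicit false

namespace Cfsg.Agent.TensorSmall

open scoped Matrix MatrixGroups
open Cfsg.Agent

variable {ι : Type} [Fintype ι] [DecidableEq ι] {F : Type*} [Field F] {n₁ n₂ t : ℕ}

theorem pair_indep {d : Fin t → Fin n₁ → F} (hli : LinearIndependent F d) (i j : Fin t)
    (hij : i ≠ j) : LinearIndependent F ![d i, d j] := by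
  refine LinearIndependent.pair_iff.2 fun s r h => ?_
  have h1 := (Fintype.linearIndependent_iff.1 hli) (Pi.single i s + Pi.single j r) (by
    simp [Finset.sum_add_distrib, Pi.single_apply, add_smul, ite_smul, h])
  exact ⟨by simpa [hij] using h1 i, by simpa [hij.symm] using h1 j⟩

theorem trv_frame_not_max (e : ι ≃ Fin n₁ × Fin n₂) (P : GL ι F) {σ : F → F}
    {f : (ι → F) → (ι → F) → F} {f₁ : (Fin n₁ → F) → (Fin n₁ → F) → F}
    {f₂ : (Fin n₂ → F) → (Fin n₂ → F) → F} (hs : Sesq σ f) (hs₂ : Sesq σ f₂) {c : F} (hc : c ≠ 0)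
    (hform : ∀ x y x' y', f (tp e P x y) (tp e P x' y') = c * (f₁ x x' * f₂ y y'))
    {d : Fin t → Fin n₁ → F} {ν : F} (hν : ν ≠ 0) (hli : LinearIndependent F d)
    (hd : ∀ i j, f₁ (d i) (d j) = if i = j then ν else 0) (i0 i1 : Fin t) (hi : i0 ≠ i1)
    {u w : Fin n₂ → F} (hu : f₂ u u = 0) (hw : f₂ w u ≠ 0)
    {G H : Subgroup (GL ι F)} (hHG : H ≤ G)
    (hiso : ∀ g ∈ H, ∀ x y, f ((g : Matrix ι ι F) *ᵥ x) ((g : Matrix ι ι F) *ᵥ y) = f x y)
    (hten : H ≤ Cfsg.Geo.tensorProductSubgroup n₁ n₂ e P)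
    (hsim : ∀ (a : Matrix (Fin n₁) (Fin n₁) F) (ε : F), ε ≠ 0 →
      (∀ x x', f₁ (a *ᵥ x) (a *ᵥ x') = ε * f₁ x x') →
      ∀ i, ∃ (j : Fin t) (s : F), a *ᵥ d i = s • d j)
    (htrv : ∀ a, f a a = 0 → ∃ T ∈ G, ∃ k : F, k ≠ 0 ∧
      ∀ x, (T : Matrix ι ι F) *ᵥ x = x + (k * f x a) • a) :
    ∃ K : Subgroup (GL ι F), H < K ∧ K < G := by
  have hB : ∀ i j y y', f (tp e P (d i) y) (tp e P (d j) y') =
      if i = j then c * (ν * f₂ y y') else 0 := fun i j y y' => by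
    rw [hform, hd]; split <;> simp
  have hu0 : u ≠ 0 := fun h => hw (by rw [h, hs₂.zero_right])
  obtain ⟨T, hT, k, hk, hTx⟩ := htrv (tp e P (d i0) u) (by rw [hB, if_pos rfl, hu, mul_zero, mul_zero])
  obtain ⟨S, hS, l, hl, hSx⟩ := htrv (tp e P (d i0) u + tp e P (d i1) u) (by
    rw [hs.add_left, hs.add_right, hs.add_right, hB, hB, hB, hB, if_pos rfl, if_neg hi,
      if_neg hi.symm, if_pos rfl, hu]
    ring)
  have hS' : ∀ y, (S : Matrix ι ι F) *ᵥ tp e P (d i0) y = tp e P (d i0) y +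
      (l * (c * (ν * f₂ y u))) • (tp e P (d i0) u + tp e P (d i1) u) := fun y => by
    rw [hSx, hs.add_right, hB, hB, if_pos rfl, if_neg hi, add_zero]
  refine frame_not_max e P (d := d) hli.ne_zero (pair_indep hli) hHG (fun g hg => ?_)
    T hT i0 i1 (fun i y => ?_) (fun y => ?_) ⟨w, w + (k * (c * (ν * f₂ w u))) • u, ?_, fun s hsw => ?_⟩
    S hS ⟨u, hu0, ?_⟩ ⟨w, fun hmem => ?_⟩
  · obtain ⟨a, b, hab⟩ := mem_tensor e P (hten hg)
    obtain ⟨ε, hε, hsa⟩ := factor_similitude e P hc hform (hiso g hg) hab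
      ⟨d i0, d i0, by rw [hd, if_pos rfl]; exact hν⟩ ⟨w, u, hw⟩
    exact ⟨a, b, hab, hsim _ ε hε hsa⟩
  · rw [hTx, hB]
    rcases eq_or_ne i i0 with rfl | hne
    · exact ⟨y + (k * (c * (ν * f₂ y u))) • u, by
        rw [if_pos rfl, tpL_apply, tp_add_right, tp_smul_right]⟩
    · exact ⟨y, by rw [if_neg hne, mul_zero, zero_smul, add_zero]; rfl⟩
  · rw [hTx, hB, if_neg hi.symm, mul_zero, zero_smul, add_zero]
  · rw [hTx, hB, if_pos rfl, tp_add_right, tp_smul_right]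
  · have h1 := congrArg (fun v => f₂ v u) hsw
    simp only [hs₂.add_left, hs₂.smul_left, hu, mul_zero, add_zero] at h1
    have hs1 : s = 1 := mul_right_cancel₀ hw (by rw [one_mul]; exact h1.symm)
    rw [hs1, one_smul, add_eq_left, smul_eq_zero] at hsw
    exact hsw.elim (fun h => mul_ne_zero hk (mul_ne_zero hc (mul_ne_zero hν hw)) h) hu0
  · rw [hS', hu, mul_zero, mul_zero, mul_zero, zero_smul, add_zero]
  · obtain ⟨v, hv⟩ := hmem
    rw [hS', tpL_apply, smul_add, ← tp_smul_right, ← tp_smul_right, ← add_assoc, ← tp_add_right,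
      ← sub_eq_iff_eq_add'] at hv
    rw [← tpL_apply, ← tpL_apply, ← map_sub, tpL_apply] at hv
    have := (tp_indep e P (pair_indep hli i0 i1 hi) hv).2
    exact (smul_eq_zero.1 this).elim
      (fun h => mul_ne_zero hl (mul_ne_zero hc (mul_ne_zero hν hw)) h) hu0

end Cfsg.Agent.TensorSmall
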