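import Cfsg.Agent.Lib.TransvMax.UnitarySpSub
import Cfsg.Agent.Lib.TransvMax.UnitaryTools
import Cfsg.Agent.Lib.TransvMax.OrthBasic

/-!
The orthogonal subfield subgroup of the special unitary group is maximal.
-/

set_option autoImplicit false

namespace Cfsg.Agent.TransvMax

open scoped Matrix MatrixGroups
open Cfsg.Agent

namespace OSetting

variable {ι : Type} [Fintype ι] [DecidableEq ι] {F : Type*} [Field F] [Finite F]
  {Q : QuadraticForm F (ι → F)}

/-- A singular vector in the kernel of a few conditions, outside a small subspace. -/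
theorem exists_sing_perp (S : OSetting Q) {k : ℕ} (v : Fin k → ι → F) (hk : k ≤ 5)
    (W : Submodule F (ι → F)) (hW : Module.finrank F W ≤ 2) :
    ∃ u, (∀ i, pB Q u (v i) = 0) ∧ Q u = 0 ∧ u ∉ W := by
  obtain ⟨p, hp, hQp⟩ := S.exists_aniso_perp v (by omega)
  obtain ⟨r, hr, hQr⟩ := S.exists_aniso_perp (Fin.cons p v) (by omega)
  obtain ⟨z, hz, hzW⟩ : ∃ z, (∀ i, pB Q z ((Fin.cons r (Fin.cons p v) : Fin (k + 2) → ι → F) i) = 0) ∧
      z ∉ W := by
    by_contra hc
    push Not at hc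
    have hle : LinearMap.ker (LinearMap.pi fun i =>
        (pB Q).flip ((Fin.cons r (Fin.cons p v) : Fin (k + 2) → ι → F) i)) ≤ W :=
      fun z hz => hc z fun i => congrFun hz i
    have h1 := Submodule.finrank_mono hle
    have h2 := S.finrank_ker_ge (Fin.cons r (Fin.cons p v) : Fin (k + 2) → ι → F)
    have := S.dim
    omega
  have hzp : pB Q z p = 0 := by simpa using hz (Fin.succ 0)
  have hzr : pB Q z r = 0 := by simpa using hz 0
  have hrp : pB Q r p = 0 := by simpa using hr 0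
  obtain ⟨s, t, hst⟩ := S.exists_binary hQp hQr (-Q z)
  have hgood : ∀ ε : F, ε * ε = 1 → (∀ i, pB Q (z + ε • (s • p + t • r)) (v i) = 0) ∧
      Q (z + ε • (s • p + t • r)) = 0 := by
    intro ε hε
    constructor
    · intro i
      have h1 : pB Q p (v i) = 0 := hp i
      have h2 : pB Q r (v i) = 0 := by simpa using hr i.succ
      have h3 : pB Q z (v i) = 0 := by simpa using hz i.succ.succ
      simp only [map_add, map_smul, LinearMap.add_apply, LinearMap.smul_apply, h1, h2, h3, smul_zero,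
        add_zero]
    · simp only [S.quad_add, S.quad_smul, map_add, map_smul, LinearMap.add_apply, LinearMap.smul_apply,
        smul_eq_mul, S.pB_comm p r, hzp, hzr, hrp,
        mul_zero, add_zero, hε]
      linear_combination hst
  by_contra hc
  push Not at hc
  have h1 := hc _ (hgood 1 (one_mul 1)).1 (hgood 1 (one_mul 1)).2
  have h2 := hc _ (hgood (-1) (by ring)).1 (hgood (-1) (by ring)).2
  refine hzW ?_
  have h3 := W.smul_mem (2 : F)⁻¹ (W.add_mem h1 h2)
  convert h3 using 1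
  match_scalars <;> field_simp [S.two_ne] <;> ring

end OSetting

/-- Conjugating a Siegel map by another with the same isotropic vector produces a transvection. -/
theorem hSiegel_conj_utrv {ι : Type} [Fintype ι] [DecidableEq ι] {F : Type*} [Field F]
    {σ : F ≃+* F} {f : (ι → F) → (ι → F) → F} (hf : Cfsg.Geo.IsUnitaryForm σ f) {u z r : ι → F}
    (hu : f u u = 0) (hz : f z u = 0) (hr : f r u = 0) (c : F) {e : F}
    (he : σ (f z r) - f z r = e) :
    hSiegel hf hu hz 0 * utrv hf hu e * hSiegel hf hu hr c =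
      hSiegel hf hu hr c * hSiegel hf hu hz 0 := by
  refine gl_ext fun x => ?_
  have hrz : f r z = σ (f z r) := hf.herm r z
  simp only [Units.val_mul, ← Matrix.mulVec_mulVec, hSiegel_mulVec, utrv_mulVec, hf.add_left,
    hf.smul_left, hu, hz, hr, herm_eq_zero_comm hf hz, herm_eq_zero_comm hf hr, hrz, ← he]
  module

/-- The square of an element of trace zero is fixed, hence in the subfield of index two. -/
theorem mul_self_mem {F : Type*} [Field F] [Fintype F] {σ : F ≃+* F} {F₀ : Subfield F} {ρ : F}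
    (hfix : ∀ a ∈ F₀, σ a = a) (hρ : σ ρ = -ρ) (hcard : Fintype.card F = Nat.card F₀ ^ 2)
    (h20 : (2 : F) ≠ 0) :
    ρ * ρ ∈ F₀ := by
  by_cases hρ0 : ρ ∈ F₀
  · exact mul_mem hρ0 hρ0
  obtain ⟨a, b, h⟩ := exists_rat_decomp (n := 1) (P := 1) hcard hρ0 fun _ => ρ * ρ
  have h' : ρ * ρ = (a 0 : F) + ρ * b 0 := by simpa [ratEmb] using congrFun h 0
  have h1 : σ (ρ * ρ) = ρ * ρ := by rw [map_mul, hρ, neg_mul_neg]
  rw [h', map_add, map_mul, hfix _ (a 0).2, hfix _ (b 0).2, hρ] at h1
  rcases mul_eq_zero.1 (show (2 * ρ) * (b 0 : F) = 0 by linear_combination -h1) with h2 | h2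
  · exact absurd (((mul_eq_zero.1 h2).resolve_left h20) ▸ F₀.zero_mem) hρ0
  · rw [h', h2, mul_zero, add_zero]; exact (a 0).2

variable {F : Type*} [Field F] [Fintype F] {n q : ℕ} {σ : F ≃+* F}
  (hf : Cfsg.Geo.IsUnitaryForm σ (Cfsg.hermForm n F q))
  {F₀ : Subfield F} {P : GL (Fin n) F}
  (hP : Cfsg.Geo.IsFormRationalStructure (Cfsg.hermForm n F q) F₀ 1 P)

include hf hP in
/-- The orthogonal subfield subgroup of the special unitary group is maximal. -/
theorem unitaryOrthSub_maximal (hF : Fintype.card F = q ^ 2) (hn : 13 ≤ n) (hodd : Odd q)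
    (hcard : Fintype.card F = Nat.card F₀ ^ 2) (hσ : ∀ x, σ x = x ^ q) :
    Cfsg.Geo.IsMaximalIn (Cfsg.GU n F q ⊓ Cfsg.Geo.specialLinear (Fin n) F)
      (Cfsg.Geo.subfieldSubgroup F₀ P ⊓ (Cfsg.GU n F q ⊓ Cfsg.Geo.specialLinear (Fin n) F)) := by
  classical
  haveI := Fintype.ofFinite F₀
  set H := Cfsg.Geo.subfieldSubgroup F₀ P ⊓ (Cfsg.GU n F q ⊓ Cfsg.Geo.specialLinear (Fin n) F)
    with hH
  have hq0 : Fintype.card F₀ = q := by
    rw [← Nat.card_eq_fintype_card]
    exact (Nat.pow_left_injective two_ne_zero) (hcard.symm.trans hF)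
  have hfix : ∀ a ∈ F₀, σ a = a := by
    intro a ha
    have h1 := FiniteField.pow_card (⟨a, ha⟩ : F₀)
    rw [hq0] at h1
    rw [hσ]
    exact congrArg Subtype.val h1
  have hchar : ringChar F₀ ≠ 2 := fun h => by
    have h1 := FiniteField.even_card_iff_char_two.1 h
    rw [hq0] at h1
    exact Nat.not_even_iff_odd.2 hodd (Nat.even_iff.2 h1)
  have h20 : (2 : F₀) ≠ 0 := Ring.two_ne_zero hchar
  have h2 : (2 : F) ≠ 0 := fun h => h20 (Subtype.ext h)
  obtain ⟨ρ, hρne, hρ⟩ := exists_trace_zero hf.ne_refl hf.involutive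
  have hρσ : σ ρ = -ρ := by linear_combination hρ
  have hρ0 : ρ ∉ F₀ := fun h => by
    have h3 : (2 : F) * ρ = 0 := by linear_combination hρ - hfix ρ h
    exact hρne ((mul_eq_zero.1 h3).resolve_left h2)
  -- the rational form
  let B₀ : LinearMap.BilinForm F₀ (Fin n → F₀) := LinearMap.mk₂ F₀ (ratForm hP)
    (fun x y v => Subtype.ext (by
      push_cast [ratForm_coe]; rw [ratEmb_add, hf.add_left, mul_add]))
    (fun c x v => Subtype.ext (by
      push_cast [ratForm_coe, smul_eq_mul]; rw [ratEmb_smul, hf.smul_left]; ring))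
    (fun v x y => Subtype.ext (by
      push_cast [ratForm_coe]; rw [ratEmb_add, herm_add_right hf, mul_add]))
    (fun c v x => Subtype.ext (by
      push_cast [ratForm_coe, smul_eq_mul]; rw [ratEmb_smul, herm_smul_right hf, hfix _ c.2]; ring))
  have hB : ∀ u v, (B₀ u v : F) = Cfsg.hermForm n F q (ratEmb F₀ P u) (ratEmb F₀ P v) := fun u v => one_mul _
  have hsymm : ∀ u v, B₀ u v = B₀ v u := fun u v => Subtype.ext (by
    rw [← hfix _ (B₀ u v).2, hB, hB, ← hf.herm])
  let Q₀ : QuadraticForm F₀ (Fin n → F₀) := LinearMap.BilinMap.toQuadraticMap ((2 : F₀)⁻¹ • B₀)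
  have hpB : ∀ u v, pB Q₀ u v = B₀ u v := fun u v => by
    simp only [pB, Q₀, LinearMap.BilinMap.polarBilin_toQuadraticMap, LinearMap.add_apply,
      LinearMap.flip_apply, LinearMap.smul_apply, smul_eq_mul, hsymm v u]
    field_simp [h20]
    ring
  have hQ₀ : ∀ u, (2 : F) * (Q₀ u : F) = Cfsg.hermForm n F q (ratEmb F₀ P u) (ratEmb F₀ P u) := fun u => by
    rw [← hB]
    have h1 : (2 : F₀) * Q₀ u = B₀ u u := by
      simp only [Q₀, LinearMap.BilinMap.toQuadraticMap_apply, LinearMap.smul_apply, smul_eq_mul]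
      rw [← mul_assoc, mul_inv_cancel₀ h20, one_mul]
    rw [← h1]
    push_cast
    rfl
  have hdec : ∀ x : Fin n → F, ∃ a b : Fin n → F₀, x = ratEmb F₀ P a + ρ • ratEmb F₀ P b :=
    fun x => exists_rat_decomp (P := P) hcard hρ0 x
  have S : OSetting Q₀ := by
    refine ⟨hchar, ⟨fun v hv => ?_, fun v hv => ?_⟩, by rw [Fintype.card_fin]; exact hn⟩
    all_goals
      by_contra h0
      have hv' : ratEmb F₀ P v ≠ 0 := fun e => h0 (ratEmb_injective F₀ P (by rw [e, ratEmb_zero]))
      obtain ⟨x, hx⟩ := (hf.nondegenerate _ hv').1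
      obtain ⟨a, b, rfl⟩ := hdec x
      have ha : (B₀ a v : F) = 0 := by
        first
          | rw [← hpB, hv a]; rfl
          | rw [hsymm, ← hpB, hv a]; rfl
      have hb : (B₀ b v : F) = 0 := by
        first
          | rw [← hpB, hv b]; rfl
          | rw [hsymm, ← hpB, hv b]; rfl
      rw [hf.add_left, hf.smul_left, ← hB, ← hB, ha, hb, mul_zero, add_zero] at hx
      exact hx rfl
  have hBiso : ∀ u, Q₀ u = 0 → Cfsg.hermForm n F q (ratEmb F₀ P u) (ratEmb F₀ P u) = 0 := fun u h => by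
    rw [← hQ₀, h]; simp
  have hperp : ∀ {u v}, pB Q₀ u v = 0 → Cfsg.hermForm n F q (ratEmb F₀ P u) (ratEmb F₀ P v) = 0 := fun {u v} h => by
    rw [← hB, ← hpB, h]; rfl
  have hval : ∀ a b r, Cfsg.hermForm n F q (ratEmb F₀ P a + ρ • ratEmb F₀ P b) (ratEmb F₀ P r) =
      (pB Q₀ a r : F) + ρ * (pB Q₀ b r : F) := fun a b r => by
    rw [hf.add_left, hf.smul_left, ← hB, ← hB, hpB, hpB]
  -- Siegel maps of the rational form
  have hsieg : ∀ u w (hu : Q₀ u = 0) (hw : pB Q₀ w u = 0),
      hSiegel hf (hBiso u hu) (hperp hw) (-(Q₀ w : F)) ∈ H := by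
    intro u w hu hw
    refine ⟨(mem_subfieldSubgroup_iff F₀ P _).2 ⟨1, one_ne_zero, fun y => ⟨siegelHom Q₀ u w y, ?_⟩⟩,
      hSiegel_isometry hf (hBiso u hu) (hperp hw) ?_, hSiegel_mem_SL hf (hBiso u hu) (hperp hw) _⟩
    · rw [one_smul, hSiegel_mulVec, siegelHom_apply, ← hB, ← hB]
      simp only [hpB, sub_eq_add_neg, ← neg_smul, ratEmb_add, ratEmb_smul]
      push_cast
      module
    · rw [map_neg, hfix _ (Q₀ w).2, ← hQ₀]
      ring
  have hindep : ∀ {a b : Fin n → F₀}, (∀ c : F, c ≠ 0 → ∀ y, c • (ratEmb F₀ P a + ρ • ratEmb F₀ P b) ≠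
      ratEmb F₀ P y) → LinearIndependent F₀ ![a, b] := by
    intro a b hab
    rw [LinearIndependent.pair_iff]
    intro s t hst
    by_contra hne
    by_cases ht : t = 0
    · rw [ht, zero_smul, add_zero] at hst
      have ha : a = 0 := (smul_eq_zero.1 hst).resolve_left fun e => hne ⟨e, ht⟩
      refine hab ρ⁻¹ (inv_ne_zero hρne) b ?_
      rw [ha, ratEmb_zero, zero_add, smul_smul, inv_mul_cancel₀ hρne, one_smul]
    · have hb : b = (-(s / t)) • a := by
        rw [← sub_eq_zero, ← smul_right_injective (Fin n → F₀) ht |>.eq_iff, smul_zero, smul_sub,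
          smul_smul, mul_neg, mul_div_cancel₀ _ ht, neg_smul, sub_neg_eq_add, add_comm, hst]
      have hu : ratEmb F₀ P a + ρ • ratEmb F₀ P b =
          (1 + ρ * ((-(s / t) : F₀) : F)) • ratEmb F₀ P a := by
        rw [hb, ratEmb_smul, smul_smul, add_smul, one_smul]
      by_cases h0 : (1 + ρ * ((-(s / t) : F₀) : F)) = 0
      · exact hab 1 one_ne_zero 0 (by rw [hu, h0, zero_smul, smul_zero, ratEmb_zero])
      · exact hab _ (inv_ne_zero h0) a (by rw [hu, smul_smul, inv_mul_cancel₀ h0, one_smul])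
  have hli1 : ∀ {u : Fin n → F₀}, u ≠ 0 → LinearIndependent F₀ ![u] := fun h => by
    simp [linearIndependent_unique_iff, h]
  have hli2 : ∀ {u v : Fin n → F₀}, v ≠ 0 → u ∉ Submodule.span F₀ {v} →
      LinearIndependent F₀ ![u, v] :=
    fun h h' => linearIndependent_finCons.2 ⟨hli1 h, by simpa using h'⟩
  refine maximal_in_guSL hf hF (by omega) H inf_le_right ?_ ?_
  · -- a transvection outside
    obtain ⟨u, -, hu, hu'⟩ := S.exists_sing_perp (![] : Fin 0 → Fin n → F₀) (by norm_num) ⊥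
      (by rw [finrank_bot]; norm_num)
    have hu0 : u ≠ 0 := fun e => hu' (by rw [e]; exact Submodule.zero_mem _)
    refine ⟨utrv hf (hBiso u hu) ρ, utrv_mem_guSL hf (hBiso u hu) hρ, fun hmem => ?_⟩
    obtain ⟨c, hc, hc'⟩ := (mem_subfieldSubgroup_iff F₀ P _).1 hmem.1
    obtain ⟨r, hru⟩ := S.exists_values (hli1 hu0) ![1]
    obtain ⟨y₁, hy₁⟩ := hc' u
    rw [utrv_mulVec, hBiso u hu, mul_zero, zero_smul, add_zero] at hy₁
    obtain ⟨y₂, hy₂⟩ := hc' r
    rw [utrv_mulVec, show Cfsg.hermForm n F q (ratEmb F₀ P r) (ratEmb F₀ P u) = 1 by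
      rw [← hB, ← hpB, show pB Q₀ r u = 1 from hru 0]; rfl, mul_one] at hy₂
    -- read off values against rational vectors
    have e1 : c * (pB Q₀ u r : F) = (pB Q₀ y₁ r : F) := by
      rw [hpB, hB, hpB, hB, ← hy₁, hf.smul_left]
    have hcF : c ∈ F₀ := by
      rw [S.pB_comm u r, show pB Q₀ r u = 1 from hru 0, OneMemClass.coe_one, mul_one] at e1
      rw [e1]; exact SetLike.coe_mem _
    have e2 : c * ((pB Q₀ r r : F) + ρ) = (pB Q₀ y₂ r : F) := by
      have h3 := congrArg (fun v => Cfsg.hermForm n F q v (ratEmb F₀ P r)) hy₂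
      simp only [hf.smul_left, hf.add_left] at h3
      rw [← hB, ← hB, ← hB, ← hpB, ← hpB, ← hpB, S.pB_comm u r, show pB Q₀ r u = 1 from hru 0,
        OneMemClass.coe_one, mul_one] at h3
      exact h3
    have h4 : (pB Q₀ r r : F) + ρ ∈ F₀ := by
      have h5 := div_mem (pB Q₀ y₂ r).2 hcF
      rwa [← e2, mul_div_cancel_left₀ _ hc] at h5
    exact hρ0 (by simpa using sub_mem h4 (pB Q₀ r r).2)
  intro K hHK hK hgK
  obtain ⟨g, hgK, hgH⟩ := hgK
  have hgU : ∀ u v, Cfsg.hermForm n F q ((g : Matrix (Fin n) (Fin n) F) *ᵥ u)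
      ((g : Matrix (Fin n) (Fin n) F) *ᵥ v) = Cfsg.hermForm n F q u v := (hK hgK).1
  -- a singular rational vector with irrational image
  obtain ⟨x, hx, hx0, hxirr⟩ : ∃ x, Q₀ x = 0 ∧ x ≠ 0 ∧ ∀ c : F, c ≠ 0 →
      ∀ y, c • ((g : Matrix (Fin n) (Fin n) F) *ᵥ ratEmb F₀ P x) ≠ ratEmb F₀ P y := by
    by_contra hcon
    push Not at hcon
    -- the scalars for singular vectors agree up to the subfield
    have hagree : ∀ y z, Q₀ y = 0 → Q₀ z = 0 → y ≠ 0 → z ≠ 0 → pB Q₀ y z = 0 → ∀ c : F, c ≠ 0 →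
        (∃ y', c • ((g : Matrix (Fin n) (Fin n) F) *ᵥ ratEmb F₀ P y) = ratEmb F₀ P y') →
        ∃ z', c • ((g : Matrix (Fin n) (Fin n) F) *ᵥ ratEmb F₀ P z) = ratEmb F₀ P z' := by
      intro y z hy hz hy0 hz0 hyz c hc ⟨y', hy'⟩
      by_cases hs : z ∈ Submodule.span F₀ {y}
      · obtain ⟨s, rfl⟩ := Submodule.mem_span_singleton.1 hs
        exact ⟨s • y', by rw [ratEmb_smul, ratEmb_smul, Matrix.mulVec_smul, smul_comm, hy']⟩
      obtain ⟨d, hd, z', hz'⟩ := hcon z hz hz0
      have hsum : y + z ≠ 0 := fun e => hs (by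
        rw [eq_neg_of_add_eq_zero_right e]
        exact Submodule.neg_mem _ (Submodule.mem_span_singleton_self y))
      obtain ⟨c', hc', w', hw'⟩ := hcon (y + z) (by rw [S.quad_add, hy, hz, hyz]; simp) hsum
      have hne : ∀ {v}, v ≠ 0 → (g : Matrix (Fin n) (Fin n) F) *ᵥ ratEmb F₀ P v ≠ 0 := fun hv e =>
        hv (ratEmb_injective F₀ P (by
          rw [← inv_mulVec_mulVec g (ratEmb F₀ P _), e, Matrix.mulVec_zero, ratEmb_zero]))
      have hy'z' : LinearIndependent F₀ ![z', y'] := by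
        refine hli2 (fun e => ?_) fun hmem => ?_
        · rw [e, ratEmb_zero] at hy'
          exact hne hy0 ((smul_eq_zero.1 hy').resolve_left hc)
        · obtain ⟨s, rfl⟩ := Submodule.mem_span_singleton.1 hmem
          rw [ratEmb_smul, ← hy'] at hz'
          have h5 : (g : Matrix (Fin n) (Fin n) F) *ᵥ ratEmb F₀ P z =
              (g : Matrix (Fin n) (Fin n) F) *ᵥ (((s : F) * c / d) • ratEmb F₀ P y) := by
            rw [Matrix.mulVec_smul, div_eq_inv_mul, ← smul_smul, ← smul_smul, ← hz', smul_smul,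
              inv_mul_cancel₀ hd, one_smul]
          have h6 := congrArg (((g⁻¹ : GL (Fin n) F) : Matrix (Fin n) (Fin n) F) *ᵥ ·) h5
          simp only [inv_mulVec_mulVec] at h6
          obtain ⟨r, hr⟩ := S.exists_values (hli1 hy0) ![1]
          have h7 : (s : F) * c / d ∈ F₀ := by
            have h8 := congrArg (fun v => Cfsg.hermForm n F q v (ratEmb F₀ P r)) h6
            simp only [hf.smul_left] at h8
            rw [← hB, ← hB, ← hpB, ← hpB, S.pB_comm y r, show pB Q₀ r y = 1 from hr 0,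
              OneMemClass.coe_one, mul_one] at h8
            rw [← h8]; exact SetLike.coe_mem _
          refine hs (Submodule.mem_span_singleton.2 ⟨⟨_, h7⟩, ratEmb_injective F₀ P ?_⟩)
          rw [ratEmb_smul, h6]
      -- compare coefficients
      obtain ⟨r, hr⟩ := S.exists_values hy'z' ![0, 1]
      obtain ⟨r', hr'⟩ := S.exists_values hy'z' ![1, 0]
      have h5 : (c' / c) • ratEmb F₀ P y' + (c' / d) • ratEmb F₀ P z' = ratEmb F₀ P w' := by
        rw [← hw', ← hy', ← hz', smul_smul, smul_smul, div_mul_cancel₀ _ hc, div_mul_cancel₀ _ hd,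
          ← smul_add, ← Matrix.mulVec_add, ← ratEmb_add]
      have h6 := congrArg (fun v => Cfsg.hermForm n F q v (ratEmb F₀ P r)) h5
      have h7 := congrArg (fun v => Cfsg.hermForm n F q v (ratEmb F₀ P r')) h5
      simp only [hf.add_left, hf.smul_left] at h6 h7
      rw [← hB, ← hB, ← hB, ← hpB, ← hpB, ← hpB, S.pB_comm y' r, S.pB_comm z' r,
        show pB Q₀ r y' = 1 from hr 1, show pB Q₀ r z' = 0 from hr 0, ZeroMemClass.coe_zero,
        OneMemClass.coe_one, mul_zero, add_zero, mul_one] at h6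
      rw [← hB, ← hB, ← hB, ← hpB, ← hpB, ← hpB, S.pB_comm y' r', S.pB_comm z' r',
        show pB Q₀ r' y' = 0 from hr' 1, show pB Q₀ r' z' = 1 from hr' 0, ZeroMemClass.coe_zero,
        OneMemClass.coe_one, mul_zero, zero_add, mul_one] at h7
      have hc'd : c' / d ≠ 0 := div_ne_zero hc' hd
      refine ⟨((pB Q₀ w' r' : F₀) / (pB Q₀ w' r : F₀)) • z', ?_⟩
      rw [ratEmb_smul, ← hz', smul_smul]
      congr 1
      push_cast
      rw [← h6, ← h7]
      field_simp
    obtain ⟨i₀⟩ : Nonempty (Fin n) := ⟨⟨0, by omega⟩⟩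
    obtain ⟨y₀, -, hy₀, hy₀'⟩ := S.exists_sing_perp (![] : Fin 0 → Fin n → F₀) (by norm_num) ⊥
      (by rw [finrank_bot]; norm_num)
    have hy₀0 : y₀ ≠ 0 := fun e => hy₀' (by rw [e]; exact Submodule.zero_mem _)
    obtain ⟨c, hc, hc'⟩ := hcon y₀ hy₀ hy₀0
    have hsing : ∀ z, Q₀ z = 0 → ∃ z', c • ((g : Matrix (Fin n) (Fin n) F) *ᵥ ratEmb F₀ P z) =
        ratEmb F₀ P z' := by
      intro z hz
      rcases eq_or_ne z 0 with rfl | hz0
      · exact ⟨0, by rw [ratEmb_zero, Matrix.mulVec_zero, smul_zero]⟩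
      obtain ⟨w, hw, hwQ, hw0⟩ := S.exists_sing_perp ![y₀, z] (by norm_num) ⊥
        (by rw [finrank_bot]; norm_num)
      have hw0' : w ≠ 0 := fun e => hw0 (by rw [e]; exact Submodule.zero_mem _)
      exact hagree w z hwQ hz hw0' hz0 (hw 1) c hc
        (hagree y₀ w hy₀ hwQ hy₀0 hw0' (by rw [S.pB_comm]; exact hw 0) c hc hc')
    refine hgH ⟨(mem_subfieldSubgroup_iff F₀ P g).2 ⟨c, hc, fun y => ?_⟩, hK hgK⟩
    rcases eq_or_ne y 0 with rfl | hy0
    · exact ⟨0, by rw [ratEmb_zero, Matrix.mulVec_zero, smul_zero]⟩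
    obtain ⟨u, hu, hu1⟩ := S.exists_sing_values (hli1 hy0) (by norm_num) ![1]
    obtain ⟨z₁, hz₁⟩ := hsing u hu
    obtain ⟨z₂, hz₂⟩ := hsing (y - Q₀ y • u) (by
      have h1 : pB Q₀ u y = 1 := hu1 0
      rw [sub_eq_add_neg, ← neg_smul, S.quad_add, S.quad_smul, hu, map_smul, S.pB_comm y u, h1,
        smul_eq_mul]
      ring)
    refine ⟨z₂ + Q₀ y • z₁, ?_⟩
    rw [ratEmb_add, ratEmb_smul, ← hz₁, ← hz₂, smul_comm (Q₀ y : F) c, ← smul_add]
    congr 1
    rw [← Matrix.mulVec_smul, ← Matrix.mulVec_add, ← ratEmb_smul, ← ratEmb_add, sub_add_cancel]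
  obtain ⟨a, b, hab⟩ := hdec ((g : Matrix (Fin n) (Fin n) F) *ᵥ ratEmb F₀ P x)
  have hliab : LinearIndependent F₀ ![a, b] := hindep fun c hc y => by
    rw [← hab]; exact hxirr c hc y
  -- a second vector
  obtain ⟨w, hw, hwx, hwspan⟩ : ∃ w, Q₀ w = 0 ∧ pB Q₀ w x = 0 ∧
      (g : Matrix (Fin n) (Fin n) F) *ᵥ ratEmb F₀ P w ∉
        Submodule.span F (Set.range ![ratEmb F₀ P a, ratEmb F₀ P b]) := by
    by_contra hcon
    push Not at hcon
    let L : (Fin n → F₀) → Prop := fun y => (g : Matrix (Fin n) (Fin n) F) *ᵥ ratEmb F₀ P y ∈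
      Submodule.span F (Set.range ![ratEmb F₀ P a, ratEmb F₀ P b])
    let W : Submodule F₀ (Fin n → F₀) :=
      { carrier := {y | L y}
        add_mem' := fun {y z} hy hz => by
          show L (y + z)
          simp only [L, ratEmb_add, Matrix.mulVec_add]
          exact Submodule.add_mem _ hy hz
        zero_mem' := by
          show L 0
          simp only [L, ratEmb_zero, Matrix.mulVec_zero]
          exact Submodule.zero_mem _
        smul_mem' := fun c y hy => by
          show L (c • y)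
          simp only [L, ratEmb_smul, Matrix.mulVec_smul]
          exact Submodule.smul_mem _ _ hy }
    have hW3 : Module.finrank F₀ W ≤ 2 := by
      by_contra h3
      obtain ⟨v, hv⟩ := exists_linearIndependent_of_le_finrank (R := F₀) (M := W) (n := 3) (by omega)
      have hv' : LinearIndependent F₀ fun i => (v i : Fin n → F₀) :=
        hv.map' W.subtype W.ker_subtype
      have hvF : LinearIndependent F fun i => (g : Matrix (Fin n) (Fin n) F) *ᵥ ratEmb F₀ P (v i) := by
        rw [Fintype.linearIndependent_iff]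
        intro c hc i
        obtain ⟨r, hr⟩ := S.exists_values hv' (Pi.single i 1)
        have h1 := congrArg (((g⁻¹ : GL (Fin n) F) : Matrix (Fin n) (Fin n) F) *ᵥ ·) hc
        simp only [Matrix.mulVec_sum, Matrix.mulVec_smul, inv_mulVec_mulVec, Matrix.mulVec_zero] at h1
        have h2 := congrArg (hermFun hf (ratEmb F₀ P r)) h1
        rw [map_sum, map_zero, Finset.sum_eq_single i] at h2
        · rw [map_smul, hermFun_apply, ← hB, ← hpB, S.pB_comm (v i : Fin n → F₀) r, hr i,
            Pi.single_eq_same, OneMemClass.coe_one, smul_eq_mul, mul_one] at h2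
          exact h2
        · intro j _ hj
          rw [map_smul, hermFun_apply, ← hB, ← hpB, S.pB_comm (v j : Fin n → F₀) r, hr j,
            Pi.single_eq_of_ne hj, ZeroMemClass.coe_zero, smul_zero]
        · simp
      have hle : Submodule.span F
          (Set.range fun i => (g : Matrix (Fin n) (Fin n) F) *ᵥ ratEmb F₀ P (v i)) ≤
          Submodule.span F (Set.range ![ratEmb F₀ P a, ratEmb F₀ P b]) := by
        rw [Submodule.span_le]
        rintro _ ⟨i, rfl⟩
        exact (v i).2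
      have h4 := Submodule.finrank_mono hle
      rw [finrank_span_eq_card hvF, Fintype.card_fin] at h4
      have h5 := finrank_range_le_card (R := F) ![ratEmb F₀ P a, ratEmb F₀ P b]
      rw [Set.finrank, Fintype.card_fin] at h5
      omega
    obtain ⟨w, hw1, hw2, hw3⟩ := S.exists_sing_perp ![x] (by norm_num) W hW3
    exact hw3 (hcon w hw2 (hw1 0))
  obtain ⟨a', b', ha'b'⟩ := hdec ((g : Matrix (Fin n) (Fin n) F) *ᵥ ratEmb F₀ P w)
  obtain ⟨c₀, hc₀ab, hc₀⟩ : ∃ c₀, (c₀ = a' ∨ c₀ = b') ∧ c₀ ∉ Submodule.span F₀ (Set.range ![a, b]) := by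
    by_contra hcon
    push Not at hcon
    have hmem : ∀ {y}, y ∈ Submodule.span F₀ (Set.range ![a, b]) →
        ratEmb F₀ P y ∈ Submodule.span F (Set.range ![ratEmb F₀ P a, ratEmb F₀ P b]) := by
      intro y hy
      induction hy using Submodule.span_induction with
      | mem z hz =>
        obtain ⟨i, rfl⟩ := hz
        exact Submodule.subset_span ⟨i, by fin_cases i <;> rfl⟩
      | zero => rw [ratEmb_zero]; exact Submodule.zero_mem _
      | add y z _ _ hy hz => rw [ratEmb_add]; exact Submodule.add_mem _ hy hz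
      | smul c y _ hy => rw [ratEmb_smul]; exact Submodule.smul_mem _ _ hy
    exact hwspan (ha'b' ▸ Submodule.add_mem _ (hmem (hcon a' (Or.inl rfl)))
      (Submodule.smul_mem _ _ (hmem (hcon b' (Or.inr rfl)))))
  have hli3 : LinearIndependent F₀ ![c₀, a, b] := linearIndependent_finCons.2 ⟨hliab, hc₀⟩
  obtain ⟨w₁, hw₁, hw₁v⟩ := S.exists_sing_values hli3 (by norm_num) ![1, 0, 0]
  obtain ⟨u, huv, hu, huab⟩ := S.exists_sing_perp ![a, b, a', b', w₁] le_rfl
    (Submodule.span F₀ (Set.range ![a, b]))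
    (by rw [finrank_span_eq_card hliab, Fintype.card_fin])
  have hu0 : u ≠ 0 := fun e => huab (by rw [e]; exact Submodule.zero_mem _)
  -- the conjugate pair element
  set ux := (g : Matrix (Fin n) (Fin n) F) *ᵥ ratEmb F₀ P x with hux
  set uw := (g : Matrix (Fin n) (Fin n) F) *ᵥ ratEmb F₀ P w with huw
  set U := ratEmb F₀ P u with hU
  set W₁ := ratEmb F₀ P w₁ with hW₁
  have hxx : Cfsg.hermForm n F q ux ux = 0 := by rw [hux, hgU, hBiso x hx]
  have hwxC : Cfsg.hermForm n F q uw ux = 0 := by rw [hux, huw, hgU, hperp hwx]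
  have hww : Cfsg.hermForm n F q uw uw = 0 := by rw [huw, hgU, hBiso w hw]
  have hm : hSiegel hf hxx hwxC 0 ∈ K := by
    convert K.mul_mem (K.mul_mem hgK (hHK (hsieg x w hx hwx))) (K.inv_mem hgK) using 1
    rw [eq_mul_inv_iff_mul_eq]
    refine gl_ext fun z => ?_
    simp only [Units.val_mul, ← Matrix.mulVec_mulVec, hSiegel_mulVec, hux, huw, Matrix.mulVec_add,
      Matrix.mulVec_smul, hgU, hw]
    simp
  have hsw : ∀ {y z : Fin n → F}, Cfsg.hermForm n F q y z = 0 → Cfsg.hermForm n F q z y = 0 := fun h => herm_eq_zero_comm hf h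
  have hzero : ∀ {p s t : Fin n → F₀}, pB Q₀ p s = 0 → pB Q₀ p t = 0 →
      Cfsg.hermForm n F q (ratEmb F₀ P s + ρ • ratEmb F₀ P t) (ratEmb F₀ P p) = 0 := fun {p s t} h h' => by
    rw [hval, S.pB_comm s p, h, S.pB_comm t p, h']; simp
  have hxU : Cfsg.hermForm n F q ux U = 0 := by rw [hab]; exact hzero (huv 0) (huv 1)
  have hwU : Cfsg.hermForm n F q uw U = 0 := by rw [ha'b']; exact hzero (huv 2) (huv 3)
  have hW₁U : Cfsg.hermForm n F q W₁ U = 0 := hsw (hperp (huv 4))
  have hxW₁ : Cfsg.hermForm n F q ux W₁ = 0 := by rw [hab]; exact hzero (hw₁v 1) (hw₁v 2)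
  set a₀ := Cfsg.hermForm n F q W₁ uw with ha₀
  have ha₀σ : Cfsg.hermForm n F q uw W₁ = σ a₀ := by rw [ha₀, ← hf.herm]
  have ha₀ne : a₀ ≠ 0 := by
    intro e
    have h3 : Cfsg.hermForm n F q uw W₁ = 0 := hsw e
    rw [ha'b', hval] at h3
    have hb0 : (pB Q₀ b' w₁ : F) = 0 := by
      by_contra hne
      refine hρ0 ?_
      have h4 : ρ = -(pB Q₀ a' w₁ : F) / (pB Q₀ b' w₁ : F) := by
        rw [eq_div_iff hne]; linear_combination h3
      rw [h4]
      exact div_mem (neg_mem (SetLike.coe_mem _)) (SetLike.coe_mem _)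
    rw [hb0, mul_zero, add_zero] at h3
    have h5 : pB Q₀ c₀ w₁ = 1 := by rw [S.pB_comm]; exact hw₁v 0
    rcases hc₀ab with rfl | rfl
    · rw [h5] at h3; exact one_ne_zero h3
    · rw [h5] at hb0; exact one_ne_zero hb0
  have hui : Cfsg.hermForm n F q U U = 0 := hBiso u hu
  have hW₁i : Cfsg.hermForm n F q W₁ W₁ = 0 := hBiso w₁ hw₁
  have hEK : hSiegel hf hui hW₁U 0 ∈ K := by
    have h3 := hHK (hsieg u w₁ hu (by rw [S.pB_comm]; exact huv 4))
    simpa [hw₁] using h3
  have hZu : Cfsg.hermForm n F q (a₀ • ux) U = 0 := by rw [hf.smul_left, hxU, mul_zero]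
  set Z := hSiegel hf hui hZu 0 with hZdef
  have hZK : Z ∈ K := by
    have hZ : Z * (hSiegel hf hxx hwxC 0 * hSiegel hf hui hW₁U 0) =
        hSiegel hf hui hW₁U 0 * hSiegel hf hxx hwxC 0 := by
      refine gl_ext fun z => ?_
      simp only [hZdef, Units.val_mul, ← Matrix.mulVec_mulVec, hSiegel_mulVec, hf.add_left,
        hf.smul_left, herm_smul_right hf, hui, hxx, hW₁i, hww, hxU, hsw hxU, hwU, hsw hwU, hW₁U,
        hsw hW₁U, hxW₁, hsw hxW₁, hwxC, hsw hwxC, ← ha₀, ha₀σ, zero_mul, mul_zero, zero_sub, add_zero,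
        zero_add]
      module
    rw [eq_mul_inv_of_mul_eq hZ]
    exact K.mul_mem (K.mul_mem hEK hm) (K.inv_mem (K.mul_mem hm hEK))
  have hu₀C : IsoCentre hf K U := by
    refine ⟨hui, fun e he => ?_⟩
    set β := -e / 2 with hβ
    obtain ⟨s, t, hst⟩ : ∃ s t : F₀, β / a₀ = (s : F) + ρ * t := by
      obtain ⟨s', t', h'⟩ := exists_rat_decomp (n := 1) (P := 1) hcard hρ0 fun _ => β / a₀
      exact ⟨s' 0, t' 0, by simpa [ratEmb] using congrFun h' 0⟩
    obtain ⟨r, hr⟩ := S.exists_values (linearIndependent_finCons.2 ⟨hliab, huab⟩ :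
      LinearIndependent F₀ ![u, a, b]) ![0, s, t]
    have hru : pB Q₀ r u = 0 := hr 0
    set R := ratEmb F₀ P r with hR
    have hRU : Cfsg.hermForm n F q R U = 0 := hperp hru
    have hxR : Cfsg.hermForm n F q ux R = β / a₀ := by
      rw [hab, hval, S.pB_comm a r, S.pB_comm b r, show pB Q₀ r a = s from hr 1,
        show pB Q₀ r b = t from hr 2, hst]
    have hzR : Cfsg.hermForm n F q (a₀ • ux) R = β := by rw [hf.smul_left, hxR, mul_div_cancel₀ _ ha₀ne]
    have hRz : Cfsg.hermForm n F q R (a₀ • ux) = σ β := by rw [hf.herm, hzR]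
    have hh₁K := hHK (hsieg u r hu hru)
    have hfin := K.mul_mem (K.inv_mem hZK) (K.mul_mem (K.mul_mem hh₁K hZK) (K.inv_mem hh₁K))
    convert hfin using 1
    rw [eq_inv_mul_iff_mul_eq, eq_mul_inv_iff_mul_eq]
    refine hSiegel_conj_utrv hf hui hZu hRU _ ?_
    rw [hzR, hβ, map_div₀, map_neg, map_ofNat, show σ e = -e by linear_combination he]
    field_simp [h2]
    ring
  have hrat : ∀ y, Q₀ y = 0 → IsoCentre hf K (ratEmb F₀ P y) := by
    have step : ∀ y z, Q₀ y = 0 → Q₀ z = 0 → IsoCentre hf K (ratEmb F₀ P y) →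
        LinearIndependent F₀ ![z, y] → IsoCentre hf K (ratEmb F₀ P z) := by
      intro y z hy hz hC hli
      obtain ⟨w, hwQ, hwv⟩ := S.exists_sing_values hli (by norm_num) ![1, 1]
      have h1 : Cfsg.hermForm n F q (ratEmb F₀ P y) (ratEmb F₀ P w) = 1 := by
        rw [← hB, ← hpB, S.pB_comm y w, show pB Q₀ w y = 1 from hwv 1]; rfl
      have h2 : Cfsg.hermForm n F q (ratEmb F₀ P z) (ratEmb F₀ P w) = 1 := by
        rw [← hB, ← hpB, S.pB_comm z w, show pB Q₀ w z = 1 from hwv 0]; rfl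
      have hd : pB Q₀ (z - y) w = 0 := by
        rw [map_sub, LinearMap.sub_apply, S.pB_comm z w, S.pB_comm y w,
          show pB Q₀ w z = 1 from hwv 0, show pB Q₀ w y = 1 from hwv 1, sub_self]
      have hS := hHK (hsieg w (z - y) hwQ hd)
      have h3 := hC.map hS (hK hS).1
      rw [hSiegel_mulVec, h1, one_smul, mul_one] at h3
      have h4 : -(Q₀ (z - y) : F) - Cfsg.hermForm n F q (ratEmb F₀ P y) (ratEmb F₀ P (z - y)) = 0 := by
        have hs : Q₀ (z - y) + pB Q₀ y (z - y) = 0 := by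
          have h5 := S.quad_add y (z - y)
          rw [add_sub_cancel, hz, hy] at h5
          linear_combination -h5
        rw [← hB, ← hpB, sub_eq_add_neg, ← neg_add, neg_eq_zero]
        exact congrArg Subtype.val hs
      rw [h4, zero_smul, add_zero, ← ratEmb_add, add_sub_cancel] at h3
      exact h3
    intro y hy
    rcases eq_or_ne y 0 with rfl | hy0
    · rw [ratEmb_zero]
      simpa using hu₀C.smul 0
    by_cases hs : y ∈ Submodule.span F₀ {u}
    · obtain ⟨s, rfl⟩ := Submodule.mem_span_singleton.1 hs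
      rw [ratEmb_smul]
      exact hu₀C.smul _
    · exact step u y hu hy hu₀C (hli2 hu0 hs)
  have hline : ∀ {a b : Fin n → F₀}, IsoCentre hf K (ratEmb F₀ P a + ρ • ratEmb F₀ P b) →
      ∀ r, Q₀ r = 0 → ∀ s : F₀, IsoCentre hf K
        (ratEmb F₀ P (a + (s * ⟨ρ * ρ, mul_self_mem hfix hρσ hcard h2⟩ * pB Q₀ b r) • r) +
          ρ • ratEmb F₀ P (b + (s * pB Q₀ a r) • r)) := by
    intro a b hC r hr s
    have he : ρ * (s : F) + σ (ρ * s) = 0 := by
      rw [map_mul, hρσ, hfix _ s.2]; ring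
    have h1 := hC.line (hrat r hr) he
    convert h1 using 1
    rw [hval, ratEmb_add, ratEmb_add, ratEmb_smul, ratEmb_smul]
    push_cast
    module
  intro v hv
  obtain ⟨a, b, rfl⟩ := hdec v
  have hNv : Q₀ a - ⟨ρ * ρ, mul_self_mem hfix hρσ hcard h2⟩ * Q₀ b = 0 := by
    refine Subtype.ext ?_
    have h3 := hv
    simp only [hf.add_left, herm_add_right hf, hf.smul_left, herm_smul_right hf, hρσ, ← hQ₀, ← hB,
      hsymm b a] at h3
    push_cast
    refine mul_left_cancel₀ h2 ?_
    linear_combination h3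
  by_cases hli : LinearIndependent F₀ ![a, b]
  · -- both parts singular, not orthogonal
    have base : ∀ a b : Fin n → F₀, Q₀ a = 0 → Q₀ b = 0 → pB Q₀ a b ≠ 0 →
        IsoCentre hf K (ratEmb F₀ P a + ρ • ratEmb F₀ P b) := by
      intro a b ha hb hab
      have h0 : IsoCentre hf K (ratEmb F₀ P a + ρ • ratEmb F₀ P 0) := by
        rw [ratEmb_zero, smul_zero, add_zero]; exact hrat a ha
      have h1 := hline h0 b hb ((pB Q₀ a b)⁻¹)
      rw [inv_mul_cancel₀ hab, one_smul, map_zero, LinearMap.zero_apply, mul_zero, zero_smul,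
        add_zero, zero_add] at h1
      exact h1
    have second : ∀ a b : Fin n → F₀, Q₀ a = 0 → Q₀ b = 0 → LinearIndependent F₀ ![a, b] →
        IsoCentre hf K (ratEmb F₀ P a + ρ • ratEmb F₀ P b) := by
      intro a b ha hb hli
      by_cases hab : pB Q₀ a b = 0
      · obtain ⟨r, hr, hrv⟩ := S.exists_sing_values hli (by norm_num) ![1, 0]
        have har : pB Q₀ a r = 1 := by rw [S.pB_comm]; exact hrv 0
        have hbr : pB Q₀ b r = 0 := by rw [S.pB_comm]; exact hrv 1
        have h1 := hline (base a (b + r) ha (by rw [S.quad_add, hb, hr, hbr]; simp)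
          (by rw [map_add, hab, har, zero_add]; exact one_ne_zero)) r hr (-1)
        have hbr' : pB Q₀ (b + r) r = 0 := by
          rw [map_add, LinearMap.add_apply, hbr, S.pB_self, hr, mul_zero, add_zero]
        rw [hbr', har, mul_zero, zero_smul, add_zero, mul_one, neg_one_smul,
          add_neg_cancel_right] at h1
        exact h1
      · exact base a b ha hb hab
    set δ : F₀ := ⟨ρ * ρ, mul_self_mem hfix hρσ hcard h2⟩ with hδ
    have hδ0 : δ ≠ 0 := fun e => mul_ne_zero hρne hρne (congrArg Subtype.val e)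
    obtain ⟨r, hr, hrv⟩ := S.exists_sing_values hli (by norm_num) ![1, 1]
    have har : pB Q₀ a r = 1 := by rw [S.pB_comm]; exact hrv 0
    have hbr : pB Q₀ b r = 1 := by rw [S.pB_comm]; exact hrv 1
    obtain ⟨s, hs⟩ : ∃ s, s * δ = -Q₀ a := ⟨-Q₀ a / δ, div_mul_cancel₀ _ hδ0⟩
    set a₁ := a + (s * δ * pB Q₀ b r) • r with ha₁
    set b₁ := b + (s * pB Q₀ a r) • r with hb₁
    have ha₁Q : Q₀ a₁ = 0 := by
      rw [ha₁, S.quad_add, S.quad_smul, hr, map_smul, har, hbr, smul_eq_mul]
      linear_combination hs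
    have hb₁Q : Q₀ b₁ = 0 := by
      refine mul_left_cancel₀ hδ0 ?_
      rw [hb₁, S.quad_add, S.quad_smul, hr, map_smul, hbr, har, smul_eq_mul]
      linear_combination -hNv + hs
    have hra : pB Q₀ a₁ r = 1 := by
      rw [ha₁, map_add, LinearMap.add_apply, map_smul, LinearMap.smul_apply, S.pB_self, hr, har]
      simp
    have hrb : pB Q₀ b₁ r = 1 := by
      rw [hb₁, map_add, LinearMap.add_apply, map_smul, LinearMap.smul_apply, S.pB_self, hr, hbr]
      simp
    by_cases hli₁ : LinearIndependent F₀ ![a₁, b₁]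
    · have h1 := hline (second a₁ b₁ ha₁Q hb₁Q hli₁) r hr (-s)
      rw [hra, hrb, mul_one, mul_one] at h1
      convert h1 using 1
      rw [ha₁, hb₁, har, hbr, mul_one, mul_one]
      simp only [ratEmb_add, ratEmb_smul]
      push_cast
      module
    · -- the reduced vector is rational up to a scalar
      have hb₁eq : b₁ = a₁ := by
        have ha₁0 : a₁ ≠ 0 := fun e => by rw [e, map_zero, LinearMap.zero_apply] at hra; exact zero_ne_one hra
        have hmem : b₁ ∈ Submodule.span F₀ {a₁} := by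
          by_contra hns
          exact hli₁ (LinearIndependent.pair_symm_iff.1 (hli2 ha₁0 hns))
        obtain ⟨t, ht⟩ := Submodule.mem_span_singleton.1 hmem
        rw [← ht, map_smul, LinearMap.smul_apply, hra, smul_eq_mul, mul_one] at hrb
        rw [← ht, hrb, one_smul]
      have hC : IsoCentre hf K (ratEmb F₀ P a₁ + ρ • ratEmb F₀ P b₁) := by
        have h1 := (hrat a₁ ha₁Q).smul (1 + ρ)
        rw [hb₁eq]
        rwa [add_smul, one_smul] at h1
      have h1 := hline hC r hr (-s)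
      rw [hra, hrb, mul_one, mul_one] at h1
      convert h1 using 1
      rw [ha₁, hb₁, har, hbr, mul_one, mul_one]
      simp only [ratEmb_add, ratEmb_smul]
      push_cast
      module
  · -- a multiple of a rational vector
    rw [LinearIndependent.pair_iff] at hli
    push Not at hli
    obtain ⟨s, t, hst, hne⟩ := hli
    by_cases ht : t = 0
    · rw [ht, zero_smul, add_zero] at hst
      have ha : a = 0 := (smul_eq_zero.1 hst).resolve_left fun e => hne e ht
      subst ha
      rw [QuadraticMap.map_zero, zero_sub, neg_eq_zero, mul_eq_zero] at hNv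
      have hb : Q₀ b = 0 := hNv.resolve_left fun e => mul_ne_zero hρne hρne (congrArg Subtype.val e)
      rw [ratEmb_zero, zero_add]
      exact (hrat b hb).smul ρ
    · have hb : b = (-(s / t)) • a := by
        rw [← sub_eq_zero, ← smul_right_injective (Fin n → F₀) ht |>.eq_iff, smul_zero, smul_sub,
          smul_smul, mul_neg, mul_div_cancel₀ _ ht, neg_smul, sub_neg_eq_add, add_comm, hst]
      set l : F₀ := -(s / t)
      subst hb
      have hl : 1 - ⟨ρ * ρ, mul_self_mem hfix hρσ hcard h2⟩ * (l * l) ≠ (0 : F₀) := by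
        intro e
        have h3 : (1 - ρ * (l : F)) * (1 + ρ * l) = 0 := by
          have h4 := congrArg Subtype.val e
          push_cast at h4
          linear_combination h4
        have hl0 : (l : F) ≠ 0 := fun e' => by rw [e'] at h3; simp at h3
        refine hρ0 ?_
        rcases mul_eq_zero.1 h3 with h3 | h3
        · have : ρ = 1 / (l : F) := by rw [eq_div_iff hl0]; linear_combination -h3
          rw [this]; exact div_mem F₀.one_mem l.2
        · have : ρ = -1 / (l : F) := by rw [eq_div_iff hl0]; linear_combination h3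
          rw [this]; exact div_mem (neg_mem F₀.one_mem) l.2
      rw [S.quad_smul, ← mul_assoc, ← one_mul (Q₀ a), ← mul_assoc] at hNv
      have ha : Q₀ a = 0 := by
        refine (mul_eq_zero.1 (?_ : (1 - ⟨ρ * ρ, mul_self_mem hfix hρσ hcard h2⟩ * (l * l)) * Q₀ a = 0)).resolve_left hl
        linear_combination hNv
      have h1 := (hrat a ha).smul (1 + ρ * (l : F))
      rw [add_smul, one_smul, ← smul_smul, ← ratEmb_smul] at h1
      exact h1

end Cfsg.Agent.TransvMax
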