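import Cfsg.Agent.Lib.FormTorus.Irred
import Cfsg.Agent.Lib.FormTorus.Realize
import Cfsg.Agent.Lib.Forms.Models
import Cfsg.Agent.Lib.Forms.Orthonormal
import Cfsg.Agent.Lib.FormCentral.Unitary

/-!
Complementary pairs of totally isotropic subspaces of a hermitian space.
-/

set_option autoImplicit false

namespace Cfsg.Agent.UnitaryPairs

open Cfsg.Agent Cfsg.Agent.FormsLib Module

variable {F V : Type*} [Field F] [AddCommGroup V] [Module F V] {σ : F →+* F}
  {B : V →ₛₗ[σ] V →ₗ[F] F}

/-- Two complementary totally isotropic subspaces. -/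
structure IsPair (B : V →ₛₗ[σ] V →ₗ[F] F) (U W : Submodule F V) : Prop where
  compl : IsCompl U W
  isoU : ∀ u ∈ U, ∀ v ∈ U, B u v = 0
  isoW : ∀ u ∈ W, ∀ v ∈ W, B u v = 0

theorem IsPair.swap {U W : Submodule F V} (h : IsPair B U W) : IsPair B W U :=
  ⟨h.compl.symm, h.isoW, h.isoU⟩

/-- A map with a large eigenspace does not exchange the members of a pair. -/
theorem no_swap [FiniteDimensional F V] {U W : Submodule F V} (hc : IsCompl U W) {x : V →ₗ[F] V}
    {c : F} (hc0 : c ≠ 0) (K : Submodule F V) (hK : ∀ v ∈ K, x v = c • v)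
    (hdim : finrank F W < finrank F K) : ¬ ∀ v ∈ U, x v ∈ W := by
  intro h
  have h1 := Submodule.finrank_sup_add_finrank_inf_eq U K
  have h2 := (Submodule.finrank_le (U ⊔ K))
  have h3 := Submodule.finrank_add_eq_of_isCompl hc
  have hne : U ⊓ K ≠ ⊥ := fun e => by
    rw [e, finrank_bot] at h1
    omega
  obtain ⟨v, ⟨hvU, hvK⟩, hv0⟩ := Submodule.exists_mem_ne_zero_of_ne_bot hne
  have h4 := h v hvU
  rw [hK v hvK, Submodule.smul_mem_iff _ hc0] at h4
  exact hv0 (Submodule.disjoint_def.1 hc.disjoint v hvU h4)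

variable [Finite F] [FiniteDimensional F V]

theorem IsPair.finrank_eq (hB : IsTraceForm σ 1 B) {U W : Submodule F V} (h : IsPair B U W) :
    finrank F U = finrank F W :=
  FormTorus.finrank_eq_of_pair hB h.compl h.isoU h.isoW

theorem flip_zero (hB : IsTraceForm σ 1 B) {u v : V} (h : B u v = 0) : B v u = 0 := by
  rw [hB.flip, h, map_zero, mul_zero]

/-- The moved space of a map fixing both members of a pair has even dimension, if non-degenerate. -/
theorem range_even (hB : IsTraceForm σ 1 B) {U W : Submodule F V} (h : IsPair B U W)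
    {x : V →ₗ[F] V} (hU : ∀ v ∈ U, x v ∈ U) (hW : ∀ v ∈ W, x v ∈ W) (c : F)
    (hR : ∀ u ∈ LinearMap.range (x - c • LinearMap.id),
      (∀ v ∈ LinearMap.range (x - c • LinearMap.id), B u v = 0) → u = 0) :
    Even (finrank F (LinearMap.range (x - c • LinearMap.id) : Submodule F V)) := by
  set R := LinearMap.range (x - c • LinearMap.id) with hRdef
  have hres : IsTraceForm σ 1 (FormModel.restr B R) :=
    ⟨hB.invol, hB.eps, fun u v => hB.flip _ _, fun v => hB.trace _, fun v hv =>
      Subtype.ext (hR v v.2 fun w hw => hv ⟨w, hw⟩)⟩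
  set A := U.comap R.subtype
  set C := W.comap R.subtype
  have hmap : ∀ (X : Submodule F V), (∀ v ∈ X, x v ∈ X) → ∀ v ∈ X, (x - c • LinearMap.id : V →ₗ[F] V) v ∈ X := by
    intro X hX v hv
    rw [LinearMap.sub_apply, LinearMap.smul_apply, LinearMap.id_apply]
    exact X.sub_mem (hX v hv) (X.smul_mem _ hv)
  have hAC : IsCompl A C := by
    refine IsCompl.of_eq ?_ ?_
    · rw [Submodule.eq_bot_iff]
      rintro ⟨v, hv⟩ ⟨h1, h2⟩
      exact Subtype.ext (Submodule.disjoint_def.1 h.compl.disjoint v h1 h2)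
    · rw [eq_top_iff]
      rintro ⟨_, w, rfl⟩ -
      obtain ⟨a, ha, b, hb, rfl⟩ := Submodule.mem_sup.1 (h.compl.sup_eq_top.ge (Submodule.mem_top (x := w)))
      refine Submodule.mem_sup.2 ⟨⟨_, a, rfl⟩, hmap U hU a ha, ⟨_, b, rfl⟩, hmap W hW b hb, Subtype.ext ?_⟩
      exact (map_add _ a b).symm
  have := FormTorus.finrank_eq_of_pair hres hAC (fun u hu v hv => h.isoU _ hu _ hv)
    (fun u hu v hv => h.isoW _ hu _ hv)
  exact ⟨finrank F A, by
    conv_rhs => arg 2; rw [this]
    exact (Submodule.finrank_add_eq_of_isCompl hAC).symm⟩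

/-- A transvection does not fix both members of a pair. -/
theorem transv_not_fix (hB : IsTraceForm σ 1 B) {U W : Submodule F V} (h : IsPair B U W)
    {x : V →ₗ[F] V} {a : V} (ha0 : a ≠ 0) {e : F} (he : e ≠ 0)
    (hx : ∀ v, x v = v + (e * B a v) • a) :
    ¬ ((∀ v ∈ U, x v ∈ U) ∧ (∀ v ∈ W, x v ∈ W)) := by
  rintro ⟨hU, hW⟩
  have key : ∀ X Y : Submodule F V, IsPair B X Y → (∀ v ∈ X, x v ∈ X) → a ∈ X := by
    intro X Y hXY hX
    by_contra haX
    have hperp : ∀ v ∈ X, B a v = 0 := fun v hv => by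
      by_contra hne
      have h1 := hX v hv
      rw [hx, Submodule.add_mem_iff_right _ hv, Submodule.smul_mem_iff _ (mul_ne_zero he hne)] at h1
      exact haX h1
    obtain ⟨a₁, ha₁, b, hb, hab⟩ :=
      Submodule.mem_sup.1 (hXY.compl.sup_eq_top.ge (Submodule.mem_top (x := a)))
    have hb0 : b = 0 := FormTorus.eq_zero_of_pair hB hXY.compl.symm hXY.isoW hb fun v hv => by
      have h2 := hperp v hv
      rwa [← hab, map_add, LinearMap.add_apply, hXY.isoU a₁ ha₁ v hv, zero_add] at h2
    rw [hb0, add_zero] at hab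
    exact haX (hab ▸ ha₁)
  exact ha0 (Submodule.disjoint_def.1 h.compl.disjoint a (key U W h hU) (key W U h.swap hW))

/-- Gram matrix of a hyperbolic basis. -/
def IsHyp {m : ℕ} (B : V →ₛₗ[σ] V →ₗ[F] F) (b : Basis (Fin m ⊕ Fin m) F V) : Prop :=
  (∀ i j, B (b (.inl i)) (b (.inl j)) = 0) ∧ (∀ i j, B (b (.inr i)) (b (.inr j)) = 0) ∧
    (∀ i j, B (b (.inl i)) (b (.inr j)) = if i = j then 1 else 0) ∧
    (∀ i j, B (b (.inr i)) (b (.inl j)) = if i = j then 1 else 0)

/-- Every basis of the first member extends to a hyperbolic basis. -/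
theorem exists_hyp (hB : IsTraceForm σ 1 B) {U W : Submodule F V} (h : IsPair B U W) {m : ℕ}
    (bU : Basis (Fin m) F U) :
    ∃ b : Basis (Fin m ⊕ Fin m) F V, IsHyp B b ∧ (∀ i, b (.inl i) = (bU i : V)) ∧
      ∀ i, b (.inr i) ∈ W := by
  classical
  let Φ : W →ₗ[F] (Fin m → F) := LinearMap.pi fun i => (B (bU i : V)).comp W.subtype
  have hinj : Function.Injective Φ := by
    refine (injective_iff_map_eq_zero Φ).2 fun w hw => Subtype.ext ?_
    refine FormTorus.eq_zero_of_pair hB h.compl.symm h.isoW w.2 fun v hv => flip_zero hB ?_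
    have h0 : ((B.flip (w : V)).comp U.subtype) = 0 := by
      refine bU.ext fun i => ?_
      exact congrFun hw i
    exact LinearMap.congr_fun h0 ⟨v, hv⟩
  have hdim : finrank F W = finrank F (Fin m → F) := by
    rw [← h.finrank_eq hB, finrank_fin_fun, finrank_eq_card_basis bU, Fintype.card_fin]
  let Φe := LinearEquiv.ofBijective Φ
    ⟨hinj, (LinearMap.injective_iff_surjective_of_finrank_eq_finrank hdim).1 hinj⟩
  let bW : Basis (Fin m) F W := Basis.ofEquivFun Φe
  have hbW : ∀ i j, B (bU i : V) (bW j : V) = if i = j then 1 else 0 := fun i j => by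
    have h1 : Φe (bW j) = Pi.single j 1 := by simp [bW]
    have h2 := congrFun h1 i
    rw [Pi.single_apply] at h2
    exact h2
  let b := (bU.prod bW).map (Submodule.prodEquivOfIsCompl U W h.compl)
  have hl : ∀ i, b (.inl i) = (bU i : V) := fun i => by simp [b]
  have hr : ∀ i, b (.inr i) = (bW i : V) := fun i => by simp [b]
  refine ⟨b, ⟨fun i j => ?_, fun i j => ?_, fun i j => ?_, fun i j => ?_⟩, hl, fun i => hr i ▸ (bW i).2⟩
  · rw [hl, hl]; exact h.isoU _ (bU i).2 _ (bU j).2
  · rw [hr, hr]; exact h.isoW _ (bW i).2 _ (bW j).2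
  · rw [hl, hr]; exact hbW i j
  · rw [hl, hr, hB.flip (bU j : V), hbW, one_mul]
    by_cases hij : i = j <;> simp [hij, eq_comm]

theorem preserves_of_basis {ι : Type*} {g : V ≃ₗ[F] V} (b : Basis ι F V)
    (hb : ∀ i j, B (g (b i)) (g (b j)) = B (b i) (b j)) : Preserves B g := by
  have h : ∀ i, (B (g (b i))).comp (g : V →ₗ[F] V) = B (b i) := fun i => b.ext fun j => hb i j
  intro u v
  induction b.mem_span u using Submodule.span_induction with
  | mem u hu => obtain ⟨i, rfl⟩ := hu; exact LinearMap.congr_fun (h i) v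
  | zero => simp
  | add u w _ _ h1 h2 => simp [map_add, h1, h2]
  | smul c u _ h1 => simp [map_smulₛₗ, h1]

theorem mem_of_hyp {U W : Submodule F V} (hc : IsCompl U W) {m : ℕ}
    {b : Basis (Fin m ⊕ Fin m) F V} (hl : ∀ i, b (.inl i) ∈ U) (hr : ∀ i, b (.inr i) ∈ W)
    {g : V →ₗ[F] V} {U' : Submodule F V} (hg : ∀ i, g (b (.inl i)) ∈ U') {v : V} (hv : v ∈ U) :
    g v ∈ U' := by
  have hs := b.sum_repr v
  rw [Fintype.sum_sum_type] at hs
  have hz : (∑ i, b.repr v (.inr i) • b (.inr i)) = 0 := by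
    refine Submodule.disjoint_def.1 hc.disjoint _ ?_ (W.sum_mem fun i _ => W.smul_mem _ (hr i))
    rw [eq_sub_of_add_eq' hs]
    exact U.sub_mem hv (U.sum_mem fun i _ => U.smul_mem _ (hl i))
  rw [hz, add_zero] at hs
  rw [← hs, map_sum]
  exact U'.sum_mem fun i _ => by rw [map_smul]; exact U'.smul_mem _ (hg i)

/-- Equal pairs are equivalent, with any determinant of norm one up to a fixed value. -/
theorem exists_map (hB : IsTraceForm σ 1 B) (hσ : σ ≠ RingHom.id F) {U W U' W' : Submodule F V}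
    (h : IsPair B U W) (h' : IsPair B U' W') (hdim : finrank F U = finrank F U')
    (hpos : 0 < finrank F U) {d : F} (hd : d * σ d = 1) :
    ∃ g : V ≃ₗ[F] V, Preserves B g ∧ (∀ v ∈ U, g v ∈ U') ∧ (∀ v ∈ W, g v ∈ W') ∧
      LinearMap.det (g : V →ₗ[F] V) = d := by
  classical
  set m := finrank F U
  obtain ⟨b, hb, hbl, hbr⟩ := exists_hyp hB h (finBasis F U)
  obtain ⟨b', hb', hbl', hbr'⟩ := exists_hyp hB h' (finBasisOfFinrankEq F U' hdim.symm)
  have hbl2 : ∀ i, b (.inl i) ∈ U := fun i => hbl i ▸ (finBasis F U i).2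
  have hbl2' : ∀ i, b' (.inl i) ∈ U' := fun i => hbl' i ▸ (finBasisOfFinrankEq F U' hdim.symm i).2
  let g₀ := b.equiv b' (Equiv.refl _)
  have hg₀ : ∀ i, g₀ (b i) = b' i := fun i => Basis.equiv_apply _ _ _ _
  have hp₀ : Preserves B g₀ := by
    refine preserves_of_basis b fun i j => ?_
    rw [hg₀, hg₀]
    obtain ⟨h1, h2, h3, h4⟩ := hb
    obtain ⟨k1, k2, k3, k4⟩ := hb'
    rcases i with i | i <;> rcases j with j | j
    · rw [k1, h1]
    · rw [k3, h3]
    · rw [k4, h4]
    · rw [k2, h2]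
  have hd₀ : LinearMap.det (g₀ : V →ₗ[F] V) * σ (LinearMap.det (g₀ : V →ₗ[F] V)) = 1 := by
    have hne : LinearMap.det (g₀ : V →ₗ[F] V) ≠ 0 := (LinearEquiv.isUnit_det' g₀).ne_zero
    have hU1 : ∀ v ∈ U, g₀ v ∈ U' := fun v hv => mem_of_hyp h.compl hbl2 hbr
      (g := (g₀ : V →ₗ[F] V)) (fun i => by rw [LinearEquiv.coe_coe, hg₀]; exact hbl2' i) hv
    -- Gram determinants
    let M : Matrix (Fin m ⊕ Fin m) (Fin m ⊕ Fin m) F := Matrix.of fun i j => B (b i) (b j)
    set T := LinearMap.toMatrix b b (g₀ : V →ₗ[F] V)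
    have hM : (T.map σ).transpose * M * T = M := by
      ext i j
      have hrow : ∀ j, g₀ (b j) = ∑ k, T k j • b k := fun j => by
        conv_lhs => rw [← b.sum_repr (g₀ (b j))]
        exact Finset.sum_congr rfl fun k _ => by simp [T, LinearMap.toMatrix_apply]
      have hij := hp₀ (b i) (b j)
      rw [hrow, hrow] at hij
      simp only [map_sum, map_smulₛₗ, LinearMap.coe_sum, Finset.sum_apply, LinearMap.smul_apply,
        RingHom.id_apply, smul_eq_mul] at hij
      show _ = B (b i) (b j)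
      rw [← hij]
      simp only [Matrix.mul_apply, Matrix.transpose_apply, Matrix.map_apply, Finset.sum_mul,
        Finset.mul_sum, M, Matrix.of_apply]
      exact Finset.sum_congr rfl fun a _ => Finset.sum_congr rfl fun c _ => by ring
    have hMne : M.det ≠ 0 := by
      intro h0
      obtain ⟨v, hv, hMv⟩ := Matrix.exists_mulVec_eq_zero_iff.2 h0
      refine hv (funext fun k => ?_)
      have h1 : (∑ j, v j • b j) = 0 := by
        refine hB.nondeg _ fun w => flip_zero hB ?_
        have h2 : B w = ∑ i, σ (b.repr w i) • B (b i) := by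
          conv_lhs => rw [← b.sum_repr w, map_sum]
          exact Finset.sum_congr rfl fun i _ => map_smulₛₗ _ _ _
        rw [h2, LinearMap.sum_apply]
        refine Finset.sum_eq_zero fun i _ => ?_
        rw [LinearMap.smul_apply, map_sum]
        have h3 := congrFun hMv i
        simp only [Matrix.mulVec, dotProduct, M, Matrix.of_apply, Pi.zero_apply] at h3
        simp only [map_smul, smul_eq_mul]
        rw [show (∑ j, v j * B (b i) (b j)) = 0 by rw [← h3]; exact Finset.sum_congr rfl fun _ _ => mul_comm _ _,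
          mul_zero]
      exact Fintype.linearIndependent_iff.1 b.linearIndependent _ h1 k
    have h5 := congrArg Matrix.det hM
    rw [Matrix.det_mul, Matrix.det_mul, Matrix.det_transpose, ← RingHom.mapMatrix_apply,
      ← RingHom.map_det, LinearMap.det_toMatrix] at h5
    refine mul_right_cancel₀ hMne ?_
    linear_combination h5
  obtain ⟨c, hc⟩ : ∃ c, σ c ≠ c := by
    by_contra hne
    push Not at hne
    exact hσ (RingHom.ext hne)
  set D₀ := LinearMap.det (g₀ : V →ₗ[F] V) with hD₀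
  obtain ⟨a, ha, hae⟩ := FormCentral.exists_of_norm_one σ hB.invol (sub_ne_zero.2 hc.symm).isUnit
    (z := d * σ D₀) (by
      rw [map_mul, hB.invol]
      linear_combination (σ D₀ * D₀) * hd + hd₀)
  have ha0 : a ≠ 0 := ha.ne_zero
  -- scale the first hyperbolic pair
  let i0 : Fin m := ⟨0, hpos⟩
  let δ : Fin m ⊕ Fin m → F := Sum.elim (fun i => if i = i0 then a else 1)
    (fun i => if i = i0 then (σ a)⁻¹ else 1)
  have hδ : ∀ k, δ k ≠ 0 := by
    rintro (i | i) <;> by_cases hi : i = i0 <;> simp [δ, hi, ha0]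
  let b'' := b'.isUnitSMul (w := δ) fun k => (hδ k).isUnit
  have hb'' : ∀ k, b'' k = δ k • b' k := fun k => Basis.isUnitSMul_apply _ k
  let s := b'.equiv b'' (Equiv.refl _)
  have hs : ∀ k, s (b' k) = δ k • b' k := fun k =>
    (Basis.equiv_apply _ _ _ _).trans (hb'' k)
  have hσδ : ∀ i, σ (δ (.inl i)) * δ (.inr i) = 1 := fun i => by
    by_cases hi : i = i0 <;> simp [δ, hi, ha0]
  have hps : Preserves B s := by
    refine preserves_of_basis b' fun i j => ?_
    rw [hs, hs]
    simp only [map_smulₛₗ, map_smul, LinearMap.smul_apply, RingHom.id_apply, smul_eq_mul]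
    obtain ⟨k1, k2, k3, k4⟩ := hb'
    rcases i with i | i <;> rcases j with j | j
    · rw [k1]; ring
    · rw [k3]
      split_ifs with hij
      · subst hij; rw [← mul_assoc, mul_comm (δ _), hσδ]; ring
      · ring
    · rw [k4]
      split_ifs with hij
      · subst hij
        have h1 := congrArg σ (hσδ i)
        rw [map_mul, hB.invol, map_one] at h1
        rw [mul_one]; linear_combination h1
      · ring
    · rw [k2]; ring
  have hdet : LinearMap.det (s : V →ₗ[F] V) = a * (σ a)⁻¹ := by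
    have hT : LinearMap.toMatrix b' b' (s : V →ₗ[F] V) = Matrix.diagonal δ := by
      ext i j
      rw [LinearMap.toMatrix_apply, LinearEquiv.coe_coe, hs, map_smul, Basis.repr_self,
        Matrix.diagonal_apply]
      by_cases hij : i = j
      · subst hij; simp
      · simp [hij]
    rw [← LinearMap.det_toMatrix b', hT, Matrix.det_diagonal, Fintype.prod_sum_type]
    simp [δ]
  refine ⟨g₀.trans s, fun u v => ?_, fun v hv => ?_, fun v hv => ?_, ?_⟩
  · rw [LinearEquiv.trans_apply, LinearEquiv.trans_apply, hps, hp₀]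
  · exact mem_of_hyp h.compl hbl2 hbr (g := ((g₀.trans s : V ≃ₗ[F] V) : V →ₗ[F] V))
      (fun i => by rw [LinearEquiv.coe_coe, LinearEquiv.trans_apply, hg₀, hs]; exact U'.smul_mem _ (hbl2' i)) hv
  · refine mem_of_hyp h.compl.symm (b := b.reindex (Equiv.sumComm _ _)) (fun i => ?_) (fun i => ?_)
      (g := ((g₀.trans s : V ≃ₗ[F] V) : V →ₗ[F] V)) (fun i => ?_) hv
    · rw [Basis.reindex_apply]; exact hbr i
    · rw [Basis.reindex_apply]; exact hbl2 i
    · rw [Basis.reindex_apply, LinearEquiv.coe_coe, LinearEquiv.trans_apply, hg₀, hs]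
      exact W'.smul_mem _ (hbr' i)
  · rw [show ((g₀.trans s : V ≃ₗ[F] V) : V →ₗ[F] V) = (s : V →ₗ[F] V) ∘ₗ (g₀ : V →ₗ[F] V) from rfl,
      LinearMap.det_comp, hdet, ← hD₀]
    have hσa : σ a ≠ 0 := (map_ne_zero σ).2 ha0
    have h1 : a * (σ a)⁻¹ = d * σ D₀ := by
      rw [mul_inv_eq_iff_eq_mul₀ hσa, mul_comm]; exact hae
    rw [h1]
    linear_combination d * hd₀

end Cfsg.Agent.UnitaryPairs
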