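import Cfsg.Agent.Lib.TransvMax.UnitaryGen
import Cfsg.Agent.Lib.TransvMax.SubfieldRat
import Cfsg.Agent.Lib.TransvMax.SympSim

/-!
The symplectic subfield subgroup of the special unitary group is maximal.
-/

set_option autoImplicit false

namespace Cfsg.Agent.TransvMax

open scoped Matrix MatrixGroups
open Cfsg.Agent

variable {F : Type*} [Field F] [Fintype F] {n q : ℕ} {σ : F ≃+* F}
  (hf : Cfsg.Geo.IsUnitaryForm σ (Cfsg.hermForm n F q))
  {F₀ : Subfield F} {ζ : F} {P : GL (Fin n) F}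
  (hP : Cfsg.Geo.IsFormRationalStructure (Cfsg.hermForm n F q) F₀ ζ P)

/-- The form induced on the coordinates of rational vectors. -/
def ratForm (u v : Fin n → F₀) : F₀ :=
  ⟨ζ * Cfsg.hermForm n F q (ratEmb F₀ P u) (ratEmb F₀ P v),
    hP _ _ (fun i => (u i).2) (fun i => (v i).2)⟩

omit [Fintype F] in
theorem ratForm_coe (u v : Fin n → F₀) :
    (ratForm hP u v : F) = ζ * Cfsg.hermForm n F q (ratEmb F₀ P u) (ratEmb F₀ P v) := rfl

/-- Every vector is a combination of two rational vectors. -/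
theorem exists_rat_decomp (hcard : Fintype.card F = Nat.card F₀ ^ 2) {ρ : F} (hρ : ρ ∉ F₀)
    (x : Fin n → F) : ∃ a b : Fin n → F₀, x = ratEmb F₀ P a + ρ • ratEmb F₀ P b := by
  classical
  let θ : F₀ × F₀ → F := fun p => (p.1 : F) + ρ * p.2
  have hinj : Function.Injective θ := by
    rintro ⟨s, t⟩ ⟨s', t'⟩ h
    simp only [θ] at h
    by_cases ht : t = t'
    · subst ht
      simp only [add_left_inj] at h
      rw [Subtype.ext h]
    · exfalso
      refine hρ ?_
      have h1 : ρ = ((s' - s : F₀) : F) / ((t - t' : F₀) : F) := by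
        rw [eq_div_iff (by simpa [sub_eq_zero] using ht)]
        push_cast
        linear_combination h
      rw [h1]
      exact div_mem (s' - s).2 (t - t').2
  have hbij : Function.Bijective θ := by
    rw [Fintype.bijective_iff_injective_and_card]
    refine ⟨hinj, ?_⟩
    rw [Fintype.card_prod, hcard, Nat.card_eq_fintype_card, pow_two]
  choose p hp using fun i => hbij.2 ((((P⁻¹ : GL (Fin n) F) : Matrix (Fin n) (Fin n) F) *ᵥ x) i)
  refine ⟨fun i => (p i).1, fun i => (p i).2, ?_⟩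
  rw [ratEmb, ratEmb, ← Matrix.mulVec_smul, ← Matrix.mulVec_add, ← mulVec_inv_mulVec P x]
  congr 1
  exact funext fun i => (hp i).symm

include hf hP in
/-- The symplectic subfield subgroup of the special unitary group is maximal. -/
theorem unitarySpSub_maximal (hF : Fintype.card F = q ^ 2) (hn : 13 ≤ n)
    (hcard : Fintype.card F = Nat.card F₀ ^ 2) (hσ : ∀ x, σ x = x ^ q)
    (hζ0 : ζ ≠ 0) (hζ : ζ + σ ζ = 0)
    (halt : ∀ u : Fin n → F₀,
      Cfsg.hermForm n F q (ratEmb F₀ P u) (ratEmb F₀ P u) = 0) :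
    Cfsg.Geo.IsMaximalIn (Cfsg.GU n F q ⊓ Cfsg.Geo.specialLinear (Fin n) F)
      (Cfsg.Geo.subfieldSubgroup F₀ P ⊓ (Cfsg.GU n F q ⊓ Cfsg.Geo.specialLinear (Fin n) F)) := by
  set H := Cfsg.Geo.subfieldSubgroup F₀ P ⊓ (Cfsg.GU n F q ⊓ Cfsg.Geo.specialLinear (Fin n) F)
    with hH
  -- the subfield consists of the fixed elements
  have hfix : ∀ a ∈ F₀, σ a = a := by
    intro a ha
    have hq : Nat.card F₀ = q := (Nat.pow_left_injective two_ne_zero) (hcard.symm.trans hF)
    haveI := Fintype.ofFinite F₀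
    have h1 := FiniteField.pow_card (⟨a, ha⟩ : F₀)
    rw [← Nat.card_eq_fintype_card, hq] at h1
    rw [hσ]
    exact congrArg Subtype.val h1
  obtain ⟨ρ, hρ⟩ : ∃ ρ, σ ρ ≠ ρ := by
    by_contra hc
    push Not at hc
    exact hf.ne_refl (RingEquiv.ext hc)
  have hρ0 : ρ ∉ F₀ := fun h => hρ (hfix ρ h)
  let f₀ : (Fin n → F₀) → (Fin n → F₀) → F₀ := ratForm hP
  have hf₀ : Cfsg.Geo.IsSymplecticForm f₀ := by
    have halt' : ∀ v, f₀ v v = 0 := fun v => Subtype.ext (by
      rw [ratForm_coe, halt, mul_zero]; rfl)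
    have hbil : Cfsg.Geo.IsBilinearForm f₀ := by
      refine ⟨fun x y v => Subtype.ext ?_, fun c x v => Subtype.ext ?_, fun v x y => Subtype.ext ?_,
        fun c v x => Subtype.ext ?_⟩
      · push_cast [f₀, ratForm_coe]
        rw [ratEmb_add, hf.add_left, mul_add]
      · push_cast [f₀, ratForm_coe]
        rw [ratEmb_smul, hf.smul_left]
        ring
      · push_cast [f₀, ratForm_coe]
        rw [ratEmb_add, herm_add_right hf, mul_add]
      · push_cast [f₀, ratForm_coe]
        rw [ratEmb_smul, herm_smul_right hf, hfix _ c.2]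
        ring
    refine ⟨hbil, fun v w => ?_, halt', fun v hv => ?_⟩
    · have h1 := halt' (v + w)
      rw [hbil.add_left, hbil.add_right, hbil.add_right, halt', halt', zero_add, add_zero] at h1
      exact eq_neg_of_add_eq_zero_left h1
    · have hv' : ratEmb F₀ P v ≠ 0 := fun e =>
        hv (ratEmb_injective F₀ P (by rw [e, ratEmb_zero]))
      constructor
      · obtain ⟨x, hx⟩ := (hf.nondegenerate _ hv').1
        by_contra hc
        push Not at hc
        obtain ⟨a, b, rfl⟩ := exists_rat_decomp (P := P) hcard hρ0 x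
        have h1 : (f₀ a v : F) = 0 := by rw [hc a]; rfl
        have h2 : (f₀ b v : F) = 0 := by rw [hc b]; rfl
        rw [ratForm_coe, mul_eq_zero] at h1 h2
        rw [hf.add_left, hf.smul_left, h1.resolve_left hζ0, h2.resolve_left hζ0, mul_zero,
          add_zero] at hx
        exact hx rfl
      · obtain ⟨x, hx⟩ := (hf.nondegenerate _ hv').2
        by_contra hc
        push Not at hc
        obtain ⟨a, b, rfl⟩ := exists_rat_decomp (P := P) hcard hρ0 x
        have h1 : (f₀ v a : F) = 0 := by rw [hc a]; rfl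
        have h2 : (f₀ v b : F) = 0 := by rw [hc b]; rfl
        rw [ratForm_coe, mul_eq_zero] at h1 h2
        rw [herm_add_right hf, herm_smul_right hf, h1.resolve_left hζ0, h2.resolve_left hζ0,
          mul_zero, add_zero] at hx
        exact hx rfl
  have hform : ∀ a b, Cfsg.hermForm n F q (ratEmb F₀ P a) (ratEmb F₀ P b) = (f₀ a b : F) / ζ :=
    fun a b => by rw [ratForm_coe, mul_div_cancel_left₀ _ hζ0]
  have hratfix : ∀ {e : F}, e + σ e = 0 → ∀ a b,
      e * Cfsg.hermForm n F q (ratEmb F₀ P a) (ratEmb F₀ P b) ∈ F₀ := by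
    intro e he a b
    obtain ⟨s, t, hst⟩ : ∃ s t : F₀, e / ζ = (s : F) + ρ * t := by
      obtain ⟨a', b', h'⟩ := exists_rat_decomp (n := 1) (P := 1) hcard hρ0 fun _ => e / ζ
      exact ⟨a' 0, b' 0, by simpa [ratEmb] using congrFun h' 0⟩
    have hsig : σ (e / ζ) = e / ζ := by
      rw [map_div₀, show σ e = -e by linear_combination he, show σ ζ = -ζ by linear_combination hζ,
        neg_div_neg_eq]
    rw [hst, map_add, map_mul, hfix _ s.2, hfix _ t.2] at hsig
    have ht : (t : F) = 0 := by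
      have h3 : (σ ρ - ρ) * (t : F) = 0 := by linear_combination hsig
      exact (mul_eq_zero.1 h3).resolve_left (sub_ne_zero.2 hρ)
    rw [hform, ← mul_div_assoc, mul_div_right_comm, hst, ht, mul_zero, add_zero]
    exact mul_mem s.2 (f₀ a b).2
  -- transvections at rational points lie in the subgroup
  have hrat : ∀ a, IsoCentre hf H (ratEmb F₀ P a) := fun a => ⟨halt a, fun e he =>
    ⟨(mem_subfieldSubgroup_iff F₀ P _).2 ⟨1, one_ne_zero, fun y =>
      ⟨y + (⟨_, hratfix he y a⟩ : F₀) • a, by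
        rw [one_smul, utrv_mulVec, ratEmb_add, ratEmb_smul]⟩⟩,
      utrv_mem_guSL hf (halt a) he⟩⟩
  have hiso : ∀ a b, Cfsg.hermForm n F q (ratEmb F₀ P a + ρ • ratEmb F₀ P b)
      (ratEmb F₀ P a + ρ • ratEmb F₀ P b) = (σ ρ - ρ) * ((f₀ a b : F) / ζ) := by
    intro a b
    rw [hf.add_left, herm_add_right hf, herm_add_right hf, hf.smul_left, hf.smul_left,
      herm_smul_right hf, herm_smul_right hf, halt, halt, hform a b, hform b a, hf₀.skew b a]
    push_cast
    ring
  refine maximal_in_guSL hf hF (by omega) H inf_le_right ?_ ?_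
  · -- a transvection outside
    let i₁ : Fin n := ⟨0, by omega⟩
    have he₁ : (Pi.single i₁ 1 : Fin n → F₀) ≠ 0 := fun e => by simpa using congrFun e i₁
    set a₀ : Fin n → F₀ := Pi.single i₁ 1
    obtain ⟨b₀, hb₀, hab₀⟩ : ∃ b₀ : Fin n → F₀, f₀ a₀ b₀ = 0 ∧
        b₀ ∉ Submodule.span F₀ {a₀} := by
      by_contra hc
      push Not at hc
      have hle : LinearMap.ker (toBil hf₀ a₀) ≤ Submodule.span F₀ {a₀} := fun b hb => hc b hb
      have h1 := Submodule.finrank_mono hle
      rw [finrank_span_singleton he₁] at h1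
      have h2 := LinearMap.finrank_range_add_finrank_ker (toBil hf₀ a₀)
      have h3 := Submodule.finrank_le (LinearMap.range (toBil hf₀ a₀))
      rw [Module.finrank_self] at h3
      rw [Module.finrank_fin_fun] at h2
      omega
    have hw : Cfsg.hermForm n F q (ratEmb F₀ P a₀ + ρ • ratEmb F₀ P b₀)
        (ratEmb F₀ P a₀ + ρ • ratEmb F₀ P b₀) = 0 := by rw [hiso, hb₀]; simp
    refine ⟨utrv hf hw ζ, utrv_mem_guSL hf hw hζ, fun hmem => ?_⟩
    obtain ⟨c, hc, hc'⟩ := (mem_subfieldSubgroup_iff F₀ P _).1 hmem.1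
    have hli : ∀ s t : F₀, s • a₀ + t • b₀ = 0 → s = 0 ∧ t = 0 := by
      intro s t hst
      by_cases ht : t = 0
      · refine ⟨?_, ht⟩
        rw [ht, zero_smul, add_zero] at hst
        exact (smul_eq_zero.1 hst).resolve_right he₁
      · exfalso
        refine hab₀ (Submodule.mem_span_singleton.2 ⟨-(s / t), ?_⟩)
        rw [eq_comm, ← sub_eq_zero, ← smul_right_injective (Fin n → F₀) ht |>.eq_iff, smul_zero,
          smul_sub, smul_smul, mul_neg, mul_div_cancel₀ _ ht, neg_smul, sub_neg_eq_add, add_comm,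
          hst]
    obtain ⟨x, hxa, hxb⟩ := exists_values_of_indep hf₀ hli 1 0
    obtain ⟨y, hy⟩ := hc' x
    rw [utrv_mulVec, herm_add_right hf, herm_smul_right hf, hform, hform, hxa, hxb] at hy
    simp only [ZeroMemClass.coe_zero, OneMemClass.coe_one, zero_div, mul_zero, add_zero,
      mul_one_div_cancel hζ0, one_smul, ← smul_add, smul_smul] at hy
    -- the functional `f₀ · a₀` separates `x`
    have key : ∀ z : Fin n → F₀, c * (f₀ x z : F) + c * (f₀ a₀ z : F) +
        c * ρ * (f₀ b₀ z : F) ∈ F₀ := by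
      intro z
      have h2 := congrArg (fun v => ζ * Cfsg.hermForm n F q v (ratEmb F₀ P z)) hy
      simp only [hf.add_left, hf.smul_left, hform] at h2
      have h3 : c * (f₀ x z : F) + c * (f₀ a₀ z : F) + c * ρ * (f₀ b₀ z : F) = (f₀ y z : F) := by
        field_simp at h2
        linear_combination h2
      rw [h3]
      exact (f₀ y z).2
    obtain ⟨z₂, hz₂a, hz₂b⟩ := exists_values_of_indep hf₀ hli 0 1
    have hsw : ∀ {u v : Fin n → F₀} {r : F₀}, f₀ u v = r → (f₀ v u : F) = -(r : F) := by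
      intro u v r h
      rw [hf₀.skew v u, h]; rfl
    have k₁ := key x
    rw [hf₀.alternating, hsw hxa, hsw hxb] at k₁
    have hcF : c ∈ F₀ := by
      simpa using k₁
    have k₂ := key z₂
    rw [hsw hz₂a, hsw hz₂b] at k₂
    simp only [ZeroMemClass.coe_zero, OneMemClass.coe_one, neg_zero, mul_zero, add_zero, mul_neg,
      mul_one] at k₂
    have h5 : c * ρ ∈ F₀ := by
      have h6 := sub_mem (mul_mem hcF (f₀ x z₂).2) k₂
      simpa using h6
    exact hρ0 (by simpa [hc] using div_mem h5 hcF)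
  intro K hHK hK hgK
  obtain ⟨g, hgK, hgH⟩ := hgK
  have hgG := hK hgK
  obtain ⟨y₀, hy₀, hy₀'⟩ : ∃ y : Fin n → F₀, y ≠ 0 ∧ ∀ c : F, c ≠ 0 →
      ∀ y', c • ((g : Matrix (Fin n) (Fin n) F) *ᵥ ratEmb F₀ P y) ≠ ratEmb F₀ P y' := by
    by_contra hc
    push Not at hc
    exact hgH ⟨mem_subfieldSubgroup_of_points F₀ P g fun y hy => by
      obtain ⟨c, hc', y', hy'⟩ := hc y hy
      exact ⟨c, hc', y', hy'⟩, hgG⟩
  have hw := ((hrat y₀).mono hHK).map hgK hgG.1
  obtain ⟨a, b, hab⟩ := exists_rat_decomp (P := P) hcard hρ0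
    ((g : Matrix (Fin n) (Fin n) F) *ᵥ ratEmb F₀ P y₀)
  rw [hab] at hw
  have hab0 : f₀ a b = 0 := by
    have h1 := hw.iso
    rw [hiso, mul_eq_zero, div_eq_zero_iff] at h1
    exact Subtype.ext ((h1.resolve_left (sub_ne_zero.2 hρ)).resolve_right hζ0)
  have hindep : ∀ s t : F₀, s • a + t • b = 0 → s = 0 ∧ t = 0 := by
    have hgy : (g : Matrix (Fin n) (Fin n) F) *ᵥ ratEmb F₀ P y₀ ≠ 0 := fun e =>
      hy₀ (ratEmb_injective F₀ P (by rw [← inv_mulVec_mulVec g (ratEmb F₀ P y₀), e,
        Matrix.mulVec_zero, ratEmb_zero]))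
    intro s t hst
    by_contra hne
    by_cases ht : t = 0
    · rw [ht, zero_smul, add_zero] at hst
      have ha : a = 0 := (smul_eq_zero.1 hst).resolve_left fun e => hne ⟨e, ht⟩
      rw [ha, ratEmb_zero, zero_add] at hab
      have hρne : ρ ≠ 0 := fun e => hρ (by rw [e, map_zero])
      exact hy₀' ρ⁻¹ (inv_ne_zero hρne) b (by rw [hab, smul_smul, inv_mul_cancel₀ hρne, one_smul])
    · have hb : b = (-(s / t)) • a := by
        rw [← sub_eq_zero, ← smul_right_injective (Fin n → F₀) ht |>.eq_iff, smul_zero, smul_sub,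
          smul_smul, mul_neg, mul_div_cancel₀ _ ht, neg_smul, sub_neg_eq_add, add_comm, hst]
      rw [hb, ratEmb_smul, smul_smul] at hab
      have hu : ((g : Matrix (Fin n) (Fin n) F) *ᵥ ratEmb F₀ P y₀) =
          (1 + ρ * ((-(s / t) : F₀) : F)) • ratEmb F₀ P a := by rw [hab, add_smul, one_smul]
      have hne' : (1 + ρ * ((-(s / t) : F₀) : F)) ≠ 0 := fun e => hgy (by rw [hu, e, zero_smul])
      exact hy₀' _ (inv_ne_zero hne') a
        (by rw [hu, smul_smul, inv_mul_cancel₀ hne', one_smul])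
  intro u huu
  obtain ⟨a', b', rfl⟩ := exists_rat_decomp (P := P) hcard hρ0 u
  have hab' : f₀ a' b' = 0 := by
    rw [hiso, mul_eq_zero, div_eq_zero_iff] at huu
    exact Subtype.ext ((huu.resolve_left (sub_ne_zero.2 hρ)).resolve_right hζ0)
  by_cases hind : ∀ s t : F₀, s • a' + t • b' = 0 → s = 0 ∧ t = 0
  · obtain ⟨γ, hγ, hγa, hγb⟩ := exists_isometry_map_pair hf₀ hindep hind (by rw [hab0, hab'])
    obtain ⟨G, hGK, hG⟩ : ∃ G ∈ K, ∀ y, (G : Matrix (Fin n) (Fin n) F) *ᵥ ratEmb F₀ P y =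
        ratEmb F₀ P (γ y) := by
      clear hγa hγb
      induction hγ using Subgroup.closure_induction with
      | mem x hx =>
        obtain ⟨v, e, rfl⟩ := hx
        have he : ζ * (e : F) + σ (ζ * (e : F)) = 0 := by
          rw [map_mul, hfix _ e.2]; linear_combination (e : F) * hζ
        refine ⟨utrv hf (halt v) (ζ * e), hHK ((hrat v).2 _ he), fun y => ?_⟩
        rw [utrv_mulVec, FormsLib.tau_apply, ratEmb_add, ratEmb_smul]
        congr 2
        push_cast [toBil_apply, f₀, ratForm_coe]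
        ring
      | one => exact ⟨1, K.one_mem, fun y => by simp⟩
      | mul x y _ _ hx hy =>
        obtain ⟨G₁, hG₁, h1⟩ := hx
        obtain ⟨G₂, hG₂, h2⟩ := hy
        exact ⟨G₁ * G₂, K.mul_mem hG₁ hG₂, fun z => by
          rw [Units.val_mul, ← Matrix.mulVec_mulVec, h2, h1, LinearEquiv.mul_apply]⟩
      | inv x _ hx =>
        obtain ⟨G₁, hG₁, h1⟩ := hx
        refine ⟨G₁⁻¹, K.inv_mem hG₁, fun z => ?_⟩
        have h2 := h1 (x⁻¹ z)
        rw [← LinearEquiv.mul_apply, mul_inv_cancel] at h2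
        conv_lhs => rw [show z = (1 : (Fin n → F₀) ≃ₗ[F₀] _) z from rfl, ← h2]
        rw [inv_mulVec_mulVec]
    have h1 := hw.map hGK (hK hGK).1
    rwa [Matrix.mulVec_add, Matrix.mulVec_smul, hG, hG, hγa, hγb] at h1
  · push Not at hind
    obtain ⟨s, t, hst, hne⟩ := hind
    by_cases ht : t = 0
    · rw [ht, zero_smul, add_zero] at hst
      have ha : a' = 0 := (smul_eq_zero.1 hst).resolve_left fun e => hne e ht
      rw [ha, ratEmb_zero, zero_add]
      exact ((hrat b').mono hHK).smul ρ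
    · have hb : b' = (-(s / t)) • a' := by
        rw [← sub_eq_zero, ← smul_right_injective (Fin n → F₀) ht |>.eq_iff, smul_zero, smul_sub,
          smul_smul, mul_neg, mul_div_cancel₀ _ ht, neg_smul, sub_neg_eq_add, add_comm, hst]
      have h1 := ((hrat a').mono hHK).smul (1 + ρ * ((-(s / t) : F₀) : F))
      rwa [add_smul, one_smul, ← smul_smul, ← ratEmb_smul, ← hb] at h1

end Cfsg.Agent.TransvMax
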