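import Cfsg.Agent.Lib.TransvMax.UnitaryTools
import Cfsg.Agent.Lib.TransvMax.SubfieldSL

/-!
Overgroups of a special unitary group over a subfield of odd prime index.

An irrational transvection and the rational maps fixing the orthogonal of a suitable rational
totally singular plane generate a group that would be Frobenius with a non-cyclic abelian
complement, unless an irrational element fixing the orthogonal of that plane appears.
-/

set_option autoImplicit false

namespace Cfsg.Agent.TransvMax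

open scoped Matrix MatrixGroups
open Cfsg.Agent

variable {ι : Type} [Fintype ι] [DecidableEq ι] {F : Type*} [Field F]

/-- A unitary form with values in a subfield on a rational structure. -/
structure HRat (σ : F ≃+* F) (f : (ι → F) → (ι → F) → F) (F₀ : Subfield F) (P : GL ι F) : Prop where
  unit : Cfsg.Geo.IsUnitaryForm σ f
  rat : ∀ u v : ι → F₀, f (ratEmb F₀ P u) (ratEmb F₀ P v) ∈ F₀
  stable : ∀ x ∈ F₀, σ x ∈ F₀
  moved : ∃ x ∈ F₀, σ x ≠ x
  dim : 13 ≤ Fintype.card ι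

namespace HRat

variable {σ : F ≃+* F} {f : (ι → F) → (ι → F) → F} {F₀ : Subfield F} {P : GL ι F}
  (S : HRat σ f F₀ P)

include S

/-- The involution of the subfield. -/
def σ₀ : F₀ ≃+* F₀ where
  toFun x := ⟨σ x, S.stable x x.2⟩
  invFun x := ⟨σ x, S.stable x x.2⟩
  left_inv x := Subtype.ext (S.unit.involutive (x : F))
  right_inv x := Subtype.ext (S.unit.involutive (x : F))
  map_mul' x y := Subtype.ext (map_mul σ (x : F) (y : F))
  map_add' x y := Subtype.ext (map_add σ (x : F) (y : F))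

/-- The form on coordinates. -/
def form₀ : (ι → F₀) → (ι → F₀) → F₀ := fun u v => ⟨_, S.rat u v⟩

theorem coe_form₀ (u v : ι → F₀) : (S.form₀ u v : F) = f (ratEmb F₀ P u) (ratEmb F₀ P v) := rfl

theorem eq_of_forall {x y : ι → F}
    (h : ∀ z : ι → F₀, f (ratEmb F₀ P z) x = f (ratEmb F₀ P z) y) : x = y := by
  refine herm_eq_of_forall S.unit fun v => ?_
  have hv : v = ∑ j, (((P⁻¹ : GL ι F) : Matrix ι ι F) *ᵥ v) j • ratEmb F₀ P (Pi.single j 1) := by
    conv_lhs => rw [← mulVec_inv_mulVec P v, pi_eq_sum_univ' (((P⁻¹ : GL ι F) : Matrix ι ι F) *ᵥ v),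
      Matrix.mulVec_sum]
    refine Finset.sum_congr rfl fun j _ => ?_
    rw [Matrix.mulVec_smul, ratEmb_single]
  rw [hv, ← hermFun_apply S.unit, ← hermFun_apply S.unit, map_sum, map_sum]
  refine Finset.sum_congr rfl fun j _ => ?_
  rw [map_smul, map_smul, hermFun_apply, hermFun_apply, h]

theorem unit₀ : Cfsg.Geo.IsUnitaryForm S.σ₀ S.form₀ := by
  refine ⟨fun e => ?_, fun x => Subtype.ext (S.unit.involutive (x : F)),
    fun x y v => Subtype.ext ?_, fun c x v => Subtype.ext ?_, fun v w => Subtype.ext (S.unit.herm _ _),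
    fun v hv => ?_⟩
  · obtain ⟨x, hx, hne⟩ := S.moved
    exact hne (congrArg Subtype.val (RingEquiv.congr_fun e ⟨x, hx⟩))
  · push_cast [S.coe_form₀]; rw [ratEmb_add, S.unit.add_left]
  · push_cast [S.coe_form₀]; rw [ratEmb_smul, S.unit.smul_left]
  · have h : ∃ z, S.form₀ z v ≠ 0 := by
      by_contra hc
      push Not at hc
      refine hv (ratEmb_injective F₀ P ?_)
      rw [ratEmb_zero]
      refine S.eq_of_forall fun z => ?_
      rw [herm_zero_right S.unit]
      exact congrArg Subtype.val (hc z)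
    obtain ⟨z, hz⟩ := h
    refine ⟨⟨z, hz⟩, ⟨z, fun e => hz (Subtype.ext ?_)⟩⟩
    have e' := congrArg Subtype.val e
    exact herm_eq_zero_comm S.unit e'

theorem exists_trace_zero₀ : ∃ e : F₀, e ≠ 0 ∧ (e : F) + σ (e : F) = 0 := by
  obtain ⟨e, he0, he⟩ := exists_trace_zero S.unit₀.ne_refl S.unit₀.involutive
  exact ⟨e, he0, congrArg Subtype.val he⟩

theorem coe_eq {u v : ι → F₀} {c : F₀} (h : S.form₀ u v = c) :
    f (ratEmb F₀ P u) (ratEmb F₀ P v) = (c : F) := congrArg Subtype.val h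

theorem perp {u v : ι → F₀} (h : S.form₀ u v = 0) : f (ratEmb F₀ P u) (ratEmb F₀ P v) = 0 :=
  congrArg Subtype.val h

theorem perp' {u v : ι → F₀} (h : S.form₀ u v = 0) : f (ratEmb F₀ P v) (ratEmb F₀ P u) = 0 :=
  herm_eq_zero_comm S.unit (S.perp h)

variable [Finite F]

/-- An isotropic vector orthogonal to a few vectors and outside their span. -/
theorem exists_iso_out {k : ℕ} (v : Fin k → ι → F₀) (hk : 2 * (k + 1) < Fintype.card ι) :
    ∃ x, S.form₀ x x = 0 ∧ (∀ i, S.form₀ x (v i) = 0) ∧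
      x ∉ Submodule.span F₀ (Set.range v) := by
  have hf := S.unit₀
  obtain ⟨p, hp, hpp⟩ := exists_aniso_perp hf v (by omega)
  obtain ⟨p', hp', hpp'⟩ := exists_aniso_perp hf (Fin.cons p v : Fin (k + 1) → ι → F₀) hk
  have h1 : S.form₀ p' p = 0 := by simpa using hp' 0
  obtain ⟨s, hs⟩ := exists_norm_eq hf.ne_refl hf.involutive (a := -S.form₀ p p / S.form₀ p' p') (by
    rw [map_div₀, map_neg, ← hf.herm, ← hf.herm])
  refine ⟨p + s • p', ?_, fun i => ?_, fun hx => hpp ?_⟩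
  · rw [hf.add_left, herm_add_right hf, herm_add_right hf, herm_smul_right hf, hf.smul_left,
      herm_smul_right hf, hf.smul_left, h1, herm_eq_zero_comm hf h1, mul_zero, mul_zero, ← mul_assoc,
      mul_comm (S.σ₀ s) s, hs]
    field_simp
    ring
  · have h2 : S.form₀ p' (v i) = 0 := by simpa using hp' i.succ
    rw [hf.add_left, hf.smul_left, hp i, h2, mul_zero, add_zero]
  · have hle : Submodule.span F₀ (Set.range v) ≤ LinearMap.ker (hermFun hf p) := by
      rw [Submodule.span_le]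
      rintro _ ⟨i, rfl⟩
      exact herm_eq_zero_comm hf (hp i)
    have h3 : S.form₀ (p + s • p') p = 0 := hle hx
    rwa [hf.add_left, hf.smul_left, h1, mul_zero, add_zero] at h3

theorem iso_induction {motive : (ι → F₀) → Prop}
    (iso : ∀ a, S.form₀ a a = 0 → motive a)
    (add : ∀ a b, motive a → motive b → motive (a + b)) (y : ι → F₀) : motive y := by
  have hf := S.unit₀
  rcases eq_or_ne y 0 with rfl | hy
  · exact iso 0 (herm_zero_left hf 0)
  obtain ⟨u, hu, hu'⟩ := exists_iso_values hf (v := ![y]) (by simp [hy])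
    (by have := S.dim; omega) ![1]
  have huy : S.form₀ u y = 1 := hu' 0
  have hyu : S.form₀ y u = 1 := by rw [hf.herm, huy, map_one]
  obtain ⟨s, hs⟩ := exists_trace_eq hf.ne_refl hf.involutive (a := -S.form₀ y y) (by
    rw [map_neg, ← hf.herm])
  have h := add (y + s • u) ((-s) • u) (iso _ ?_) (iso _ ?_)
  · rwa [neg_smul, ← sub_eq_add_neg, add_sub_cancel_right] at h
  · rw [hf.add_left, herm_add_right hf, herm_add_right hf, herm_smul_right hf, hf.smul_left,
      herm_smul_right hf, hf.smul_left, hu, huy, hyu]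
    linear_combination hs
  · rw [hf.smul_left, herm_smul_right hf, hu, mul_zero, mul_zero]

/-- A totally singular rational plane in good position to an irrational vector. -/
theorem exists_plane {w : ι → F} (hw : ∀ c : F, c ≠ 0 → ∀ y', c • w ≠ ratEmb F₀ P y') :
    ∃ a b : ι → F₀, S.form₀ a a = 0 ∧ S.form₀ b b = 0 ∧ S.form₀ a b = 0 ∧
      f (ratEmb F₀ P a) w ≠ 0 ∧ f (ratEmb F₀ P b) w / f (ratEmb F₀ P a) w ∉ F₀ := by
  have hf := S.unit₀
  by_contra hc
  push Not at hc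
  let μ : (ι → F₀) → F := fun y => f (ratEmb F₀ P y) w
  have hμa : ∀ u v, μ (u + v) = μ u + μ v := fun u v => by
    simp only [μ, ratEmb_add, S.unit.add_left]
  have hμs : ∀ (c : F₀) u, μ (c • u) = (c : F) * μ u := fun c u => by
    simp only [μ, ratEmb_smul, S.unit.smul_left]
  obtain ⟨a, ha, ha0⟩ : ∃ a, S.form₀ a a = 0 ∧ μ a ≠ 0 := by
    by_contra h
    push Not at h
    refine hw 1 one_ne_zero 0 ?_
    rw [one_smul, ratEmb_zero]
    refine S.eq_of_forall fun z => ?_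
    rw [herm_zero_right S.unit]
    exact S.iso_induction (motive := fun y => μ y = 0) h
      (fun u v hu hv => by rw [hμa, hu, hv, add_zero]) z
  have hane : a ≠ 0 := fun e => ha0 (by
    show f _ w = 0
    rw [e, ratEmb_zero, herm_zero_left S.unit])
  have hiso : ∀ b, S.form₀ b b = 0 → μ b / μ a ∈ F₀ := by
    intro b hb
    by_cases hba : b ∈ Submodule.span F₀ {a}
    · obtain ⟨t, rfl⟩ := Submodule.mem_span_singleton.1 hba
      rw [hμs, mul_div_cancel_right₀ _ ha0]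
      exact t.2
    obtain ⟨d, hd, hd', hdn⟩ := S.exists_iso_out ![b, a] (by have := S.dim; omega)
    have hdb : S.form₀ d b = 0 := hd' 0
    have hda : S.form₀ d a = 0 := hd' 1
    have hli : LinearIndependent F₀ ![d, b, a] := linearIndependent_finCons.2
      ⟨linearIndependent_finCons.2 ⟨by simp [hane], by simpa using hba⟩, hdn⟩
    obtain ⟨t, ht0, ht⟩ : ∃ t : F₀, t ≠ 0 ∧ μ a + (t : F) * μ d ≠ 0 := by
      by_cases h1 : μ a + μ d = 0
      · obtain ⟨ω, hω, hne⟩ := S.moved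
        refine ⟨⟨ω, hω⟩, fun e => hne ?_, fun h2 => hne ?_⟩
        · rw [show ω = 0 from congrArg Subtype.val e, map_zero]
        · have h3 : (ω - 1) * μ d = 0 := by linear_combination h2 - h1
          rcases mul_eq_zero.1 h3 with h4 | h4
          · rw [sub_eq_zero.1 h4, map_one]
          · exact absurd (by simpa [h4] using h1) ha0
      · exact ⟨1, one_ne_zero, by simpa using h1⟩
    obtain ⟨z, hz, hz'⟩ := exists_iso_values hf hli (by have := S.dim; omega)
      ![-S.form₀ b a / S.σ₀ t, 0, 0]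
    have hzd : S.form₀ z d = -S.form₀ b a / S.σ₀ t := hz' 0
    have hzb : S.form₀ z b = 0 := hz' 1
    have hza : S.form₀ z a = 0 := hz' 2
    have e1 : μ d / μ a ∈ F₀ := hc a d ha hd (herm_eq_zero_comm hf hda) ha0
    have e2 : μ z / μ a ∈ F₀ := hc a z ha hz (herm_eq_zero_comm hf hza) ha0
    have e3 : μ (b + z) / μ (a + t • d) ∈ F₀ := by
      refine hc (a + t • d) (b + z) ?_ ?_ ?_ ?_
      · simp only [hf.add_left, herm_add_right hf, hf.smul_left, herm_smul_right hf, ha, hd, hda,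
          herm_eq_zero_comm hf hda, mul_zero, add_zero]
      · simp only [hf.add_left, herm_add_right hf, hb, hz, hzb, herm_eq_zero_comm hf hzb, add_zero]
      · simp only [hf.add_left, herm_add_right hf, hf.smul_left, hdb, herm_eq_zero_comm hf hza,
          hf.herm d z, hzd, map_div₀, map_neg, ← hf.herm a b, hf.involutive]
        field_simp
        ring
      · show μ (a + t • d) ≠ 0
        rw [hμa, hμs]
        exact ht
    rw [hμa, hμa, hμs] at e3
    have h4 := F₀.sub_mem (F₀.mul_mem e3 (F₀.add_mem F₀.one_mem (F₀.mul_mem t.2 e1))) e2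
    convert h4 using 1
    field_simp
    ring
  have hall : ∀ y, μ y / μ a ∈ F₀ := S.iso_induction hiso fun u v hu hv => by
    rw [hμa, add_div]; exact F₀.add_mem hu hv
  let ψ : (ι → F₀) →ₗ[F₀] F₀ :=
    { toFun := fun y => ⟨_, hall y⟩
      map_add' := fun u v => Subtype.ext (by simp [hμa, add_div])
      map_smul' := fun c u => Subtype.ext (by simp [hμs, mul_div_assoc]) }
  obtain ⟨p, hp⟩ := exists_hermFun hf ψ
  refine hw (σ (μ a))⁻¹ (inv_ne_zero ((map_ne_zero σ).2 ha0)) p ?_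
  refine S.eq_of_forall fun z => ?_
  rw [herm_smul_right S.unit, map_inv₀, S.unit.involutive, ← S.coe_form₀, ← hp z]
  exact inv_mul_eq_div _ _

omit [Finite F] in
theorem mem_span_of_perp {a b p₁ p₂ : ι → F} (h11 : f p₁ a = 1) (h12 : f p₁ b = 0)
    (h21 : f p₂ a = 0) (h22 : f p₂ b = 1) {v : ι → F}
    (hv : ∀ z, f z a = 0 → f z b = 0 → f v z = 0) :
    v = f v p₁ • a + f v p₂ • b := by
  have hf := S.unit
  refine herm_eq_of_forall hf fun z => ?_
  have h1 := hv (z - f z a • p₁ - f z b • p₂)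
    (by simp [herm_sub_left hf, hf.smul_left, h11, h21])
    (by simp [herm_sub_left hf, hf.smul_left, h12, h22])
  have h2 := congrArg σ h1
  rw [map_zero, ← hf.herm, herm_sub_left hf, herm_sub_left hf, hf.smul_left, hf.smul_left] at h2
  rw [herm_add_right hf, herm_smul_right hf, herm_smul_right hf, ← hf.herm, ← hf.herm]
  linear_combination h2

set_option maxHeartbeats 1000000 in
/-- An irrational element fixing the orthogonal of a rational totally singular plane. -/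
theorem exists_plane_irrational [Fintype F] {r : ℕ} (hr : r.Prime) (hro : Odd r)
    (hcard : Fintype.card F = Nat.card F₀ ^ r) {K : Subgroup (GL ι F)}
    (hK : ∀ g ∈ K, ∀ x y, f ((g : Matrix ι ι F) *ᵥ x) ((g : Matrix ι ι F) *ᵥ y) = f x y)
    (hstab : ∀ h ∈ Cfsg.Geo.specialLinear ι F,
      (∀ x y, f ((h : Matrix ι ι F) *ᵥ x) ((h : Matrix ι ι F) *ᵥ y) = f x y) →
      (∀ y, ∃ y', (h : Matrix ι ι F) *ᵥ ratEmb F₀ P y = ratEmb F₀ P y') → h ∈ K)
    {g : GL ι F} (hgK : g ∈ K) {y₀ : ι → F₀} (hy₀ : S.form₀ y₀ y₀ = 0)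
    (hirr : ∀ c : F, c ≠ 0 → ∀ y', c • ((g : Matrix ι ι F) *ᵥ ratEmb F₀ P y₀) ≠ ratEmb F₀ P y') :
    ∃ a b : ι → F₀, S.form₀ a a = 0 ∧ S.form₀ b b = 0 ∧ S.form₀ a b = 0 ∧
      LinearIndependent F₀ ![a, b] ∧ ∃ X ∈ K,
        (∀ x, f x (ratEmb F₀ P a) = 0 → f x (ratEmb F₀ P b) = 0 → (X : Matrix ι ι F) *ᵥ x = x) ∧
        ¬ ∀ y, ∃ y', (X : Matrix ι ι F) *ᵥ ratEmb F₀ P y = ratEmb F₀ P y' := by
  classical
  haveI := Fintype.ofFinite F₀
  have hf := S.unit
  set R := ratEmb F₀ P with hR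
  have hadd : ∀ u v, R (u + v) = R u + R v := ratEmb_add F₀ P
  have hsmul : ∀ (c : F₀) u, R (c • u) = (c : F) • R u := ratEmb_smul F₀ P
  set w := (g : Matrix ι ι F) *ᵥ R y₀ with hwdef
  obtain ⟨e₀, he₀, he₀t⟩ := S.exists_trace_zero₀
  have he₀F : (e₀ : F) ≠ 0 := fun e => he₀ (Subtype.ext e)
  have hutK : ∀ y (hy : f (R y) (R y) = 0), utrv hf hy (e₀ : F) ∈ K := fun y hy =>
    hstab _ (trv_mem_specialLinear _ _ _) (utrv_isometry hf hy he₀t) fun z =>
      ⟨z + (e₀ * S.form₀ z y) • y, by rw [utrv_mulVec, hadd, hsmul]; rfl⟩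
  have hww : f w w = 0 := by rw [hK g hgK, S.perp hy₀]
  have hTK : utrv hf hww (e₀ : F) ∈ K := by
    convert K.mul_mem (K.mul_mem hgK (hutK y₀ (S.perp hy₀))) (K.inv_mem hgK) using 1
    refine gl_ext fun x => ?_
    rw [Units.val_mul, Units.val_mul, ← Matrix.mulVec_mulVec, ← Matrix.mulVec_mulVec, utrv_mulVec,
      utrv_mulVec, Matrix.mulVec_add, Matrix.mulVec_smul, mulVec_inv_mulVec]
    congr 3
    conv_lhs => rw [← mulVec_inv_mulVec g x, hwdef, hK g hgK]
  obtain ⟨a, b, ha, hb, hab, hμa, hκ⟩ := S.exists_plane hirr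
  set A := R a with hA
  set B := R b with hB
  set μ₁ := f A w with hμ₁
  set μ₂ := f B w with hμ₂
  have ha0 : a ≠ 0 := fun e => hμa (by rw [hμ₁, hA, e, hR, ratEmb_zero, herm_zero_left hf])
  have hli : LinearIndependent F₀ ![a, b] := by
    refine LinearIndependent.pair_iff' ha0 |>.2 fun t ht => hκ ?_
    rw [hμ₂, hB, ← ht, hsmul, hf.smul_left]
    show (t : F) * μ₁ / μ₁ ∈ F₀
    rw [mul_div_cancel_right₀ _ hμa]
    exact t.2
  obtain ⟨p₁, hp₁⟩ := exists_herm_values S.unit₀ hli ![1, 0]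
  obtain ⟨p₂, hp₂⟩ := exists_herm_values S.unit₀ hli ![0, 1]
  have h11 : f (R p₁) A = 1 := S.coe_eq (hp₁ 0)
  have h12 : f (R p₁) B = 0 := S.coe_eq (hp₁ 1)
  have h21 : f (R p₂) A = 0 := S.coe_eq (hp₂ 0)
  have h22 : f (R p₂) B = 1 := S.coe_eq (hp₂ 1)
  have hA1 : f A (R p₁) = 1 := by rw [hf.herm, h11, map_one]
  have hA2 : f A (R p₂) = 0 := herm_eq_zero_comm hf h21
  have hB1 : f B (R p₁) = 0 := herm_eq_zero_comm hf h12
  have hB2 : f B (R p₂) = 1 := by rw [hf.herm, h22, map_one]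
  have hAA : f A A = 0 := S.perp ha
  have hBB : f B B = 0 := S.perp hb
  have hAB : f A B = 0 := S.perp hab
  have hBA : f B A = 0 := S.perp' hab
  let L : Submodule F (ι → F) := Submodule.span F {A, B}
  have hcoord : ∀ v ∈ L, v = f v (R p₁) • A + f v (R p₂) • B := by
    intro v hv
    obtain ⟨s, t, rfl⟩ := Submodule.mem_span_pair.1 hv
    simp [hf.add_left, hf.smul_left, hA1, hA2, hB1, hB2]
  have hLperp : ∀ v ∈ L, ∀ z, f z A = 0 → f z B = 0 → f z v = 0 := by
    intro v hv z hzA hzB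
    rw [hcoord v hv, herm_add_right hf, herm_smul_right hf, herm_smul_right hf, hzA, hzB]
    simp
  refine ⟨a, b, ha, hb, hab, hli, ?_⟩
  by_contra hfail
  push Not at hfail
  -- rational maps fixing the orthogonal of the plane
  let Fx : GL ι F → Prop := fun X => ∀ x, f x A = 0 → f x B = 0 → (X : Matrix ι ι F) *ᵥ x = x
  have hfail' : ∀ X ∈ K, Fx X → ∀ y, ∃ y', (X : Matrix ι ι F) *ᵥ R y = R y' := fun X hX hXf =>
    hfail X hX hXf
  have hFxL : ∀ X ∈ K, Fx X → ∀ z, (X : Matrix ι ι F) *ᵥ z - z ∈ L := by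
    intro X hX hXf z
    rw [S.mem_span_of_perp h11 h12 h21 h22 (v := (X : Matrix ι ι F) *ᵥ z - z) fun z' hzA hzB => by
      rw [herm_sub_left hf, sub_eq_zero]
      conv_lhs => rw [← hXf z' hzA hzB, hK X hX]]
    exact L.add_mem (L.smul_mem _ (Submodule.subset_span (by simp)))
      (L.smul_mem _ (Submodule.subset_span (by simp)))
  let Hs : Subgroup (GL ι F) :=
    { carrier := {X | X ∈ K ∧ Fx X}
      one_mem' := ⟨K.one_mem, fun x _ _ => by simp⟩
      mul_mem' := fun {p q} hp hq => ⟨K.mul_mem hp.1 hq.1, fun x hxA hxB => by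
        rw [Units.val_mul, ← Matrix.mulVec_mulVec, hq.2 x hxA hxB, hp.2 x hxA hxB]⟩
      inv_mem' := fun {p} hp => ⟨K.inv_mem hp.1, fun x hxA hxB => by
        conv_lhs => rw [← hp.2 x hxA hxB, inv_mulVec_mulVec]⟩ }
  set T := utrv hf hww (e₀ : F)
  let G : Subgroup (GL ι F) := Hs ⊔ Subgroup.zpowers T
  have hGK : G ≤ K := sup_le (fun X hX => hX.1) (Subgroup.zpowers_le.2 hTK)
  let N : Subgroup (GL ι F) :=
    { carrier := {X | ∀ x, f x A = 0 → f x B = 0 → f x w = 0 → (X : Matrix ι ι F) *ᵥ x = x}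
      one_mem' := fun x _ _ _ => by simp
      mul_mem' := fun {p q} hp hq x h1 h2 h3 => by
        rw [Units.val_mul, ← Matrix.mulVec_mulVec, hq x h1 h2 h3, hp x h1 h2 h3]
      inv_mem' := fun {p} hp x h1 h2 h3 => by
        conv_lhs => rw [← hp x h1 h2 h3, inv_mulVec_mulVec] }
  have hGN : G ≤ N := by
    refine sup_le (fun X hX x h1 h2 _ => hX.2 x h1 h2) (Subgroup.zpowers_le.2 fun x _ _ h3 => ?_)
    rw [utrv_mulVec, h3, mul_zero, zero_smul, add_zero]
  set r₀ := μ₂ • A - μ₁ • B with hr₀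
  have hr₀fix : ∀ h ∈ G, (h : Matrix ι ι F) *ᵥ r₀ = r₀ := fun h hh => hGN hh r₀
    (by simp [hr₀, herm_sub_left hf, hf.smul_left, hAA, hBA])
    (by simp [hr₀, herm_sub_left hf, hf.smul_left, hAB, hBB])
    (by simp only [hr₀, herm_sub_left hf, hf.smul_left, ← hμ₁, ← hμ₂]; ring)
  -- stabiliser of the plane
  have hstabL : ∀ h ∈ G, (∀ v ∈ L, (h : Matrix ι ι F) *ᵥ v ∈ L) → h ∈ Hs := by
    intro h hh hhL
    have hhK := hGK hh
    have hline : ∀ y, R y ∈ L → y ≠ 0 → S.form₀ y y = 0 →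
        ∃ c : F, c ≠ 0 ∧ ∃ y', c • ((h : Matrix ι ι F) *ᵥ R y) = R y' := by
      intro y hyL hy hyy
      set v := (h : Matrix ι ι F) *ᵥ R y
      have hvv : f v v = 0 := by rw [hK h hhK, S.perp hyy]
      have hvK : utrv hf hvv (e₀ : F) ∈ K := by
        convert K.mul_mem (K.mul_mem hhK (hutK y (S.perp hyy))) (K.inv_mem hhK) using 1
        refine gl_ext fun x => ?_
        rw [Units.val_mul, Units.val_mul, ← Matrix.mulVec_mulVec, ← Matrix.mulVec_mulVec, utrv_mulVec,
          utrv_mulVec, Matrix.mulVec_add, Matrix.mulVec_smul, mulVec_inv_mulVec]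
        congr 3
        conv_lhs => rw [← mulVec_inv_mulVec h x]
        exact hK h hhK _ _
      have hv0 : v ≠ 0 := fun e => hy (ratEmb_injective F₀ P (by
        rw [ratEmb_zero]
        show R y = 0
        rw [← inv_mulVec_mulVec h (R y)]
        show _ *ᵥ v = 0
        rw [e, Matrix.mulVec_zero]))
      obtain ⟨z, hz⟩ : ∃ z, f (R z) v ≠ 0 := by
        by_contra hc
        push Not at hc
        exact hv0 (S.eq_of_forall fun z => by rw [herm_zero_right hf]; exact hc z)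
      obtain ⟨z', hz'⟩ := hfail' _ hvK (fun x h1 h2 => by
        rw [utrv_mulVec, hLperp v (hhL _ hyL) x h1 h2, mul_zero, zero_smul, add_zero]) z
      refine ⟨(e₀ : F) * f (R z) v, mul_ne_zero he₀F hz, z' - z, ?_⟩
      rw [utrv_mulVec] at hz'
      rw [eq_sub_of_add_eq' hz', sub_eq_add_neg z', hadd, sub_eq_add_neg]
      congr 1
      rw [← neg_one_smul F₀ z, hsmul]
      simp
    have hAL : A ∈ L := Submodule.subset_span (by simp)
    have hBL : B ∈ L := Submodule.subset_span (by simp)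
    have hab0 : a + b ≠ 0 := fun e => one_ne_zero
      (LinearIndependent.pair_iff.1 hli 1 1 (by rw [one_smul, one_smul]; exact e)).1
    obtain ⟨c₁, hc₁, y₁, hy₁⟩ := hline a hAL ha0 ha
    obtain ⟨c₂, hc₂, y₂, hy₂⟩ := hline b hBL (fun e => one_ne_zero
      (LinearIndependent.pair_iff.1 hli 0 1 (by rw [e]; simp)).2) hb
    obtain ⟨c₃, hc₃, y₃, hy₃⟩ := hline (a + b) (by rw [hadd]; exact L.add_mem hAL hBL) hab0 (by
      simp [S.unit₀.add_left, herm_add_right S.unit₀, ha, hb, hab, herm_eq_zero_comm S.unit₀ hab])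
    rw [hadd, Matrix.mulVec_add] at hy₃
    set hA' := (h : Matrix ι ι F) *ᵥ A with hhA
    set hB' := (h : Matrix ι ι F) *ᵥ B with hhB
    -- coordinates
    set m₁₁ := f (R y₁) (R p₁) with e11
    set m₁₂ := f (R y₁) (R p₂) with e12
    set m₂₁ := f (R y₂) (R p₁) with e21
    set m₂₂ := f (R y₂) (R p₂) with e22
    set m₃₁ := f (R y₃) (R p₁) with e31
    set m₃₂ := f (R y₃) (R p₂) with e32
    have hm : m₁₁ ∈ F₀ ∧ m₁₂ ∈ F₀ ∧ m₂₁ ∈ F₀ ∧ m₂₂ ∈ F₀ ∧ m₃₁ ∈ F₀ ∧ m₃₂ ∈ F₀ :=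
      ⟨S.rat _ _, S.rat _ _, S.rat _ _, S.rat _ _, S.rat _ _, S.rat _ _⟩
    have k1 : c₁ • hA' = m₁₁ • A + m₁₂ • B := by
      rw [e11, e12, ← hy₁]; exact hcoord _ (L.smul_mem _ (hhL _ hAL))
    have k2 : c₂ • hB' = m₂₁ • A + m₂₂ • B := by
      rw [e21, e22, ← hy₂]; exact hcoord _ (L.smul_mem _ (hhL _ hBL))
    have k3 : c₃ • (hA' + hB') = m₃₁ • A + m₃₂ • B := by
      rw [e31, e32, ← hy₃]; exact hcoord _ (L.smul_mem _ (L.add_mem (hhL _ hAL) (hhL _ hBL)))
    have hind : ∀ s t : F, s • A + t • B = 0 → s = 0 ∧ t = 0 := by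
      intro s t hst
      refine ⟨?_, ?_⟩
      · have h0 := congrArg (fun v => f v (R p₁)) hst
        simpa [hf.add_left, hf.smul_left, hA1, hB1, herm_zero_left hf] using h0
      · have h0 := congrArg (fun v => f v (R p₂)) hst
        simpa [hf.add_left, hf.smul_left, hA2, hB2, herm_zero_left hf] using h0
    set D := m₁₁ * m₂₂ - m₁₂ * m₂₁
    have hD : D ≠ 0 := by
      intro hD0
      have key : ∀ s t : F, (s * c₁) • hA' + (t * c₂) • hB' = 0 → s = 0 ∧ t = 0 := by
        intro s t hst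
        have h1 := congrArg (fun v => ((h⁻¹ : GL ι F) : Matrix ι ι F) *ᵥ v) hst
        simp only [hhA, hhB, ← Matrix.mulVec_smul, ← Matrix.mulVec_add, inv_mulVec_mulVec,
          Matrix.mulVec_zero] at h1
        obtain ⟨h2, h3⟩ := hind _ _ h1
        exact ⟨(mul_eq_zero.1 h2).resolve_right hc₁, (mul_eq_zero.1 h3).resolve_right hc₂⟩
      obtain ⟨h2, h3⟩ := key m₂₂ (-m₁₂) (by
        rw [mul_smul, mul_smul, k1, k2]
        linear_combination (norm := module) (congrArg (· • A) hD0))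
      obtain ⟨h4, h5⟩ := key m₂₁ (-m₁₁) (by
        rw [mul_smul, mul_smul, k1, k2]
        linear_combination (norm := module) -(congrArg (· • B) hD0))
      rw [neg_eq_zero] at h3 h5
      rw [h3, h5, zero_smul, zero_smul, add_zero, smul_eq_zero] at k1
      rcases k1 with k1 | k1
      · exact hc₁ k1
      · exact ha0 (ratEmb_injective F₀ P (by
          rw [ratEmb_zero]
          show A = 0
          rw [← inv_mulVec_mulVec h A]
          show _ *ᵥ hA' = 0
          rw [k1, Matrix.mulVec_zero]))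
    -- the common scalar
    have k4 : (m₃₁ / c₃ - m₁₁ / c₁ - m₂₁ / c₂) • A + (m₃₂ / c₃ - m₁₂ / c₁ - m₂₂ / c₂) • B = 0 := by
      have e1 := congrArg (c₁⁻¹ • ·) k1
      have e2 := congrArg (c₂⁻¹ • ·) k2
      have e3 := congrArg (c₃⁻¹ • ·) k3
      simp only [smul_smul, inv_mul_cancel₀ hc₁, inv_mul_cancel₀ hc₂, inv_mul_cancel₀ hc₃, one_smul,
        smul_add, ← mul_smul] at e1 e2 e3
      linear_combination (norm := module) e1 + e2 - e3
    obtain ⟨j1, j2⟩ := hind _ _ k4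
    set n₁ := (m₃₁ * m₂₂ - m₃₂ * m₂₁) / D with hn₁
    set n₂ := (m₁₁ * m₃₂ - m₁₂ * m₃₁) / D with hn₂
    obtain ⟨q11, q12, q21, q22, q31, q32⟩ := hm
    have hDF : D ∈ F₀ := F₀.sub_mem (F₀.mul_mem q11 q22) (F₀.mul_mem q12 q21)
    have hn₁F : n₁ ∈ F₀ := F₀.div_mem (F₀.sub_mem (F₀.mul_mem q31 q22) (F₀.mul_mem q32 q21)) hDF
    have hn₂F : n₂ ∈ F₀ := F₀.div_mem (F₀.sub_mem (F₀.mul_mem q11 q32) (F₀.mul_mem q12 q31)) hDF
    have i1 : c₁⁻¹ = n₁ / c₃ := by
      rw [hn₁, eq_div_iff hc₃, eq_div_iff hD]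
      linear_combination (norm := (field_simp; ring)) c₃ * (-(m₂₂ * j1) + m₂₁ * j2)
    have i2 : c₂⁻¹ = n₂ / c₃ := by
      rw [hn₂, eq_div_iff hc₃, eq_div_iff hD]
      linear_combination (norm := (field_simp; ring)) c₃ * (m₁₂ * j1 - m₁₁ * j2)
    set t₁₁ := n₁ * m₁₁
    set t₁₂ := n₁ * m₁₂
    set t₂₁ := n₂ * m₂₁
    set t₂₂ := n₂ * m₂₂
    have eA : hA' = c₃⁻¹ • (t₁₁ • A + t₁₂ • B) := by
      rw [← inv_smul_smul₀ hc₁ hA', k1, i1]
      module
    have eB : hB' = c₃⁻¹ • (t₂₁ • A + t₂₂ • B) := by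
      rw [← inv_smul_smul₀ hc₂ hB', k2, i2]
      module
    have hfix := hr₀fix h hh
    rw [hr₀, Matrix.mulVec_sub, Matrix.mulVec_smul, Matrix.mulVec_smul, ← hhA, ← hhB, eA, eB]
      at hfix
    obtain ⟨r1, r2⟩ := hind (c₃⁻¹ * (μ₂ * t₁₁ - μ₁ * t₂₁) - μ₂)
      (c₃⁻¹ * (μ₂ * t₁₂ - μ₁ * t₂₂) + μ₁) (by linear_combination (norm := module) hfix)
    have s1 : μ₂ * t₁₁ - μ₁ * t₂₁ - c₃ * μ₂ = 0 := by
      have h1 : c₃ * c₃⁻¹ = 1 := mul_inv_cancel₀ hc₃
      linear_combination c₃ * r1 - (μ₂ * t₁₁ - μ₁ * t₂₁) * h1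
    have s2 : μ₂ * t₁₂ - μ₁ * t₂₂ + c₃ * μ₁ = 0 := by
      have h1 : c₃ * c₃⁻¹ = 1 := mul_inv_cancel₀ hc₃
      linear_combination c₃ * r2 - (μ₂ * t₁₂ - μ₁ * t₂₂) * h1
    have t11F : t₁₁ ∈ F₀ := F₀.mul_mem hn₁F q11
    have t12F : t₁₂ ∈ F₀ := F₀.mul_mem hn₁F q12
    have t21F : t₂₁ ∈ F₀ := F₀.mul_mem hn₂F q21
    have t22F : t₂₂ ∈ F₀ := F₀.mul_mem hn₂F q22
    have hlam : c₃ ∈ F₀ := by
      by_contra hl
      have hquad : c₃ * c₃ = (t₁₁ + t₂₂) * c₃ + (t₁₂ * t₂₁ - t₁₁ * t₂₂) :=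
        mul_left_cancel₀ hμa (by linear_combination t₁₂ * s1 - (t₁₁ - c₃) * s2)
      let W : Set F := Set.range fun p : F₀ × F₀ => (p.1 : F) + p.2 * c₃
      have hW : ∀ z, z ∈ W := eq_univ_of_prime_degree F₀ hr hcard
        (fun x hx => ⟨(⟨x, hx⟩, 0), by simp⟩)
        (by rintro _ ⟨p, rfl⟩ _ ⟨q, rfl⟩; exact ⟨p + q, by simp [add_mul]; ring⟩)
        (by
          rintro _ ⟨p, rfl⟩ _ ⟨q, rfl⟩
          refine ⟨(⟨(p.1 : F) * q.1 + p.2 * q.2 * (t₁₂ * t₂₁ - t₁₁ * t₂₂), ?_⟩,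
            ⟨(p.1 : F) * q.2 + p.2 * q.1 + p.2 * q.2 * (t₁₁ + t₂₂), ?_⟩), ?_⟩
          · exact F₀.add_mem (F₀.mul_mem p.1.2 q.1.2) (F₀.mul_mem (F₀.mul_mem p.2.2 q.2.2)
              (F₀.sub_mem (F₀.mul_mem t12F t21F) (F₀.mul_mem t11F t22F)))
          · exact F₀.add_mem (F₀.add_mem (F₀.mul_mem p.1.2 q.2.2) (F₀.mul_mem p.2.2 q.1.2))
              (F₀.mul_mem (F₀.mul_mem p.2.2 q.2.2) (F₀.add_mem t11F t22F))
          · show (p.1 : F) * q.1 + p.2 * q.2 * (t₁₂ * t₂₁ - t₁₁ * t₂₂) +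
              ((p.1 : F) * q.2 + p.2 * q.1 + p.2 * q.2 * (t₁₁ + t₂₂)) * c₃ = _
            linear_combination -((p.2 : F) * q.2) * hquad)
        (x := c₃) ⟨(0, 1), by simp⟩ hl
      have h1 := Nat.card_le_card_of_surjective (fun p : F₀ × F₀ => (p.1 : F) + p.2 * c₃) hW
      rw [Nat.card_prod, Nat.card_eq_fintype_card (α := F), hcard, ← pow_two] at h1
      have h2 : 1 < Nat.card F₀ := Finite.one_lt_card
      have h3 : 3 ≤ r := by
        have := hr.two_le
        rcases hro with ⟨k, hk⟩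
        omega
      exact absurd h1 (not_le.2 (Nat.pow_lt_pow_right h2 (by omega)))
    have u12 : t₁₂ = 0 := by
      by_contra hne
      refine hκ ?_
      rw [show μ₂ / μ₁ = (t₂₂ - c₃) / t₁₂ by
        rw [div_eq_div_iff hμa hne]; linear_combination s2]
      exact F₀.div_mem (F₀.sub_mem t22F hlam) t12F
    have u22 : t₂₂ = c₃ := by
      rw [u12, mul_zero, zero_sub] at s2
      have : μ₁ * (c₃ - t₂₂) = 0 := by linear_combination s2
      exact (sub_eq_zero.1 ((mul_eq_zero.1 this).resolve_left hμa)).symm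
    have u11 : t₁₁ = c₃ := by
      by_contra hne
      refine hκ ?_
      rw [show μ₂ / μ₁ = t₂₁ / (t₁₁ - c₃) by
        rw [div_eq_div_iff hμa (sub_ne_zero.2 hne)]; linear_combination s1]
      exact F₀.div_mem t21F (F₀.sub_mem t11F hlam)
    have u21 : t₂₁ = 0 := by
      have : μ₁ * t₂₁ = 0 := by rw [u11] at s1; linear_combination -s1
      exact (mul_eq_zero.1 this).resolve_left hμa
    rw [u11, u12, zero_smul, add_zero, inv_smul_smul₀ hc₃] at eA
    rw [u21, u22, zero_smul, zero_add, inv_smul_smul₀ hc₃] at eB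
    refine ⟨hhK, fun x hxA hxB => ?_⟩
    have hAw : f A w ≠ 0 := hμa
    have hx : x - (f x w / f A w) • A = x - (f x w / f A w) • A := rfl
    have h1 := hGN hh (x - (f x w / f A w) • A)
      (by simp [herm_sub_left hf, hf.smul_left, hxA, hAA])
      (by simp [herm_sub_left hf, hf.smul_left, hxB, hAB])
      (by rw [herm_sub_left hf, hf.smul_left, div_mul_cancel₀ _ hAw, sub_self])
    rw [Matrix.mulVec_sub, Matrix.mulVec_smul, ← hhA, eA] at h1
    exact sub_left_injective h1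
  -- the Frobenius group
  let H : Subgroup G := Hs.subgroupOf G
  have hHG : Hs ≤ G := le_sup_left
  haveI : IsMulCommutative H := by
    refine ⟨⟨fun X Y => Subtype.ext (Subtype.ext (gl_ext fun z => ?_))⟩⟩
    have hX : ((X : G) : GL ι F) ∈ Hs := X.2
    have hY : ((Y : G) : GL ι F) ∈ Hs := Y.2
    have key : ∀ {X' : GL ι F}, X' ∈ Hs → ∀ v ∈ L, (X' : Matrix ι ι F) *ᵥ v = v := by
      intro X' hX' v hv
      refine hX'.2 v ?_ ?_
      · rw [hcoord v hv, hf.add_left, hf.smul_left, hf.smul_left, hAA, hBA, mul_zero, mul_zero, add_zero]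
      · rw [hcoord v hv, hf.add_left, hf.smul_left, hf.smul_left, hAB, hBB, mul_zero, mul_zero, add_zero]
    show ((((X : G) : GL ι F) * ((Y : G) : GL ι F) : GL ι F) : Matrix ι ι F) *ᵥ z =
      ((((Y : G) : GL ι F) * ((X : G) : GL ι F) : GL ι F) : Matrix ι ι F) *ᵥ z
    rw [Units.val_mul, Units.val_mul, ← Matrix.mulVec_mulVec, ← Matrix.mulVec_mulVec]
    have eY := key hX _ (hFxL _ hY.1 hY.2 z)
    have eX := key hY _ (hFxL _ hX.1 hX.2 z)
    rw [Matrix.mulVec_sub] at eX eY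
    linear_combination (norm := module) eY - eX
  have hmemH : ∀ y (hy : f (R y) (R y) = 0), f (R y) A = 0 → f (R y) B = 0 → R y ∈ L →
      utrv hf hy (e₀ : F) ∈ Hs := fun y hy _ _ hyL => ⟨hutK y hy, fun x h1 h2 => by
        rw [utrv_mulVec, hLperp _ hyL x h1 h2, mul_zero, zero_smul, add_zero]⟩
  have hX₁ := hmemH a hAA hAA hAB (Submodule.subset_span (Or.inl rfl))
  have hX₂ := hmemH b hBB hBA hBB (Submodule.subset_span (Or.inr rfl))
  have hHfrob : Cfsg.IsFrobeniusComplement H := by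
    refine ⟨fun e => ?_, fun e => ?_, fun x hx => (Subgroup.eq_bot_iff_forall _).2 ?_⟩
    · have h1 : (⟨_, hHG hX₁⟩ : G) ∈ H := hX₁
      rw [e, Subgroup.mem_bot] at h1
      have h2 : (utrv hf hAA (e₀ : F) : Matrix ι ι F) *ᵥ R p₁ = R p₁ := by
        rw [show utrv hf hAA (e₀ : F) = 1 from congrArg Subtype.val h1, Units.val_one, Matrix.one_mulVec]
      rw [utrv_mulVec, h11, mul_one, add_eq_left, smul_eq_zero] at h2
      rcases h2 with h2 | h2
      · exact he₀F h2
      · exact hμa (by rw [hμ₁, h2, herm_zero_left hf])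
    · have h1 : (⟨T, (le_sup_right : Subgroup.zpowers T ≤ G) (Subgroup.mem_zpowers T)⟩ : G) ∈ H :=
        e ▸ Subgroup.mem_top _
      have h2 : (T : Matrix ι ι F) *ᵥ A = A := (h1 : T ∈ Hs).2 A hAA hAB
      rw [utrv_mulVec, add_eq_left, smul_eq_zero] at h2
      rcases h2 with h2 | h2
      · exact mul_ne_zero he₀F hμa h2
      · exact hμa (by rw [hμ₁, h2, herm_zero_right hf])
    · rintro z ⟨hz, hzx⟩
      replace hzx : x⁻¹ * z * x ∈ H := Basics.mem_conj_smul.1 hzx
      by_contra hz1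
      set X : GL ι F := (z : GL ι F) with hXdef
      set g' : GL ι F := (x : GL ι F) with hgdef
      have hX : X ∈ Hs := hz
      set Z' := g'⁻¹ * X * g' with hZ'def
      have hZ : Z' ∈ Hs := hzx
      obtain ⟨y, hy⟩ : ∃ y, (X : Matrix ι ι F) *ᵥ R y ≠ R y := by
        by_contra hc
        push Not at hc
        refine hz1 (Subtype.ext (gl_ext fun v => ?_))
        have hv : v = ∑ j, (((P⁻¹ : GL ι F) : Matrix ι ι F) *ᵥ v) j • R (Pi.single j 1) := by
          conv_lhs => rw [← mulVec_inv_mulVec P v, pi_eq_sum_univ' (((P⁻¹ : GL ι F) : Matrix ι ι F) *ᵥ v),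
            Matrix.mulVec_sum]
          refine Finset.sum_congr rfl fun j _ => ?_
          rw [Matrix.mulVec_smul, hR, ratEmb_single]
        show (X : Matrix ι ι F) *ᵥ v = ((1 : GL ι F) : Matrix ι ι F) *ᵥ v
        rw [Units.val_one, Matrix.one_mulVec, hv, Matrix.mulVec_sum]
        exact Finset.sum_congr rfl fun j _ => by rw [Matrix.mulVec_smul, hc]
      obtain ⟨y', hy'⟩ := hfail' X hX.1 hX.2 y
      set v := (X : Matrix ι ι F) *ᵥ R y - R y with hvdef
      have hvL : v ∈ L := hFxL X hX.1 hX.2 _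
      have hvim : v ∈ L.map (Matrix.toLin' (g' : Matrix ι ι F)) := by
        refine ⟨_, hFxL Z' hZ.1 hZ.2 (((g'⁻¹ : GL ι F) : Matrix ι ι F) *ᵥ R y), ?_⟩
        simp only [hZ'def, Matrix.toLin'_apply, Units.val_mul, ← Matrix.mulVec_mulVec,
          Matrix.mulVec_sub, mulVec_inv_mulVec]
        rfl
      have hr₀im : r₀ ∈ L.map (Matrix.toLin' (g' : Matrix ι ι F)) :=
        ⟨r₀, L.sub_mem (L.smul_mem _ (Submodule.subset_span (by simp)))
          (L.smul_mem _ (Submodule.subset_span (by simp))), hr₀fix g' x.2⟩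
      set α := f v (R p₁) with hα
      set β := f v (R p₂) with hβ
      have hαF : α ∈ F₀ := by
        rw [hα, hvdef, hy', herm_sub_left hf]
        exact F₀.sub_mem (S.rat _ _) (S.rat _ _)
      have hβF : β ∈ F₀ := by
        rw [hβ, hvdef, hy', herm_sub_left hf]
        exact F₀.sub_mem (S.rat _ _) (S.rat _ _)
      have hveq : v = α • A + β • B := hcoord v hvL
      have hdet : α * μ₁ + β * μ₂ ≠ 0 := by
        intro h0
        by_cases hβ0 : β = 0
        · rw [hβ0, zero_mul, add_zero, mul_eq_zero] at h0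
          have hα0 := h0.resolve_right hμa
          refine hy (sub_eq_zero.1 ?_)
          rw [← hvdef, hveq, hα0, hβ0, zero_smul, zero_smul, add_zero]
        · refine hκ ?_
          rw [show μ₂ / μ₁ = -α / β by rw [div_eq_div_iff hμa hβ0]; linear_combination h0]
          exact F₀.div_mem (F₀.neg_mem hαF) hβF
      have hLim : L ≤ L.map (Matrix.toLin' (g' : Matrix ι ι F)) := by
        rw [Submodule.span_le]
        have eA : A = (μ₁ / (α * μ₁ + β * μ₂)) • v + (β / (α * μ₁ + β * μ₂)) • r₀ := by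
          have key : μ₁ • v + β • r₀ = (α * μ₁ + β * μ₂) • A := by rw [hveq, hr₀]; module
          rw [div_eq_inv_mul, div_eq_inv_mul, mul_smul, mul_smul, ← smul_add, key, inv_smul_smul₀ hdet]
        have eB : B = (μ₂ / (α * μ₁ + β * μ₂)) • v + (-α / (α * μ₁ + β * μ₂)) • r₀ := by
          have key : μ₂ • v + (-α) • r₀ = (α * μ₁ + β * μ₂) • B := by rw [hveq, hr₀]; module
          rw [div_eq_inv_mul, div_eq_inv_mul, mul_smul, mul_smul, ← smul_add, key, inv_smul_smul₀ hdet]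
        rintro _ (rfl | rfl)
        · rw [SetLike.mem_coe, eA]
          exact Submodule.add_mem _ (Submodule.smul_mem _ _ hvim) (Submodule.smul_mem _ _ hr₀im)
        · rw [SetLike.mem_coe, eB]
          exact Submodule.add_mem _ (Submodule.smul_mem _ _ hvim) (Submodule.smul_mem _ _ hr₀im)
      refine hx (Subgroup.mem_subgroupOf.2 ?_)
      rw [← inv_inv (x : GL ι F)]
      refine Hs.inv_mem (hstabL g'⁻¹ (G.inv_mem x.2) fun v' hv' => ?_)
      obtain ⟨u, hu, rfl⟩ := hLim hv'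
      rw [Matrix.toLin'_apply, inv_mulVec_mulVec]
      exact hu
  -- the complement is not cyclic
  haveI := isCyclic_of_malnormal H hHfrob
  set p := ringChar F
  haveI : Fact p.Prime := ⟨CharP.char_is_prime F p⟩
  have hpow : ∀ (u : ι → F) (hu : f u u = 0) (k : ℕ),
      utrv hf hu (e₀ : F) ^ k = utrv hf hu ((k : F) * e₀) := by
    intro u hu k
    induction k with
    | zero => exact gl_ext fun x => by simp [utrv_mulVec]
    | succ k ih =>
      refine gl_ext fun x => ?_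
      rw [pow_succ, ih, Units.val_mul, ← Matrix.mulVec_mulVec, utrv_mulVec, utrv_mulVec, utrv_mulVec,
        hf.add_left, hf.smul_left, hu]
      push_cast
      module
  let Z₁ : H := ⟨⟨_, hHG hX₁⟩, hX₁⟩
  let Z₂ : H := ⟨⟨_, hHG hX₂⟩, hX₂⟩
  have hZp : Z₁ ^ p = 1 ∧ Z₂ ^ p = 1 := by
    constructor
    · refine Subtype.ext (Subtype.ext ?_)
      show utrv hf hAA (e₀ : F) ^ p = 1
      rw [hpow, CharP.cast_eq_zero, zero_mul]
      exact gl_ext fun x => by simp [utrv_mulVec]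
    · refine Subtype.ext (Subtype.ext ?_)
      show utrv hf hBB (e₀ : F) ^ p = 1
      rw [hpow, CharP.cast_eq_zero, zero_mul]
      exact gl_ext fun x => by simp [utrv_mulVec]
  have hne1 : Z₁ ≠ 1 := by
    intro e
    have h1 := congrArg (fun X : H => (((X : G) : GL ι F) : Matrix ι ι F) *ᵥ R p₁) e
    simp only [Z₁, OneMemClass.coe_one, Units.val_one, Matrix.one_mulVec, utrv_mulVec,
      show f (R p₁) (R a) = 1 from h11, mul_one, add_eq_left, smul_eq_zero] at h1
    rcases h1 with h1 | h1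
    · exact he₀F h1
    · exact hμa (by show f (R a) w = 0; rw [h1, herm_zero_left hf])
  obtain ⟨k, hk⟩ : ∃ k : ℕ, Z₂ = Z₁ ^ k := by
    have h1 : orderOf Z₁ = p := orderOf_eq_prime hZp.1 hne1
    have h2 : Subgroup.zpowers Z₂ ≤ Subgroup.zpowers Z₁ := by
      rcases eq_or_ne Z₂ 1 with e | e
      · rw [e, Subgroup.zpowers_one_eq_bot]; exact bot_le
      · have h3 : orderOf Z₂ = p := orderOf_eq_prime hZp.2 e
        refine le_of_eq (Basics.cyclic_subgroup_eq_of_card_eq ?_)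
        rw [Nat.card_zpowers, Nat.card_zpowers, h1, h3]
    obtain ⟨k, hk⟩ := (isOfFinOrder_of_finite Z₁).mem_powers_iff_mem_zpowers.2
      (h2 (Subgroup.mem_zpowers Z₂))
    exact ⟨k, hk.symm⟩
  have h1 := congrArg (fun X : H => (((X : G) : GL ι F) : Matrix ι ι F) *ᵥ R p₂) hk
  simp only [Z₁, Z₂, SubmonoidClass.coe_pow, hpow, utrv_mulVec, show f (R p₂) (R b) = 1 from h22,
    show f (R p₂) (R a) = 0 from h21, mul_one, mul_zero,
    zero_smul, add_zero, add_eq_left, smul_eq_zero] at h1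
  rcases h1 with h1 | h1
  · exact he₀F h1
  · exact absurd hB2 (by show f (R b) (R p₂) ≠ 1; rw [h1, herm_zero_left hf]; exact zero_ne_one)

end HRat

end Cfsg.Agent.TransvMax
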