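import Cfsg.Agent.Lib.TransvMax.UnitarySubfield

/-!
From an irrational element fixing the orthogonal of a rational plane to all unitary transvections.
-/

set_option autoImplicit false

namespace Cfsg.Agent.TransvMax

open scoped Matrix MatrixGroups
open Cfsg.Agent

variable {ι : Type} [Fintype ι] [DecidableEq ι] {F : Type*} [Field F]
  {σ : F ≃+* F} {f : (ι → F) → (ι → F) → F} {F₀ : Subfield F} {P : GL ι F}

/-- The value of a commutator through an auxiliary map. -/
theorem comm_mulVec {k X : GL ι F} {G : (ι → F) → (ι → F)}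
    (h : ∀ z, G ((X : Matrix ι ι F) *ᵥ ((k : Matrix ι ι F) *ᵥ z)) =
      (k : Matrix ι ι F) *ᵥ ((X : Matrix ι ι F) *ᵥ z)) (z : ι → F) :
    ((k * X * k⁻¹ * X⁻¹ : GL ι F) : Matrix ι ι F) *ᵥ z = G z := by
  rw [Units.val_mul, Units.val_mul, Units.val_mul, ← Matrix.mulVec_mulVec, ← Matrix.mulVec_mulVec,
    ← Matrix.mulVec_mulVec, ← h, mulVec_inv_mulVec, mulVec_inv_mulVec]

namespace HRat

variable (S : HRat σ f F₀ P)

include S

/-- Membership of the short root element at a pair with a given coefficient. -/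
def Short (K : Subgroup (GL ι F)) (s : F) (a b : ι → F₀) : Prop :=
  ∀ (ha : f (ratEmb F₀ P a) (ratEmb F₀ P a) = 0)
    (hz : f (s • ratEmb F₀ P b) (ratEmb F₀ P a) = 0), hSiegel S.unit ha hz 0 ∈ K

/-- Orthogonal isotropic pairs. -/
def Orth (a b : ι → F₀) : Prop :=
  S.form₀ a a = 0 ∧ S.form₀ b b = 0 ∧ S.form₀ a b = 0

theorem Orth.symm {a b : ι → F₀} (h : S.Orth a b) : S.Orth b a :=
  ⟨h.2.1, h.1, herm_eq_zero_comm S.unit₀ h.2.2⟩

theorem sh_mulVec {a b : ι → F₀} (s : F) (ha : f (ratEmb F₀ P a) (ratEmb F₀ P a) = 0)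
    (hz : f (s • ratEmb F₀ P b) (ratEmb F₀ P a) = 0) (x : ι → F) :
    (hSiegel S.unit ha hz 0 : Matrix ι ι F) *ᵥ x = x + (s * f x (ratEmb F₀ P a)) • ratEmb F₀ P b -
      (σ s * f x (ratEmb F₀ P b)) • ratEmb F₀ P a := by
  rw [hSiegel_mulVec, herm_smul_right S.unit]
  module

variable [Finite F]

/-- Rational short elements. -/
theorem short_rat {K : Subgroup (GL ι F)}
    (hstab : ∀ h ∈ Cfsg.Geo.specialLinear ι F,
      (∀ x y, f ((h : Matrix ι ι F) *ᵥ x) ((h : Matrix ι ι F) *ᵥ y) = f x y) →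
      (∀ y, ∃ y', (h : Matrix ι ι F) *ᵥ ratEmb F₀ P y = ratEmb F₀ P y') → h ∈ K)
    {a b : ι → F₀} (hab : S.Orth a b) {s : F} (hs : s ∈ F₀) : S.Short K s a b := by
  intro ha hz
  refine hstab _ (hSiegel_mem_SL _ _ _ _) (hSiegel_isometry _ _ _ ?_) fun y =>
    ⟨y + ((⟨s, hs⟩ : F₀) * S.form₀ y a) • b - ((⟨σ s, S.stable s hs⟩ : F₀) * S.form₀ y b) • a, ?_⟩
  · rw [map_zero, add_zero, S.unit.smul_left, herm_smul_right S.unit, S.perp hab.2.1, mul_zero,
      mul_zero, neg_zero]
  · rw [S.sh_mulVec, sub_eq_add_neg _ (_ • a), ratEmb_add, ratEmb_add, ← neg_smul, ratEmb_smul,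
      ratEmb_smul]
    push_cast [S.coe_form₀]
    module

theorem short_swap {K : Subgroup (GL ι F)} {a b : ι → F₀} (hab : S.Orth a b) {s : F}
    (h : S.Short K s a b) : S.Short K (-σ s) b a := by
  intro hb hz
  have hz' : f (s • ratEmb F₀ P b) (ratEmb F₀ P a) = 0 := by
    rw [S.unit.smul_left, S.perp' hab.2.2, mul_zero]
  convert h (S.perp hab.1) hz' using 1
  refine gl_ext fun x => ?_
  rw [S.sh_mulVec, S.sh_mulVec, map_neg, S.unit.involutive]
  module

/-- The commutator of two short elements. -/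
theorem short_comm {K : Subgroup (GL ι F)} {a b d q : ι → F₀} (hab : S.Orth a b) (hqd : S.Orth q d)
    (had : S.form₀ a d = 0) (hbd : S.form₀ b d = 0) (haq : S.form₀ a q = 0)
    (hbq : S.form₀ b q = 1) {x y : F} (hx : S.Short K x a b) (hy : S.Short K y q d) :
    S.Short K (x * y) a d := by
  intro ha hz
  have hf := S.unit
  set A := ratEmb F₀ P a
  set B := ratEmb F₀ P b
  set D := ratEmb F₀ P d
  set Q := ratEmb F₀ P q
  have hz1 : f (x • B) A = 0 := by rw [hf.smul_left, S.perp' hab.2.2, mul_zero]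
  have hz2 : f (y • D) Q = 0 := by rw [hf.smul_left, S.perp' hqd.2.2, mul_zero]
  set X := hSiegel hf ha hz1 0
  set k := hSiegel hf (S.perp hqd.1) hz2 0
  have hXK : X ∈ K := hx ha hz1
  have hkK : k ∈ K := hy (S.perp hqd.1) hz2
  have h1 := K.mul_mem (K.mul_mem (K.mul_mem hkK hXK) (K.inv_mem hkK)) (K.inv_mem hXK)
  convert h1 using 1
  refine gl_ext fun z => ?_
  rw [comm_mulVec (G := fun z => (hSiegel hf ha hz 0 : Matrix ι ι F) *ᵥ z)]
  intro z
  have aa : f A A = 0 := ha
  have bb : f B B = 0 := S.perp hab.2.1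
  have ab : f A B = 0 := S.perp hab.2.2
  have ba : f B A = 0 := S.perp' hab.2.2
  have ad : f A D = 0 := S.perp had
  have da : f D A = 0 := S.perp' had
  have bd : f B D = 0 := S.perp hbd
  have db : f D B = 0 := S.perp' hbd
  have aq : f A Q = 0 := S.perp haq
  have qa : f Q A = 0 := S.perp' haq
  have dd : f D D = 0 := S.perp hqd.2.1
  have qd : f Q D = 0 := S.perp hqd.2.2
  have bq : f B Q = 1 := S.coe_eq hbq
  have qb : f Q B = 1 := by rw [hf.herm, bq, map_one]
  simp only [X, k, A, B, D, Q, S.sh_mulVec] at *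
  simp only [hf.add_left, herm_sub_left hf, hf.smul_left, aa, bb, ab, ba, ad, da, bd, db, aq, qa, dd, qd,
    bq, qb, map_mul, mul_zero, add_zero, sub_zero, zero_sub, mul_one]
  module

/-- Replacing the second member of a pair. -/
theorem short_move {K : Subgroup (GL ι F)}
    (hstab : ∀ h ∈ Cfsg.Geo.specialLinear ι F,
      (∀ x y, f ((h : Matrix ι ι F) *ᵥ x) ((h : Matrix ι ι F) *ᵥ y) = f x y) →
      (∀ y, ∃ y', (h : Matrix ι ι F) *ᵥ ratEmb F₀ P y = ratEmb F₀ P y') → h ∈ K)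
    {a b d : ι → F₀} (hab : S.Orth a b) (hli : LinearIndependent F₀ ![d, b, a])
    (hd : S.form₀ d d = 0) (had : S.form₀ a d = 0) (hbd : S.form₀ b d = 0) {x : F}
    (hx : S.Short K x a b) : S.Short K x a d := by
  obtain ⟨q, hq, hq'⟩ := exists_iso_values S.unit₀ hli (by have := S.dim; omega) ![0, 1, 0]
  have hqd : S.form₀ q d = 0 := hq' 0
  have hqb : S.form₀ q b = 1 := hq' 1
  have hqa : S.form₀ q a = 0 := hq' 2
  have hbq : S.form₀ b q = 1 := by rw [S.unit₀.herm, hqb, map_one]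
  have h := S.short_comm hab ⟨hq, hd, hqd⟩ had hbd (herm_eq_zero_comm S.unit₀ hqa) hbq hx
    (S.short_rat hstab ⟨hq, hd, hqd⟩ F₀.one_mem)
  rwa [mul_one] at h

/-- Short elements with a given coefficient exist at all pairs or at none. -/
theorem short_all {K : Subgroup (GL ι F)}
    (hstab : ∀ h ∈ Cfsg.Geo.specialLinear ι F,
      (∀ x y, f ((h : Matrix ι ι F) *ᵥ x) ((h : Matrix ι ι F) *ᵥ y) = f x y) →
      (∀ y, ∃ y', (h : Matrix ι ι F) *ᵥ ratEmb F₀ P y = ratEmb F₀ P y') → h ∈ K)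
    {a b : ι → F₀} (hab : S.Orth a b) (hli : LinearIndependent F₀ ![b, a])
    {c d : ι → F₀} (hcd : S.Orth c d) (hlcd : LinearIndependent F₀ ![d, c]) {x : F}
    (hx : S.Short K x a b) : S.Short K x c d := by
  have hf := S.unit₀
  obtain ⟨e, he, he', hen⟩ := S.exists_iso_out ![a, b, c, d] (by have := S.dim; omega)
  obtain ⟨e₂, he₂, he₂', he₂n⟩ := S.exists_iso_out ![a, b, c, d, e] (by have := S.dim; omega)
  have ae : S.form₀ a e = 0 := herm_eq_zero_comm hf (he' 0)
  have be : S.form₀ b e = 0 := herm_eq_zero_comm hf (he' 1)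
  have ce : S.form₀ c e = 0 := herm_eq_zero_comm hf (he' 2)
  have de : S.form₀ d e = 0 := herm_eq_zero_comm hf (he' 3)
  have ae₂ : S.form₀ a e₂ = 0 := herm_eq_zero_comm hf (he₂' 0)
  have ee₂ : S.form₀ e e₂ = 0 := herm_eq_zero_comm hf (he₂' 4)
  have e₂c : S.form₀ e₂ c = 0 := he₂' 2
  have nab : e ∉ Submodule.span F₀ (Set.range ![b, a]) := fun h => hen (Submodule.span_mono (by
    rintro _ ⟨i, rfl⟩
    fin_cases i
    · exact ⟨1, rfl⟩
    · exact ⟨0, rfl⟩) h)
  have ha0 : a ≠ 0 := hli.ne_zero 1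
  have hc0 : c ≠ 0 := hlcd.ne_zero 1
  have hea : e ∉ Submodule.span F₀ {a} := fun h => hen (Submodule.span_mono (by
    rintro _ rfl; exact ⟨0, rfl⟩) h)
  have hec : e ∉ Submodule.span F₀ {c} := fun h => hen (Submodule.span_mono (by
    rintro _ rfl; exact ⟨2, rfl⟩) h)
  -- `(a, b)` to `(a, e)` to `(e, a)` to `(e, e₂)` to `(e, c)` to `(c, e)` to `(c, d)`
  have h1 := S.short_move hstab hab (linearIndependent_finCons.2 ⟨hli, nab⟩) he ae be hx
  have hae : S.Orth a e := ⟨hab.1, he, ae⟩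
  have h2 := S.short_swap hae h1
  have h3 := S.short_move hstab (hae.symm S) (linearIndependent_finCons.2
    ⟨linearIndependent_finCons.2 ⟨by simp [show e ≠ 0 from fun h => hea (h ▸ Submodule.zero_mem _)],
      fun h => by
        obtain ⟨t, ht⟩ := Submodule.mem_span_singleton.1 (by simpa using h :
          a ∈ Submodule.span F₀ {e})
        rcases eq_or_ne t 0 with rfl | ht0
        · exact ha0 (by rw [← ht, zero_smul])
        · exact hea (Submodule.mem_span_singleton.2 ⟨t⁻¹, by rw [← ht, inv_smul_smul₀ ht0]⟩)⟩,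
      fun h => he₂n (Submodule.span_mono (by
        rintro _ ⟨i, rfl⟩
        fin_cases i
        · exact ⟨0, rfl⟩
        · exact ⟨4, rfl⟩) h)⟩) he₂ ee₂ ae₂ h2
  have hcne : c ∉ Submodule.span F₀ (Set.range ![e₂, e]) := by
    intro h
    obtain ⟨u, v, huv⟩ := Submodule.mem_span_pair.1 (show c ∈ Submodule.span F₀ {e₂, e} by
      simpa [Set.range_comp, Set.pair_comm] using h)
    rcases eq_or_ne u 0 with rfl | hu
    · rw [zero_smul, zero_add] at huv
      rcases eq_or_ne v 0 with rfl | hv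
      · exact hc0 (by rw [← huv, zero_smul])
      · exact hec (Submodule.mem_span_singleton.2 ⟨v⁻¹, by rw [← huv, inv_smul_smul₀ hv]⟩)
    · refine he₂n ?_
      have e1 : e₂ = u⁻¹ • (c - v • e) := by rw [← huv, add_sub_cancel_right, inv_smul_smul₀ hu]
      rw [e1]
      exact Submodule.smul_mem _ _ (Submodule.sub_mem _ (Submodule.subset_span ⟨2, rfl⟩)
        (Submodule.smul_mem _ _ (Submodule.subset_span ⟨4, rfl⟩)))
  have hlee₂ : LinearIndependent F₀ ![e₂, e] := linearIndependent_finCons.2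
    ⟨by simp [show e ≠ 0 from fun h => hea (h ▸ Submodule.zero_mem _)], fun h => he₂n
      (Submodule.span_mono (by rintro _ ⟨i, rfl⟩; fin_cases i; exact ⟨4, rfl⟩) h)⟩
  have h4 := S.short_move hstab ⟨he, he₂, ee₂⟩ (linearIndependent_finCons.2 ⟨hlee₂, hcne⟩)
    hcd.1 (herm_eq_zero_comm hf ce) e₂c h3
  have h5 := S.short_swap ⟨he, hcd.1, herm_eq_zero_comm hf ce⟩ h4
  have hdn : d ∉ Submodule.span F₀ (Set.range ![e, c]) := by
    intro h
    obtain ⟨u, v, huv⟩ := Submodule.mem_span_pair.1 (show d ∈ Submodule.span F₀ {e, c} by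
      simpa [Set.range_comp, Set.pair_comm] using h)
    rcases eq_or_ne u 0 with rfl | hu
    · rw [zero_smul, zero_add] at huv
      exact (linearIndependent_finCons.1 hlcd).2 (by
        rw [← huv]; exact Submodule.smul_mem _ _ (Submodule.subset_span ⟨0, rfl⟩))
    · refine hen ?_
      have e1 : e = u⁻¹ • (d - v • c) := by rw [← huv, add_sub_cancel_right, inv_smul_smul₀ hu]
      rw [e1]
      exact Submodule.smul_mem _ _ (Submodule.sub_mem _ (Submodule.subset_span ⟨3, rfl⟩)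
        (Submodule.smul_mem _ _ (Submodule.subset_span ⟨2, rfl⟩)))
  have hlec : LinearIndependent F₀ ![e, c] := linearIndependent_finCons.2
    ⟨by simp [hc0], by simpa using hec⟩
  have h6 := S.short_move hstab ⟨hcd.1, he, ce⟩ (linearIndependent_finCons.2 ⟨hlec, hdn⟩)
    hcd.2.1 hcd.2.2 (herm_eq_zero_comm hf de) h5
  simpa [map_neg, S.unit.involutive] using h6

/-- A short element with irrational coefficient from an irrational map fixing a plane orthogonal. -/
theorem exists_short_irrational {K : Subgroup (GL ι F)}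
    (hK : ∀ g ∈ K, ∀ x y, f ((g : Matrix ι ι F) *ᵥ x) ((g : Matrix ι ι F) *ᵥ y) = f x y)
    (hstab : ∀ h ∈ Cfsg.Geo.specialLinear ι F,
      (∀ x y, f ((h : Matrix ι ι F) *ᵥ x) ((h : Matrix ι ι F) *ᵥ y) = f x y) →
      (∀ y, ∃ y', (h : Matrix ι ι F) *ᵥ ratEmb F₀ P y = ratEmb F₀ P y') → h ∈ K)
    {a b : ι → F₀} (ha : S.form₀ a a = 0) (hb : S.form₀ b b = 0) (hab : S.form₀ a b = 0)
    (hli : LinearIndependent F₀ ![a, b]) {X : GL ι F} (hXK : X ∈ K)
    (hXfix : ∀ x, f x (ratEmb F₀ P a) = 0 → f x (ratEmb F₀ P b) = 0 →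
      (X : Matrix ι ι F) *ᵥ x = x)
    (hXirr : ¬ ∀ y, ∃ y', (X : Matrix ι ι F) *ᵥ ratEmb F₀ P y = ratEmb F₀ P y') :
    ∃ (s : F) (c d : ι → F₀), s ∉ F₀ ∧ S.Orth c d ∧ LinearIndependent F₀ ![d, c] ∧
      S.Short K s c d := by
  have hf := S.unit
  set R := ratEmb F₀ P with hR
  set A := R a
  set B := R b
  obtain ⟨p₁, hp₁⟩ := exists_herm_values S.unit₀ hli ![1, 0]
  obtain ⟨p₂, hp₂⟩ := exists_herm_values S.unit₀ hli ![0, 1]
  have h11 : f (R p₁) A = 1 := S.coe_eq (hp₁ 0)
  have h12 : f (R p₁) B = 0 := S.coe_eq (hp₁ 1)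
  have h21 : f (R p₂) A = 0 := S.coe_eq (hp₂ 0)
  have h22 : f (R p₂) B = 1 := S.coe_eq (hp₂ 1)
  have hA1 : f A (R p₁) = 1 := by rw [hf.herm, h11, map_one]
  have hA2 : f A (R p₂) = 0 := herm_eq_zero_comm hf h21
  have hB1 : f B (R p₁) = 0 := herm_eq_zero_comm hf h12
  have hB2 : f B (R p₂) = 1 := by rw [hf.herm, h22, map_one]
  have hAA : f A A = 0 := S.perp ha
  have hBB : f B B = 0 := S.perp hb
  have hAB : f A B = 0 := S.perp hab
  have hBA : f B A = 0 := S.perp' hab
  have hL : ∀ z, ∃ s t : F, (X : Matrix ι ι F) *ᵥ z - z = s • A + t • B := fun z =>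
    ⟨_, _, S.mem_span_of_perp h11 h12 h21 h22 fun z' hzA hzB => by
      rw [herm_sub_left hf, sub_eq_zero]
      conv_lhs => rw [← hXfix z' hzA hzB, hK X hXK]⟩
  obtain ⟨α, β, hD₁⟩ := hL (R p₁)
  obtain ⟨γ, δ, hD₂⟩ := hL (R p₂)
  have hX : ∀ z, (X : Matrix ι ι F) *ᵥ z =
      z + f z A • (α • A + β • B) + f z B • (γ • A + δ • B) := by
    intro z
    have h1 := hXfix (z - f z A • R p₁ - f z B • R p₂)
      (by simp [herm_sub_left hf, hf.smul_left, h11, h21])
      (by simp [herm_sub_left hf, hf.smul_left, h12, h22])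
    rw [Matrix.mulVec_sub, Matrix.mulVec_sub, Matrix.mulVec_smul, Matrix.mulVec_smul,
      eq_add_of_sub_eq hD₁, eq_add_of_sub_eq hD₂] at h1
    linear_combination (norm := module) h1
  have hiso := hK X hXK
  have r11 : α + σ α = 0 := by
    have h := hiso (R p₁) (R p₁)
    simp only [hX, hf.add_left, herm_add_right hf, hf.smul_left, herm_smul_right hf, h11, h12, hA1,
      hB1, hAA, hAB, hBA, hBB, map_one, map_zero, mul_zero, mul_one, zero_mul, one_mul, add_zero,
      zero_add] at h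
    linear_combination h
  have r12 : β + σ γ = 0 := by
    have h := hiso (R p₁) (R p₂)
    simp only [hX, hf.add_left, herm_add_right hf, hf.smul_left, herm_smul_right hf, h11, h12, h21,
      h22, hA1, hA2, hB1, hB2, hAA, hAB, hBA, hBB, map_one, map_zero, mul_zero, mul_one, zero_mul,
      one_mul, add_zero, zero_add] at h
    linear_combination h
  have r22 : δ + σ δ = 0 := by
    have h := hiso (R p₂) (R p₂)
    simp only [hX, hf.add_left, herm_add_right hf, hf.smul_left, herm_smul_right hf, h21, h22, hA2,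
      hB2, hAA, hAB, hBA, hBB, map_one, map_zero, mul_zero, mul_one, zero_mul, one_mul, add_zero,
      zero_add] at h
    linear_combination h
  -- the double commutator
  have main : ∀ (a b : ι → F₀), S.form₀ a a = 0 → S.form₀ b b = 0 → S.form₀ a b = 0 →
      LinearIndependent F₀ ![a, b] → ∀ (α β δ : F), α + σ α = 0 →
      (∀ z, (X : Matrix ι ι F) *ᵥ z = z + f z (R a) • (α • R a + β • R b) +
        f z (R b) • ((-σ β) • R a + δ • R b)) → α ∉ F₀ ∨ β ∉ F₀ →
      ∃ (s : F) (c d : ι → F₀), s ∉ F₀ ∧ S.Orth c d ∧ LinearIndependent F₀ ![d, c] ∧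
        S.Short K s c d := by
    intro a b ha hb hab hli α β δ hα hX hirr
    have hf₀ := S.unit₀
    obtain ⟨c, hc, hc', hcn⟩ := S.exists_iso_out ![a, b] (by have := S.dim; omega)
    obtain ⟨d, hd, hd', hdn⟩ := S.exists_iso_out ![a, b, c] (by have := S.dim; omega)
    have hli4 : LinearIndependent F₀ ![d, c, a, b] := linearIndependent_finCons.2
      ⟨linearIndependent_finCons.2 ⟨hli, hcn⟩, fun h => hdn (Submodule.span_mono (by
        rintro _ ⟨i, rfl⟩
        fin_cases i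
        · exact ⟨2, rfl⟩
        · exact ⟨0, rfl⟩
        · exact ⟨1, rfl⟩) h)⟩
    have hlicd : LinearIndependent F₀ ![d, c] := linearIndependent_finCons.2
      ⟨by simp [show c ≠ 0 from fun h => hcn (h ▸ Submodule.zero_mem _)],
        fun h => hdn (Submodule.span_mono (by rintro _ ⟨i, rfl⟩; fin_cases i; exact ⟨2, rfl⟩) h)⟩
    have hcd : S.form₀ c d = 0 := herm_eq_zero_comm hf₀ (hd' 2)
    obtain ⟨q, hq, hqv⟩ := exists_iso_values hf₀ hli4 (by have := S.dim; omega) ![0, 0, 1, 0]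
    have qd : S.form₀ q d = 0 := hqv 0
    have qc : S.form₀ q c = 0 := hqv 1
    have aa : f (R a) (R a) = 0 := S.perp ha
    have bb : f (R b) (R b) = 0 := S.perp hb
    have ab : f (R a) (R b) = 0 := S.perp hab
    have ba : f (R b) (R a) = 0 := S.perp' hab
    have ca : f (R c) (R a) = 0 := S.perp (hc' 0)
    have ac : f (R a) (R c) = 0 := S.perp' (hc' 0)
    have cb : f (R c) (R b) = 0 := S.perp (hc' 1)
    have bc : f (R b) (R c) = 0 := S.perp' (hc' 1)
    have da : f (R d) (R a) = 0 := S.perp (hd' 0)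
    have ad : f (R a) (R d) = 0 := S.perp' (hd' 0)
    have db : f (R d) (R b) = 0 := S.perp (hd' 1)
    have bd : f (R b) (R d) = 0 := S.perp' (hd' 1)
    have dc : f (R d) (R c) = 0 := S.perp (hd' 2)
    have cd : f (R c) (R d) = 0 := S.perp' (hd' 2)
    have cc : f (R c) (R c) = 0 := S.perp hc
    have dd : f (R d) (R d) = 0 := S.perp hd
    have qa1 : f (R q) (R a) = 1 := S.coe_eq (hqv 2)
    have aq : f (R a) (R q) = 1 := by rw [hf.herm, qa1, map_one]
    have qb : f (R q) (R b) = 0 := S.perp (hqv 3)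
    have bq : f (R b) (R q) = 0 := S.perp' (hqv 3)
    have cq : f (R c) (R q) = 0 := S.perp' qc
    have dq : f (R d) (R q) = 0 := S.perp' qd
    have hz1 : f ((1 : F) • R c) (R q) = 0 := by rw [one_smul, cq]
    set k := hSiegel hf (S.perp hq) hz1 0
    have hkK : k ∈ K := S.short_rat hstab ⟨hq, hc, qc⟩ F₀.one_mem (S.perp hq) hz1
    have hY : ∀ z, ((k * X * k⁻¹ * X⁻¹ : GL ι F) : Matrix ι ι F) *ᵥ z =
        z + f z (R c) • (α • R a + α • R c + β • R b) + (α * f z (R a)) • R c +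
          (-σ β * f z (R b)) • R c := by
      refine comm_mulVec fun z => ?_
      simp only [k, S.sh_mulVec, hX]
      simp only [← hR]
      simp only [hf.add_left, herm_sub_left hf, hf.smul_left, aa, bb, ab, ba, ca,
        ac, cb, bc, cc, qa1, qb, aq, bq, cq, qc, map_one, mul_zero, mul_one, one_mul, zero_mul,
        add_zero, sub_zero, zero_add, map_zero, show f (R q) (R c) = 0 from S.perp qc]
      module
    set Y := k * X * k⁻¹ * X⁻¹
    have hYK : Y ∈ K := K.mul_mem (K.mul_mem (K.mul_mem hkK hXK) (K.inv_mem hkK)) (K.inv_mem hXK)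
    have hσα : σ α = -α := by linear_combination hα
    by_cases hαF : α ∈ F₀
    · -- the mixed coefficient
      have hβF : β ∉ F₀ := hirr.resolve_left (not_not.2 hαF)
      obtain ⟨q', hq', hq'v⟩ := exists_iso_values hf₀ hli4 (by have := S.dim; omega) ![0, 0, 0, 1]
      have q'a : f (R q') (R a) = 0 := S.perp (hq'v 2)
      have aq' : f (R a) (R q') = 0 := S.perp' (hq'v 2)
      have q'b : f (R q') (R b) = 1 := S.coe_eq (hq'v 3)
      have bq' : f (R b) (R q') = 1 := by rw [hf.herm, q'b, map_one]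
      have q'c : f (R q') (R c) = 0 := S.perp (hq'v 1)
      have cq' : f (R c) (R q') = 0 := S.perp' (hq'v 1)
      have hz2 : f ((1 : F) • R d) (R q') = 0 := by rw [one_smul]; exact S.perp' (hq'v 0)
      set k' := hSiegel hf (S.perp hq') hz2 0
      have hk'K : k' ∈ K := S.short_rat hstab ⟨hq', hd, hq'v 0⟩ F₀.one_mem (S.perp hq') hz2
      refine ⟨β, c, d, hβF, ⟨hc, hd, hcd⟩, hlicd, fun hc0 hzd => ?_⟩
      convert K.mul_mem (K.mul_mem (K.mul_mem hk'K hYK) (K.inv_mem hk'K)) (K.inv_mem hYK) using 1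
      refine gl_ext fun z => ?_
      rw [comm_mulVec (G := fun z => (hSiegel hf hc0 hzd 0 : Matrix ι ι F) *ᵥ z)]
      intro z
      simp only [k', S.sh_mulVec, hY]
      simp only [← hR]
      simp only [hf.add_left, herm_sub_left hf, hf.smul_left, aa, bb, ab, ba,
        ca, ac, cb, bc, cc, dd, da, ad, db, bd, dc, cd, q'a, aq', q'b, bq', q'c, cq',
        show f (R q') (R d) = 0 from S.perp (hq'v 0), map_one,
        mul_zero, mul_one, one_mul, zero_mul, add_zero, sub_zero, zero_add, map_zero]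
      module
    · obtain ⟨q', hq', hq'v⟩ := exists_iso_values hf₀ hli4 (by have := S.dim; omega) ![0, 0, 1, 0]
      have q'a : f (R q') (R a) = 1 := S.coe_eq (hq'v 2)
      have aq' : f (R a) (R q') = 1 := by rw [hf.herm, q'a, map_one]
      have q'b : f (R q') (R b) = 0 := S.perp (hq'v 3)
      have bq' : f (R b) (R q') = 0 := S.perp' (hq'v 3)
      have q'c : f (R q') (R c) = 0 := S.perp (hq'v 1)
      have cq' : f (R c) (R q') = 0 := S.perp' (hq'v 1)
      have hz2 : f ((1 : F) • R d) (R q') = 0 := by rw [one_smul]; exact S.perp' (hq'v 0)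
      set k' := hSiegel hf (S.perp hq') hz2 0
      have hk'K : k' ∈ K := S.short_rat hstab ⟨hq', hd, hq'v 0⟩ F₀.one_mem (S.perp hq') hz2
      refine ⟨α, c, d, hαF, ⟨hc, hd, hcd⟩, hlicd, fun hc0 hzd => ?_⟩
      convert K.mul_mem (K.mul_mem (K.mul_mem hk'K hYK) (K.inv_mem hk'K)) (K.inv_mem hYK) using 1
      refine gl_ext fun z => ?_
      rw [comm_mulVec (G := fun z => (hSiegel hf hc0 hzd 0 : Matrix ι ι F) *ᵥ z)]
      intro z
      simp only [k', S.sh_mulVec, hY]
      simp only [← hR]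
      simp only [hσα, hf.add_left, herm_sub_left hf, hf.smul_left, aa, bb,
        ab, ba, ca, ac, cb, bc, cc, dd, da, ad, db, bd, dc, cd, q'a, aq', q'b, bq', q'c, cq',
        show f (R q') (R d) = 0 from S.perp (hq'v 0), map_one,
        mul_zero, mul_one, one_mul, zero_mul, add_zero, sub_zero, zero_add, map_zero]
      module
  have hγ : γ = -σ β := by
    rw [eq_neg_of_add_eq_zero_left r12, map_neg, S.unit.involutive, neg_neg]
  by_cases h1 : α ∈ F₀ ∧ β ∈ F₀
  · have hδ : δ ∉ F₀ := fun hδ => hXirr fun y => by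
      refine ⟨y + (S.form₀ y a * ⟨α, h1.1⟩ + S.form₀ y b * ⟨γ, by
        rw [hγ]; exact F₀.neg_mem (S.stable β h1.2)⟩) • a +
        (S.form₀ y a * ⟨β, h1.2⟩ + S.form₀ y b * ⟨δ, hδ⟩) • b, ?_⟩
      rw [hX, hR, ratEmb_add, ratEmb_add, ratEmb_smul, ratEmb_smul]
      push_cast [S.coe_form₀]
      module
    refine main b a hb ha (herm_eq_zero_comm S.unit₀ hab) (LinearIndependent.pair_symm_iff.1 hli)
      δ γ α r22 (fun z => ?_) (Or.inl hδ)
    rw [hX, show -σ γ = β by rw [eq_neg_of_add_eq_zero_left r12]]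
    module
  · exact main a b ha hb hab hli α β δ r11 (fun z => by rw [hX, hγ])
      (not_and_or.1 h1)

end HRat

end Cfsg.Agent.TransvMax
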