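import Cfsg.Agent.Lib.TransvMax.UnitarySubfieldGen

/-!
All unitary transvections lie in a proper overgroup of a unitary subfield subgroup.
-/

set_option autoImplicit false

namespace Cfsg.Agent.TransvMax

open scoped Matrix MatrixGroups
open Cfsg.Agent

variable {ι : Type} [Fintype ι] [DecidableEq ι] {F : Type*} [Field F]
  {σ : F ≃+* F} {f : (ι → F) → (ι → F) → F} {F₀ : Subfield F} {P : GL ι F}

namespace HRat

variable (S : HRat σ f F₀ P)

include S

variable [Finite F]

/-- An isometry respecting the rational isotropic points respects all rational points. -/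
theorem rational_of_iso {g : GL ι F}
    (hg : ∀ x y, f ((g : Matrix ι ι F) *ᵥ x) ((g : Matrix ι ι F) *ᵥ y) = f x y)
    (h : ∀ a, S.form₀ a a = 0 → ∃ c : F, c ≠ 0 ∧ ∃ a',
      c • ((g : Matrix ι ι F) *ᵥ ratEmb F₀ P a) = ratEmb F₀ P a') :
    ∃ c : F, c ≠ 0 ∧ ∀ y, ∃ y', c • ((g : Matrix ι ι F) *ᵥ ratEmb F₀ P y) = ratEmb F₀ P y' := by
  classical
  have hf := S.unit
  set R := ratEmb F₀ P with hR
  -- the set of good scalars for a vector
  have key : ∀ a b, S.form₀ a a = 0 → S.form₀ b b = 0 → S.form₀ a b = 0 →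
      LinearIndependent F₀ ![a, b] → ∀ c : F, c ≠ 0 →
      (∃ a', c • ((g : Matrix ι ι F) *ᵥ R a) = R a') →
      ∃ b', c • ((g : Matrix ι ι F) *ᵥ R b) = R b' := by
    intro a b ha hb hab hli c hc ⟨a', ha'⟩
    obtain ⟨d, hd, b', hb'⟩ := h b hb
    obtain ⟨e, he, s', hs'⟩ := h (a + b) (by
      simp [S.unit₀.add_left, herm_add_right S.unit₀, ha, hb, hab, herm_eq_zero_comm S.unit₀ hab])
    rw [hR, ratEmb_add, Matrix.mulVec_add, ← hR, smul_add] at hs'
    -- read the coefficients
    have hab' : LinearIndependent F₀ ![a', b'] := by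
      refine LinearIndependent.pair_iff.2 fun s t hst => ?_
      have h1 := congrArg R hst
      rw [hR, ratEmb_add, ratEmb_smul, ratEmb_smul, ratEmb_zero, ← hR, ← ha', ← hb', smul_smul,
        smul_smul, ← Matrix.mulVec_smul, ← Matrix.mulVec_smul, ← Matrix.mulVec_add] at h1
      have h2 := congrArg (((g⁻¹ : GL ι F) : Matrix ι ι F) *ᵥ ·) h1
      simp only [inv_mulVec_mulVec, Matrix.mulVec_zero] at h2
      obtain ⟨p₁, hp₁⟩ := exists_herm_values S.unit₀ hli ![1, 0]
      obtain ⟨p₂, hp₂⟩ := exists_herm_values S.unit₀ hli ![0, 1]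
      have e1 := congrArg (f (R p₁)) h2
      have e2 := congrArg (f (R p₂)) h2
      simp only [herm_add_right hf, herm_smul_right hf, herm_zero_right hf,
        show f (R p₁) (R a) = 1 from S.coe_eq (hp₁ 0), show f (R p₁) (R b) = 0 from S.coe_eq (hp₁ 1),
        show f (R p₂) (R a) = 0 from S.coe_eq (hp₂ 0), show f (R p₂) (R b) = 1 from S.coe_eq (hp₂ 1),
        mul_zero, mul_one, add_zero, zero_add, map_eq_zero, mul_eq_zero, hc, hd, or_false] at e1 e2
      exact ⟨Subtype.ext e1, Subtype.ext e2⟩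
    obtain ⟨p₁, hp₁⟩ := exists_herm_values S.unit₀ hab' ![1, 0]
    obtain ⟨p₂, hp₂⟩ := exists_herm_values S.unit₀ hab' ![0, 1]
    have hcomb : (e / c) • R a' + (e / d) • R b' = R s' := by
      rw [← hs', ← ha', ← hb', smul_smul, smul_smul, div_mul_cancel₀ _ hc, div_mul_cancel₀ _ hd]
    have e1 := congrArg (f (R p₁)) hcomb
    have e2 := congrArg (f (R p₂)) hcomb
    simp only [herm_add_right hf, herm_smul_right hf,
      show f (R p₁) (R a') = 1 from S.coe_eq (hp₁ 0), show f (R p₁) (R b') = 0 from S.coe_eq (hp₁ 1),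
      show f (R p₂) (R a') = 0 from S.coe_eq (hp₂ 0), show f (R p₂) (R b') = 1 from S.coe_eq (hp₂ 1),
      mul_zero, mul_one, add_zero, zero_add] at e1 e2
    have m1 : e / c ∈ F₀ := by
      have h1 := S.stable _ (S.rat p₁ s')
      rw [← hR, ← e1, hf.involutive] at h1
      exact h1
    have m2 : e / d ∈ F₀ := by
      have h1 := S.stable _ (S.rat p₂ s')
      rw [← hR, ← e2, hf.involutive] at h1
      exact h1
    have m3 : c / d ∈ F₀ := by
      rw [show c / d = (e / d) / (e / c) by field_simp]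
      exact F₀.div_mem m2 m1
    refine ⟨(⟨_, m3⟩ : F₀) • b', ?_⟩
    rw [hR, ratEmb_smul, ← hR, ← hb', smul_smul]
    congr 1
    exact (div_mul_cancel₀ _ hd).symm
  obtain ⟨a₀, ha₀, -, ha₀n⟩ := S.exists_iso_out (k := 0) ![] (by have := S.dim; omega)
  have ha₀0 : a₀ ≠ 0 := fun e => ha₀n (e ▸ Submodule.zero_mem _)
  obtain ⟨c, hc, hca⟩ := h a₀ ha₀
  refine ⟨c, hc, S.iso_induction (fun a ha => ?_) fun u v ⟨u', hu⟩ ⟨v', hv⟩ => ⟨u' + v', by
    rw [hR, ratEmb_add, ratEmb_add, Matrix.mulVec_add, smul_add, ← hR, hu, hv]⟩⟩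
  rcases eq_or_ne a 0 with rfl | ha0
  · exact ⟨0, by rw [hR, ratEmb_zero, Matrix.mulVec_zero, smul_zero]⟩
  obtain ⟨d, hd, hd', hdn⟩ := S.exists_iso_out ![a₀, a] (by have := S.dim; omega)
  have li1 : LinearIndependent F₀ ![a₀, d] := LinearIndependent.pair_iff' ha₀0 |>.2 fun t ht =>
    hdn (by rw [← ht]; exact Submodule.smul_mem _ _ (Submodule.subset_span ⟨0, rfl⟩))
  have li2 : LinearIndependent F₀ ![d, a] := LinearIndependent.pair_symm_iff.1
    (LinearIndependent.pair_iff' ha0 |>.2 fun t ht =>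
      hdn (by rw [← ht]; exact Submodule.smul_mem _ _ (Submodule.subset_span ⟨1, rfl⟩)))
  exact key d a hd ha (hd' 1) li2 c hc
    (key a₀ d ha₀ hd (herm_eq_zero_comm S.unit₀ (hd' 0)) li1 c hc hca)

/-- All transvections lie in a proper overgroup. -/
theorem isoCentre_of_over_subfield [Fintype F] {r : ℕ} (hr : r.Prime) (hro : Odd r)
    (hcard : Fintype.card F = Nat.card F₀ ^ r) {K : Subgroup (GL ι F)}
    (hK : ∀ g ∈ K, ∀ x y, f ((g : Matrix ι ι F) *ᵥ x) ((g : Matrix ι ι F) *ᵥ y) = f x y)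
    (hstab : ∀ h ∈ Cfsg.Geo.specialLinear ι F,
      (∀ x y, f ((h : Matrix ι ι F) *ᵥ x) ((h : Matrix ι ι F) *ᵥ y) = f x y) →
      (∀ y, ∃ y', (h : Matrix ι ι F) *ᵥ ratEmb F₀ P y = ratEmb F₀ P y') → h ∈ K)
    {g : GL ι F} (hgK : g ∈ K)
    (hg : ¬ ∃ c : F, c ≠ 0 ∧ ∀ y, ∃ y',
      c • ((g : Matrix ι ι F) *ᵥ ratEmb F₀ P y) = ratEmb F₀ P y') :
    ∀ v, f v v = 0 → IsoCentre S.unit K v := by
  classical
  haveI := Fintype.ofFinite F₀
  have hf := S.unit
  have hf₀ := S.unit₀
  set R := ratEmb F₀ P with hR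
  obtain ⟨y₀, hy₀, hirr⟩ : ∃ y₀, S.form₀ y₀ y₀ = 0 ∧ ∀ c : F, c ≠ 0 → ∀ y',
      c • ((g : Matrix ι ι F) *ᵥ R y₀) ≠ R y' := by
    by_contra hc
    push Not at hc
    exact hg (S.rational_of_iso (hK g hgK) hc)
  obtain ⟨a, b, ha, hb, hab, hli, X, hXK, hXfix, hXirr⟩ :=
    S.exists_plane_irrational hr hro hcard hK hstab hgK hy₀ hirr
  obtain ⟨s, c, d, hs, hcd, hlcd, hsK⟩ :=
    S.exists_short_irrational hK hstab ha hb hab hli hXK hXfix hXirr
  -- all short coefficients
  let T : Set F := {x | ∀ a b, S.Orth a b → LinearIndependent F₀ ![b, a] → S.Short K x a b}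
  have hTs : s ∈ T := fun a b hab hl => S.short_all hstab hcd hlcd hab hl hsK
  have hT0 : ∀ x ∈ F₀, x ∈ T := fun x hx a b hab _ => S.short_rat hstab hab hx
  have hTadd : ∀ x ∈ T, ∀ z ∈ T, x + z ∈ T := by
    intro x hx z hz a b hab hl ha' hzz
    have o1 : f (x • R b) (R a) = 0 := by rw [hf.smul_left, S.perp' hab.2.2, mul_zero]
    have o2 : f (z • R b) (R a) = 0 := by rw [hf.smul_left, S.perp' hab.2.2, mul_zero]
    convert K.mul_mem (hx a b hab hl ha' o1) (hz a b hab hl ha' o2) using 1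
    refine gl_ext fun v => ?_
    rw [Units.val_mul, ← Matrix.mulVec_mulVec]
    simp only [S.sh_mulVec, ← hR, hf.add_left, herm_sub_left hf, hf.smul_left, map_add,
      show f (R a) (R a) = 0 from S.perp hab.1, show f (R b) (R a) = 0 from S.perp' hab.2.2,
      show f (R b) (R b) = 0 from S.perp hab.2.1, show f (R a) (R b) = 0 from S.perp hab.2.2]
    module
  have hTmul : ∀ x ∈ T, ∀ z ∈ T, x * z ∈ T := by
    intro x hx z hz a b hab hl
    obtain ⟨e, he, he', hen⟩ := S.exists_iso_out ![a, b] (by have := S.dim; omega)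
    have hea : S.form₀ e a = 0 := he' 0
    have heb : S.form₀ e b = 0 := he' 1
    -- through the pair `(a, e)`
    have hle : LinearIndependent F₀ ![e, a] := linearIndependent_finCons.2
      ⟨by simp [show a ≠ 0 from hl.ne_zero 1], fun h => hen (Submodule.span_mono (by
        rintro _ ⟨i, rfl⟩; fin_cases i; exact ⟨0, rfl⟩) h)⟩
    have hl3 : LinearIndependent F₀ ![e, b, a] := linearIndependent_finCons.2
      ⟨hl, fun h => hen (Submodule.span_mono (by
        rintro _ ⟨i, rfl⟩
        fin_cases i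
        · exact ⟨1, rfl⟩
        · exact ⟨0, rfl⟩) h)⟩
    obtain ⟨q, hq, hq'⟩ := exists_iso_values hf₀ hl3 (by have := S.dim; omega) ![1, 0, 0]
    have hqe : S.form₀ q e = 1 := hq' 0
    have hqb : S.form₀ q b = 0 := hq' 1
    have hlq : LinearIndependent F₀ ![b, q] := linearIndependent_finCons.2
      ⟨by simpa using (show q ≠ 0 from fun e0 => one_ne_zero (by
        rw [← hqe, e0, herm_zero_left hf₀])), fun h => by
        obtain ⟨t, ht⟩ := Submodule.mem_span_singleton.1 (by simpa using h :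
          b ∈ Submodule.span F₀ {q})
        have h1 := congrArg (fun v => S.form₀ v e) ht
        simp only [hf₀.smul_left, hqe, mul_one, herm_eq_zero_comm hf₀ heb] at h1
        rw [h1, zero_smul] at ht
        exact hl.ne_zero 0 ht.symm⟩
    exact S.short_comm ⟨hab.1, he, herm_eq_zero_comm hf₀ hea⟩ ⟨hq, hab.2.1, hqb⟩ hab.2.2
      heb (herm_eq_zero_comm hf₀ (hq' 2)) (by rw [hf₀.herm, hqe, map_one])
      (hx a e ⟨hab.1, he, herm_eq_zero_comm hf₀ hea⟩ hle) (hz q b ⟨hq, hab.2.1, hqb⟩ hlq)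
  have hT : ∀ x, x ∈ T := eq_univ_of_prime_degree F₀ hr hcard hT0 hTadd hTmul hTs hs
  have hshort : ∀ x a b, S.Orth a b → LinearIndependent F₀ ![b, a] → S.Short K x a b :=
    fun x => hT x
  -- long elements at rational centres
  obtain ⟨e₀, he₀, he₀t⟩ := S.exists_trace_zero₀
  have he₀F : (e₀ : F) ≠ 0 := fun e => he₀ (Subtype.ext e)
  have hlong : ∀ a : ι → F₀, S.form₀ a a = 0 → IsoCentre hf K (R a) := by
    intro a ha
    refine ⟨S.perp ha, fun e he => ?_⟩
    rcases eq_or_ne a 0 with rfl | ha0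
    · convert K.one_mem
      exact gl_ext fun x => by simp [utrv_mulVec, hR, ratEmb_zero]
    obtain ⟨N, hN⟩ := exists_norm_eq hf.ne_refl hf.involutive (a := e / (e₀ : F)) (by
      have h1 : σ e = -e := by linear_combination he
      have h2 : σ (e₀ : F) = -(e₀ : F) := by linear_combination he₀t
      rw [map_div₀, h1, h2, neg_div_neg_eq])
    obtain ⟨b, hb, hb', hbn⟩ := S.exists_iso_out ![a] (by have := S.dim; omega)
    have hba : S.form₀ b a = 0 := hb' 0
    have hlba : LinearIndependent F₀ ![b, a] := linearIndependent_finCons.2 ⟨by simp [ha0], hbn⟩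
    obtain ⟨p, hp, hp'⟩ := exists_iso_values hf₀ hlba (by have := S.dim; omega) ![1, 0]
    have hpb : S.form₀ p b = 1 := hp' 0
    have hpa : S.form₀ p a = 0 := hp' 1
    have hbp : S.form₀ b p = 1 := by rw [hf₀.herm, hpb, map_one]
    set b' := b + e₀ • p with hb'def
    have hlpa : LinearIndependent F₀ ![p, a] := linearIndependent_finCons.2 ⟨by simp [ha0], fun h => by
      obtain ⟨t, ht⟩ := Submodule.mem_span_singleton.1 (by simpa using h : p ∈ Submodule.span F₀ {a})
      have h1 := congrArg (fun v => S.form₀ v b) ht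
      simp only [hf₀.smul_left, hpb, herm_eq_zero_comm hf₀ hba, mul_zero] at h1
      exact zero_ne_one h1⟩
    have hb'b : S.form₀ b' b = e₀ := by
      rw [hb'def, hf₀.add_left, hf₀.smul_left, hb, hpb, zero_add, mul_one]
    have hb'a : S.form₀ b' a = 0 := by
      rw [hb'def, hf₀.add_left, hf₀.smul_left, hba, hpa, mul_zero, add_zero]
    have hb'b' : S.form₀ b' b' = 0 := by
      rw [hb'def]
      simp only [hf₀.add_left, herm_add_right hf₀, hf₀.smul_left, herm_smul_right hf₀, hb, hp, hpb,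
        hbp, mul_zero, mul_one, zero_add, add_zero]
      exact Subtype.ext (by push_cast; rw [add_comm]; exact he₀t)
    have hlb'a : LinearIndependent F₀ ![b', a] := linearIndependent_finCons.2 ⟨by simp [ha0], fun h => by
      obtain ⟨t, ht⟩ := Submodule.mem_span_singleton.1 (by simpa using h : b' ∈ Submodule.span F₀ {a})
      have h1 := congrArg (fun v => S.form₀ v b) ht
      simp only [hf₀.smul_left, hb'b, herm_eq_zero_comm hf₀ hba, mul_zero] at h1
      exact he₀ h1.symm⟩
    have z1 : f (N • R b') (R a) = 0 := by rw [hf.smul_left, S.perp hb'a, mul_zero]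
    have z2 : f (N • R b) (R a) = 0 := by rw [hf.smul_left, S.perp hba, mul_zero]
    have z3 : f ((N * e₀) • R p) (R a) = 0 := by rw [hf.smul_left, S.perp hpa, mul_zero]
    have g1 := hshort N a b' ⟨ha, hb'b', herm_eq_zero_comm hf₀ hb'a⟩ hlb'a (S.perp ha) z1
    have g2 := hshort N a b ⟨ha, hb, herm_eq_zero_comm hf₀ hba⟩ hlba (S.perp ha) z2
    have g3 := hshort (N * e₀) a p ⟨ha, hp, herm_eq_zero_comm hf₀ hpa⟩ hlpa (S.perp ha) z3
    convert K.mul_mem g1 (K.inv_mem (K.mul_mem g2 g3)) using 1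
    rw [eq_mul_inv_iff_mul_eq]
    refine gl_ext fun v => ?_
    rw [Units.val_mul, Units.val_mul, ← Matrix.mulVec_mulVec, ← Matrix.mulVec_mulVec]
    have ee : (e : F) = N * σ N * e₀ := by rw [hN, div_mul_cancel₀ _ he₀F]
    simp only [S.sh_mulVec, utrv_mulVec, ← hR, hb'def]
    simp only [hR, ratEmb_add, ratEmb_smul]
    simp only [← hR, hf.add_left, herm_sub_left hf, herm_add_right hf, herm_smul_right hf,
      hf.smul_left, map_mul, show σ (e₀ : F) = -(e₀ : F) by linear_combination he₀t,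
      show f (R a) (R a) = 0 from S.perp ha, show f (R b) (R a) = 0 from S.perp hba,
      show f (R a) (R b) = 0 from S.perp' hba, show f (R p) (R a) = 0 from S.perp hpa,
      show f (R a) (R p) = 0 from S.perp' hpa, show f (R b) (R b) = 0 from S.perp hb,
      show f (R p) (R p) = 0 from S.perp hp, show f (R p) (R b) = 1 from S.coe_eq hpb,
      show f (R b) (R p) = 1 from S.coe_eq hbp, ee]
    module
  -- every isotropic vector
  intro v hv
  rcases eq_or_ne v 0 with rfl | hv0
  · refine ⟨hv, fun e he => ?_⟩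
    convert K.one_mem
    exact gl_ext fun x => by simp [utrv_mulVec]
  obtain ⟨a, ha, hva⟩ : ∃ a, S.form₀ a a = 0 ∧ f (R a) v ≠ 0 := by
    by_contra hc
    push Not at hc
    refine hv0 (S.eq_of_forall fun z => ?_)
    rw [herm_zero_right hf]
    exact S.iso_induction (motive := fun y => f (R y) v = 0) hc
      (fun x y hx hy => by rw [hR, ratEmb_add, hf.add_left, ← hR, hx, hy, add_zero]) z
  have ha0 : a ≠ 0 := fun e => hva (by rw [hR, e, ratEmb_zero, herm_zero_left hf])
  have hva' : f v (R a) ≠ 0 := fun e => hva (herm_eq_zero_comm hf e)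
  obtain ⟨b, hb, hb'⟩ := exists_iso_values hf₀ (v := ![a]) (by simp [ha0]) (by have := S.dim; omega) ![1]
  have hba : f (R b) (R a) = 1 := S.coe_eq (hb' 0)
  set v' := (f v (R a))⁻¹ • v
  have hv'a : f v' (R a) = 1 := by rw [hf.smul_left, inv_mul_cancel₀ hva']
  have hv'v' : f v' v' = 0 := by rw [hf.smul_left, herm_smul_right hf, hv, mul_zero, mul_zero]
  obtain ⟨hz, c', hc', hmap⟩ := exists_hSiegel_map hf (S.perp ha) hba hv'a
    (by rw [hv'v']; exact (S.perp hb).symm)
  -- all Siegel maps at the centre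
  let Zs : Set (ι → F) := {z | ∃ (hz : f z (R a) = 0) (c : F), c + σ c = -f z z ∧
    hSiegel hf (S.perp ha) hz c ∈ K}
  have hZadd : ∀ z₁ ∈ Zs, ∀ z₂ ∈ Zs, z₁ + z₂ ∈ Zs := by
    rintro z₁ ⟨h1, c₁, hc₁, m1⟩ z₂ ⟨h2, c₂, hc₂, m2⟩
    refine ⟨by rw [hf.add_left, h1, h2, add_zero], c₁ + c₂ - f z₂ z₁, ?_, ?_⟩
    · simp only [map_add, map_sub, ← hf.herm, hf.add_left, herm_add_right hf]
      linear_combination hc₁ + hc₂
    · convert K.mul_mem m1 m2 using 1
      refine gl_ext fun x => ?_
      rw [Units.val_mul, ← Matrix.mulVec_mulVec]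
      simp only [hSiegel_mulVec, ← hR]
      simp only [hf.add_left, hf.smul_left, herm_add_right hf, h2,
        show f (R a) (R a) = 0 from S.perp ha, herm_eq_zero_comm hf h1]
      module
  have hZline : ∀ t : F, t • R a ∈ Zs := by
    intro t
    refine ⟨by rw [hf.smul_left, S.perp ha, mul_zero], σ t - t, ?_, ?_⟩
    · rw [map_sub, hf.involutive, hf.smul_left, herm_smul_right hf, S.perp ha]
      ring
    · convert K.one_mem
      refine gl_ext fun x => ?_
      rw [hSiegel_mulVec, herm_smul_right hf, Units.val_one, Matrix.one_mulVec]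
      module
  have hZiso : ∀ η, S.form₀ η η = 0 → S.form₀ η a = 0 → ∀ t : F, t • R η ∈ Zs := by
    intro η hη hηa t
    by_cases hs : η ∈ Submodule.span F₀ {a}
    · obtain ⟨w, rfl⟩ := Submodule.mem_span_singleton.1 hs
      rw [hR, ratEmb_smul, smul_smul]
      exact hZline _
    have hzη : f (t • R η) (R a) = 0 := by rw [hf.smul_left, S.perp hηa, mul_zero]
    refine ⟨hzη, 0, ?_, hshort t a η ⟨ha, hη, herm_eq_zero_comm hf₀ hηa⟩
      (linearIndependent_finCons.2 ⟨by simp [ha0], by simpa using hs⟩) _ hzη⟩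
    rw [map_zero, add_zero, hf.smul_left, herm_smul_right hf, S.perp hη, mul_zero, mul_zero, neg_zero]
  have hZrat : ∀ η, S.form₀ η a = 0 → ∀ t : F, t • R η ∈ Zs := by
    intro η hη t
    by_cases hs : η ∈ Submodule.span F₀ {a}
    · obtain ⟨w, rfl⟩ := Submodule.mem_span_singleton.1 hs
      rw [hR, ratEmb_smul, smul_smul]
      exact hZline _
    obtain ⟨u, hu, hu'⟩ := exists_iso_values hf₀ (v := ![η, a])
      (linearIndependent_finCons.2 ⟨by simp [ha0], by simpa using hs⟩) (by have := S.dim; omega) ![1, 0]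
    have huη : S.form₀ u η = 1 := hu' 0
    have hua : S.form₀ u a = 0 := hu' 1
    obtain ⟨w, hw⟩ := exists_trace_eq hf₀.ne_refl hf₀.involutive (a := -S.form₀ η η) (by
      rw [map_neg, ← hf₀.herm])
    have hiso : S.form₀ (η + w • u) (η + w • u) = 0 := by
      rw [hf₀.add_left, herm_add_right hf₀, herm_add_right hf₀, herm_smul_right hf₀, hf₀.smul_left,
        herm_smul_right hf₀, hf₀.smul_left, hu, huη, hf₀.herm η u, huη, map_one]
      linear_combination hw
    have hperp : S.form₀ (η + w • u) a = 0 := by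
      rw [hf₀.add_left, hf₀.smul_left, hη, hua, mul_zero, add_zero]
    have h1 := hZadd _ (hZiso _ hiso hperp t) _ (hZiso u hu hua (-(t * w)))
    rw [show t • R η = t • R (η + w • u) + (-(t * (w : F))) • R u by
      rw [hR, ratEmb_add, ratEmb_smul]; module]
    exact h1
  have hZall : ∀ z, f z (R a) = 0 → z ∈ Zs := by
    intro z hz
    obtain ⟨p, hp, hp'⟩ := exists_iso_values hf₀ (v := ![a]) (by simp [ha0])
      (by have := S.dim; omega) ![1]
    have hpa : S.form₀ p a = 1 := hp' 0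
    set lam := ((P⁻¹ : GL ι F) : Matrix ι ι F) *ᵥ z
    let e : ι → ι → F₀ := fun j => Pi.single j 1
    have hze : z = ∑ j, lam j • R (e j) := by
      conv_lhs => rw [← mulVec_inv_mulVec P z, pi_eq_sum_univ' (((P⁻¹ : GL ι F) : Matrix ι ι F) *ᵥ z),
        Matrix.mulVec_sum]
      refine Finset.sum_congr rfl fun j _ => ?_
      rw [Matrix.mulVec_smul, hR, ratEmb_single]
    have hzsum : z = ∑ j, lam j • R (e j - S.form₀ (e j) a • p) := by
      have h0 : ∑ j, lam j * f (R (e j)) (R a) = 0 := by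
        rw [← hz, hze, ← hermFun_apply hf (R a) (∑ j, lam j • R (e j)), map_sum]
        exact Finset.sum_congr rfl fun j _ => by rw [map_smul, hermFun_apply, smul_eq_mul]
      have h1 : ∀ j, lam j • R (e j - S.form₀ (e j) a • p) =
          lam j • R (e j) - (lam j * f (R (e j)) (R a)) • R p := fun j => by
        rw [sub_eq_add_neg, ← neg_smul, hR, ratEmb_add, ratEmb_smul]
        push_cast [S.coe_form₀]
        module
      simp only [h1, Finset.sum_sub_distrib, ← Finset.sum_smul, h0, zero_smul, sub_zero]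
      exact hze
    have hsum : ∀ T : Finset ι, ∑ j ∈ T, lam j • R (e j - S.form₀ (e j) a • p) ∈ Zs := by
      intro T
      induction T using Finset.induction_on with
      | empty => simpa [hR, ratEmb_zero] using hZline 0
      | insert j T hj ih =>
        rw [Finset.sum_insert hj]
        exact hZadd _ (hZrat _ (by
          rw [herm_sub_left hf₀, hf₀.smul_left, hpa, mul_one, sub_self]) _) _ ih
    rw [hzsum]
    exact hsum _
  obtain ⟨hz', c'', hc'', hmem⟩ := hZall _ hz
  have hd : c' - c'' + σ (c' - c'') = 0 := by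
    rw [map_sub]
    linear_combination hc' - hc''
  have hSK : hSiegel hf (S.perp ha) hz c' ∈ K := by
    convert K.mul_mem ((hlong a ha).mem (S.perp ha) hd) hmem using 1
    refine gl_ext fun x => ?_
    rw [Units.val_mul, ← Matrix.mulVec_mulVec, utrv_mulVec, hSiegel_mulVec, hSiegel_mulVec]
    simp only [← hR]
    simp only [hf.add_left, hf.smul_left, show f (v' - R b) (R a) = 0 from hz,
      show f (R a) (R a) = 0 from S.perp ha]
    module
  have hv' := (hlong b hb).map hSK (hSiegel_isometry hf _ _ hc')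
  rw [hmap] at hv'
  have h := hv'.smul (f v (R a))
  rwa [smul_inv_smul₀ hva'] at h

end HRat

end Cfsg.Agent.TransvMax
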